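import Groth.Agent.H55.FFPlace
import Mathlib

/-!
Linear independence over `k(x)` from linear independence modulo `x`, and finiteness of
residue fields of places.
-/

set_option autoImplicit false

namespace Groth.Agent.H55

open FunFld WithZero Polynomial IntermediateField

variable {k K : Type*} [Field k] [Field K] [Algebra k K]

theorem aeval_mul_mem (x : K) (A : Submodule k K) (hxA : ∀ a ∈ A, x * a ∈ A) (p : k[X]) :
    ∀ {a : K}, a ∈ A → aeval x p * a ∈ A := by
  induction p using Polynomial.induction_on with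
  | C c =>
    intro a ha
    rw [aeval_C, ← Algebra.smul_def]; exact A.smul_mem c ha
  | add p q hp hq =>
    intro a ha
    rw [map_add, add_mul]; exact A.add_mem (hp ha) (hq ha)
  | monomial n c ih =>
    intro a ha
    rw [pow_succ, ← mul_assoc, map_mul, aeval_X, mul_assoc]; exact ih (hxA a ha)

theorem poly_indep_mod_aux (x : K) (hx0 : x ≠ 0) (A B : Submodule k K)
    (hxA : ∀ a ∈ A, x * a ∈ A) (hxB : ∀ a ∈ A, x * a ∈ B)
    {J : Type*} (a : J → K) (ha : ∀ j, a j ∈ A)
    (hli : ∀ (s : Finset J) (c : J → k), ∑ j ∈ s, c j • a j ∈ B → ∀ j ∈ s, c j = 0)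
    (s : Finset J) : ∀ (N : ℕ) (φ : J → k[X]), (∀ j ∈ s, (φ j).degree < N) →
      ∑ j ∈ s, aeval x (φ j) * a j = 0 → ∀ j ∈ s, φ j = 0 := by
  intro N
  induction N with
  | zero =>
    intro φ hdeg _ j hj
    have h := (degree_lt_iff_coeff_zero _ _).mp (hdeg j hj)
    ext m
    simpa using h m (Nat.zero_le _)
  | succ N ih =>
    intro φ hdeg hsum
    have hdecomp : ∀ j, aeval x (φ j) * a j
        = x * (aeval x (divX (φ j)) * a j) + (φ j).coeff 0 • a j := by
      intro j
      conv_lhs => rw [← divX_mul_X_add (φ j)]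
      rw [map_add, map_mul, aeval_X, aeval_C, Algebra.smul_def]; ring
    have hcoeff : ∀ j ∈ s, (φ j).coeff 0 = 0 := by
      apply hli s (fun j => (φ j).coeff 0)
      have h2 : ∑ j ∈ s, aeval x (φ j) * a j = x * ∑ j ∈ s, aeval x (divX (φ j)) * a j
          + ∑ j ∈ s, (φ j).coeff 0 • a j := by
        rw [Finset.mul_sum, ← Finset.sum_add_distrib]
        exact Finset.sum_congr rfl (fun j _ => hdecomp j)
      rw [hsum] at h2
      have h3 : ∑ j ∈ s, (φ j).coeff 0 • a j
          = -(x * ∑ j ∈ s, aeval x (divX (φ j)) * a j) := by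
        linear_combination -h2
      rw [h3]
      apply B.neg_mem
      apply hxB
      exact A.sum_mem (fun j _ => aeval_mul_mem x A hxA _ (ha j))
    have hφ : ∀ j ∈ s, φ j = divX (φ j) * X := by
      intro j hj
      conv_lhs => rw [← divX_mul_X_add (φ j), hcoeff j hj, map_zero, add_zero]
    have hsum' : ∑ j ∈ s, aeval x (divX (φ j)) * a j = 0 := by
      have : x * ∑ j ∈ s, aeval x (divX (φ j)) * a j = 0 := by
        rw [← hsum, Finset.mul_sum]
        apply Finset.sum_congr rfl
        intro j hj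
        conv_rhs => rw [hφ j hj]
        rw [map_mul, aeval_X]; ring
      exact (mul_eq_zero.mp this).resolve_left hx0
    have hdeg' : ∀ j ∈ s, (divX (φ j)).degree < N := by
      intro j hj
      rw [degree_lt_iff_coeff_zero]
      intro m hm
      rw [coeff_divX]
      exact (degree_lt_iff_coeff_zero _ _).mp (hdeg j hj) (m + 1) (by omega)
    intro j hj
    rw [hφ j hj, ih (fun j => divX (φ j)) hdeg' hsum' j hj, zero_mul]

theorem poly_indep_mod (x : K) (hx0 : x ≠ 0) (A B : Submodule k K)
    (hxA : ∀ a ∈ A, x * a ∈ A) (hxB : ∀ a ∈ A, x * a ∈ B)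
    {J : Type*} (a : J → K) (ha : ∀ j, a j ∈ A)
    (hli : ∀ (s : Finset J) (c : J → k), ∑ j ∈ s, c j • a j ∈ B → ∀ j ∈ s, c j = 0)
    (s : Finset J) (φ : J → k[X]) (h : ∑ j ∈ s, aeval x (φ j) * a j = 0) :
    ∀ j ∈ s, φ j = 0 := by
  classical
  apply poly_indep_mod_aux x hx0 A B hxA hxB a ha hli s
    (s.sup (fun j => (φ j).natDegree) + 1) φ _ h
  intro j hj
  refine lt_of_le_of_lt degree_le_natDegree ?_
  have : (φ j).natDegree ≤ s.sup (fun j => (φ j).natDegree) :=
    Finset.le_sup (f := fun j => (φ j).natDegree) hj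
  exact_mod_cast Nat.lt_succ_of_le this

open scoped IntermediateField.algebraAdjoinAdjoin in
theorem linearIndependent_adjoin_of_indep_mod (x : K) (hx0 : x ≠ 0) (A B : Submodule k K)
    (hxA : ∀ a ∈ A, x * a ∈ A) (hxB : ∀ a ∈ A, x * a ∈ B)
    {J : Type*} (a : J → K) (ha : ∀ j, a j ∈ A)
    (hli : ∀ (s : Finset J) (c : J → k), ∑ j ∈ s, c j • a j ∈ B → ∀ j ∈ s, c j = 0) :
    LinearIndependent k⟮x⟯ a := by
  have h1 : LinearIndependent (Algebra.adjoin k {x}) a := by
    rw [linearIndependent_iff']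
    intro s g hg j hj
    have hmem : ∀ j, ∃ φ : k[X], aeval x φ = (g j : K) := by
      intro j
      have : (g j : K) ∈ (aeval x : k[X] →ₐ[k] K).range := by
        rw [← Algebra.adjoin_singleton_eq_range_aeval]; exact (g j).2
      exact this
    choose φ hφ using hmem
    have hsum : ∑ j ∈ s, aeval x (φ j) * a j = 0 := by
      rw [← hg]; apply Finset.sum_congr rfl; intro j _; rw [hφ]; rfl
    have := poly_indep_mod x hx0 A B hxA hxB a ha hli s φ hsum j hj
    apply Subtype.ext; rw [← hφ, this]; simp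
  exact LinearIndependent.localization (R := Algebra.adjoin k {x}) k⟮x⟯
    (nonZeroDivisors (Algebra.adjoin k {x})) h1

/-- Main finiteness lemma: if `π : A → W` is a surjective `k`-linear map from an `x`-stable
`k`-subspace `A ⊆ K` killing `x A`, then `dim_k W ≤ [K : k(x)]`. -/
theorem rank_le_of_mul_mem {W : Type*} [AddCommGroup W] [Module k W] (x : K) (hx0 : x ≠ 0)
    [FiniteDimensional k⟮x⟯ K]
    (A : Submodule k K) (hxA : ∀ a ∈ A, x * a ∈ A) (π : A →ₗ[k] W) (hπs : Function.Surjective π)
    (hπ : ∀ a (ha : a ∈ A), π ⟨x * a, hxA a ha⟩ = 0) :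
    Module.rank k W ≤ (Module.finrank k⟮x⟯ K : ℕ) := by
  classical
  apply rank_le
  intro s hs
  choose a' ha' using fun i : s => hπs i.1
  let B : Submodule k K := (LinearMap.ker π).map A.subtype
  have hxB : ∀ a ∈ A, x * a ∈ B := fun a ha => ⟨⟨x * a, hxA a ha⟩, hπ a ha, rfl⟩
  have hli : ∀ (t : Finset s) (c : s → k), ∑ j ∈ t, c j • (a' j : K) ∈ B → ∀ j ∈ t, c j = 0 := by
    intro t c hmem
    obtain ⟨b, hb, hbe⟩ := hmem
    have hb' : b = ∑ j ∈ t, c j • a' j := by
      apply Subtype.ext
      rw [Submodule.coe_sum]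
      simpa using hbe
    have h0 : ∑ j ∈ t, c j • (j : W) = 0 := by
      have : π b = 0 := hb
      rw [hb', map_sum] at this
      simpa [ha'] using this
    exact linearIndependent_iff'.mp hs t c h0
  have hlin := linearIndependent_adjoin_of_indep_mod x hx0 A B hxA hxB
    (fun j : s => (a' j : K)) (fun j => (a' j).2) hli
  have := hlin.fintype_card_le_finrank
  simpa using this

theorem finite_of_mul_mem {W : Type*} [AddCommGroup W] [Module k W] (x : K) (hx0 : x ≠ 0)
    [FiniteDimensional k⟮x⟯ K]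
    (A : Submodule k K) (hxA : ∀ a ∈ A, x * a ∈ A) (π : A →ₗ[k] W) (hπs : Function.Surjective π)
    (hπ : ∀ a (ha : a ∈ A), π ⟨x * a, hxA a ha⟩ = 0) :
    FiniteDimensional k W ∧ Module.finrank k W ≤ Module.finrank k⟮x⟯ K := by
  have h := rank_le_of_mul_mem x hx0 A hxA π hπs hπ
  have hfin : FiniteDimensional k W :=
    Module.rank_lt_aleph0_iff.mp (lt_of_le_of_lt h (Cardinal.nat_lt_aleph0 _))
  exact ⟨hfin, Module.finrank_le_of_rank_le h⟩

section Ball

/-- The `k`-subspace `{x | v_P(x) ≤ exp n}` of `K`. -/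
def ball (P : Place k K) (n : ℤ) : Submodule k K where
  carrier := {x | P.1 x ≤ exp n}
  add_mem' {x y} hx hy := (P.1.map_add x y).trans (max_le hx hy)
  zero_mem' := by simp
  smul_mem' c x hx := (pl_val_smul_le P c x).trans hx

theorem mem_ball (P : Place k K) (n : ℤ) (x : K) : x ∈ ball P n ↔ P.1 x ≤ exp n := Iff.rfl

theorem ball_mono (P : Place k K) {n m : ℤ} (h : n ≤ m) : ball P n ≤ ball P m :=
  fun _ hx => hx.trans (exp_le_exp.mpr h)

theorem mem_ball_zero (P : Place k K) (x : K) : x ∈ ball P 0 ↔ P.1 x ≤ 1 := by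
  rw [mem_ball, exp_zero]

theorem mem_maximalIdeal_iff (P : Place k K) (a : P.O) :
    a ∈ IsLocalRing.maximalIdeal P.O ↔ P.1 (a : K) < 1 := by
  rw [ValuationSubring.valuation_lt_one_iff]
  exact ((Valuation.isEquiv_valuation_valuationSubring P.1).lt_one_iff_lt_one).symm

/-- The residue map as a `k`-linear map on the subspace `ball P 0`. -/
noncomputable def resMap (P : Place k K) : ball P 0 →ₗ[k] IsLocalRing.ResidueField P.O where
  toFun a := IsLocalRing.residue P.O ⟨a.1, (mem_ball_zero P a.1).mp a.2⟩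
  map_add' a b := by rw [← map_add]; rfl
  map_smul' c a := by
    have h : (⟨(c • a : ball P 0).1, (mem_ball_zero P _).mp (c • a : ball P 0).2⟩ : P.O)
        = algebraMap k P.O c * ⟨a.1, (mem_ball_zero P a.1).mp a.2⟩ := by
      apply Subtype.ext
      simp only [Submodule.coe_smul, Algebra.smul_def]
      rfl
    refine (congrArg (IsLocalRing.residue P.O) h).trans ?_
    rw [map_mul]
    exact (Algebra.smul_def c _).symm

theorem resMap_apply (P : Place k K) (a : ball P 0) :
    resMap P a = IsLocalRing.residue P.O ⟨a.1, (mem_ball_zero P a.1).mp a.2⟩ := rfl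

theorem resMap_surjective (P : Place k K) : Function.Surjective (resMap P) := by
  intro r
  obtain ⟨b, rfl⟩ := IsLocalRing.residue_surjective r
  exact ⟨⟨b.1, (mem_ball_zero P b.1).mpr b.2⟩, rfl⟩

theorem resMap_eq_zero_iff (P : Place k K) (a : ball P 0) : resMap P a = 0 ↔ P.1 (a : K) < 1 := by
  rw [resMap_apply, IsLocalRing.residue_eq_zero_iff, mem_maximalIdeal_iff]

end Ball

section Residue

theorem transcendental_of_val_lt_one (hK : FunFld.IsFunctionField k K) (P : Place k K) {x : K}
    (hx0 : x ≠ 0) (hx : P.1 x < 1) : Transcendental k x := by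
  rw [ff_transcendental_iff hK]
  rintro ⟨c, rfl⟩
  have hc : c ≠ 0 := by
    rintro rfl; simp at hx0
  rw [pl_val_const P hc] at hx
  exact lt_irrefl _ hx

theorem transcendental_of_val_ne_one (hK : FunFld.IsFunctionField k K) (P : Place k K) {x : K}
    (hx0 : x ≠ 0) (hx : P.1 x ≠ 1) : Transcendental k x := by
  rw [ff_transcendental_iff hK]
  rintro ⟨c, rfl⟩
  have hc : c ≠ 0 := by
    rintro rfl; simp at hx0
  exact hx (pl_val_const P hc)

/-- The residue field of a place is finite over `k`, of degree at most `[K : k(x)]` for any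
nonzero `x` in the maximal ideal. -/
theorem residue_finite (hK : FunFld.IsFunctionField k K) (P : Place k K) {x : K}
    (hx0 : x ≠ 0) (hx : P.1 x < 1) :
    FiniteDimensional k (IsLocalRing.ResidueField P.O) ∧
      P.deg ≤ Module.finrank k⟮x⟯ K := by
  haveI := ff_finite hK (transcendental_of_val_lt_one hK P hx0 hx)
  have hxA : ∀ a ∈ ball P 0, x * a ∈ ball P 0 := by
    intro a ha
    rw [mem_ball_zero] at ha ⊢
    rw [map_mul]
    exact (mul_le_mul' hx.le ha).trans_eq (one_mul _)
  refine finite_of_mul_mem x hx0 (ball P 0) hxA (resMap P) (resMap_surjective P) ?_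
  intro a ha
  rw [resMap_eq_zero_iff]
  rw [mem_ball_zero] at ha
  change P.1 (x * a) < 1
  rw [map_mul]
  calc P.1 x * P.1 a ≤ P.1 x * 1 := mul_le_mul' le_rfl ha
    _ = P.1 x := mul_one _
    _ < 1 := hx

theorem residue_finiteDimensional (hK : FunFld.IsFunctionField k K) (P : Place k K) :
    FiniteDimensional k (IsLocalRing.ResidueField P.O) := by
  obtain ⟨t, ht0, ht⟩ := pl_exists_val_eq_exp P (-1)
  exact (residue_finite hK P ht0 ((zm0_lt_one_iff _).mpr ht.le)).1

theorem deg_pos (hK : FunFld.IsFunctionField k K) (P : Place k K) : 0 < P.deg := by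
  haveI := residue_finiteDimensional hK P
  exact Module.finrank_pos

end Residue

end Groth.Agent.H55
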