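import Mathlib

/-!
# Coefficientwise description of ideals generated by powers of `π_j X_j`

`mem_span_iff_coeff` : `r ∈ (( π_j X_j)^E : j ∈ S)` iff every coefficient `coeff α r` lies in
`(π_j^E : j ∈ S, E ≤ α j)`.
`hR_mvPolynomial` : lemma (CW) requested by helper10 for S6824.
-/

set_option linter.style.haveILetI false
set_option linter.deprecated false

namespace Groth.Agent.H55.CoeffSpan

open MvPolynomial

universe u

variable {P : Type u} [CommRing P] {σ : Type*}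

theorem gen_eq (π : σ → P) (j : σ) (E : ℕ) :
    (C (π j) * X j : MvPolynomial σ P) ^ E = monomial (Finsupp.single j E) (π j ^ E) := by
  rw [mul_pow, ← C_pow, X_pow_eq_monomial, C_mul_monomial, mul_one]

theorem coeff_gen_mul (π : σ → P) (j : σ) (E : ℕ) (q : MvPolynomial σ P) (α : σ →₀ ℕ) :
    coeff α ((C (π j) * X j : MvPolynomial σ P) ^ E * q) =
      if E ≤ α j then π j ^ E * coeff (α - Finsupp.single j E) q else 0 := by
  classical
  rw [gen_eq, coeff_monomial_mul']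
  simp only [Finsupp.single_le_iff]

theorem coeff_mem_of_mem (π : σ → P) (E : ℕ) (S : Set σ) {r : MvPolynomial σ P}
    (hr : r ∈ Ideal.span ((fun j => (C (π j) * X j : MvPolynomial σ P) ^ E) '' S))
    (α : σ →₀ ℕ) :
    coeff α r ∈ Ideal.span ((fun j => π j ^ E) '' {j | j ∈ S ∧ E ≤ α j}) := by
  suffices H : ∀ (q : MvPolynomial σ P) (α : σ →₀ ℕ), coeff α (q * r) ∈
      Ideal.span ((fun j => π j ^ E) '' {j | j ∈ S ∧ E ≤ α j}) by
    simpa using H 1 α
  refine Submodule.span_induction (p := fun r _ => ∀ (q : MvPolynomial σ P) (α : σ →₀ ℕ),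
    coeff α (q * r) ∈ Ideal.span ((fun j => π j ^ E) '' {j | j ∈ S ∧ E ≤ α j})) ?_ ?_ ?_ ?_ hr
  · rintro _ ⟨j, hj, rfl⟩ q α
    rw [mul_comm, coeff_gen_mul]
    split_ifs with hE
    · exact Ideal.mul_mem_right _ _ (Ideal.subset_span ⟨j, ⟨hj, hE⟩, rfl⟩)
    · exact Ideal.zero_mem _
  · intro q α
    rw [mul_zero, coeff_zero]
    exact Ideal.zero_mem _
  · intro a b _ _ ha hb q α
    rw [mul_add, coeff_add]
    exact Ideal.add_mem _ (ha q α) (hb q α)
  · intro a b _ hb q α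
    rw [smul_eq_mul, ← mul_assoc]
    exact hb (q * a) α

theorem mem_of_coeff_mem (π : σ → P) (E : ℕ) (S : Set σ) {r : MvPolynomial σ P}
    (h : ∀ α : σ →₀ ℕ, coeff α r ∈ Ideal.span ((fun j => π j ^ E) '' {j | j ∈ S ∧ E ≤ α j})) :
    r ∈ Ideal.span ((fun j => (C (π j) * X j : MvPolynomial σ P) ^ E) '' S) := by
  classical
  have key : ∀ (α : σ →₀ ℕ) (a : P),
      a ∈ Ideal.span ((fun j => π j ^ E) '' {j | j ∈ S ∧ E ≤ α j}) →
      monomial α a ∈ Ideal.span ((fun j => (C (π j) * X j : MvPolynomial σ P) ^ E) '' S) := by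
    intro α a ha
    refine Submodule.span_induction (p := fun a _ => monomial α a ∈
      Ideal.span ((fun j => (C (π j) * X j : MvPolynomial σ P) ^ E) '' S)) ?_ ?_ ?_ ?_ ha
    · rintro _ ⟨j, ⟨hj, hE⟩, rfl⟩
      have e1 : monomial α (π j ^ E) =
          (C (π j) * X j : MvPolynomial σ P) ^ E * monomial (α - Finsupp.single j E) 1 := by
        rw [gen_eq, monomial_mul, mul_one,
          add_tsub_cancel_of_le (Finsupp.single_le_iff.mpr hE)]
      rw [e1]
      exact Ideal.mul_mem_right _ _ (Ideal.subset_span ⟨j, hj, rfl⟩)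
    · rw [map_zero]
      exact Ideal.zero_mem _
    · intro a b _ _ ha hb
      rw [map_add]
      exact Ideal.add_mem _ ha hb
    · intro b a _ ha
      rw [smul_eq_mul, ← C_mul_monomial]
      exact Ideal.mul_mem_left _ _ ha
  rw [← support_sum_monomial_coeff r]
  exact Ideal.sum_mem _ (fun α _ => key α _ (h α))

theorem mem_span_iff_coeff (π : σ → P) (E : ℕ) (S : Set σ) (r : MvPolynomial σ P) :
    r ∈ Ideal.span ((fun j => (C (π j) * X j : MvPolynomial σ P) ^ E) '' S) ↔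
      ∀ α : σ →₀ ℕ, coeff α r ∈ Ideal.span ((fun j => π j ^ E) '' {j | j ∈ S ∧ E ≤ α j}) :=
  ⟨fun hr α => coeff_mem_of_mem π E S hr α, mem_of_coeff_mem π E S⟩

theorem setOf_add_single (S : Set σ) (i : σ) (hi : i ∉ S) (E m : ℕ) (α : σ →₀ ℕ) :
    {j | j ∈ S ∧ E ≤ (α + Finsupp.single i m) j} = {j | j ∈ S ∧ E ≤ α j} := by
  classical
  ext j
  simp only [Set.mem_setOf_eq, Finsupp.add_apply]
  constructor
  · rintro ⟨hj, hE⟩
    have hji : i ≠ j := fun e => hi (e ▸ hj)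
    rw [Finsupp.single_apply, if_neg hji, add_zero] at hE
    exact ⟨hj, hE⟩
  · rintro ⟨hj, hE⟩
    have hji : i ≠ j := fun e => hi (e ▸ hj)
    rw [Finsupp.single_apply, if_neg hji, add_zero]
    exact ⟨hj, hE⟩

theorem setOf_sub_single (S : Set σ) (i : σ) (hi : i ∉ S) (E m : ℕ) (α : σ →₀ ℕ) :
    {j | j ∈ S ∧ E ≤ (α - Finsupp.single i m) j} = {j | j ∈ S ∧ E ≤ α j} := by
  classical
  ext j
  simp only [Set.mem_setOf_eq, Finsupp.tsub_apply]
  constructor
  · rintro ⟨hj, hE⟩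
    have hji : i ≠ j := fun e => hi (e ▸ hj)
    rw [Finsupp.single_apply, if_neg hji, tsub_zero] at hE
    exact ⟨hj, hE⟩
  · rintro ⟨hj, hE⟩
    have hji : i ≠ j := fun e => hi (e ▸ hj)
    rw [Finsupp.single_apply, if_neg hji, tsub_zero]
    exact ⟨hj, hE⟩

/-- the general form of (CW). -/
theorem main_aux (π : σ → P) (c E : ℕ) (i : σ) (S : Set σ) (hi : i ∉ S)
    (h : ∀ (α : σ →₀ ℕ) (y : P),
      π i ^ (c * 2) * y ∈ Ideal.span ((fun j => π j ^ E) '' {j | j ∈ S ∧ E ≤ α j}) →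
      π i ^ c * y ∈ Ideal.span ((fun j => π j ^ E) '' {j | j ∈ S ∧ E ≤ α j}))
    (r : MvPolynomial σ P)
    (hr : (C (π i) * X i : MvPolynomial σ P) ^ (c * 2) * r ∈
      Ideal.span ((fun j => (C (π j) * X j : MvPolynomial σ P) ^ E) '' S)) :
    (C (π i) * X i : MvPolynomial σ P) ^ c * r ∈
      Ideal.span ((fun j => (C (π j) * X j : MvPolynomial σ P) ^ E) '' S) := by
  classical
  apply mem_of_coeff_mem
  intro β
  rw [coeff_gen_mul]
  split_ifs with hcβ
  · rw [← setOf_sub_single S i hi E c β]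
    apply h
    have h1 := coeff_mem_of_mem π E S hr ((β - Finsupp.single i c) + Finsupp.single i (c * 2))
    rw [coeff_gen_mul, if_pos (by simp), add_tsub_cancel_right, setOf_add_single S i hi] at h1
    exact h1
  · exact Ideal.zero_mem _

/-- **Lemma (CW)** for S6824. -/
theorem hR_mvPolynomial {d : ℕ} (π : Fin d → P) (c : ℕ) (hc : 0 < c)
    (h : ∀ (i : Fin d) (W : Finset (Fin d)), (∀ j ∈ W, j < i) → ∀ y : P,
      (π i) ^ (c * 2) * y ∈ Ideal.span ((fun j => (π j) ^ (c * 8)) '' (W : Set (Fin d))) →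
      (π i) ^ c * y ∈ Ideal.span ((fun j => (π j) ^ (c * 8)) '' (W : Set (Fin d)))) :
    ∀ i : Fin d, ∀ x : MvPolynomial (Fin d) P ⧸ Ideal.span (Set.range
        fun j : {j : Fin d // (j : ℕ) < (i : ℕ)} =>
          ((C (π (j : Fin d)) * X (j : Fin d) : MvPolynomial (Fin d) P) ^ c) ^ 8),
      Ideal.Quotient.mk _ ((C (π i) * X i : MvPolynomial (Fin d) P) ^ c) ^ 2 * x = 0 →
      Ideal.Quotient.mk _ ((C (π i) * X i : MvPolynomial (Fin d) P) ^ c) * x = 0 := by
  classical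
  intro i x hx
  have hJ : Ideal.span (Set.range fun j : {j : Fin d // (j : ℕ) < (i : ℕ)} =>
      ((C (π (j : Fin d)) * X (j : Fin d) : MvPolynomial (Fin d) P) ^ c) ^ 8) =
      Ideal.span ((fun j => (C (π j) * X j : MvPolynomial (Fin d) P) ^ (c * 8)) ''
        {j : Fin d | j < i}) := by
    congr 1
    ext g
    constructor
    · rintro ⟨⟨j, hj⟩, rfl⟩
      exact ⟨j, Fin.lt_def.mpr hj, by simp only [pow_mul]⟩
    · rintro ⟨j, hj, rfl⟩
      exact ⟨⟨j, Fin.lt_def.mp hj⟩, by simp only [pow_mul]⟩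
  obtain ⟨r, rfl⟩ := Ideal.Quotient.mk_surjective x
  rw [← map_pow, ← map_mul, Ideal.Quotient.eq_zero_iff_mem, hJ, ← pow_mul] at hx
  rw [← map_mul, Ideal.Quotient.eq_zero_iff_mem, hJ]
  refine main_aux π c (c * 8) i {j : Fin d | j < i} (by simp) ?_ r hx
  intro α y hy
  have hW : ((Finset.univ.filter (fun j : Fin d => j < i ∧ c * 8 ≤ α j) : Finset (Fin d)) :
      Set (Fin d)) = {j | j ∈ {j : Fin d | j < i} ∧ c * 8 ≤ α j} := by
    ext j
    simp
  rw [← hW] at hy ⊢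
  exact h i _ (fun j hj => (Finset.mem_filter.mp hj).2.1) y hy

end Groth.Agent.H55.CoeffSpan
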