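import Groth.Agent.H55.FFHyper4
import Mathlib

/-!
Geometric function fields: separating variables and Kähler differentials.
-/

set_option autoImplicit false

universe u v

namespace Groth.Agent.H55

open FunFld Polynomial IntermediateField TensorProduct

section CoreA

variable {k : Type u} {K : Type v} [Field k] [Field K] [Algebra k K]

/-- In a geometric extension, `p`-th powers of linearly independent elements stay linearly
independent. -/
theorem geometric_linearIndepOn_pow (hg : FunFld.IsGeometric k K) (p : ℕ) [hp : Fact p.Prime]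
    [CharP K p] (s : Finset K) (hs : LinearIndepOn k id (s : Set K)) :
    LinearIndepOn k (· ^ p) (s : Set K) := by
  classical
  haveI : CharP k p :=
    (RingHom.charP_iff (algebraMap k K) (algebraMap k K).injective p).mpr inferInstance
  have hs' : LinearIndependent k (fun a : (s : Set K) => (a : K)) := hs
  show LinearIndependent k (fun a : (s : Set K) => (a : K) ^ p)
  rw [Fintype.linearIndependent_iff]
  intro c hc
  have hroot : ∀ a : (s : Set K), ∃ r : AlgebraicClosure k, r ^ p = algebraMap k _ (c a) :=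
    fun a => IsAlgClosed.exists_pow_nat_eq _ hp.out.pos
  choose r hr using hroot
  obtain ⟨k', hk'⟩ : ∃ k' : IntermediateField k (AlgebraicClosure k),
      k' = IntermediateField.adjoin k (Set.range r) := ⟨_, rfl⟩
  haveI : FiniteDimensional k k' := by
    rw [hk']
    exact IntermediateField.finiteDimensional_adjoin
      (fun x _ => Algebra.IsIntegral.isIntegral x)
  have hA : IsField (k' ⊗[k] K) := hg k' inferInstance
  haveI : Nontrivial (k' ⊗[k] K) := hA.nontrivial
  haveI : CharP (k' ⊗[k] K) p :=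
    charP_of_injective_algebraMap (algebraMap k (k' ⊗[k] K)).injective p
  have hmem : ∀ a, r a ∈ k' := fun a => by
    rw [hk']; exact IntermediateField.subset_adjoin _ _ ⟨a, rfl⟩
  have hr' : ∀ a, (⟨r a, hmem a⟩ : k') ^ p = algebraMap k k' (c a) :=
    fun a => Subtype.ext (hr a)
  have hterm : ∀ a : (s : Set K), ((⟨r a, hmem a⟩ : k') ⊗ₜ[k] (a : K)) ^ p =
      (1 : k') ⊗ₜ[k] (c a • (a : K) ^ p) := by
    intro a
    rw [Algebra.TensorProduct.tmul_pow, hr' a, Algebra.algebraMap_eq_smul_one,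
      TensorProduct.smul_tmul]
  have hζp : (∑ a : (s : Set K), (⟨r a, hmem a⟩ : k') ⊗ₜ[k] (a : K)) ^ p = 0 := by
    refine (sum_pow_char p Finset.univ
      (fun a : (s : Set K) => (⟨r a, hmem a⟩ : k') ⊗ₜ[k] (a : K))).trans ?_
    refine (Finset.sum_congr rfl (fun a _ => hterm a)).trans ?_
    refine (TensorProduct.tmul_sum _ _ _).symm.trans ?_
    rw [hc, TensorProduct.tmul_zero]
  have hζ : (∑ a : (s : Set K), (⟨r a, hmem a⟩ : k') ⊗ₜ[k] (a : K)) = 0 := by
    by_contra hne
    obtain ⟨ζ', hζ'⟩ := hA.mul_inv_cancel hne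
    have h6 : ((∑ a : (s : Set K), (⟨r a, hmem a⟩ : k') ⊗ₜ[k] (a : K)) * ζ') ^ p = 1 :=
      (congrArg (· ^ p) hζ').trans (one_pow (M := k' ⊗[k] K) p)
    have h8 : (∑ a : (s : Set K), (⟨r a, hmem a⟩ : k') ⊗ₜ[k] (a : K)) ^ p * ζ' ^ p = 1 :=
      (mul_pow (M := k' ⊗[k] K) _ _ _).symm.trans h6
    have h9 : (∑ a : (s : Set K), (⟨r a, hmem a⟩ : k') ⊗ₜ[k] (a : K)) ^ p * ζ' ^ p = 0 :=
      (congrArg (· * ζ' ^ p) hζp).trans (zero_mul (M₀ := k' ⊗[k] K) _)
    exact zero_ne_one (α := k' ⊗[k] K) (h9.symm.trans h8)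
  have hli := Module.Flat.linearIndependent_one_tmul (S := k') hs'
  rw [Fintype.linearIndependent_iff] at hli
  have hr0 : ∀ a, (⟨r a, hmem a⟩ : k') = 0 := by
    apply hli (fun a => (⟨r a, hmem a⟩ : k'))
    rw [← hζ]
    apply Finset.sum_congr rfl
    intro a _
    rw [TensorProduct.smul_tmul', smul_eq_mul, mul_one]
  intro a
  have h3 := hr' a
  rw [hr0 a, zero_pow hp.out.ne_zero] at h3
  exact (map_eq_zero_iff _ (algebraMap k k').injective).mp h3.symm

/-- A geometric function field of one variable has a separating variable. -/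
theorem exists_separating (hK : FunFld.IsFunctionField k K) (hg : FunFld.IsGeometric k K) :
    ∃ t : K, Transcendental k t ∧ Algebra.IsSeparable k⟮t⟯ K := by
  classical
  obtain ⟨⟨x, hx, hfin⟩, -⟩ := hK
  obtain hz | ⟨p, hp, hpk⟩ := CharP.exists' k
  · refine ⟨x, hx, ?_⟩
    haveI : CharZero k⟮x⟯ := charZero_of_injective_algebraMap (algebraMap k k⟮x⟯).injective
    infer_instance
  · haveI := hp
    haveI : CharP K p := charP_of_injective_algebraMap (algebraMap k K).injective p
    have H := geometric_linearIndepOn_pow hg p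
    haveI : Algebra.EssFiniteType k k⟮x⟯ :=
      IntermediateField.essFiniteType_iff.mpr ⟨{x}, by rw [Finset.coe_singleton]⟩
    haveI : Algebra.EssFiniteType k K := Algebra.EssFiniteType.comp k k⟮x⟯ K
    obtain ⟨s, hs, hsep⟩ :=
      exists_isTranscendenceBasis_and_isSeparable_of_linearIndepOn_pow_of_essFiniteType
        p hp.out H
    have hx' : IsTranscendenceBasis k (fun _ : PUnit.{v + 1} => x) := by
      rw [(algebraicIndependent_unique_type_iff.mpr hx).isTranscendenceBasis_iff_isAlgebraic]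
      rw [Set.range_const]
      exact ⟨fun y => isAlgebraic_adjoin_iff.mp (Algebra.IsAlgebraic.isAlgebraic y)⟩
    have hcard := hs.cardinalMk_eq hx'
    rw [Cardinal.mk_coe_finset, Cardinal.mk_punit] at hcard
    have hc1 : s.card = 1 := by exact_mod_cast hcard
    obtain ⟨t, rfl⟩ := Finset.card_eq_one.mp hc1
    refine ⟨t, ?_, ?_⟩
    · exact hs.1.transcendental ⟨t, Finset.mem_singleton_self t⟩
    · rw [Finset.coe_singleton] at hsep
      exact hsep

end CoreA

section Kaehler

variable {k : Type u} {K : Type v} [Field k] [Field K] [Algebra k K]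

/-- For a separating transcendental `t`, `Ω[K/k]` is free of rank one on `dt`. -/
theorem kaehler_equiv_of_separating (t : K) (ht : Transcendental k t)
    [Algebra.IsSeparable k⟮t⟯ K] :
    ∃ e : Ω[K⁄k] ≃ₗ[K] K, e (KaehlerDifferential.D k K t) = 1 := by
  obtain ⟨φ, hφ⟩ : ∃ φ : RatFunc k ≃ₐ[k] k⟮t⟯, φ = RatFunc.algEquivOfTranscendental t ht :=
    ⟨_, rfl⟩
  letI algRK : Algebra (RatFunc k) K :=
    ((algebraMap k⟮t⟯ K).comp φ.toRingEquiv.toRingHom).toAlgebra
  haveI : Algebra.IsSeparable (RatFunc k) K :=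
    Algebra.IsSeparable.of_equiv_equiv (A₁ := k⟮t⟯) (B₁ := K) φ.symm.toRingEquiv
      (RingEquiv.refl K) (by
        ext a
        show algebraMap k⟮t⟯ K (φ (φ.symm a)) = algebraMap k⟮t⟯ K a
        rw [AlgEquiv.apply_symm_apply])
  haveI : Algebra.FormallyEtale (RatFunc k) K :=
    Algebra.FormallyEtale.of_isSeparable (RatFunc k) K
  haveI : Algebra.FormallyEtale k[X] (RatFunc k) :=
    Algebra.FormallyEtale.of_isLocalization (nonZeroDivisors k[X])
  letI algPK : Algebra k[X] K :=
    ((algebraMap (RatFunc k) K).comp (algebraMap k[X] (RatFunc k))).toAlgebra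
  haveI : IsScalarTower k[X] (RatFunc k) K := IsScalarTower.of_algebraMap_eq (fun _ => rfl)
  haveI : Algebra.FormallyEtale k[X] K := Algebra.FormallyEtale.comp k[X] (RatFunc k) K
  haveI : IsScalarTower k k[X] K := IsScalarTower.of_algebraMap_eq (fun c => by
    show algebraMap k K c =
      algebraMap k⟮t⟯ K (φ (algebraMap k[X] (RatFunc k) (algebraMap k k[X] c)))
    rw [← IsScalarTower.algebraMap_apply k k[X] (RatFunc k), φ.commutes,
      ← IsScalarTower.algebraMap_apply])
  have hX : algebraMap k[X] K X = t := by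
    show algebraMap k⟮t⟯ K (φ (algebraMap k[X] (RatFunc k) X)) = t
    rw [RatFunc.algebraMap_X, hφ]
    exact RatFunc.algEquivOfTranscendental_X t ht
  obtain ⟨e₁, he₁⟩ : ∃ e₁ : K ⊗[k[X]] Ω[k[X]⁄k] ≃ₗ[K] Ω[K⁄k],
      e₁ = KaehlerDifferential.tensorKaehlerEquivOfFormallyEtale k k[X] K := ⟨_, rfl⟩
  obtain ⟨e₂, he₂⟩ : ∃ e₂ : K ⊗[k[X]] Ω[k[X]⁄k] ≃ₗ[K] K ⊗[k[X]] k[X],
      e₂ = TensorProduct.AlgebraTensorModule.congr (LinearEquiv.refl K K)
        (KaehlerDifferential.polynomialEquiv k) := ⟨_, rfl⟩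
  obtain ⟨e₃, he₃⟩ : ∃ e₃ : K ⊗[k[X]] k[X] ≃ₗ[K] K,
      e₃ = TensorProduct.AlgebraTensorModule.rid k[X] K K := ⟨_, rfl⟩
  refine ⟨e₁.symm.trans (e₂.trans e₃), ?_⟩
  show e₃ (e₂ (e₁.symm (KaehlerDifferential.D k K t))) = 1
  rw [← hX, he₁, KaehlerDifferential.tensorKaehlerEquivOfFormallyEtale_symm_D_algebraMap, he₂,
    TensorProduct.AlgebraTensorModule.congr_tmul, KaehlerDifferential.polynomialEquiv_D,
    derivative_X, he₃, TensorProduct.AlgebraTensorModule.rid_tmul]
  simp

theorem finrank_kaehler (hK : FunFld.IsFunctionField k K) (hg : FunFld.IsGeometric k K) :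
    Module.finrank K (Ω[K⁄k]) = 1 := by
  obtain ⟨t, ht, hsep⟩ := exists_separating hK hg
  haveI := hsep
  obtain ⟨e, -⟩ := kaehler_equiv_of_separating t ht
  rw [e.finrank_eq, Module.finrank_self]

end Kaehler

end Groth.Agent.H55
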