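import Groth.Agent.H55.FFRiemann
import Mathlib

/-!
Repartitions: `dim (A(D₂)+K)/(A(D₁)+K)`, `A = A(D)+K` for `D` of large degree, index of speciality,
and the dimension of the space of Weil differentials `W(D)`.
-/

set_option autoImplicit false

namespace Groth.Agent.H55

open FunFld WithZero Polynomial IntermediateField

variable {k K : Type*} [Field k] [Field K] [Algebra k K]

variable (k K) in
/-- The image of the diagonal embedding. -/
abbrev Kd : Submodule k (Place k K → K) := LinearMap.range (diag k K)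

theorem diag_apply (z : K) (P : Place k K) : diag k K z P = z := rfl

theorem diag_mem_AD_iff (D : Divisor k K) (z : K) : diag k K z ∈ AD D ↔ z ∈ L D := Iff.rfl

/-- `dim (A(D₂)+K)/(A(D₁)+K) = δ(D₂) - δ(D₁)`. -/
theorem relfr_ADK (hK : FunFld.IsFunctionField k K) {D₁ D₂ : Divisor k K} (h : D₁ ≤ D₂) :
    RelFin (AD D₁ ⊔ Kd k K) (AD D₂ ⊔ Kd k K) ∧
      (relfr (AD D₁ ⊔ Kd k K) (AD D₂ ⊔ Kd k K) : ℤ) = delta D₂ - delta D₁ := by
  set X : Submodule k (Place k K → K) := AD D₁ ⊔ Kd k K with hX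
  set M : Submodule k (Place k K → K) := X ⊓ AD D₂ with hM
  have h1 := relfr_sup_right (A := X) (B := AD D₂) (C := Kd k K) le_sup_right
  have h2 : relfr M (AD D₂) = relfr X (AD D₂) ∧ (RelFin M (AD D₂) ↔ RelFin X (AD D₂)) :=
    relfr_inf_left X (AD D₂)
  have hAM : AD D₁ ≤ M := le_inf le_sup_left (AD_mono h)
  obtain ⟨hAD, hADn⟩ := relfr_AD hK h
  obtain ⟨h3a, h3b, h3c⟩ := relfr_add' hAM (inf_le_right : M ≤ AD D₂) hAD
  -- the map L(D₂) → M/A(D₁)
  have hgm : ∀ z ∈ L D₂, diag k K z ∈ M := fun z hz =>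
    ⟨Submodule.mem_sup_right ⟨z, rfl⟩, hz⟩
  let g : L D₂ →ₗ[k] RelQ (AD D₁) M :=
    ((AD D₁).comap M.subtype).mkQ ∘ₗ ((diag k K).restrict hgm)
  have hgs : Function.Surjective g := by
    intro q
    obtain ⟨⟨m, hm⟩, rfl⟩ := Submodule.Quotient.mk_surjective _ q
    obtain ⟨a₁, ha₁, y, ⟨z, rfl⟩, hsum⟩ := Submodule.mem_sup.mp hm.1
    have hz : z ∈ L D₂ := by
      have : diag k K z = m - a₁ := by rw [← hsum]; abel
      rw [← diag_mem_AD_iff, this]
      exact (AD D₂).sub_mem hm.2 (AD_mono h ha₁)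
    refine ⟨⟨z, hz⟩, ?_⟩
    change Submodule.Quotient.mk _ = Submodule.Quotient.mk _
    rw [Submodule.Quotient.eq]
    change diag k K z - m ∈ AD D₁
    have : diag k K z - m = -a₁ := by rw [← hsum]; abel
    rw [this]
    exact (AD D₁).neg_mem ha₁
  have hgk : ∀ z : L D₂, g z = 0 ↔ (z : K) ∈ L D₁ := by
    intro z
    change Submodule.Quotient.mk _ = 0 ↔ _
    rw [Submodule.Quotient.mk_eq_zero]
    rfl
  have h4 : relfr (L D₁) (L D₂) = relfr (AD D₁) M := relfr_eq_of_surj _ _ g hgs hgk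
  haveI := L_finite hK D₁
  obtain ⟨-, h5⟩ := finrank_eq_add_relfr (L_mono h) (relfr_L hK h).1
  refine ⟨h1.2.mpr (h2.2.mp h3b), ?_⟩
  rw [h1.1, ← h2.1]
  unfold delta ell
  rw [h5, h4]
  push_cast
  have : (relfr (AD D₁) (AD D₂) : ℤ) = relfr (AD D₁) M + relfr M (AD D₂) := by exact_mod_cast h3c
  omega

section Adele

theorem mem_adele (a : Place k K → K) :
    a ∈ adele k K ↔ {P : Place k K | ¬ P.1 (a P) ≤ 1}.Finite := by
  change (∀ᶠ P : Place k K in Filter.cofinite, P.1 (a P) ≤ 1) ↔ _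
  rw [Filter.eventually_cofinite]

theorem AD_le_adele (D : Divisor k K) : AD D ≤ adele k K := by
  intro a ha
  rw [mem_adele]
  refine D.support.finite_toSet.subset ?_
  intro P hP
  rw [Finset.mem_coe, Finsupp.mem_support_iff]
  intro h0
  apply hP
  have := ha P
  rwa [h0, exp_zero] at this

theorem Kd_le_adele (hK : FunFld.IsFunctionField k K) : Kd k K ≤ adele k K := by
  rintro _ ⟨z, rfl⟩
  rw [mem_adele]
  refine (poles_finite hK z).subset ?_
  intro P hP
  exact not_le.mp hP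

theorem exists_ge_mem_AD {α : Place k K → K} (hα : α ∈ adele k K) (D₁ : Divisor k K) :
    ∃ D₂ : Divisor k K, D₁ ≤ D₂ ∧ α ∈ AD D₂ := by
  classical
  rw [mem_adele] at hα
  let f : Place k K → ℤ := fun P => max (log (P.1 (α P)) - D₁ P) 0
  have hf : ∀ P, f P ≠ 0 → P ∈ hα.toFinset ∪ D₁.support := by
    intro P hP
    rw [Finset.mem_union, Set.Finite.mem_toFinset, Finsupp.mem_support_iff]
    by_contra hcon
    rw [not_or, not_not] at hcon
    obtain ⟨h1, h2⟩ := hcon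
    have h1' : P.1 (α P) ≤ 1 := not_not.mp h1
    apply hP
    simp only [f]
    rw [h2, sub_zero]
    apply max_eq_right
    by_cases h0 : P.1 (α P) = 0
    · rw [h0]; simp
    · rw [log_le_iff_le_exp h0, exp_zero]; exact h1'
  let E : Divisor k K := Finsupp.onFinset (hα.toFinset ∪ D₁.support) f hf
  have hE : ∀ P, E P = f P := fun P => rfl
  refine ⟨D₁ + E, ?_, ?_⟩
  · intro P
    rw [Finsupp.add_apply, hE]
    have : 0 ≤ f P := le_max_right _ _
    omega
  · intro P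
    rw [Finsupp.add_apply, hE]
    by_cases h0 : P.1 (α P) = 0
    · rw [h0]; exact zero_le'
    · rw [← log_le_iff_le_exp h0]
      simp only [f]
      have := le_max_left (log (P.1 (α P)) - D₁ P) 0
      omega

theorem adele_eq (hK : FunFld.IsFunctionField k K) :
    ∃ N : ℤ, ∀ D₁ : Divisor k K, N ≤ D₁.deg → adele k K = AD D₁ ⊔ Kd k K := by
  obtain ⟨N, hN⟩ := exists_riemann_bound hK
  refine ⟨N, fun D₁ hD₁ => le_antisymm ?_ (sup_le (AD_le_adele D₁) (Kd_le_adele hK))⟩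
  intro α hα
  obtain ⟨D₂, h12, hα2⟩ := exists_ge_mem_AD hα D₁
  obtain ⟨hfin, hr⟩ := relfr_ADK hK h12
  rw [hN D₁ hD₁, hN D₂ (hD₁.trans (deg_mono h12)), sub_self] at hr
  have := le_of_relfr_eq_zero hfin (by exact_mod_cast hr)
  exact this (Submodule.mem_sup_left hα2)

theorem exists_place (hK : FunFld.IsFunctionField k K) : Nonempty (Place k K) := by
  obtain ⟨x, hx, -⟩ := hK.1
  obtain ⟨P, -⟩ := exists_zero hK x hx
  exact ⟨P⟩

theorem exists_ge_deg_ge (hK : FunFld.IsFunctionField k K) (D : Divisor k K) (N : ℤ) :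
    ∃ D₁ : Divisor k K, D ≤ D₁ ∧ N ≤ D₁.deg := by
  classical
  obtain ⟨P₀⟩ := exists_place hK
  set m : ℕ := (N - D.deg).toNat with hm
  refine ⟨D + Finsupp.single P₀ (m : ℤ), ?_, ?_⟩
  · apply le_add_of_nonneg_right
    intro P
    simp only [Finsupp.coe_zero, Pi.zero_apply]
    by_cases hP : P = P₀
    · subst hP; simp
    · rw [Finsupp.single_apply, if_neg (Ne.symm hP)]
  · rw [deg_add, deg_single]
    have h1 : (1 : ℤ) ≤ P₀.deg := by exact_mod_cast deg_pos hK P₀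
    have h2 := Int.self_le_toNat (N - D.deg)
    have : (m : ℤ) ≤ m * P₀.deg := by nlinarith
    omega

/-- `dim A/(A(D)+K) = g - δ(D)`. -/
theorem relfr_adele (hK : FunFld.IsFunctionField k K) (D : Divisor k K) :
    RelFin (AD D ⊔ Kd k K) (adele k K) ∧
      (relfr (AD D ⊔ Kd k K) (adele k K) : ℤ) = (genus k K : ℤ) - delta D := by
  obtain ⟨N₁, hN₁⟩ := adele_eq hK
  obtain ⟨N₂, hN₂⟩ := exists_riemann_bound hK
  obtain ⟨D₁, hD, hdeg⟩ := exists_ge_deg_ge hK D (max N₁ N₂)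
  rw [hN₁ D₁ ((le_max_left _ _).trans hdeg)]
  obtain ⟨h1, h2⟩ := relfr_ADK hK hD
  rw [hN₂ D₁ ((le_max_right _ _).trans hdeg)] at h2
  exact ⟨h1, h2⟩

theorem finrank_WD (hK : FunFld.IsFunctionField k K) (D : Divisor k K) :
    FiniteDimensional k (WD D) ∧
      (Module.finrank k (WD D) : ℤ) = (genus k K : ℤ) - delta D := by
  obtain ⟨h1, h2⟩ := relfr_adele hK D
  haveI : FiniteDimensional k (↥(adele k K) ⧸ ADK D) := h1
  let e : Module.Dual k (↥(adele k K) ⧸ ADK D) ≃ₗ[k] WD D :=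
    Submodule.dualQuotEquivDualAnnihilator (ADK D)
  refine ⟨Module.Finite.equiv e, ?_⟩
  rw [← e.finrank_eq, Subspace.dual_finrank_eq]
  exact h2

end Adele

end Groth.Agent.H55
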