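import Groth.Agent.H55.FFProj

/-!
Automorphisms of a function field acting on places; an automorphism with more than `2g + 2`
fixed places is the identity.
-/

namespace Groth.Agent.H55

open FunFld WithZero IntermediateField

variable {k K : Type*} [Field k] [Field K] [Algebra k K]

/-- The place `x ↦ P (σ x)`. -/
def comapEquiv (P : Place k K) (σ : K ≃ₐ[k] K) : Place k K :=
  ⟨P.1.comap (σ : K →+* K), ⟨fun c => by
      show P.1 (σ (algebraMap k K c)) ≤ 1
      rw [σ.commutes]
      exact P.2.1 c,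
    fun γ => by
      obtain ⟨y, hy⟩ := P.2.2 γ
      refine ⟨σ.symm y, ?_⟩
      show P.1 (σ (σ.symm y)) = γ
      rw [σ.apply_symm_apply]
      exact hy⟩⟩

theorem comapEquiv_apply (P : Place k K) (σ : K ≃ₐ[k] K) (x : K) :
    (comapEquiv P σ).1 x = P.1 (σ x) := rfl

theorem comapEquiv_symm (P : Place k K) (σ : K ≃ₐ[k] K) :
    comapEquiv (comapEquiv P σ) σ.symm = P := by
  apply pl_ext
  intro x
  rw [comapEquiv_apply, comapEquiv_apply, σ.apply_symm_apply]

theorem comapEquiv_symm' (P : Place k K) (σ : K ≃ₐ[k] K) :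
    comapEquiv (comapEquiv P σ.symm) σ = P := by
  apply pl_ext
  intro x
  rw [comapEquiv_apply, comapEquiv_apply, σ.symm_apply_apply]

theorem comapEquiv_eq_of_fixed (P : Place k K) (σ : K ≃ₐ[k] K)
    (h : ∀ x : K, P.1 x < 1 → P.1 (σ x) < 1) : comapEquiv P σ = P := by
  apply pl_eq_of_le
  intro x hx
  by_contra hcon
  rw [not_le] at hcon
  have hx0 : x ≠ 0 := by
    rintro rfl
    simp at hcon
  have h1 : P.1 x⁻¹ < 1 := by
    rw [map_inv₀]
    exact inv_lt_one_of_one_lt₀ hcon
  have h2 := h _ h1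
  rw [map_inv₀, map_inv₀] at h2
  rw [comapEquiv_apply] at hx
  have h3 : (1 : WithZero (Multiplicative ℤ)) ≤ (P.1 (σ x))⁻¹ := by
    have hne : P.1 (σ x) ≠ 0 := (Valuation.ne_zero_iff _).mpr (by simpa using hx0)
    exact (one_le_inv₀ (zero_lt_iff.mpr hne)).mpr hx
  exact not_lt.mpr h3 h2

theorem exists_transcendental_mem_L (hK : FunFld.IsFunctionField k K) {D : Divisor k K}
    (hD : 0 ≤ D) (h : 2 ≤ ell D) : ∃ x ∈ L D, Transcendental k x := by
  have hlt : L (0 : Divisor k K) < L D := by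
    refine lt_of_le_of_ne (L_mono hD) (fun heq => ?_)
    have := (L_zero_finite hK).2
    rw [heq] at this
    unfold ell at h
    omega
  obtain ⟨x, hx, hxn⟩ := SetLike.exists_of_lt hlt
  refine ⟨x, hx, (ff_transcendental_iff hK).mpr ?_⟩
  rintro ⟨c, rfl⟩
  apply hxn
  rw [L_zero_eq hK, Submodule.mem_one]
  exact ⟨c, rfl⟩

/-- If `σ` preserves every valuation then `σ = 1`. -/
theorem aut_eq_one_of_forall_val (hK : FunFld.IsFunctionField k K) (σ : K ≃ₐ[k] K)
    (h : ∀ (P : Place k K) (x : K), P.1 (σ x) = P.1 x) : σ = 1 := by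
  have key : ∀ z : K, z ∉ Set.range (algebraMap k K) → ∃ c : k, σ z = algebraMap k K c * z := by
    intro z hz
    have hz0 : z ≠ 0 := by
      rintro rfl
      exact hz ⟨0, map_zero _⟩
    have hmem : σ z / z ∈ L (0 : Divisor k K) := by
      intro P
      rw [map_div₀, h P z, div_self ((Valuation.ne_zero_iff _).mpr hz0)]
      simp
    rw [L_zero_eq hK, Submodule.mem_one] at hmem
    obtain ⟨c, hc⟩ := hmem
    refine ⟨c, ?_⟩
    rw [hc]
    field_simp
  ext x
  show σ x = x
  by_cases hx : x ∈ Set.range (algebraMap k K)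
  · obtain ⟨c, rfl⟩ := hx
    exact σ.commutes c
  · have hx1 : x + 1 ∉ Set.range (algebraMap k K) := by
      rintro ⟨c, hc⟩
      apply hx
      refine ⟨c - 1, ?_⟩
      rw [map_sub, hc, map_one]
      ring
    obtain ⟨c, hc⟩ := key x hx
    obtain ⟨c', hc'⟩ := key (x + 1) hx1
    rw [map_add, map_one, hc] at hc'
    have h1 : algebraMap k K (c - c') * x = algebraMap k K (c' - 1) := by
      rw [map_sub, map_sub, map_one]
      linear_combination hc'
    have hcc : c = c' := by
      by_contra hne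
      apply hx
      refine ⟨(c' - 1) / (c - c'), ?_⟩
      have hne' : algebraMap k K (c - c') ≠ 0 := (map_ne_zero _).mpr (sub_ne_zero.mpr hne)
      rw [map_div₀, ← h1]
      field_simp
    subst hcc
    rw [sub_self, map_zero, zero_mul] at h1
    have h2 : c - 1 = 0 := (map_eq_zero (algebraMap k K)).mp h1.symm
    have h3 : c = 1 := sub_eq_zero.mp h2
    rw [hc, h3, map_one, one_mul]

theorem aut_eq_one_of_fixed [IsAlgClosed k] (hK : FunFld.IsFunctionField k K) (σ : K ≃ₐ[k] K)
    (T : Finset (Place k K)) (hT : ∀ P ∈ T, ∀ x : K, P.1 x < 1 → P.1 (σ x) < 1)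
    (hcard : 2 * genus k K + 2 < T.card) : σ = 1 := by
  classical
  by_contra hσ
  -- Step A: some place is not fixed
  have hA : ∃ P₀ : Place k K, ¬ ∀ x : K, P₀.1 x < 1 → P₀.1 (σ x) < 1 := by
    by_contra hall
    push_neg at hall
    apply hσ
    apply aut_eq_one_of_forall_val hK
    intro P x
    have := comapEquiv_eq_of_fixed P σ (hall P)
    rw [← comapEquiv_apply, this]
  obtain ⟨P₀, hP₀⟩ := hA
  set g := genus k K with hg
  have hdegP₀ : P₀.deg = 1 := deg_eq_one_of_isAlgClosed hK P₀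
  set D : Divisor k K := Finsupp.single P₀ ((g : ℤ) + 1) with hD
  have hD0 : 0 ≤ D := by
    intro Q
    rw [hD, Finsupp.single_apply]
    split_ifs
    · simp only [Finsupp.coe_zero, Pi.zero_apply]; omega
    · simp
  have hellD : 2 ≤ ell D := by
    have h1 := delta_le_genus hK D
    unfold delta at h1
    rw [hD, deg_single, hdegP₀] at h1
    have : (2 : ℤ) ≤ ell D := by
      rw [hD]
      push_cast at h1 ⊢
      omega
    exact_mod_cast this
  obtain ⟨x, hxD, hxt⟩ := exists_transcendental_mem_L hK hD0 hellD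
  have hx0 : x ≠ 0 := by
    rintro rfl
    exact hxt isAlgebraic_zero
  set Q₀ := comapEquiv P₀ σ.symm with hQ₀
  have hQ₀σ : ∀ z, Q₀.1 (σ z) = P₀.1 z := by
    intro z
    rw [hQ₀, comapEquiv_apply, σ.symm_apply_apply]
  have hQP : Q₀ ≠ P₀ := by
    intro heq
    apply hP₀
    intro z hz
    rw [← heq, hQ₀σ]
    exact hz
  have hxP : ∀ P : Place k K, P ≠ P₀ → P.1 x ≤ 1 := by
    intro P hP
    have := hxD P
    rw [hD, Finsupp.single_apply, if_neg (Ne.symm hP)] at this
    simpa using this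
  have hσxP : ∀ P : Place k K, P ≠ Q₀ → P.1 (σ x) ≤ 1 := by
    intro P hP
    rw [← comapEquiv_apply]
    apply hxP
    intro heq
    apply hP
    rw [hQ₀, ← heq, comapEquiv_symm]
  have hpole : 1 < P₀.1 x := by
    obtain ⟨P, hP⟩ := exists_pole hK x hxt
    by_cases hPP : P = P₀
    · subst hPP; exact hP
    · exact absurd (hxP P hPP) (not_le.mpr hP)
  set y := σ x - x with hy
  have hy0 : y ≠ 0 := by
    intro h0
    have hσx : σ x = x := sub_eq_zero.mp h0
    have h1 : 1 < Q₀.1 (σ x) := by rw [hQ₀σ]; exact hpole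
    rw [hσx] at h1
    exact absurd (hxP Q₀ hQP) (not_le.mpr h1)
  have hTzero : ∀ P ∈ T, P.1 y < 1 := by
    intro P hP
    have hPP₀ : P ≠ P₀ := by
      rintro rfl
      exact hP₀ (hT _ hP)
    obtain ⟨c, hc⟩ := exists_const_sub_lt_one hK P (hxP P hPP₀)
    have h1 := hT P hP _ hc
    rw [map_sub, σ.commutes] at h1
    have e : y = (σ x - algebraMap k K c) - (x - algebraMap k K c) := by rw [hy]; ring
    rw [e]
    exact P.1.map_sub_lt h1 hc
  have hTne : T.Nonempty := by
    rw [← Finset.card_pos]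
    omega
  obtain ⟨P₁, hP₁⟩ := hTne
  have hyt : Transcendental k y := transcendental_of_val_lt_one hK P₁ hy0 (hTzero P₁ hP₁)
  -- the divisor bounding the poles of y
  set D' : Divisor k K := D + Finsupp.single Q₀ ((g : ℤ) + 1) with hD'
  have hsQ0 : (0 : Divisor k K) ≤ Finsupp.single Q₀ ((g : ℤ) + 1) := by
    intro Q
    rw [Finsupp.single_apply]
    split_ifs
    · simp only [Finsupp.coe_zero, Pi.zero_apply]; omega
    · simp
  have hD'0 : 0 ≤ D' := add_nonneg hD0 hsQ0
  have hyD' : y ∈ L D' := by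
    rw [hy]
    refine Submodule.sub_mem _ ?_ ?_
    · refine L_mono (D₁ := Finsupp.single Q₀ ((g : ℤ) + 1)) ?_ ?_
      · rw [hD']
        exact le_add_of_nonneg_left hD0
      · intro P
        by_cases hPQ : P = Q₀
        · subst hPQ
          rw [hQ₀σ, Finsupp.single_eq_same]
          have := hxD P₀
          rw [hD, Finsupp.single_eq_same] at this
          exact this
        · rw [Finsupp.single_apply, if_neg (Ne.symm hPQ)]
          simpa using hσxP P hPQ
    · exact L_mono (by rw [hD']; exact le_add_of_nonneg_right hsQ0) hxD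
  have hpole_le : poleDiv k y ≤ D' := by
    intro P
    rw [poleDiv_apply hK]
    have h1 := hyD' P
    rw [pl_val_le_exp_iff P hy0] at h1
    have h2 := hD'0 P
    simp only [Finsupp.coe_zero, Pi.zero_apply] at h2
    exact max_le (by omega) h2
  have hdegD' : D'.deg = 2 * (g : ℤ) + 2 := by
    rw [hD', deg_add, hD, deg_single, deg_single, hdegP₀, deg_eq_one_of_isAlgClosed hK Q₀]
    push_cast
    ring
  have h1 : (T.card : ℤ) ≤ ∑ P ∈ T, P.ord y * (P.deg : ℤ) := by
    rw [Finset.card_eq_sum_ones]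
    push_cast
    refine Finset.sum_le_sum fun P hP => ?_
    have h2 := (pl_val_lt_one_iff P hy0).mp (hTzero P hP)
    rw [deg_eq_one_of_isAlgClosed hK P]
    push_cast
    omega
  have h2 := sum_ord_mul_deg_le hK y hy0 T hTzero
  have h3 := deg_poleDiv hK y hyt
  have h4 := deg_mono hpole_le
  rw [hdegD'] at h4
  have : (T.card : ℤ) ≤ 2 * (g : ℤ) + 2 := by
    calc (T.card : ℤ) ≤ ∑ P ∈ T, P.ord y * (P.deg : ℤ) := h1
      _ ≤ (Module.finrank k⟮y⟯ K : ℤ) := h2
      _ = (poleDiv k y).deg := h3.symm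
      _ ≤ 2 * (g : ℤ) + 2 := h4
  have : T.card ≤ 2 * g + 2 := by exact_mod_cast this
  omega

end Groth.Agent.H55
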