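import Groth.Agent.H55.FFDeg
import Mathlib

/-!
Riemann's inequality and the genus.
-/

set_option autoImplicit false

namespace Groth.Agent.H55

open FunFld WithZero Polynomial IntermediateField

variable {k K : Type*} [Field k] [Field K] [Algebra k K]

/-- `δ(D) = deg D + 1 - ℓ(D)`. -/
noncomputable def delta (D : Divisor k K) : ℤ := D.deg + 1 - (ell D : ℤ)

theorem delta_mono (hK : FunFld.IsFunctionField k K) {D₁ D₂ : Divisor k K} (h : D₁ ≤ D₂) :
    delta D₁ ≤ delta D₂ := by
  have := ell_sub_le hK h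
  unfold delta
  omega

theorem delta_add_div (hK : FunFld.IsFunctionField k K) (D : Divisor k K) {z : K} (hz : z ≠ 0) :
    delta (D + FunFld.div k z) = delta D := by
  unfold delta
  rw [deg_add, deg_div hK, ell_add_div hK D hz, add_zero]

theorem delta_sub_div (hK : FunFld.IsFunctionField k K) (D : Divisor k K) {z : K} (hz : z ≠ 0) :
    delta (D - FunFld.div k z) = delta D := by
  have := delta_add_div hK D (inv_ne_zero hz)
  rw [div_inv hK, ← sub_eq_add_neg] at this
  exact this

theorem delta_zero (hK : FunFld.IsFunctionField k K) : delta (0 : Divisor k K) = 0 := by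
  unfold delta ell
  rw [deg_zero, (L_zero_finite hK).2]
  simp

theorem exists_delta_bound (hK : FunFld.IsFunctionField k K) :
    ∃ γ : ℤ, ∀ D : Divisor k K, delta D ≤ γ := by
  obtain ⟨x, hx, hfin⟩ := hK.1
  haveI := hfin
  set n : ℕ := Module.finrank k⟮x⟯ K with hn
  have hn1 : 1 ≤ n := Module.finrank_pos
  set B : Divisor k K := zeroDiv k x with hB
  have hBdeg : B.deg = n := deg_zeroDiv hK x hx
  obtain ⟨C, hC0, hC⟩ := exists_C_ell_ge hK x hx
  set γ₀ : ℤ := C.deg - n + 1 with hγ₀
  have hA : ∀ l : ℕ, delta (l • B) ≤ γ₀ := by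
    intro l
    have h1 := hC l
    have h2 := ell_sub_le hK (show l • B ≤ l • B + C from le_add_of_nonneg_right hC0)
    rw [deg_add] at h2
    have h3 : (((l + 1) * n : ℕ) : ℤ) ≤ ell (l • B + C) := by exact_mod_cast h1
    push_cast at h3
    unfold delta
    rw [deg_nsmul, hBdeg]
    linarith
  refine ⟨γ₀, fun D => ?_⟩
  set Dp : Divisor k K := D ⊔ 0 with hDp
  have hDp0 : 0 ≤ Dp := le_sup_right
  have hd : 0 ≤ Dp.deg := deg_nonneg_of_nonneg hDp0
  refine (delta_mono hK (le_sup_left : D ≤ Dp)).trans ?_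
  set l : ℕ := (γ₀ + Dp.deg).toNat + 1 with hl
  have h1 := hA l
  have h2 := ell_sub_le hK (show l • B - Dp ≤ l • B from sub_le_self _ hDp0)
  rw [deg_sub] at h2
  have hpos : 0 < ell (l • B - Dp) := by
    unfold delta at h1
    rw [deg_nsmul, hBdeg] at h1 h2
    have hl' : γ₀ + Dp.deg < l := by
      rw [hl]; push_cast
      have := Int.self_le_toNat (γ₀ + Dp.deg)
      omega
    have hln : (l : ℤ) ≤ l * n := by
      have : (1 : ℤ) ≤ n := by exact_mod_cast hn1
      nlinarith
    have : (0 : ℤ) < ell (l • B - Dp) := by linarith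
    exact_mod_cast this
  obtain ⟨z, hz0, hz⟩ := exists_ne_zero_of_ell_pos _ hpos
  have h3 := nonneg_of_mem_L hK _ hz0 hz
  have h4 : Dp - FunFld.div k z ≤ l • B := by
    have : l • B - Dp + FunFld.div k z = l • B - (Dp - FunFld.div k z) := by abel
    rw [this] at h3
    exact sub_nonneg.mp h3
  rw [← delta_sub_div hK Dp hz0]
  exact (delta_mono hK h4).trans h1

theorem genus_eq : genus k K = sSup (Set.range fun D : Divisor k K => (delta D).toNat) := rfl

theorem genus_bdd (hK : FunFld.IsFunctionField k K) :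
    BddAbove (Set.range fun D : Divisor k K => (delta D).toNat) := by
  obtain ⟨γ, hγ⟩ := exists_delta_bound hK
  refine ⟨γ.toNat, ?_⟩
  rintro _ ⟨D, rfl⟩
  exact Int.toNat_le_toNat (hγ D)

theorem delta_le_genus (hK : FunFld.IsFunctionField k K) (D : Divisor k K) :
    delta D ≤ genus k K := by
  have h1 : (delta D).toNat ≤ genus k K := le_csSup (genus_bdd hK) ⟨D, rfl⟩
  have h2 := Int.self_le_toNat (delta D)
  have : ((delta D).toNat : ℤ) ≤ genus k K := by exact_mod_cast h1
  omega

theorem exists_delta_eq_genus (hK : FunFld.IsFunctionField k K) :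
    ∃ D₀ : Divisor k K, delta D₀ = genus k K := by
  by_cases hg : genus k K = 0
  · exact ⟨0, by rw [delta_zero hK, hg]; rfl⟩
  · have hmem : sSup (Set.range fun D : Divisor k K => (delta D).toNat) ∈
        (Set.range fun D : Divisor k K => (delta D).toNat) :=
      Nat.sSup_mem ⟨_, ⟨0, rfl⟩⟩ (genus_bdd hK)
    obtain ⟨D₀, hD₀⟩ := hmem
    rw [← genus_eq] at hD₀
    refine ⟨D₀, ?_⟩
    have : 0 < (delta D₀).toNat := by
      change (delta D₀).toNat = genus k K at hD₀
      omega
    have h2 : 0 < delta D₀ := by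
      by_contra hcon
      rw [not_lt] at hcon
      rw [Int.toNat_of_nonpos hcon] at this
      exact lt_irrefl _ this
    change (delta D₀).toNat = genus k K at hD₀
    rw [← hD₀, Int.toNat_of_nonneg h2.le]

/-- Riemann's theorem: `δ(D) = g` for all `D` of large degree. -/
theorem exists_riemann_bound (hK : FunFld.IsFunctionField k K) :
    ∃ N : ℤ, ∀ D : Divisor k K, N ≤ D.deg → delta D = genus k K := by
  obtain ⟨D₀, hD₀⟩ := exists_delta_eq_genus hK
  refine ⟨D₀.deg + genus k K, fun D hD => ?_⟩
  apply le_antisymm (delta_le_genus hK D)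
  have h1 := delta_le_genus hK (D - D₀)
  have hpos : 0 < ell (D - D₀) := by
    unfold delta at h1
    rw [deg_sub] at h1
    have : (0 : ℤ) < ell (D - D₀) := by omega
    exact_mod_cast this
  obtain ⟨z, hz0, hz⟩ := exists_ne_zero_of_ell_pos _ hpos
  have h3 := nonneg_of_mem_L hK _ hz0 hz
  have h4 : D₀ ≤ D + FunFld.div k z := by
    have : D - D₀ + FunFld.div k z = D + FunFld.div k z - D₀ := by abel
    rw [this] at h3
    exact sub_nonneg.mp h3
  rw [← hD₀, ← delta_add_div hK D hz0]
  exact delta_mono hK h4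

end Groth.Agent.H55
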