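import Groth.Agent.H55.FFEmb

/-!
The divisor of a projective map and codimension counts for subspaces of `L(D)`.
-/

namespace Groth.Agent.H55

open FunFld WithZero IntermediateField

variable {k K : Type*} [Field k] [Field K] [Algebra k K]

section MapDiv

variable {ι : Type*} [Fintype ι] [Nonempty ι]

theorem mapDiv_apply (hK : FunFld.IsFunctionField k K) (φ : ι → K) (Q : Place k K) :
    mapDiv k φ Q = -Finset.univ.inf' Finset.univ_nonempty (fun i => Q.ord (φ i)) := by
  classical
  have hfin : (Function.support fun P : Place k K =>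
      -Finset.univ.inf' Finset.univ_nonempty (fun i => P.ord (φ i))).Finite := by
    refine (Set.finite_iUnion fun i => ord_support_finite hK (φ i)).subset ?_
    intro P hP
    by_contra hcon
    simp only [Set.mem_iUnion, Function.mem_support, not_exists, not_not] at hcon
    apply hP
    have : (fun i => P.ord (φ i)) = fun _ => (0 : ℤ) := funext hcon
    show -Finset.univ.inf' Finset.univ_nonempty (fun i => P.ord (φ i)) = 0
    rw [this, Finset.inf'_const, neg_zero]
  unfold mapDiv
  rw [dif_pos hfin]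
  rfl

theorem val_eq_exp_mapDiv (hK : FunFld.IsFunctionField k K) (φ : ι → K) (hφ0 : ∀ i, φ i ≠ 0)
    (Q : Place k K) (j : ι) (hj : ∀ i, Q.1 (φ i) ≤ Q.1 (φ j)) :
    Q.1 (φ j) = exp (mapDiv k φ Q) := by
  rw [mapDiv_apply hK, pl_val_eq_exp_neg_ord Q (hφ0 j)]
  congr 2
  apply le_antisymm
  · refine Finset.le_inf' _ _ (fun i _ => ?_)
    have h1 := hj i
    rw [pl_val_eq_exp_neg_ord Q (hφ0 i), pl_val_eq_exp_neg_ord Q (hφ0 j)] at h1
    have := exp_le_exp.mp h1
    omega
  · exact Finset.inf'_le _ (Finset.mem_univ j)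

theorem mem_L_mapDiv (hK : FunFld.IsFunctionField k K) (φ : ι → K) (hφ0 : ∀ i, φ i ≠ 0) (i : ι) :
    φ i ∈ L (mapDiv k φ) := by
  intro Q
  obtain ⟨j, -, hj⟩ := Finset.exists_max_image Finset.univ (fun i => Q.1 (φ i))
    Finset.univ_nonempty
  rw [← val_eq_exp_mapDiv hK φ hφ0 Q j (fun i => hj i (Finset.mem_univ _))]
  exact hj i (Finset.mem_univ _)

end MapDiv

/-- Imposing one more vanishing condition drops the dimension by at most one. -/
theorem finrank_inf_L_le [IsAlgClosed k] (hK : FunFld.IsFunctionField k K) (W : Submodule k K)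
    [FiniteDimensional k W] (D' : Divisor k K) (Q : Place k K) :
    Module.finrank k ↥(W ⊓ L D') ≤ Module.finrank k ↥(W ⊓ L (D' - Finsupp.single Q 1)) + 1 := by
  classical
  have hle : D' - Finsupp.single Q 1 ≤ D' := sub_le_self _ (single_one_nonneg Q)
  obtain ⟨hfin, hrel⟩ := relfr_L hK hle
  obtain ⟨hfin2, hle2⟩ := relfr_le_of_inj LinearMap.id (L (D' - Finsupp.single Q 1)) (W ⊓ L D')
    (L (D' - Finsupp.single Q 1)) (L D') (fun b hb => hb.2) (fun b _ => Iff.rfl) hfin
  have hcomap : (W ⊓ L (D' - Finsupp.single Q 1)).comap (W ⊓ L D').subtype =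
      (L (D' - Finsupp.single Q 1)).comap (W ⊓ L D').subtype := by
    ext b
    have hbW : (b : K) ∈ W := b.2.1
    simp only [Submodule.mem_comap, Submodule.subtype_apply, Submodule.mem_inf, hbW, true_and]
  have hrel_eq : relfr (W ⊓ L (D' - Finsupp.single Q 1)) (W ⊓ L D') =
      relfr (L (D' - Finsupp.single Q 1)) (W ⊓ L D') := by
    unfold relfr RelQ
    rw [hcomap]
  have hfin3 : RelFin (W ⊓ L (D' - Finsupp.single Q 1)) (W ⊓ L D') := by
    unfold RelFin RelQ at hfin2 ⊢
    rw [hcomap]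
    exact hfin2
  have hAB : W ⊓ L (D' - Finsupp.single Q 1) ≤ W ⊓ L D' := inf_le_inf_left _ (L_mono hle)
  obtain ⟨-, h1⟩ := finrank_eq_add_relfr hAB hfin3
  have hdeg : D'.deg - (D' - Finsupp.single Q 1).deg = 1 := by
    rw [deg_sub, deg_single, deg_eq_one_of_isAlgClosed hK Q]
    norm_num
  rw [hdeg] at hrel
  have h2 : relfr (L (D' - Finsupp.single Q 1)) (L D') ≤ 1 := by exact_mod_cast hrel
  omega

theorem exists_mem_inf_L_ord_eq (W : Submodule k K) (D : Divisor k K) (P : Place k K)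
    (h : Module.finrank k ↥(W ⊓ L (D - Finsupp.single P 1)) < Module.finrank k ↥(W ⊓ L D)) :
    ∃ f ∈ W ⊓ L D, f ≠ 0 ∧ P.ord f = -(D P) := by
  classical
  have hle : D - Finsupp.single P 1 ≤ D := sub_le_self _ (single_one_nonneg P)
  have hlt : W ⊓ L (D - Finsupp.single P 1) < W ⊓ L D := by
    refine lt_of_le_of_ne (inf_le_inf_left _ (L_mono hle)) (fun heq => ?_)
    rw [heq] at h
    exact lt_irrefl _ h
  obtain ⟨f, hf, hfn⟩ := SetLike.exists_of_lt hlt
  have hf0 : f ≠ 0 := by
    rintro rfl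
    exact hfn (Submodule.zero_mem _)
  refine ⟨f, hf, hf0, ?_⟩
  by_contra hne
  apply hfn
  refine ⟨hf.1, fun Q => ?_⟩
  by_cases hQ : Q = P
  · subst hQ
    rw [Finsupp.sub_apply, Finsupp.single_eq_same, pl_val_le_exp_iff Q hf0]
    have h1 := hf.2 Q
    rw [pl_val_le_exp_iff Q hf0] at h1
    omega
  · rw [Finsupp.sub_apply, Finsupp.single_apply, if_neg (Ne.symm hQ), sub_zero]
    exact hf.2 Q

end Groth.Agent.H55
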