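import Groth.Agent.H55.GFF
import Groth.Agent.H55.FFAut
import Groth.Agent.H55.FFRiemann
import Groth.Agent.H55.FFSing
import Groth.Prelude.Def_W4bk4goldsch23Ext
import Mathlib

/-!
Places in a finite extension `K'/K`: restriction of places, the fundamental equality
`∑ e(Q|P) deg Q = [K':K] deg P`, the conorm.
-/

set_option autoImplicit false

namespace Groth.Agent.H55

open FunFld WithZero Polynomial IntermediateField

section Over

variable {k K K' : Type*} [Field k] [Field K] [Field K'] [Algebra k K] [Algebra K K']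
  [Algebra k K'] [IsScalarTower k K K']

/-- A function with a zero only at `P`. -/
theorem exists_only_zero (hK : FunFld.IsFunctionField k K) (P : Place k K) :
    ∃ x : K, Transcendental k x ∧ P.1 x < 1 ∧ ∀ P' : Place k K, P'.1 x < 1 → P' = P := by
  classical
  set g : ℕ := genus k K with hg
  set D : Divisor k K := Finsupp.single P ((g : ℤ) + 1) with hD
  have hD0 : 0 ≤ D := by
    rw [hD, Finsupp.single_nonneg]
    positivity
  have hdeg : D.deg = ((g : ℤ) + 1) * P.deg := deg_single P _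
  have hdp := deg_pos hK P
  have h1 := delta_le_genus hK D
  unfold delta at h1
  have h2 : 2 ≤ ell D := by
    have h3 : ((g : ℤ) + 1) * 1 ≤ ((g : ℤ) + 1) * P.deg := by
      apply mul_le_mul_of_nonneg_left _ (by positivity)
      exact_mod_cast hdp
    rw [hdeg] at h1
    have : (2 : ℤ) ≤ ell D := by linarith
    exact_mod_cast this
  obtain ⟨z, hzL, hzt⟩ := exists_transcendental_mem_L hK hD0 h2
  have hz0 : z ≠ 0 := by rintro rfl; exact hzt isAlgebraic_zero
  have hother : ∀ P' : Place k K, P' ≠ P → P'.1 z ≤ 1 := by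
    intro P' hP'
    have := (mem_L D z).mp hzL P'
    rw [hD, Finsupp.single_apply, if_neg (Ne.symm hP'), exp_zero] at this
    exact this
  obtain ⟨P₀, hP₀⟩ := exists_pole hK z hzt
  have hP₀P : P₀ = P := by
    by_contra hne
    exact absurd hP₀ (not_lt.mpr (hother P₀ hne))
  rw [hP₀P] at hP₀
  refine ⟨z⁻¹, transcendental_inv hzt, ?_, ?_⟩
  · rw [map_inv₀]
    exact (inv_lt_one₀ (lt_trans zero_lt_one hP₀)).mpr hP₀
  · intro P' hP'
    by_contra hne
    rw [map_inv₀] at hP'
    have h0 : 0 < P'.1 z := zero_lt_iff.mpr ((P'.1.ne_zero_iff).mpr hz0)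
    have := (inv_lt_one₀ h0).mp hP'
    exact absurd this (not_lt.mpr (hother P' hne))

/-- `K'` is finite over `k(x)` for `x ∈ K`, of the expected degree. -/
theorem finiteDimensional_adjoin_map [FiniteDimensional K K'] {x : K}
    (hfin : FiniteDimensional k⟮x⟯ K) :
    FiniteDimensional k⟮algebraMap K K' x⟯ K' ∧
      Module.finrank k⟮algebraMap K K' x⟯ K' = Module.finrank k⟮x⟯ K * Module.finrank K K' := by
  set f : K →ₐ[k] K' := IsScalarTower.toAlgHom k K K' with hf
  have hmap : (k⟮x⟯).map f = k⟮algebraMap K K' x⟯ := by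
    rw [IntermediateField.adjoin_map, Set.image_singleton]
    rfl
  rw [← hmap]
  haveI : FiniteDimensional k⟮x⟯ K' := FiniteDimensional.trans k⟮x⟯ K K'
  refine ⟨Module.Finite.of_equiv_equiv (A₁ := k⟮x⟯) (B₁ := K')
    (IntermediateField.equivMap k⟮x⟯ f).toRingEquiv (RingEquiv.refl K') (by ext a; rfl), ?_⟩
  rw [← Algebra.finrank_eq_of_equiv_equiv (IntermediateField.equivMap k⟮x⟯ f).toRingEquiv
    (RingEquiv.refl K') (by ext a; rfl)]
  exact (Module.finrank_mul_finrank k⟮x⟯ K K').symm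

theorem isFF1_of_finite [FiniteDimensional K K'] (hK : G.IsFF1 k K) : G.IsFF1 k K' := by
  obtain ⟨x, hxt, hfin⟩ := hK
  exact ⟨algebraMap K K' x,
    (transcendental_algebraMap_iff (algebraMap K K').injective).mpr hxt,
    (finiteDimensional_adjoin_map (K' := K') hfin).1⟩

theorem isOverWith_pos {Q : Place k K'} {P : Place k K} {e : ℕ} (h : IsOverWith Q P e) :
    0 < e := by
  by_contra he
  have he0 : e = 0 := by omega
  have := h 0
  simp only [map_zero] at this
  rw [he0, pow_zero] at this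
  exact zero_ne_one this

theorem isOverWith_unique {Q : Place k K'} {P P' : Place k K} {e e' : ℕ}
    (h : IsOverWith Q P e) (h' : IsOverWith Q P' e') : P = P' ∧ e = e' := by
  have he := isOverWith_pos h
  have he' := isOverWith_pos h'
  have hPP : P = P' := by
    apply pl_eq_of_le
    intro x hx
    have h1 : Q.1 (algebraMap K K' x) ≤ 1 := by
      rw [h x]; exact pow_le_one₀ zero_le' hx
    rw [h' x] at h1
    by_contra hcon
    rw [not_le] at hcon
    exact absurd h1 (not_le.mpr (one_lt_pow₀ hcon he'.ne'))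
  subst hPP
  refine ⟨rfl, ?_⟩
  obtain ⟨t, ht0, ht⟩ := pl_exists_val_eq_exp P (-1)
  have := (h t).symm.trans (h' t)
  rw [ht, ← exp_nsmul, ← exp_nsmul, exp_inj] at this
  simp only [nsmul_eq_mul] at this
  omega

theorem ramIdx_eq {Q : Place k K'} {P : Place k K} {e : ℕ} (h : IsOverWith Q P e) :
    ramIdx Q P = e := by
  classical
  have hO : IsOver Q P := ⟨e, h⟩
  unfold ramIdx
  rw [dif_pos hO]
  exact (isOverWith_unique (Nat.find_spec hO) h).2

theorem ramIdx_eq_zero {Q : Place k K'} {P : Place k K} (h : ¬ IsOver Q P) :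
    ramIdx Q P = 0 := by
  classical
  unfold ramIdx
  rw [dif_neg h]

theorem isOverWith_ramIdx {Q : Place k K'} {P : Place k K} (h : IsOver Q P) :
    IsOverWith Q P (ramIdx Q P) := by
  obtain ⟨e, he⟩ := h
  rw [ramIdx_eq he]; exact he

theorem ord_eq_of_isOverWith {Q : Place k K'} {P : Place k K} {e : ℕ} (h : IsOverWith Q P e)
    (x : K) : Q.ord (algebraMap K K' x) = (e : ℤ) * P.ord x := by
  unfold Place.ord
  rw [h x, log_pow]
  simp

/-- Every place of `K'` lies over a place of `K`. -/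
theorem exists_place_under (hK : G.IsFF1 k K) [FiniteDimensional K K'] (Q : Place k K') :
    ∃ (P : Place k K) (e : ℕ), IsOverWith Q P e := by
  classical
  set w : Valuation K (WithZero (Multiplicative ℤ)) := Q.1.comap (algebraMap K K') with hw
  have hwv : ∀ y : K, w y = Q.1 (algebraMap K K' y) := fun y => rfl
  have hnt : ∃ y₀ : K, y₀ ≠ 0 ∧ w y₀ < 1 := by
    by_contra hcon
    push_neg at hcon
    have hKO : ∀ y : K, algebraMap K K' y ∈ Q.O := by
      intro y
      rw [Valuation.mem_valuationSubring_iff]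
      by_cases hy : y = 0
      · subst hy; simp
      · have h1 := hcon y⁻¹ (inv_ne_zero hy)
        rw [hwv, map_inv₀, map_inv₀] at h1
        have hne : Q.1 (algebraMap K K' y) ≠ 0 :=
          (Q.1.ne_zero_iff).mpr ((_root_.map_ne_zero _).mpr hy)
        exact (one_le_inv₀ (zero_lt_iff.mpr hne)).mp h1
    obtain ⟨z, hz⟩ := Q.2.2 (exp (1 : ℤ))
    have hzO : z ∈ Q.O :=
      G.vs_mem_of_isAlgebraic (k := K) Q.O hKO (Algebra.IsAlgebraic.isAlgebraic z)
    rw [Valuation.mem_valuationSubring_iff, hz, ← exp_zero, exp_le_exp] at hzO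
    omega
  obtain ⟨y₀, hy₀, hy₀w⟩ := hnt
  set A : ValuationSubring K := w.valuationSubring with hA
  have hkA : ∀ c : k, algebraMap k K c ∈ A := by
    intro c
    rw [hA, Valuation.mem_valuationSubring_iff, hwv, ← IsScalarTower.algebraMap_apply]
    exact Q.2.1 c
  have hAle : ∀ z : K, z ∈ A ↔ w z ≤ 1 := fun z => Valuation.mem_valuationSubring_iff _ _
  have hAnon : ∀ z : K, z ∈ A.nonunits ↔ w z < 1 := by
    intro z
    rw [ValuationSubring.mem_nonunits_iff]
    exact ((Valuation.isEquiv_valuation_valuationSubring w).lt_one_iff_lt_one).symm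
  obtain ⟨P, hP1, hP2⟩ :=
    G.exists_place_of_valuationSubring A hkA hK y₀ hy₀ ((hAnon y₀).mpr hy₀w)
  have hle : ∀ z : K, w z ≤ 1 → P.1 z ≤ 1 := fun z hz => hP1 z ((hAle z).mpr hz)
  have hlt : ∀ z : K, w z < 1 → P.1 z < 1 := fun z hz => hP2 z ((hAnon z).mpr hz)
  have hone : ∀ z : K, z ≠ 0 → P.1 z = 1 → w z = 1 := by
    intro z hz0 hz
    rcases lt_trichotomy (w z) 1 with h | h | h
    · exact absurd (hlt z h) (by rw [hz]; exact lt_irrefl _)
    · exact h
    · have hne : w z ≠ 0 := (w.ne_zero_iff).mpr hz0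
      have h1 : w z⁻¹ < 1 := by
        rw [map_inv₀]; exact (inv_lt_one₀ (zero_lt_iff.mpr hne)).mpr h
      have h2 := hlt z⁻¹ h1
      rw [map_inv₀, hz, inv_one] at h2
      exact absurd h2 (lt_irrefl _)
  obtain ⟨t, ht0, ht⟩ := pl_exists_val_eq_exp P (-1)
  have hwt0 : w t ≠ 0 := (w.ne_zero_iff).mpr ht0
  have hwt : w t < 1 := by
    by_contra hcon
    rw [not_lt] at hcon
    have h1 : w t⁻¹ ≤ 1 := by
      rw [map_inv₀]; exact (inv_le_one₀ (zero_lt_iff.mpr hwt0)).mpr hcon
    have h2 := hle t⁻¹ h1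
    rw [map_inv₀, ht, ← exp_neg, neg_neg, ← exp_zero, exp_le_exp] at h2
    omega
  have hlog : log (w t) < 0 := by
    have h1 : w t = exp (log (w t)) := (exp_log hwt0).symm
    have h2 := hwt
    rw [h1, ← exp_zero, exp_lt_exp] at h2
    exact h2
  set e : ℕ := (-(log (w t))).toNat with he
  have hecast : (e : ℤ) = -(log (w t)) := by
    rw [he, Int.toNat_of_nonneg (by omega)]
  have hwte : w t = exp (-(e : ℤ)) := by
    rw [hecast, neg_neg, exp_log hwt0]
  have he0 : 0 < e := by
    have : (0 : ℤ) < e := by rw [hecast]; omega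
    exact_mod_cast this
  refine ⟨P, e, fun x => ?_⟩
  change w x = P.1 x ^ e
  by_cases hx : x = 0
  · subst hx; rw [map_zero, map_zero, zero_pow he0.ne']
  · have hPx : P.1 x = exp (-(P.ord x)) := pl_val_eq_exp_neg_ord P hx
    have hu0 : x * t ^ (-(P.ord x)) ≠ 0 := mul_ne_zero hx (zpow_ne_zero _ ht0)
    have hPu : P.1 (x * t ^ (-(P.ord x))) = 1 := by
      rw [map_mul, map_zpow₀, hPx, ht, ← exp_zsmul, ← exp_add]
      simp
    have hwu : w (x * t ^ (-(P.ord x))) = 1 := hone _ hu0 hPu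
    have hxu : x = (x * t ^ (-(P.ord x))) * t ^ (P.ord x) := by
      rw [mul_assoc, ← zpow_add₀ ht0, neg_add_cancel, zpow_zero, mul_one]
    have h3 : w x = w (x * t ^ (-(P.ord x))) * w t ^ (P.ord x) := by
      conv_lhs => rw [hxu]
      rw [map_mul, map_zpow₀]
    rw [h3, hwu, one_mul, hwte, hPx, ← exp_zsmul, ← exp_nsmul]
    congr 1
    simp only [smul_eq_mul, nsmul_eq_mul]
    ring

/-- Zeros of `x ∈ K` (with only zero `P`) in `K'` are exactly the places over `P`. -/
theorem val_lt_one_iff_isOver (hK : G.IsFF1 k K) [FiniteDimensional K K'] (P : Place k K)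
    {x : K} (hxP : P.1 x < 1) (hxo : ∀ P' : Place k K, P'.1 x < 1 → P' = P) (Q : Place k K') :
    Q.1 (algebraMap K K' x) < 1 ↔ IsOver Q P := by
  constructor
  · intro hQ
    obtain ⟨P', e, h⟩ := exists_place_under hK Q
    rw [h x] at hQ
    have h1 : P'.1 x < 1 := by
      by_contra hcon
      rw [not_lt] at hcon
      exact absurd hQ (not_lt.mpr (one_le_pow₀ hcon))
    obtain rfl : P' = P := hxo P' h1
    exact ⟨e, h⟩
  · rintro ⟨e, h⟩
    rw [h x]
    exact pow_lt_one₀ zero_le' hxP (isOverWith_pos h).ne'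

/-- The fundamental equality `∑_{Q | P} e(Q|P) deg Q = [K' : K] deg P`. -/
theorem sum_ramIdx_mul_deg (hK : FunFld.IsFunctionField k K) [FiniteDimensional K K']
    (P : Place k K) :
    {Q : Place k K' | IsOver Q P}.Finite ∧
    ∀ (Qs : Finset (Place k K')), (∀ Q, Q ∈ Qs ↔ IsOver Q P) →
      (∑ Q ∈ Qs, ramIdx Q P * Q.deg) = Module.finrank K K' * P.deg := by
  classical
  obtain ⟨x, hxt, hxP, hxo⟩ := exists_only_zero hK P
  have hx0 : x ≠ 0 := by rintro rfl; exact hxt isAlgebraic_zero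
  have hx'0 : algebraMap K K' x ≠ 0 := (_root_.map_ne_zero _).mpr hx0
  have hx't : Transcendental k (algebraMap K K' x) :=
    (transcendental_algebraMap_iff (algebraMap K K').injective).mpr hxt
  haveI hfin := ff_finite hK hxt
  obtain ⟨hfin', hrank⟩ := finiteDimensional_adjoin_map (K' := K') hfin
  have hK' : G.IsFF1 k K' := ⟨algebraMap K K' x, hx't, hfin'⟩
  have hiff : ∀ Q : Place k K', Q.1 (algebraMap K K' x) < 1 ↔ IsOver Q P :=
    val_lt_one_iff_isOver (G.isFF1_of_isFunctionField hK) P hxP hxo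
  have hzf := G.zeros_finite hK' (algebraMap K K' x) hx'0
  have hset : {Q : Place k K' | IsOver Q P} = {Q | Q.1 (algebraMap K K' x) < 1} := by
    ext Q; exact (hiff Q).symm
  refine ⟨by rw [hset]; exact hzf, fun Qs hQs => ?_⟩
  have hQs' : Qs = (G.zeros_finite hK' (algebraMap K K' x) hx'0).toFinset := by
    ext Q; rw [hQs, Set.Finite.mem_toFinset]; exact (hiff Q).symm
  have h1 := G.deg_zeroDiv hK' (algebraMap K K' x) hx't
  rw [G.deg_zeroDiv_eq_sum hK' (algebraMap K K' x) hx'0, ← hQs', hrank] at h1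
  have h2 := deg_zeroDiv hK x hxt
  have hzK : (zeros_finite hK x hx0).toFinset = {P} := by
    ext P'
    rw [Set.Finite.mem_toFinset, Finset.mem_singleton, Set.mem_setOf_eq]
    exact ⟨fun h => hxo P' h, fun h => by rw [h]; exact hxP⟩
  rw [deg_zeroDiv_eq_sum hK x hx0, hzK, Finset.sum_singleton] at h2
  have hr : 0 < P.ord x := (pl_val_lt_one_iff P hx0).mp hxP
  have hord : ∀ Q ∈ Qs, Q.ord (algebraMap K K' x) = (ramIdx Q P : ℤ) * P.ord x := by
    intro Q hQ
    obtain ⟨e, h⟩ := (hQs Q).mp hQ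
    rw [ramIdx_eq h]
    exact ord_eq_of_isOverWith h x
  have h3 : ∑ Q ∈ Qs, Q.ord (algebraMap K K' x) * (Q.deg : ℤ)
      = P.ord x * ∑ Q ∈ Qs, ((ramIdx Q P * Q.deg : ℕ) : ℤ) := by
    rw [Finset.mul_sum]
    apply Finset.sum_congr rfl
    intro Q hQ
    rw [hord Q hQ]; push_cast; ring
  rw [h3] at h1
  have h4 : P.ord x * ∑ Q ∈ Qs, ((ramIdx Q P * Q.deg : ℕ) : ℤ)
      = P.ord x * ((Module.finrank K K' * P.deg : ℕ) : ℤ) := by
    rw [h1]; push_cast; rw [← h2]; ring
  have h5 := mul_left_cancel₀ hr.ne' h4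
  exact_mod_cast h5

end Over

end Groth.Agent.H55
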