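import Groth.Agent.H55.FFRam
import Mathlib

/-!
Almost all places of a finite separable extension are unramified.
-/

set_option autoImplicit false

namespace Groth.Agent.H55

open FunFld WithZero Polynomial IntermediateField

open scoped Pointwise

section Unram

variable {k K K' : Type*} [Field k] [Field K] [Field K'] [Algebra k K] [Algebra K K']
  [Algebra k K'] [IsScalarTower k K K']

/-- Every place has a place above it in a finite extension. -/
theorem exists_place_over (hK : G.IsFF1 k K) [FiniteDimensional K K'] (P : Place k K) :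
    ∃ Q : Place k K', IsOver Q P := by
  classical
  obtain ⟨hfin, hsum⟩ := G.sum_ramIdx_mul_deg (K' := K') hK P
  have h := hsum hfin.toFinset (fun Q => by rw [Set.Finite.mem_toFinset]; rfl)
  rcases hfin.toFinset.eq_empty_or_nonempty with h0 | ⟨Q, hQ⟩
  · exfalso
    rw [h0, Finset.sum_empty] at h
    have h1 : 0 < Module.finrank K K' := Module.finrank_pos
    have h2 := G.deg_pos hK P
    have := Nat.mul_pos h1 h2
    omega
  · exact ⟨Q, (Set.Finite.mem_toFinset hfin).mp hQ⟩

/-- The ramification index is at most the order of the inertia group (no separability needed). -/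
theorem le_card_inertia [FiniteDimensional K K'] [IsGalois K K'] (hK : G.IsFF1 k K)
    {Q : Place k K'} {P : Place k K} {e : ℕ} (he : IsOverWith Q P e) :
    e ≤ Nat.card ((Q.O).inertiaSubgroup K) := by
  have hK' : G.IsFF1 k K' := isFF1_of_finite hK
  have hdp := G.deg_pos hK' Q
  have h1 := G.card_decomposition_mul_deg hK Q P e he
  have h2 := card_decomp_le hK he
  rw [h1] at h2
  exact Nat.le_of_mul_le_mul_right h2 hdp

theorem finite_inertia_mem (hK' : G.IsFF1 k K') (σ : K' ≃ₐ[K] K')
    (hσ : σ ≠ 1) : {R : Place k K' | σ ∈ inertiaGal K R}.Finite := by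
  obtain ⟨x, hx⟩ : ∃ x, σ x ≠ x := by
    by_contra h
    push_neg at h
    exact hσ (AlgEquiv.ext h)
  have hx0 : x ≠ 0 := by rintro rfl; exact hx (map_zero σ)
  have hd0 : σ x - x ≠ 0 := sub_ne_zero.mpr hx
  refine ((G.zeros_finite hK' x⁻¹ (inv_ne_zero hx0)).union
    (G.zeros_finite hK' (σ x - x) hd0)).subset ?_
  intro R hR
  rw [Set.mem_setOf_eq, mem_inertiaGal_iff] at hR
  by_cases h1 : R.1 x ≤ 1
  · exact Or.inr (hR x h1)
  · left
    show R.1 x⁻¹ < 1
    rw [map_inv₀]
    exact inv_lt_one_of_one_lt₀ (not_le.mp h1)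

theorem finite_inertia_ne_bot [FiniteDimensional K K'] (hK' : G.IsFF1 k K') :
    {R : Place k K' | (R.O).inertiaSubgroup K ≠ ⊥}.Finite := by
  classical
  have hfin : (⋃ σ ∈ {σ : K' ≃ₐ[K] K' | σ ≠ 1},
      {R : Place k K' | σ ∈ inertiaGal K R}).Finite :=
    Set.Finite.biUnion (Set.toFinite _) (fun σ hσ => finite_inertia_mem hK' σ hσ)
  refine hfin.subset ?_
  intro R hR
  rw [Set.mem_setOf_eq, Subgroup.ne_bot_iff_exists_ne_one] at hR
  obtain ⟨g, hg⟩ := hR
  rw [Set.mem_iUnion₂]
  refine ⟨((g : (R.O).decompositionSubgroup K) : K' ≃ₐ[K] K'), ?_, ?_⟩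
  · intro h1
    apply hg
    apply Subtype.ext
    apply Subtype.ext
    exact h1
  · exact ⟨(g : (R.O).decompositionSubgroup K), g.2, rfl⟩

theorem finite_ramified_aux {L : Type*} [Field L] [Algebra k L] [Algebra K L] [Algebra K' L]
    [IsScalarTower k K L] [IsScalarTower k K' L] [IsScalarTower K K' L]
    [FiniteDimensional K K'] [FiniteDimensional K L] [IsGalois K L] (hK : G.IsFF1 k K) :
    {Q : Place k K' | ¬ Function.Surjective (Q.1.comap (algebraMap K K'))}.Finite := by
  classical
  haveI : FiniteDimensional K' L := FiniteDimensional.right K K' L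
  have hK' : G.IsFF1 k K' := isFF1_of_finite hK
  have hL : G.IsFF1 k L := isFF1_of_finite hK
  have hbad := finite_inertia_ne_bot (K := K) hL
  choose f e hf using fun R : Place k L => exists_place_under (K' := L) hK' R
  refine (hbad.image f).subset ?_
  intro Q hQ
  obtain ⟨R, e₁, he₁⟩ := exists_place_over (K' := L) hK' Q
  obtain ⟨P, e₂, he₂⟩ := exists_place_under hK Q
  have he := isOverWith_trans he₁ he₂
  refine ⟨R, ?_, ?_⟩
  · show (R.O).inertiaSubgroup K ≠ ⊥
    intro hbot
    have hle := le_card_inertia hK he
    rw [hbot, Subgroup.card_bot] at hle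
    have h1 := isOverWith_pos he₁
    have h2 := isOverWith_pos he₂
    have he2 : e₂ = 1 := by
      have h3 : e₂ * 1 ≤ e₂ * e₁ := Nat.mul_le_mul_left e₂ h1
      omega
    apply hQ
    rw [← Set.range_eq_univ, range_comap_eq he₂, he2]
    ext γ
    simp
  · exact (isOverWith_unique (hf R) he₁).1

/-- In a finite separable extension almost all places are unramified. -/
theorem finite_ramified [FiniteDimensional K K'] [Algebra.IsSeparable K K'] (hK : G.IsFF1 k K) :
    {Q : Place k K' | ¬ Function.Surjective (Q.1.comap (algebraMap K K'))}.Finite := by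
  haveI : Algebra.IsSeparable K
      (IntermediateField.normalClosure K K' (AlgebraicClosure K')) := by
    rw [← le_separableClosure_iff]
    apply normalClosure_le_iff.2
    intro f
    rintro _ ⟨x, rfl⟩
    rw [mem_separableClosure_iff]
    show (minpoly K (f x)).Separable
    rw [minpoly.algHom_eq f f.injective]
    exact Algebra.IsSeparable.isSeparable K x
  haveI : IsGalois K (IntermediateField.normalClosure K K' (AlgebraicClosure K')) := {}
  haveI : IsScalarTower k K' (IntermediateField.normalClosure K K' (AlgebraicClosure K')) := by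
    refine IsScalarTower.of_algebraMap_eq (fun c => Subtype.ext ?_)
    show algebraMap k (AlgebraicClosure K') c =
      algebraMap K' (AlgebraicClosure K') (algebraMap k K' c)
    rw [← IsScalarTower.algebraMap_apply]
  exact finite_ramified_aux
    (L := IntermediateField.normalClosure K K' (AlgebraicClosure K')) hK

end Unram

end Groth.Agent.H55
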