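import Groth.Agent.H55.GFF2
import Mathlib

/-!
Inertia group and inertia field of a place in a finite Galois extension.
-/

set_option autoImplicit false

namespace Groth.Agent.H55

open FunFld WithZero Polynomial IntermediateField

open scoped Pointwise

section ResExt

variable {k K K' : Type*} [Field k] [Field K] [Field K'] [Algebra k K] [Algebra K K']
  [Algebra k K'] [IsScalarTower k K K']

variable {Q : Place k K'} {P : Place k K} {e : ℕ}

/-- The inclusion of valuation rings `O_P → O_Q`. -/
noncomputable def incO (he : IsOverWith Q P e) : P.O →+* Q.O :=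
  (algebraMap K K').restrict P.O Q.O (fun x hx => by
    show Q.1 (algebraMap K K' x) ≤ 1
    rw [he x]
    exact pow_le_one₀ zero_le' hx)

theorem incO_coe (he : IsOverWith Q P e) (a : P.O) :
    ((incO he a : Q.O) : K') = algebraMap K K' (a : K) := rfl

theorem val_le_one_of_isOverWith (he : IsOverWith Q P e) {d : K}
    (h : Q.1 (algebraMap K K' d) ≤ 1) : P.1 d ≤ 1 := by
  rw [he d] at h
  by_contra hcon
  rw [not_le] at hcon
  exact absurd h (not_le.mpr (one_lt_pow₀ hcon (isOverWith_pos he).ne'))

theorem isLocalHom_incO (he : IsOverWith Q P e) : IsLocalHom (incO he) := by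
  refine ⟨fun a ha => ?_⟩
  by_contra hna
  have h1 : a ∈ IsLocalRing.maximalIdeal P.O := (IsLocalRing.mem_maximalIdeal a).mpr hna
  rw [mem_maximalIdeal_iff] at h1
  have h2 : (incO he a) ∈ IsLocalRing.maximalIdeal Q.O := by
    rw [mem_maximalIdeal_iff, incO_coe, he]
    exact pow_lt_one₀ zero_le' h1 (isOverWith_pos he).ne'
  exact ((IsLocalRing.mem_maximalIdeal _).mp h2) ha

/-- The induced map of residue fields. -/
noncomputable def resExt (he : IsOverWith Q P e) :
    IsLocalRing.ResidueField P.O →+* IsLocalRing.ResidueField Q.O :=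
  @IsLocalRing.ResidueField.map _ _ _ _ _ _ (incO he) (isLocalHom_incO he)

theorem resExt_residue (he : IsOverWith Q P e) (a : P.O) :
    resExt he (IsLocalRing.residue P.O a) = IsLocalRing.residue Q.O (incO he a) := rfl

theorem resExt_algebraMap (he : IsOverWith Q P e) (c : k) :
    resExt he (algebraMap k (IsLocalRing.ResidueField P.O) c)
      = algebraMap k (IsLocalRing.ResidueField Q.O) c := by
  show IsLocalRing.residue Q.O (incO he (algebraMap k P.O c))
    = IsLocalRing.residue Q.O (algebraMap k Q.O c)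
  congr 1
  apply Subtype.ext
  exact (IsScalarTower.algebraMap_apply k K K' c).symm

/-- The residue field extension as a `k`-algebra map. -/
noncomputable def resExtAlg (he : IsOverWith Q P e) :
    IsLocalRing.ResidueField P.O →ₐ[k] IsLocalRing.ResidueField Q.O :=
  { resExt he with commutes' := resExt_algebraMap he }

theorem resExtAlg_apply (he : IsOverWith Q P e) (z : IsLocalRing.ResidueField P.O) :
    resExtAlg he z = resExt he z := rfl

theorem deg_eq_of_resExt_surjective (he : IsOverWith Q P e)
    (hs : Function.Surjective (resExt he)) : Q.deg = P.deg := by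
  unfold Place.deg
  have hb : Function.Bijective (resExtAlg he) := ⟨(resExtAlg he).injective, hs⟩
  exact (AlgEquiv.ofBijective (resExtAlg he) hb).toLinearEquiv.finrank_eq.symm

theorem deg_le_of_isOverWith (he : IsOverWith Q P e)
    [FiniteDimensional k (IsLocalRing.ResidueField Q.O)] : P.deg ≤ Q.deg := by
  unfold Place.deg
  exact LinearMap.finrank_le_finrank_of_injective (f := (resExtAlg he).toLinearMap)
    (resExtAlg he).injective

/-- If every residue class of `O_Q` satisfies over `F_P` a polynomial of the form `(X - ȳ)^m`, and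
`F_Q` is separable over `k`, then `F_P → F_Q` is onto. -/
theorem resExt_surjective_of_pow (he : IsOverWith Q P e)
    [Algebra.IsSeparable k (IsLocalRing.ResidueField Q.O)]
    (h : ∀ z : IsLocalRing.ResidueField Q.O, ∃ (g : (IsLocalRing.ResidueField P.O)[X]) (m : ℕ),
      0 < m ∧ g.map (resExt he) = (X - C z) ^ m) :
    Function.Surjective (resExt he) := by
  intro z
  obtain ⟨g, m, hm, hg⟩ := h z
  letI : Algebra (IsLocalRing.ResidueField P.O) (IsLocalRing.ResidueField Q.O) :=
    (resExt he).toAlgebra
  haveI : IsScalarTower k (IsLocalRing.ResidueField P.O) (IsLocalRing.ResidueField Q.O) :=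
    IsScalarTower.of_algebraMap_eq (fun c => (resExt_algebraMap he c).symm)
  haveI : Algebra.IsSeparable (IsLocalRing.ResidueField P.O) (IsLocalRing.ResidueField Q.O) :=
    Algebra.isSeparable_tower_top_of_isSeparable k _ _
  have hg0 : g ≠ 0 := by
    rintro rfl
    rw [Polynomial.map_zero] at hg
    exact (pow_ne_zero m (X_sub_C_ne_zero z)) hg.symm
  have hroot : aeval z g = 0 := by
    rw [aeval_def, ← eval_map]
    show eval z (g.map (resExt he)) = 0
    rw [hg, eval_pow, eval_sub, eval_X, eval_C, sub_self, zero_pow hm.ne']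
  have hdvd : minpoly (IsLocalRing.ResidueField P.O) z ∣ g := minpoly.dvd _ _ hroot
  have hdvd' : (minpoly (IsLocalRing.ResidueField P.O) z).map (resExt he) ∣ (X - C z) ^ m := by
    rw [← hg]
    exact Polynomial.map_dvd _ hdvd
  have hsep : ((minpoly (IsLocalRing.ResidueField P.O) z).map (resExt he)).Separable :=
    Polynomial.Separable.map (show (minpoly (IsLocalRing.ResidueField P.O) z).Separable from
      Algebra.IsSeparable.isSeparable (IsLocalRing.ResidueField P.O) z)
  have hdvd'' : (minpoly (IsLocalRing.ResidueField P.O) z).map (resExt he) ∣ (X - C z) :=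
    (hsep.squarefree.dvd_pow_iff_dvd hm.ne').mp hdvd'
  have hdeg : (minpoly (IsLocalRing.ResidueField P.O) z).natDegree ≤ 1 := by
    have h1 := Polynomial.natDegree_le_of_dvd hdvd'' (X_sub_C_ne_zero z)
    rwa [natDegree_map, natDegree_X_sub_C] at h1
  have hint : IsIntegral (IsLocalRing.ResidueField P.O) z :=
    (Algebra.IsSeparable.isIntegral (IsLocalRing.ResidueField P.O) z)
  have hdeg1 : (minpoly (IsLocalRing.ResidueField P.O) z).natDegree = 1 :=
    le_antisymm hdeg (minpoly.natDegree_pos hint)
  obtain ⟨a, ha⟩ := (minpoly.natDegree_eq_one_iff).mp hdeg1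
  exact ⟨a, ha⟩

end ResExt

section Inertia

variable {k K K' : Type*} [Field k] [Field K] [Field K'] [Algebra k K] [Algebra K K']
  [Algebra k K'] [IsScalarTower k K K']

variable (K) in
/-- The inertia group as a subgroup of the Galois group. -/
noncomputable abbrev inertiaGal (Q : Place k K') : Subgroup (K' ≃ₐ[K] K') :=
  ((Q.O).inertiaSubgroup K).map ((Q.O).decompositionSubgroup K).subtype

variable (K) in
/-- The inertia field. -/
noncomputable abbrev inertiaField (Q : Place k K') : IntermediateField K K' :=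
  IntermediateField.fixedField (inertiaGal K Q)

/-- An automorphism moving integral elements by elements of the maximal ideal fixes the place. -/
theorem comapGal_eq_of_forall_sub_lt (Q : Place k K') (σ : K' ≃ₐ[K] K')
    (h : ∀ x : K', Q.1 x ≤ 1 → Q.1 (σ x - x) < 1) : comapGal Q σ = Q := by
  symm
  apply pl_eq_of_le
  intro x hx
  rw [comapGal_apply]
  have e : σ x = (σ x - x) + x := by ring
  rw [e]
  exact Q.1.map_add_le (h x hx).le hx

theorem mem_decomposition_of_comapGal_eq (Q : Place k K') (σ : K' ≃ₐ[K] K')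
    (h : comapGal Q σ = Q) : σ ∈ (Q.O).decompositionSubgroup K := by
  rw [MulAction.mem_stabilizer_iff]
  have h1 := comapGal_O Q σ
  rw [h] at h1
  exact eq_inv_smul_iff.mp h1

theorem mem_inertiaGal_iff (Q : Place k K') (σ : K' ≃ₐ[K] K') :
    σ ∈ inertiaGal K Q ↔ ∀ x : K', Q.1 x ≤ 1 → Q.1 (σ x - x) < 1 := by
  constructor
  · rintro ⟨g, hg, rfl⟩
    intro x hx
    have h1 : MulSemiringAction.toRingAut _ (IsLocalRing.ResidueField Q.O) g = 1 := hg
    have h2 : g • IsLocalRing.residue Q.O ⟨x, hx⟩ = IsLocalRing.residue Q.O ⟨x, hx⟩ :=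
      congrArg (fun f : RingAut (IsLocalRing.ResidueField Q.O) =>
        f (IsLocalRing.residue Q.O ⟨x, hx⟩)) h1
    have h3 : IsLocalRing.residue Q.O (g • (⟨x, hx⟩ : Q.O) - ⟨x, hx⟩) = 0 := by
      rw [map_sub, sub_eq_zero]
      exact h2
    rw [IsLocalRing.residue_eq_zero_iff, mem_maximalIdeal_iff] at h3
    exact h3
  · intro h
    have hfix := comapGal_eq_of_forall_sub_lt Q σ h
    have hdec := mem_decomposition_of_comapGal_eq Q σ hfix
    refine ⟨⟨σ, hdec⟩, ?_, rfl⟩
    show (⟨σ, hdec⟩ : (Q.O).decompositionSubgroup K) ∈ MonoidHom.ker _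
    rw [MonoidHom.mem_ker]
    ext z
    obtain ⟨a, rfl⟩ := IsLocalRing.residue_surjective z
    show (⟨σ, hdec⟩ : (Q.O).decompositionSubgroup K) • IsLocalRing.residue Q.O a
      = IsLocalRing.residue Q.O a
    rw [← IsLocalRing.ResidueField.residue_smul, ← sub_eq_zero, ← map_sub, IsLocalRing.residue_eq_zero_iff,
      mem_maximalIdeal_iff]
    exact h a.1 a.2

theorem val_inertia {Q : Place k K'} {σ : K' ≃ₐ[K] K'} (hσ : σ ∈ inertiaGal K Q) (x : K') :
    Q.1 (σ x) = Q.1 x := by
  have := comapGal_eq_of_forall_sub_lt Q σ ((mem_inertiaGal_iff Q σ).mp hσ)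
  rw [← comapGal_apply, this]

/-- `K'` is totally ramified at `Q` over the inertia field, with trivial residue extension. -/
theorem totally_ramified_over_inertiaField [FiniteDimensional K K'] [IsGalois K K']
    (hK : G.IsFF1 k K) (Q : Place k K') [Algebra.IsSeparable k (IsLocalRing.ResidueField Q.O)] :
    ∃ Q₁ : Place k (inertiaField K Q),
      IsOverWith Q Q₁ (Module.finrank (inertiaField K Q) K') ∧
      ∀ x : K', Q.1 x ≤ 1 → ∃ d : inertiaField K Q,
        Q.1 (x - algebraMap (inertiaField K Q) K' d) < 1 := by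
  classical
  haveI : IsScalarTower k (inertiaField K Q) K' := IsScalarTower.of_algebraMap_eq (fun c => rfl)
  have hT : G.IsFF1 k (inertiaField K Q) := isFF1_of_finite hK
  obtain ⟨QT, e₁, h₁⟩ := exists_place_under hT Q
  have he₁ := isOverWith_pos h₁
  have hsurj : Function.Surjective (resExt h₁) := by
    apply resExt_surjective_of_pow h₁
    intro z
    obtain ⟨y, rfl⟩ := IsLocalRing.residue_surjective z
    have hmemO : ∀ g : inertiaGal K Q, (g : K' ≃ₐ[K] K') (y : K') ∈ Q.O := fun g => by
      show Q.1 ((g : K' ≃ₐ[K] K') (y : K')) ≤ 1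
      rw [val_inertia g.2]
      exact y.2
    obtain ⟨P₀, hP₀⟩ : ∃ P₀ : (Q.O)[X], P₀ = ∏ g : inertiaGal K Q,
        (X - C (⟨(g : K' ≃ₐ[K] K') (y : K'), hmemO g⟩ : Q.O)) := ⟨_, rfl⟩
    have hmap : P₀.map (Q.O.subtype) =
        MulSemiringAction.charpoly (inertiaGal K Q) (y : K') := by
      rw [hP₀, Polynomial.map_prod, MulSemiringAction.charpoly_eq]
      apply Finset.prod_congr rfl
      intro g _
      rw [Polynomial.map_sub, Polynomial.map_X, Polynomial.map_C]
      rfl
    have hlift : P₀ ∈ Polynomial.lifts (incO h₁) := by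
      rw [Polynomial.lifts_iff_coeff_lifts]
      intro n
      have hc : ((P₀.coeff n : Q.O) : K') =
          (MulSemiringAction.charpoly (inertiaGal K Q) (y : K')).coeff n := by
        rw [← hmap, Polynomial.coeff_map]
        rfl
      have hfix : ((P₀.coeff n : Q.O) : K') ∈ inertiaField K Q := by
        rw [IntermediateField.mem_fixedField_iff]
        intro f hf
        have := MulSemiringAction.smul_coeff_charpoly (y : K') n (⟨f, hf⟩ : inertiaGal K Q)
        rw [hc]
        exact this
      have hQT : QT.1 (⟨_, hfix⟩ : inertiaField K Q) ≤ 1 :=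
        val_le_one_of_isOverWith h₁ (P₀.coeff n).2
      exact ⟨⟨⟨_, hfix⟩, hQT⟩, Subtype.ext rfl⟩
    obtain ⟨h₀, hh₀⟩ := (Polynomial.mem_lifts _).mp hlift
    refine ⟨h₀.map (IsLocalRing.residue QT.O), Fintype.card (inertiaGal K Q),
      Fintype.card_pos, ?_⟩
    rw [Polynomial.map_map]
    have hcomp : (resExt h₁).comp (IsLocalRing.residue QT.O) =
        (IsLocalRing.residue Q.O).comp (incO h₁) := rfl
    rw [hcomp, ← Polynomial.map_map, hh₀, hP₀, Polynomial.map_prod]
    have hterm : ∀ g ∈ (Finset.univ : Finset (inertiaGal K Q)),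
        Polynomial.map (IsLocalRing.residue Q.O)
          (X - C (⟨(g : K' ≃ₐ[K] K') (y : K'), hmemO g⟩ : Q.O))
          = X - C (IsLocalRing.residue Q.O y) := by
      intro g _
      rw [Polynomial.map_sub, Polynomial.map_X, Polynomial.map_C]
      congr 2
      rw [← sub_eq_zero, ← map_sub, IsLocalRing.residue_eq_zero_iff, mem_maximalIdeal_iff]
      exact (mem_inertiaGal_iff Q (g : K' ≃ₐ[K] K')).mp g.2 y.1 y.2
    rw [Finset.prod_congr rfl hterm, Finset.prod_const, Finset.card_univ]
  have hdeg : Q.deg = QT.deg := deg_eq_of_resExt_surjective h₁ hsurj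
  have hdec : (Q.O).decompositionSubgroup (inertiaField K Q) = ⊤ := by
    rw [eq_top_iff]
    intro τ _
    have hτ : τ.restrictScalars K ∈ inertiaGal K Q := by
      rw [← IntermediateField.fixingSubgroup_fixedField (inertiaGal K Q),
        IntermediateField.mem_fixingSubgroup_iff]
      intro x hx
      exact τ.commutes ⟨x, hx⟩
    have hfix : comapGal Q τ = Q := by
      apply pl_ext
      intro x
      rw [comapGal_apply]
      exact val_inertia hτ x
    exact mem_decomposition_of_comapGal_eq Q τ hfix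
  have hcd := G.card_decomposition_mul_deg hT Q QT e₁ h₁
  rw [hdec, Subgroup.card_top, IsGalois.card_aut_eq_finrank (inertiaField K Q) K', ← hdeg] at hcd
  have hK' : G.IsFF1 k K' := isFF1_of_finite hK
  have hdp := G.deg_pos hK' Q
  have he : Module.finrank (inertiaField K Q) K' = e₁ := Nat.eq_of_mul_eq_mul_right hdp hcd
  refine ⟨QT, by rw [he]; exact h₁, ?_⟩
  intro x hx
  obtain ⟨a, ha⟩ := hsurj (IsLocalRing.residue Q.O ⟨x, hx⟩)
  obtain ⟨d, rfl⟩ := IsLocalRing.residue_surjective a
  refine ⟨d.1, ?_⟩
  rw [resExt_residue, ← sub_eq_zero, ← map_sub, IsLocalRing.residue_eq_zero_iff,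
    mem_maximalIdeal_iff] at ha
  rw [Valuation.map_sub_swap]
  exact ha

/-- Membership in the higher ramification groups is detected on a uniformizer. -/
theorem ramification_iff_uniformizer [FiniteDimensional K K'] [IsGalois K K']
    (hK : G.IsFF1 k K) (Q : Place k K') [Algebra.IsSeparable k (IsLocalRing.ResidueField Q.O)]
    (σ : K' ≃ₐ[K] K')
    (hσ : ∀ x : K', Q.1 x ≤ 1 → Q.1 (σ x - x) ≤ WithZero.exp (-(1 : ℤ)))
    (t : K') (ht : Q.1 t = WithZero.exp (-1)) (j : ℕ) :
    (∀ x : K', Q.1 x ≤ 1 → Q.1 (σ x - x) ≤ WithZero.exp (-(j : ℤ))) ↔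
      Q.1 (σ t - t) ≤ WithZero.exp (-(j : ℤ)) := by
  constructor
  · intro h
    refine h t ?_
    rw [ht]
    exact ((zm0_lt_one_iff _).mpr le_rfl).le
  intro h
  have hσ' : σ ∈ inertiaGal K Q := (mem_inertiaGal_iff Q σ).mpr
    (fun x hx => lt_of_le_of_lt (hσ x hx) ((zm0_lt_one_iff _).mpr le_rfl))
  obtain ⟨Q₁, -, hd⟩ := totally_ramified_over_inertiaField hK Q
  have hfixT : ∀ d : inertiaField K Q,
      σ (algebraMap (inertiaField K Q) K' d) = algebraMap (inertiaField K Q) K' d :=
    fun d => (IntermediateField.mem_fixedField_iff _ _).mp d.2 σ hσ'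
  have ht0 : t ≠ 0 := by
    rintro rfl
    rw [map_zero] at ht
    exact WithZero.exp_ne_zero ht.symm
  have key : ∀ n : ℕ, n ≤ j → ∀ x : K', Q.1 x ≤ 1 →
      Q.1 (σ x - x) ≤ WithZero.exp (-(n : ℤ)) := by
    intro n
    induction n with
    | zero =>
      intro _ x hx
      simp only [Nat.cast_zero, neg_zero, WithZero.exp_zero]
      exact Q.1.map_sub_le ((val_inertia hσ' x).le.trans hx) hx
    | succ n ih =>
      intro hn x hx
      obtain ⟨d, hd'⟩ := hd x hx
      obtain ⟨x', hx'⟩ : ∃ x' : K', x' = (x - algebraMap (inertiaField K Q) K' d) / t :=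
        ⟨_, rfl⟩
      have hx'1 : Q.1 x' ≤ 1 := by
        rw [hx', map_div₀, ht, div_le_one₀ WithZero.exp_pos]
        exact (zm0_lt_one_iff _).mp hd'
      have hxe : x = algebraMap (inertiaField K Q) K' d + t * x' := by
        rw [hx']
        field_simp
        ring
      have e1 : σ x - x = (σ t - t) * σ x' + t * (σ x' - x') := by
        conv_lhs => rw [hxe]
        rw [map_add, map_mul, hfixT]
        ring
      rw [e1]
      apply Q.1.map_add_le
      · rw [map_mul]
        calc Q.1 (σ t - t) * Q.1 (σ x') ≤ WithZero.exp (-(j : ℤ)) * 1 :=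
              mul_le_mul' h ((val_inertia hσ' x').le.trans hx'1)
          _ = WithZero.exp (-(j : ℤ)) := mul_one _
          _ ≤ WithZero.exp (-((n + 1 : ℕ) : ℤ)) := WithZero.exp_le_exp.mpr (by omega)
      · rw [map_mul, ht]
        calc WithZero.exp (-1) * Q.1 (σ x' - x')
            ≤ WithZero.exp (-1) * WithZero.exp (-(n : ℤ)) :=
              mul_le_mul' le_rfl (ih (by omega) x' hx'1)
          _ = WithZero.exp (-((n + 1 : ℕ) : ℤ)) := by
            rw [← WithZero.exp_add]
            congr 1
            push_cast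
            ring
  exact key j le_rfl

end Inertia

end Groth.Agent.H55
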