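import Groth.Agent.H55.FFLD
import Mathlib

/-!
The degree of the zero divisor of `x` is `[K : k(x)]`; principal divisors have degree `0`;
Riemann's inequality and the genus.
-/

set_option autoImplicit false

namespace Groth.Agent.H55

open FunFld WithZero Polynomial IntermediateField

variable {k K : Type*} [Field k] [Field K] [Algebra k K]

section ZeroPole

variable (k) in
/-- The divisor of zeros of `x`. -/
noncomputable def zeroDiv (x : K) : Divisor k K := FunFld.div k x ⊔ 0

variable (k) in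
/-- The divisor of poles of `x`. -/
noncomputable def poleDiv (x : K) : Divisor k K := (-FunFld.div k x) ⊔ 0

theorem zeroDiv_apply (hK : FunFld.IsFunctionField k K) (x : K) (P : Place k K) :
    zeroDiv k x P = max (P.ord x) 0 := by
  unfold zeroDiv
  rw [Finsupp.sup_apply, div_apply hK]; rfl

theorem poleDiv_apply (hK : FunFld.IsFunctionField k K) (x : K) (P : Place k K) :
    poleDiv k x P = max (-(P.ord x)) 0 := by
  unfold poleDiv
  rw [Finsupp.sup_apply, Finsupp.neg_apply, div_apply hK]; rfl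

theorem zeroDiv_nonneg (x : K) : 0 ≤ zeroDiv k x := le_sup_right

theorem poleDiv_nonneg (x : K) : 0 ≤ poleDiv k x := le_sup_right

theorem div_eq_zeroDiv_sub_poleDiv (hK : FunFld.IsFunctionField k K) (x : K) :
    FunFld.div k x = zeroDiv k x - poleDiv k x := by
  ext P
  rw [Finsupp.sub_apply, zeroDiv_apply hK, poleDiv_apply hK, div_apply hK]
  omega

theorem poleDiv_eq_zeroDiv_inv (hK : FunFld.IsFunctionField k K) (x : K) :
    poleDiv k x = zeroDiv k x⁻¹ := by
  unfold poleDiv zeroDiv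
  rw [div_inv hK]

theorem mem_L_poleDiv (hK : FunFld.IsFunctionField k K) (u : K) : u ∈ L (poleDiv k u) := by
  intro P
  by_cases hu : u = 0
  · subst hu; simp
  · rw [pl_val_le_exp_iff P hu, poleDiv_apply hK]
    omega

end ZeroPole

section DegreeTheorem

theorem basic_mem (hK : FunFld.IsFunctionField k K) (x : K) (hx0 : x ≠ 0) (C : Divisor k K)
    {l i : ℕ} (hi : i ≤ l) {u : K} (hu : u ∈ L C) :
    (x⁻¹) ^ l * x ^ i * u ∈ L (l • zeroDiv k x + C) := by
  intro P
  by_cases hu0 : u = 0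
  · subst hu0; simp
  have hw : (x⁻¹) ^ l * x ^ i * u ≠ 0 :=
    mul_ne_zero (mul_ne_zero (pow_ne_zero _ (inv_ne_zero hx0)) (pow_ne_zero _ hx0)) hu0
  have h1 := hu P
  rw [pl_val_le_exp_iff P hu0] at h1
  rw [pl_val_le_exp_iff P hw, pl_ord_mul P (mul_ne_zero (pow_ne_zero _ (inv_ne_zero hx0))
    (pow_ne_zero _ hx0)) hu0, pl_ord_mul P (pow_ne_zero _ (inv_ne_zero hx0)) (pow_ne_zero _ hx0),
    pl_ord_pow, pl_ord_pow, pl_ord_inv, Finsupp.add_apply, Finsupp.smul_apply, zeroDiv_apply hK]
  simp only [nsmul_eq_mul]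
  have hil : (i : ℤ) ≤ l := by exact_mod_cast hi
  rcases le_total 0 (P.ord x) with he | he
  · rw [max_eq_left he]
    nlinarith
  · rw [max_eq_right he]
    nlinarith

/-- Key estimate: there is `C ≥ 0` with `ℓ(l (x)₀ + C) ≥ (l+1) [K : k(x)]` for all `l`. -/
theorem exists_C_ell_ge (hK : FunFld.IsFunctionField k K) (x : K) (hx : Transcendental k x) :
    ∃ C : Divisor k K, 0 ≤ C ∧
      ∀ l : ℕ, (l + 1) * Module.finrank k⟮x⟯ K ≤ ell (l • zeroDiv k x + C) := by
  classical
  haveI := ff_finite hK hx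
  have hx0 : x ≠ 0 := by
    rintro rfl; exact hx isAlgebraic_zero
  set n := Module.finrank k⟮x⟯ K with hn
  let b : Module.Basis (Fin n) k⟮x⟯ K := Module.finBasis k⟮x⟯ K
  set C : Divisor k K := ∑ j, poleDiv k (b j) with hC
  have hC0 : 0 ≤ C := Finset.sum_nonneg (fun j _ => poleDiv_nonneg _)
  have hbC : ∀ j, b j ∈ L C := by
    intro j
    refine L_mono ?_ (mem_L_poleDiv hK (b j))
    exact Finset.single_le_sum (f := fun j => poleDiv k (b j)) (fun j _ => poleDiv_nonneg _)
      (Finset.mem_univ j)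
  refine ⟨C, hC0, fun l => ?_⟩
  -- the linear map
  let Φ' : (Fin n → degreeLT k (l + 1)) →ₗ[k] K :=
    ∑ j : Fin n, (LinearMap.mulRight k (b j)) ∘ₗ (LinearMap.mulLeft k ((x⁻¹) ^ l)) ∘ₗ
      (aeval x : k[X] →ₐ[k] K).toLinearMap ∘ₗ (degreeLT k (l + 1)).subtype ∘ₗ (LinearMap.proj j)
  have hΦ' : ∀ p, Φ' p = ∑ j : Fin n, (x⁻¹) ^ l * aeval x (p j : k[X]) * b j := by
    intro p
    simp only [Φ', LinearMap.sum_apply]
    rfl
  have hterm : ∀ (q : degreeLT k (l + 1)) (j : Fin n),
      (x⁻¹) ^ l * aeval x (q : k[X]) * b j ∈ L (l • zeroDiv k x + C) := by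
    intro q j
    have hq : (q : k[X]).natDegree < l + 1 := by
      by_cases hq0 : (q : k[X]) = 0
      · rw [hq0]; simp
      · exact (natDegree_lt_iff_degree_lt hq0).mpr (mem_degreeLT.mp q.2)
    rw [aeval_eq_sum_range' hq, Finset.mul_sum, Finset.sum_mul]
    refine Submodule.sum_mem _ (fun i hi => ?_)
    have : (x⁻¹) ^ l * ((q : k[X]).coeff i • x ^ i) * b j
        = (q : k[X]).coeff i • ((x⁻¹) ^ l * x ^ i * b j) := by
      simp only [Algebra.smul_def]; ring
    rw [this]
    refine Submodule.smul_mem _ _ (basic_mem hK x hx0 C ?_ (hbC j))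
    exact Nat.lt_succ_iff.mp (Finset.mem_range.mp hi)
  have hmem : ∀ p, Φ' p ∈ L (l • zeroDiv k x + C) := by
    intro p
    rw [hΦ']
    exact Submodule.sum_mem _ (fun j _ => hterm (p j) j)
  let Φ : (Fin n → degreeLT k (l + 1)) →ₗ[k] L (l • zeroDiv k x + C) :=
    Φ'.codRestrict _ hmem
  have hinj : Function.Injective Φ := by
    rw [← LinearMap.ker_eq_bot, LinearMap.ker_codRestrict, LinearMap.ker_eq_bot,
      injective_iff_map_eq_zero]
    intro p hp
    rw [hΦ'] at hp
    have hmemx : ∀ j, aeval x (p j : k[X]) ∈ k⟮x⟯ := fun j =>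
      algebra_adjoin_le_adjoin k {x} (aeval_mem_adjoin_singleton k x)
    have hsum : ∑ j : Fin n, (⟨aeval x (p j : k[X]), hmemx j⟩ : k⟮x⟯) • b j = 0 := by
      have h2 : (x⁻¹) ^ l * ∑ j : Fin n, aeval x (p j : k[X]) * b j = 0 := by
        rw [← hp, Finset.mul_sum]
        exact Finset.sum_congr rfl (fun j _ => by ring)
      have h3 := (mul_eq_zero.mp h2).resolve_left (pow_ne_zero _ (inv_ne_zero hx0))
      rw [← h3]
      exact Finset.sum_congr rfl (fun j _ => rfl)
    have hc := Fintype.linearIndependent_iff.mp b.linearIndependent _ hsum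
    funext j
    have h4 : aeval x (p j : k[X]) = 0 := congrArg Subtype.val (hc j)
    have h5 := (transcendental_iff.mp hx) _ h4
    exact Subtype.ext h5
  haveI := L_finite hK (l • zeroDiv k x + C)
  have hle := LinearMap.finrank_le_finrank_of_injective hinj
  have hdim : Module.finrank k (Fin n → degreeLT k (l + 1)) = n * (l + 1) := by
    rw [Module.finrank_pi_fintype]
    simp only [Finset.sum_const, Finset.card_univ, Fintype.card_fin, smul_eq_mul]
    rw [(degreeLTEquiv k (l + 1)).finrank_eq, Module.finrank_fin_fun]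
  rw [hdim] at hle
  unfold ell
  rw [mul_comm]
  exact hle

theorem deg_zeroDiv_eq_sum (hK : FunFld.IsFunctionField k K) (x : K) (hx0 : x ≠ 0) :
    (zeroDiv k x).deg = ∑ P ∈ (zeros_finite hK x hx0).toFinset, P.ord x * (P.deg : ℤ) := by
  classical
  rw [deg_eq_sum (zeroDiv k x) (zeros_finite hK x hx0).toFinset]
  · apply Finset.sum_congr rfl
    intro P hP
    rw [Set.Finite.mem_toFinset] at hP
    have := (pl_val_lt_one_iff P hx0).mp hP
    rw [zeroDiv_apply hK, max_eq_left this.le]
  · intro P hP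
    rw [Finsupp.mem_support_iff, zeroDiv_apply hK] at hP
    rw [Set.Finite.mem_toFinset]
    change P.1 x < 1
    rw [pl_val_lt_one_iff P hx0]
    by_contra hcon
    rw [not_lt] at hcon
    exact hP (max_eq_right hcon)

/-- The degree theorem: `deg (x)₀ = [K : k(x)]`. -/
theorem deg_zeroDiv (hK : FunFld.IsFunctionField k K) (x : K) (hx : Transcendental k x) :
    (zeroDiv k x).deg = Module.finrank k⟮x⟯ K := by
  haveI := ff_finite hK hx
  have hx0 : x ≠ 0 := by
    rintro rfl; exact hx isAlgebraic_zero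
  apply le_antisymm
  · rw [deg_zeroDiv_eq_sum hK x hx0]
    refine sum_ord_mul_deg_le hK x hx0 _ (fun P hP => ?_)
    rw [Set.Finite.mem_toFinset] at hP
    exact hP
  · obtain ⟨C, hC0, hC⟩ := exists_C_ell_ge hK x hx
    by_contra hcon
    rw [not_le] at hcon
    set n : ℕ := Module.finrank k⟮x⟯ K with hn
    have hn1 : 1 ≤ n := Module.finrank_pos
    set dB := (zeroDiv k x).deg with hdB
    have hdC : 0 ≤ C.deg := deg_nonneg_of_nonneg hC0
    set l : ℕ := C.deg.toNat + 1 with hl
    have h1 := hC l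
    have hnn : 0 ≤ l • zeroDiv k x + C :=
      add_nonneg (nsmul_nonneg (zeroDiv_nonneg x) l) hC0
    have h2 := (L_finite_of_nonneg hK hnn).2
    rw [deg_add, deg_nsmul] at h2
    have h3 : ((l + 1) * n : ℤ) ≤ l * dB + C.deg + 1 := by
      have : (((l + 1) * n : ℕ) : ℤ) ≤ ell (l • zeroDiv k x + C) := by exact_mod_cast h1
      push_cast at this
      linarith
    have h4 : (l : ℤ) * dB ≤ l * (n - 1) := by
      have : dB ≤ n - 1 := by omega
      exact mul_le_mul_of_nonneg_left this (by positivity)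
    have h5 : (l : ℤ) = C.deg + 1 := by
      rw [hl]; push_cast; rw [Int.toNat_of_nonneg hdC]
    nlinarith

theorem adjoin_inv_eq (x : K) : k⟮x⁻¹⟯ = k⟮x⟯ := by
  apply le_antisymm
  · rw [adjoin_simple_le_iff]
    exact inv_mem (mem_adjoin_simple_self k x)
  · rw [adjoin_simple_le_iff]
    have h : (x⁻¹)⁻¹ ∈ k⟮x⁻¹⟯ := inv_mem (mem_adjoin_simple_self k x⁻¹)
    rwa [inv_inv] at h

theorem transcendental_inv {x : K} (hx : Transcendental k x) : Transcendental k x⁻¹ := by
  intro h
  apply hx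
  have := h.inv
  rwa [inv_inv] at this

theorem deg_poleDiv (hK : FunFld.IsFunctionField k K) (x : K) (hx : Transcendental k x) :
    (poleDiv k x).deg = Module.finrank k⟮x⟯ K := by
  rw [poleDiv_eq_zeroDiv_inv hK, deg_zeroDiv hK x⁻¹ (transcendental_inv hx), adjoin_inv_eq]

/-- Principal divisors have degree zero. -/
theorem deg_div (hK : FunFld.IsFunctionField k K) (x : K) : (FunFld.div k x).deg = 0 := by
  by_cases hx : x ∈ Set.range (algebraMap k K)
  · obtain ⟨c, rfl⟩ := hx
    rw [div_const hK, deg_zero]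
  · have hxt := (ff_transcendental_iff hK).mpr hx
    rw [div_eq_zeroDiv_sub_poleDiv hK, deg_sub, deg_zeroDiv hK x hxt, deg_poleDiv hK x hxt, sub_self]

theorem L_eq_bot_of_deg_neg (hK : FunFld.IsFunctionField k K) (D : Divisor k K) (h : D.deg < 0) :
    L D = ⊥ := by
  rw [Submodule.eq_bot_iff]
  intro z hz
  by_contra hz0
  have := deg_nonneg_of_nonneg (nonneg_of_mem_L hK D hz0 hz)
  rw [deg_add, deg_div hK] at this
  omega

theorem ell_eq_zero_of_deg_neg (hK : FunFld.IsFunctionField k K) (D : Divisor k K)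
    (h : D.deg < 0) : ell D = 0 := by
  unfold ell
  rw [L_eq_bot_of_deg_neg hK D h, finrank_bot]

end DegreeTheorem

end Groth.Agent.H55
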