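import Groth.Agent.H55.FFGeom2
import Mathlib

/-!
Separating variables inside a generating subspace; `IsAlgClosed k` implies geometric.
-/

set_option autoImplicit false

universe u v

namespace Groth.Agent.H55

open FunFld Polynomial IntermediateField TensorProduct

section

variable {k : Type u} {K : Type v} [Field k] [Field K] [Algebra k K]

theorem isGeometric_of_isAlgClosed [IsAlgClosed k] : FunFld.IsGeometric k K := by
  intro k' _ _ hfin
  haveI := hfin
  have hbij : Function.Bijective (algebraMap k k') :=
    IsAlgClosed.algebraMap_bijective_of_isIntegral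
  let e₁ : k ≃ₐ[k] k' := AlgEquiv.ofBijective (Algebra.ofId k k') hbij
  let e : k' ⊗[k] K ≃ₐ[k] K :=
    (Algebra.TensorProduct.congr e₁.symm AlgEquiv.refl).trans (Algebra.TensorProduct.lid k K)
  exact e.toMulEquiv.isField (Field.toIsField K)

/-- A subspace generating `K` contains an element outside any proper intermediate field. -/
theorem exists_mem_notMem_of_adjoin_eq_top (W : Submodule k K)
    (hW : IntermediateField.adjoin k (W : Set K) = ⊤) (M : IntermediateField k K) (hM : M ≠ ⊤) :
    ∃ x ∈ W, x ∉ M := by
  by_contra hcon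
  push_neg at hcon
  apply hM
  rw [eq_top_iff, ← hW, IntermediateField.adjoin_le_iff]
  exact fun x hx => hcon x hx

theorem exists_separating_mem (hK : FunFld.IsFunctionField k K) (hg : FunFld.IsGeometric k K)
    (W : Submodule k K) (hW : IntermediateField.adjoin k (W : Set K) = ⊤) :
    ∃ x ∈ W, Algebra.IsSeparable k⟮x⟯ K := by
  obtain hz | ⟨p, hp, hpk⟩ := CharP.exists' k
  · obtain ⟨x, hxW, hx⟩ := exists_mem_notMem_of_adjoin_eq_top W hW ⊥ (by
      intro hbot
      obtain ⟨⟨x₀, hx₀, -⟩, -⟩ := hK
      have h0 : x₀ ∈ (⊥ : IntermediateField k K) := by rw [hbot]; trivial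
      rw [IntermediateField.mem_bot] at h0
      obtain ⟨c, rfl⟩ := h0
      exact hx₀ (isAlgebraic_algebraMap c))
    have hxt : Transcendental k x :=
      (ff_transcendental_iff hK).mpr (fun h => hx (IntermediateField.mem_bot.mpr h))
    haveI := ff_finite hK hxt
    haveI : CharZero k⟮x⟯ := charZero_of_injective_algebraMap (algebraMap k k⟮x⟯).injective
    exact ⟨x, hxW, Algebra.IsAlgebraic.isSeparable_of_perfectField⟩
  · haveI := hp
    haveI : CharP K p :=
      (RingHom.charP_iff (algebraMap k K) (algebraMap k K).injective p).mp hpk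
    obtain ⟨hfr, -⟩ := finrank_adjoin_pow hK hg p
    obtain ⟨x, hxW, hx⟩ := exists_mem_notMem_of_adjoin_eq_top W hW
      (adjoin k (Set.range fun y : K => y ^ p)) (by
      intro htop
      have h1 : Module.finrank (adjoin k (Set.range fun y : K => y ^ p)) K =
          Module.finrank (⊤ : IntermediateField k K) K :=
        congrArg (fun M : IntermediateField k K => Module.finrank M K) htop
      rw [hfr, IntermediateField.finrank_top] at h1
      exact hp.out.one_lt.ne' h1)
    refine ⟨x, hxW, ?_⟩
    by_contra hns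
    exact hx ((mem_adjoin_pow_iff hK hg p x).2.mpr hns)

theorem exists_generator_mem [Infinite k] (hK : FunFld.IsFunctionField k K)
    (W : Submodule k K) (hW : IntermediateField.adjoin k (W : Set K) = ⊤)
    (x : K) (hsep : Algebra.IsSeparable k⟮x⟯ K) :
    ∃ y ∈ W, IntermediateField.adjoin k ({x, y} : Set K) = ⊤ := by
  haveI := hsep
  have hx : Transcendental k x := by
    obtain ⟨⟨x₀, hx₀, -⟩, -⟩ := hK
    intro hxalg
    haveI : Algebra.IsIntegral k k⟮x⟯ :=
      (IntermediateField.isAlgebraic_adjoin_simple hxalg.isIntegral).isIntegral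
    have h2 : IsIntegral k x₀ :=
      isIntegral_trans (R := k) (A := k⟮x⟯) x₀ (Algebra.IsSeparable.isIntegral k⟮x⟯ x₀)
    exact hx₀ h2.isAlgebraic
  haveI := ff_finite hK hx
  haveI : Finite (IntermediateField k⟮x⟯ K) :=
    Field.finite_intermediateField_of_exists_primitive_element k⟮x⟯ K
      (Field.exists_primitive_element k⟮x⟯ K)
  let pL : {L : IntermediateField k⟮x⟯ K // L ≠ ⊤} → Submodule k W := fun L =>
    { carrier := {w | (w : K) ∈ L.1}
      add_mem' := fun {a b} ha hb => L.1.add_mem ha hb
      zero_mem' := L.1.zero_mem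
      smul_mem' := fun c w hw => by
        show ((c • w : W) : K) ∈ L.1
        rw [Submodule.coe_smul, Algebra.smul_def, IsScalarTower.algebraMap_apply k k⟮x⟯ K]
        exact L.1.mul_mem (L.1.algebraMap_mem _) hw }
  by_contra hcon
  push_neg at hcon
  have hcov : ⋃ L, ((pL L : Submodule k W) : Set W) = Set.univ := by
    rw [Set.eq_univ_iff_forall]
    intro w
    rw [Set.mem_iUnion]
    have hne : k⟮x⟯⟮(w : K)⟯ ≠ ⊤ := by
      intro htop
      apply hcon w.1 w.2
      rw [← IntermediateField.adjoin_simple_adjoin_simple k x (w : K), htop,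
        IntermediateField.restrictScalars_top]
    exact ⟨⟨_, hne⟩, IntermediateField.mem_adjoin_simple_self _ _⟩
  obtain ⟨L, hL⟩ := Subspace.exists_eq_top_of_iUnion_eq_univ hcov
  apply L.2
  have hsub : ∀ w ∈ W, w ∈ L.1 := fun w hw => by
    have h0 : (⟨w, hw⟩ : W) ∈ pL L := by rw [hL]; trivial
    exact h0
  have h3 : IntermediateField.adjoin k (W : Set K) ≤ L.1.restrictScalars k := by
    rw [IntermediateField.adjoin_le_iff]
    exact fun w hw => hsub w hw
  rw [hW, top_le_iff] at h3
  rw [eq_top_iff]
  intro z _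
  have h4 : z ∈ L.1.restrictScalars k := by rw [h3]; trivial
  exact h4

end

end Groth.Agent.H55
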