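import Groth.Agent.H55.FFLoc1

/-!
The local ring of a projective map at a place, and the criterion: if the local ring separates the
place from all other places and contains a local parameter, it is the whole valuation ring.
-/

namespace Groth.Agent.H55

open FunFld WithZero IntermediateField

variable {k K : Type*} [Field k] [Field K] [Algebra k K]

theorem exp_neg_one_pow (n : ℕ) :
    (exp (-1 : ℤ) : WithZero (Multiplicative ℤ)) ^ n = exp (-(n : ℤ)) := by
  induction n with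
  | zero => simp
  | succ n ih =>
    rw [pow_succ, ih, ← exp_add]
    congr 1
    push_cast
    ring

/-- Quotients `u / w` of elements of `A` with `w` a unit at `P`. -/
def locSub (A : Subalgebra k K) (P : Place k K) : Subalgebra k K where
  carrier := {z | ∃ u ∈ A, ∃ w ∈ A, P.1 w = 1 ∧ z * w = u}
  mul_mem' := by
    rintro a b ⟨u₁, hu₁, w₁, hw₁, hP₁, h₁⟩ ⟨u₂, hu₂, w₂, hw₂, hP₂, h₂⟩
    exact ⟨u₁ * u₂, A.mul_mem hu₁ hu₂, w₁ * w₂, A.mul_mem hw₁ hw₂,
      by rw [map_mul, hP₁, hP₂, one_mul], by rw [← h₁, ← h₂]; ring⟩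
  add_mem' := by
    rintro a b ⟨u₁, hu₁, w₁, hw₁, hP₁, h₁⟩ ⟨u₂, hu₂, w₂, hw₂, hP₂, h₂⟩
    exact ⟨u₁ * w₂ + u₂ * w₁, A.add_mem (A.mul_mem hu₁ hw₂) (A.mul_mem hu₂ hw₁), w₁ * w₂,
      A.mul_mem hw₁ hw₂, by rw [map_mul, hP₁, hP₂, one_mul], by rw [← h₁, ← h₂]; ring⟩
  algebraMap_mem' c := ⟨algebraMap k K c, A.algebraMap_mem c, 1, A.one_mem, map_one _, mul_one _⟩

theorem mem_locSub {A : Subalgebra k K} {P : Place k K} {z : K} :
    z ∈ locSub A P ↔ ∃ u ∈ A, ∃ w ∈ A, P.1 w = 1 ∧ z * w = u := Iff.rfl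

theorem le_locSub (A : Subalgebra k K) (P : Place k K) : A ≤ locSub A P :=
  fun a ha => ⟨a, ha, 1, A.one_mem, map_one _, mul_one _⟩

theorem locSub_val_le {A : Subalgebra k K} {P : Place k K} (hA : ∀ a ∈ A, P.1 a ≤ 1) {z : K}
    (hz : z ∈ locSub A P) : P.1 z ≤ 1 := by
  obtain ⟨u, hu, w, -, hPw, h⟩ := hz
  have h1 : P.1 z = P.1 u := by rw [← h, map_mul, hPw, mul_one]
  rw [h1]
  exact hA u hu

theorem inv_mem_locSub {A : Subalgebra k K} {P : Place k K} {z : K} (hz : z ∈ locSub A P)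
    (hPz : P.1 z = 1) : z⁻¹ ∈ locSub A P := by
  obtain ⟨u, hu, w, hw, hPw, h⟩ := hz
  have hz0 : z ≠ 0 := by
    rintro rfl
    rw [map_zero] at hPz
    exact zero_ne_one hPz
  refine ⟨w, hw, u, hu, ?_, ?_⟩
  · rw [← h, map_mul, hPz, hPw, one_mul]
  · rw [← h, ← mul_assoc, inv_mul_cancel₀ hz0, one_mul]

theorem div_mem_locSub {A : Subalgebra k K} {P : Place k K} {a s : K} (ha : a ∈ A) (hs : s ∈ A)
    (hPs : P.1 s = 1) : a / s ∈ locSub A P := by
  have hs0 : s ≠ 0 := by
    rintro rfl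
    rw [map_zero] at hPs
    exact zero_ne_one hPs
  exact ⟨a, ha, s, hs, hPs, div_mul_cancel₀ a hs0⟩

/-- The valuation ring of `P` as a module over a subalgebra contained in it. -/
def valMod (R : Subalgebra k K) (P : Place k K) (hR : ∀ z ∈ R, P.1 z ≤ 1) : Submodule R K where
  carrier := {z | P.1 z ≤ 1}
  add_mem' := fun ha hb => P.1.map_add_le ha hb
  zero_mem' := by simp
  smul_mem' := fun c z hz => by
    show P.1 (c • z) ≤ 1
    have e : c • z = (c : K) * z := rfl
    rw [e, map_mul]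
    exact mul_le_one' (hR _ c.2) hz

theorem mem_valMod {R : Subalgebra k K} {P : Place k K} {hR : ∀ z ∈ R, P.1 z ≤ 1} {z : K} :
    z ∈ valMod R P hR ↔ P.1 z ≤ 1 := Iff.rfl

/-- The elements of a subalgebra of the valuation ring lying in the maximal ideal. -/
def valIdeal (R : Subalgebra k K) (P : Place k K) (hR : ∀ z ∈ R, P.1 z ≤ 1) : Ideal R where
  carrier := {a | P.1 (a : K) < 1}
  add_mem' := fun {a b} ha hb => by
    show P.1 ((a + b : R) : K) < 1
    have e : ((a + b : R) : K) = (a : K) + (b : K) := rfl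
    rw [e]
    exact P.1.map_add_lt ha hb
  zero_mem' := by
    show P.1 ((0 : R) : K) < 1
    have e : ((0 : R) : K) = 0 := rfl
    rw [e, map_zero]
    exact zero_lt_one
  smul_mem' := fun c a ha => by
    show P.1 ((c • a : R) : K) < 1
    have e : ((c • a : R) : K) = (c : K) * (a : K) := rfl
    rw [e, map_mul]
    exact lt_of_le_of_lt (mul_le_mul' (hR _ c.2) le_rfl) (by rw [one_mul]; exact ha)

theorem mem_valIdeal {R : Subalgebra k K} {P : Place k K} {hR : ∀ z ∈ R, P.1 z ≤ 1} {a : R} :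
    a ∈ valIdeal R P hR ↔ P.1 (a : K) < 1 := Iff.rfl

section Main

variable {ι : Type*} [Fintype ι]

/-- Clearing the poles at finite places of a function regular at `P`. -/
theorem exists_mul_mem_Bcoord (hK : FunFld.IsFunctionField k K) (r : ι → K) (P : Place k K)
    (hsep : ∀ Q : Place k K, Q ≠ P → IsFin r Q → ∃ w ∈ Acoord k r, P.1 w = 1 ∧ Q.1 w < 1)
    (z : K) (hz : P.1 z ≤ 1) :
    ∃ s ∈ Acoord k r, P.1 s = 1 ∧ s * z ∈ Bcoord (k := k) r := by
  classical
  by_cases hz0 : z = 0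
  · exact ⟨1, one_mem _, map_one _, by rw [hz0, mul_zero]; exact Submodule.zero_mem _⟩
  have hZmem : ∀ Q, Q ∈ (poles_finite hK z).toFinset.filter (fun Q => IsFin r Q) ↔
      1 < Q.1 z ∧ IsFin r Q := by
    intro Q
    rw [Finset.mem_filter, Set.Finite.mem_toFinset]
    rfl
  obtain ⟨Z, hZ⟩ : ∃ Z : Finset (Place k K),
      Z = (poles_finite hK z).toFinset.filter (fun Q => IsFin r Q) := ⟨_, rfl⟩
  rw [← hZ] at hZmem
  have hZne : ∀ Q ∈ Z, Q ≠ P := by
    rintro Q hQ rfl
    exact absurd hz (not_le.mpr ((hZmem _).mp hQ).1)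
  have hw : ∀ Q : Place k K, ∃ w ∈ Acoord k r, P.1 w = 1 ∧ (Q ∈ Z → Q.1 w < 1) := by
    intro Q
    by_cases hQ : Q ∈ Z
    · obtain ⟨w, hwA, hPw, hQw⟩ := hsep Q (hZne Q hQ) ((hZmem Q).mp hQ).2
      exact ⟨w, hwA, hPw, fun _ => hQw⟩
    · exact ⟨1, one_mem _, map_one _, fun h => absurd h hQ⟩
  choose w hwA hPw hQw using hw
  refine ⟨∏ Q ∈ Z, w Q ^ (-(Q.ord z)).toNat,
    Subalgebra.prod_mem _ (fun Q _ => Subalgebra.pow_mem _ (hwA Q) _), ?_, ?_⟩
  · rw [map_prod]
    exact Finset.prod_eq_one (fun Q _ => by rw [map_pow, hPw, one_pow])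
  · intro Q' hQ'
    by_cases hQ'Z : Q' ∈ Z
    · have hrest : Q'.1 (∏ Q ∈ Z.erase Q', w Q ^ (-(Q.ord z)).toNat) ≤ 1 :=
        Acoord_val_le r Q' hQ'
          (Subalgebra.prod_mem _ fun Q _ => Subalgebra.pow_mem _ (hwA Q) _)
      have hw1 : Q'.1 (w Q') ≤ exp (-1 : ℤ) := (zm0_lt_one_iff _).mp (hQw Q' hQ'Z)
      have hwe : Q'.1 (w Q' ^ (-(Q'.ord z)).toNat) ≤ exp (-((-(Q'.ord z)).toNat : ℤ)) := by
        rw [map_pow, ← exp_neg_one_pow]
        exact pow_le_pow_left' hw1 _
      have hzval : Q'.1 z = exp (-(Q'.ord z)) := pl_val_eq_exp_neg_ord Q' hz0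
      have he : -(Q'.ord z) ≤ ((-(Q'.ord z)).toNat : ℤ) := Int.self_le_toNat _
      rw [← Finset.mul_prod_erase Z _ hQ'Z, map_mul, map_mul]
      calc Q'.1 (w Q' ^ (-(Q'.ord z)).toNat) *
            Q'.1 (∏ Q ∈ Z.erase Q', w Q ^ (-(Q.ord z)).toNat) * Q'.1 z
          ≤ exp (-((-(Q'.ord z)).toNat : ℤ)) * 1 * exp (-(Q'.ord z)) :=
            mul_le_mul' (mul_le_mul' hwe hrest) hzval.le
        _ = exp (-((-(Q'.ord z)).toNat : ℤ) + -(Q'.ord z)) := by rw [mul_one, exp_add]
        _ ≤ 1 := by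
            have : exp (-((-(Q'.ord z)).toNat : ℤ) + -(Q'.ord z)) ≤
                (exp (0 : ℤ) : WithZero (Multiplicative ℤ)) := exp_le_exp.mpr (by omega)
            simpa using this
    · have h1 : Q'.1 z ≤ 1 := by
        by_contra hcon
        exact hQ'Z ((hZmem Q').mpr ⟨not_le.mp hcon, hQ'⟩)
      rw [map_mul]
      exact mul_le_one' (Acoord_val_le r Q' hQ'
        (Subalgebra.prod_mem _ fun Q _ => Subalgebra.pow_mem _ (hwA Q) _)) h1

/-- **Criterion**: if `k[r]` separates `P` from every other finite place and contains a local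
parameter at `P`, then its localization at `P` is the whole valuation ring of `P`. -/
theorem locSub_eq_valuationRing [IsAlgClosed k] (hK : FunFld.IsFunctionField k K) (r : ι → K)
    (j₀ : ι) (hj₀ : r j₀ = 1) (hgen : IntermediateField.adjoin k (Set.range r) = ⊤)
    (P : Place k K) (hP : IsFin r P)
    (hsep : ∀ Q : Place k K, Q ≠ P → IsFin r Q → ∃ w ∈ Acoord k r, P.1 w = 1 ∧ Q.1 w < 1)
    (hunif : ∃ t ∈ Acoord k r, P.1 t = exp (-1 : ℤ)) :
    ∀ z : K, P.1 z ≤ 1 → z ∈ locSub (Acoord k r) P := by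
  classical
  obtain ⟨U, hUfin, hUB, hBU⟩ := finite_codim hK r j₀ hj₀ hgen
  obtain ⟨t, htA, hPt⟩ := hunif
  have hAP : ∀ a ∈ Acoord k r, P.1 a ≤ 1 := fun a ha => Acoord_val_le r P hP ha
  have hRP : ∀ z ∈ locSub (Acoord k r) P, P.1 z ≤ 1 := fun z hz => locSub_val_le hAP hz
  obtain ⟨S, hS⟩ := (Submodule.fg_iff_finiteDimensional U).mpr hUfin
  have hN'span : valMod (locSub (Acoord k r) P) P hRP =
      Submodule.span (locSub (Acoord k r) P) (insert (1 : K) (S : Set K)) := by
    apply le_antisymm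
    · intro z hz
      obtain ⟨s, hsA, hPs, hszB⟩ := exists_mul_mem_Bcoord hK r P hsep z hz
      obtain ⟨α, hα, υ, hυ, hsum⟩ := Submodule.mem_sup.mp (hBU hszB)
      have hs0 : s ≠ 0 := by
        rintro rfl
        rw [map_zero] at hPs
        exact zero_ne_one hPs
      have hαs : α / s ∈ locSub (Acoord k r) P := div_mem_locSub hα hsA hPs
      have h1s : 1 / s ∈ locSub (Acoord k r) P := div_mem_locSub (one_mem _) hsA hPs
      have hz_eq : z = (⟨α / s, hαs⟩ : locSub (Acoord k r) P) • (1 : K) +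
          (⟨1 / s, h1s⟩ : locSub (Acoord k r) P) • υ := by
        show z = (α / s) * 1 + (1 / s) * υ
        field_simp
        linear_combination -hsum
      rw [hz_eq]
      refine Submodule.add_mem _
        (Submodule.smul_mem _ _ (Submodule.subset_span (Set.mem_insert _ _)))
        (Submodule.smul_mem _ _ ?_)
      have h2 : υ ∈ Submodule.span k (S : Set K) := by rw [hS]; exact hυ
      have h3 := Submodule.span_le_restrictScalars k (locSub (Acoord k r) P) (S : Set K) h2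
      exact Submodule.span_mono (Set.subset_insert _ _) h3
    · rw [Submodule.span_le]
      rintro y (rfl | hy)
      · show P.1 (1 : K) ≤ 1
        simp
      · have h1 : y ∈ U := hS ▸ Submodule.subset_span hy
        exact hUB h1 P hP
  have hFG : (valMod (locSub (Acoord k r) P) P hRP).FG := by
    rw [hN'span]
    exact Submodule.fg_span ((Finset.finite_toSet S).insert 1)
  have hIjac : valIdeal (locSub (Acoord k r) P) P hRP ≤ Ideal.jacobson ⊥ := by
    intro a ha
    rw [Ideal.mem_jacobson_bot]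
    intro y
    have hcoe : ((a * y + 1 : locSub (Acoord k r) P) : K) = (a : K) * (y : K) + 1 := rfl
    have hlt : P.1 ((a : K) * (y : K)) < 1 := by
      rw [map_mul]
      exact lt_of_le_of_lt (mul_le_mul' le_rfl (hRP y y.2)) (by rw [mul_one]; exact ha)
    have hval : P.1 ((a * y + 1 : locSub (Acoord k r) P) : K) = 1 := by
      rw [hcoe, P.1.map_add_eq_of_lt_right (by rw [map_one]; exact hlt), map_one]
    have hinv := inv_mem_locSub (a * y + 1 : locSub (Acoord k r) P).2 hval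
    refine isUnit_iff_exists_inv.mpr ⟨⟨_, hinv⟩, Subtype.ext ?_⟩
    show ((a * y + 1 : locSub (Acoord k r) P) : K) *
      ((a * y + 1 : locSub (Acoord k r) P) : K)⁻¹ = 1
    refine mul_inv_cancel₀ ?_
    intro h0
    rw [h0, map_zero] at hval
    exact zero_ne_one hval
  have ht0 : t ≠ 0 := by
    rintro rfl
    rw [map_zero] at hPt
    exact (exp_ne_zero).symm hPt
  have htR : t ∈ locSub (Acoord k r) P := le_locSub _ _ htA
  have htI : (⟨t, htR⟩ : locSub (Acoord k r) P) ∈ valIdeal (locSub (Acoord k r) P) P hRP := by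
    show P.1 t < 1
    rw [hPt]
    exact (zm0_lt_one_iff _).mpr le_rfl
  have hNN : valMod (locSub (Acoord k r) P) P hRP ≤
      (1 : Submodule (locSub (Acoord k r) P) K) ⊔
        valIdeal (locSub (Acoord k r) P) P hRP • valMod (locSub (Acoord k r) P) P hRP := by
    intro z hz
    obtain ⟨c, hc⟩ := exists_const_sub_lt_one hK P hz
    have hy : P.1 ((z - algebraMap k K c) / t) ≤ 1 := by
      rw [map_div₀, hPt]
      exact div_le_one_of_le₀ ((zm0_lt_one_iff _).mp hc) zero_le'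
    refine Submodule.mem_sup.mpr ⟨algebraMap k K c, ?_,
      (⟨t, htR⟩ : locSub (Acoord k r) P) • ((z - algebraMap k K c) / t),
      Submodule.smul_mem_smul htI hy, ?_⟩
    · rw [Submodule.mem_one]
      exact ⟨algebraMap k (locSub (Acoord k r) P) c, rfl⟩
    · show algebraMap k K c + t * ((z - algebraMap k K c) / t) = z
      field_simp
      ring
  have hle := Submodule.le_of_le_smul_of_le_jacobson_bot hFG hIjac hNN
  intro z hz
  have h1 := hle (show z ∈ valMod (locSub (Acoord k r) P) P hRP from hz)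
  rw [Submodule.mem_one] at h1
  obtain ⟨ρ, hρ⟩ := h1
  rw [← hρ]
  exact ρ.2

end Main

section Bridge

variable {ι : Type*} [Fintype ι]

/-- The local ring of the projective map `φ` at `P` computed with a fixed entry of least order. -/
theorem inLocRing_iff (φ : ι → K) (P : Place k K) (j : ι) (hj0 : φ j ≠ 0)
    (hj : ∀ i, P.1 (φ i) ≤ P.1 (φ j)) (z : K) :
    InLocRing φ P z ↔ z ∈ locSub (Acoord k (fun i => φ i / φ j)) P := by
  constructor
  · rintro ⟨j', hj'0, hj', u', hu', w', hw', hPw', hzw'⟩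
    obtain ⟨s, hs⟩ : ∃ s : K, s = φ j' / φ j := ⟨_, rfl⟩
    have hsA : s ∈ Acoord k (fun i => φ i / φ j) := hs ▸ Algebra.subset_adjoin ⟨j', rfl⟩
    have hPs : P.1 s = 1 := by
      rw [hs, map_div₀, le_antisymm (hj j') (hj' j)]
      exact div_self ((Valuation.ne_zero_iff _).mpr hj0)
    have key : ∀ a ∈ Acoord k (fun i => φ i / φ j'), ∃ m : ℕ, ∀ m' ≥ m,
        s ^ m' * a ∈ Acoord k (fun i => φ i / φ j) := by
      intro a ha
      induction ha using Algebra.adjoin_induction with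
      | mem y hy =>
        obtain ⟨i, rfl⟩ := hy
        refine ⟨1, fun m' hm' => ?_⟩
        obtain ⟨m'', rfl⟩ : ∃ m'', m' = m'' + 1 := ⟨m' - 1, by omega⟩
        have e : s ^ (m'' + 1) * (φ i / φ j') = s ^ m'' * (φ i / φ j) := by
          rw [pow_succ, mul_assoc]
          congr 1
          rw [hs]
          field_simp
        show s ^ (m'' + 1) * (φ i / φ j') ∈ Acoord k (fun i => φ i / φ j)
        rw [e]
        exact Subalgebra.mul_mem _ (Subalgebra.pow_mem _ hsA _)
          (Algebra.subset_adjoin ⟨i, rfl⟩)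
      | algebraMap c =>
        exact ⟨0, fun m' _ => Subalgebra.mul_mem _ (Subalgebra.pow_mem _ hsA _)
          (Subalgebra.algebraMap_mem _ c)⟩
      | add y z _ _ hy hz =>
        obtain ⟨m₁, h₁⟩ := hy
        obtain ⟨m₂, h₂⟩ := hz
        refine ⟨max m₁ m₂, fun m' hm' => ?_⟩
        rw [mul_add]
        exact Subalgebra.add_mem _ (h₁ m' (le_trans (le_max_left _ _) hm'))
          (h₂ m' (le_trans (le_max_right _ _) hm'))
      | mul y z _ _ hy hz =>
        obtain ⟨m₁, h₁⟩ := hy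
        obtain ⟨m₂, h₂⟩ := hz
        refine ⟨m₁ + m₂, fun m' hm' => ?_⟩
        obtain ⟨d, rfl⟩ : ∃ d, m' = m₁ + d := ⟨m' - m₁, by omega⟩
        have e : s ^ (m₁ + d) * (y * z) = (s ^ m₁ * y) * (s ^ d * z) := by
          rw [pow_add]
          ring
        rw [e]
        exact Subalgebra.mul_mem _ (h₁ m₁ le_rfl) (h₂ d (by omega))
    obtain ⟨mu, hmu⟩ := key u' hu'
    obtain ⟨mw, hmw⟩ := key w' hw'
    exact ⟨s ^ (max mu mw) * u', hmu _ (le_max_left _ _), s ^ (max mu mw) * w',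
      hmw _ (le_max_right _ _), by rw [map_mul, map_pow, hPs, one_pow, one_mul, hPw'],
      by rw [← hzw']; ring⟩
  · rintro ⟨u, hu, w, hw, hPw, h⟩
    exact ⟨j, hj0, hj, u, hu, w, hw, hPw, h⟩

/-- Nonsingularity criterion for a birational projective map. -/
theorem isNonsingularAt_of_sep_of_unif [IsAlgClosed k] (hK : FunFld.IsFunctionField k K)
    (φ : ι → K) (j₀ : ι) (hφ0 : ∀ i, φ i ≠ 0)
    (hbir : IntermediateField.adjoin k (Set.range fun i => φ i / φ j₀) = ⊤) (P : Place k K)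
    (j : ι) (hj : ∀ i, P.1 (φ i) ≤ P.1 (φ j))
    (hsep : ∀ Q : Place k K, Q ≠ P → IsFin (fun i => φ i / φ j) Q →
      ∃ w ∈ Acoord k (fun i => φ i / φ j), P.1 w = 1 ∧ Q.1 w < 1)
    (hunif : ∃ t ∈ Acoord k (fun i => φ i / φ j), P.1 t = exp (-1 : ℤ)) :
    IsNonsingularAt φ P := by
  have hj0 := hφ0 j
  have hgen : IntermediateField.adjoin k (Set.range fun i => φ i / φ j) = ⊤ := by
    rw [eq_top_iff, ← hbir, IntermediateField.adjoin_le_iff]
    rintro _ ⟨i, rfl⟩
    have e : φ i / φ j₀ = (φ i / φ j) / (φ j₀ / φ j) := by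
      have := hφ0 j₀
      field_simp
    show φ i / φ j₀ ∈ IntermediateField.adjoin k (Set.range fun i => φ i / φ j)
    rw [e]
    exact div_mem (IntermediateField.subset_adjoin _ _ ⟨i, rfl⟩)
      (IntermediateField.subset_adjoin _ _ ⟨j₀, rfl⟩)
  have hP : IsFin (fun i => φ i / φ j) P := fun i => by
    show P.1 (φ i / φ j) ≤ 1
    rw [map_div₀]
    exact div_le_one_of_le₀ (hj i) zero_le'
  intro z hz
  rw [inLocRing_iff φ P j hj0 hj]
  exact locSub_eq_valuationRing hK (fun i => φ i / φ j) j (div_self hj0) hgen P hP hsep hunif z hz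

end Bridge

end Groth.Agent.H55
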