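import Groth.Agent.H55.FFCons2

/-!
Projective maps of a function field: constants modulo the maximal ideal of a place, and the local
ring of a projective map at a place.
-/

namespace Groth.Agent.H55

open FunFld WithZero

variable {k K : Type*} [Field k] [Field K] [Algebra k K]

section Basic

variable (V : Place k K)

theorem val_le_one_of_sub_const {u : K} {d : k} (h : V.1 (u - algebraMap k K d) ≤ 1) :
    V.1 u ≤ 1 := by
  have : u = (u - algebraMap k K d) + algebraMap k K d := by ring
  rw [this]
  exact V.1.map_add_le h (V.2.1 d)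

theorem val_eq_one_of_sub_const {u : K} {d : k} (h : V.1 (u - algebraMap k K d) < 1)
    (hd : d ≠ 0) : V.1 u = 1 := by
  have h1 : V.1 (algebraMap k K d) = 1 := pl_val_const V hd
  have : u = (u - algebraMap k K d) + algebraMap k K d := by ring
  rw [this, V.1.map_add_eq_of_lt_right (by rw [h1]; exact h), h1]

theorem val_lt_one_iff_const_eq_zero {u : K} {d : k} (h : V.1 (u - algebraMap k K d) < 1) :
    V.1 u < 1 ↔ d = 0 := by
  constructor
  · intro hu
    by_contra hd
    rw [val_eq_one_of_sub_const V h hd] at hu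
    exact lt_irrefl _ hu
  · rintro rfl
    simpa using h

theorem val_div_sub_lt_one {a b : K} {α β : k} (ha : V.1 (a - algebraMap k K α) < 1)
    (hb : V.1 (b - algebraMap k K β) < 1) (hβ : β ≠ 0) :
    V.1 (a / b - algebraMap k K (α / β)) < 1 := by
  have hβ' : algebraMap k K β ≠ 0 := (map_ne_zero _).mpr hβ
  have hVβ : V.1 (algebraMap k K β) = 1 := pl_val_const V hβ
  have hVb : V.1 b = 1 := val_eq_one_of_sub_const V hb hβ
  have hb0 : b ≠ 0 := by
    rintro rfl
    rw [map_zero] at hVb
    exact zero_ne_one hVb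
  have e : a / b - algebraMap k K (α / β) =
      ((a - algebraMap k K α) * algebraMap k K β - algebraMap k K α * (b - algebraMap k K β)) /
        (b * algebraMap k K β) := by
    rw [map_div₀]
    field_simp
    ring
  rw [e, map_div₀, map_mul, hVb, hVβ, mul_one, div_one]
  refine V.1.map_sub_lt ?_ ?_
  · rw [map_mul, hVβ, mul_one]
    exact ha
  · rw [map_mul]
    calc V.1 (algebraMap k K α) * V.1 (b - algebraMap k K β)
        ≤ 1 * V.1 (b - algebraMap k K β) := mul_le_mul' (V.2.1 α) le_rfl
      _ = V.1 (b - algebraMap k K β) := one_mul _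
      _ < 1 := hb

end Basic

/-- Elements of the `k`-algebra generated by functions that are constant modulo a power of the
maximal ideal (at each of a family of places) are again constant modulo that power. -/
theorem adjoin_const_mod {ι κ : Type*} (Ps : κ → Place k K) (n : κ → ℕ) (r : ι → K) (c : ι → k)
    (h : ∀ i j, (Ps j).1 (r i - algebraMap k K (c i)) ≤ exp (-(n j : ℤ))) {u : K}
    (hu : u ∈ Algebra.adjoin k (Set.range r)) :
    ∃ d : k, ∀ j, (Ps j).1 (u - algebraMap k K d) ≤ exp (-(n j : ℤ)) := by
  induction hu using Algebra.adjoin_induction with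
  | mem x hx =>
    obtain ⟨i, rfl⟩ := hx
    exact ⟨c i, h i⟩
  | algebraMap a =>
    exact ⟨a, fun j => by simp⟩
  | add x y _ _ hx hy =>
    obtain ⟨d, hd⟩ := hx
    obtain ⟨e, he⟩ := hy
    refine ⟨d + e, fun j => ?_⟩
    have : x + y - algebraMap k K (d + e) =
        (x - algebraMap k K d) + (y - algebraMap k K e) := by
      rw [map_add]; ring
    rw [this]
    exact (Ps j).1.map_add_le (hd j) (he j)
  | mul x y _ _ hx hy =>
    obtain ⟨d, hd⟩ := hx
    obtain ⟨e, he⟩ := hy
    refine ⟨d * e, fun j => ?_⟩
    have : x * y - algebraMap k K (d * e) =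
        (x - algebraMap k K d) * y + algebraMap k K d * (y - algebraMap k K e) := by
      rw [map_mul]; ring
    rw [this]
    have hexp : exp (-(n j : ℤ)) ≤ (1 : WithZero (Multiplicative ℤ)) := by
      have : exp (-(n j : ℤ)) ≤ exp (0 : ℤ) := exp_le_exp.mpr (by omega)
      simpa using this
    have hy1 : (Ps j).1 y ≤ 1 := val_le_one_of_sub_const _ ((he j).trans hexp)
    refine (Ps j).1.map_add_le ?_ ?_
    · rw [map_mul]
      calc (Ps j).1 (x - algebraMap k K d) * (Ps j).1 y
          ≤ exp (-(n j : ℤ)) * 1 := mul_le_mul' (hd j) hy1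
        _ = exp (-(n j : ℤ)) := mul_one _
    · rw [map_mul]
      calc (Ps j).1 (algebraMap k K d) * (Ps j).1 (y - algebraMap k K e)
          ≤ 1 * exp (-(n j : ℤ)) := mul_le_mul' ((Ps j).2.1 d) (he j)
        _ = exp (-(n j : ℤ)) := one_mul _

theorem adjoin_const_two {ι : Type*} (P Q : Place k K) (r : ι → K) (c : ι → k)
    (hP : ∀ i, P.1 (r i - algebraMap k K (c i)) < 1)
    (hQ : ∀ i, Q.1 (r i - algebraMap k K (c i)) < 1)
    {u : K} (hu : u ∈ Algebra.adjoin k (Set.range r)) :
    ∃ d : k, P.1 (u - algebraMap k K d) < 1 ∧ Q.1 (u - algebraMap k K d) < 1 := by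
  obtain ⟨d, hd⟩ := adjoin_const_mod (fun b : Bool => if b then P else Q) (fun _ => 1) r c
    (fun i b => by
      cases b
      · simpa using (zm0_lt_one_iff _).mp (hQ i)
      · simpa using (zm0_lt_one_iff _).mp (hP i)) hu
  refine ⟨d, ?_, ?_⟩
  · have := hd true
    simp only [if_true] at this
    exact (zm0_lt_one_iff _).mpr (by simpa using this)
  · have := hd false
    simp only [Bool.false_eq_true, if_false] at this
    exact (zm0_lt_one_iff _).mpr (by simpa using this)

/-- Over an algebraically closed constant field every integral element is congruent to a constant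
modulo the maximal ideal. -/
theorem exists_const_sub_lt_one [IsAlgClosed k] (hK : FunFld.IsFunctionField k K) (P : Place k K)
    {z : K} (hz : P.1 z ≤ 1) : ∃ c : k, P.1 (z - algebraMap k K c) < 1 := by
  have h1 : @Module.Finite k (IsLocalRing.ResidueField P.O) _ _ (Place.algRes P).toModule :=
    residue_finiteDimensional hK P
  have hint : @Algebra.IsIntegral k (IsLocalRing.ResidueField P.O) _ _ (Place.algRes P) :=
    @Algebra.IsIntegral.of_finite k (IsLocalRing.ResidueField P.O) _ _ (Place.algRes P) h1
  have hbij := @IsAlgClosed.algebraMap_bijective_of_isIntegral k (IsLocalRing.ResidueField P.O)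
    _ _ _ _ (Place.algRes P) hint
  let zO : P.O := ⟨z, (Valuation.mem_valuationSubring_iff P.1 z).mpr hz⟩
  obtain ⟨c, hc⟩ := hbij.2 (IsLocalRing.residue P.O zO)
  refine ⟨c, ?_⟩
  have h2 : IsLocalRing.residue P.O (zO - algebraMap k P.O c) = 0 := by
    rw [map_sub, ← hc]
    exact sub_self _
  rw [IsLocalRing.residue_eq_zero_iff, mem_maximalIdeal_iff] at h2
  exact h2

theorem aeval_mul_of_isHomogeneous {σ : Type*} [Fintype σ] {g : MvPolynomial σ k} {d : ℕ}
    (hg : g.IsHomogeneous d) (a : K) (x : σ → K) :
    MvPolynomial.aeval (fun i => a * x i) g = a ^ d * MvPolynomial.aeval x g := by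
  classical
  rw [MvPolynomial.aeval_def, MvPolynomial.aeval_def, MvPolynomial.eval₂_eq',
    MvPolynomial.eval₂_eq', Finset.mul_sum]
  refine Finset.sum_congr rfl fun m hm => ?_
  have hdeg : ∑ i, m i = d := by
    have h : Finsupp.weight 1 m = d := hg (MvPolynomial.mem_support_iff.mp hm)
    rw [Finsupp.weight_apply, Finsupp.sum_fintype _ _ (by simp)] at h
    simpa using h
  simp only [mul_pow, Finset.prod_mul_distrib, Finset.prod_pow_eq_pow_sum, hdeg]
  ring

end Groth.Agent.H55
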