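import Groth.Agent.H55.FFCons
import Mathlib

/-!
Genus one classes, strong approximation, Weierstrass gaps (over algebraically closed constants).
-/

set_option autoImplicit false

namespace Groth.Agent.H55

open FunFld WithZero Polynomial IntermediateField

variable {k K : Type*} [Field k] [Field K] [Algebra k K]

section GenusOne

theorem genus_one_class (hK : FunFld.IsFunctionField k K) (hg : genus k K = 1) (P₀ : Place k K)
    (hP : P₀.deg = 1) (D : Divisor k K) (hD : D.deg = 0) :
    ∃! P : Place k K, P.deg = 1 ∧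
      ∃ x : K, x ≠ 0 ∧ D = Finsupp.single P 1 - Finsupp.single P₀ 1 + FunFld.div k x := by
  set E : Divisor k K := D + Finsupp.single P₀ 1 with hE
  have hEdeg : E.deg = 1 := by rw [hE, deg_add, deg_single, hD, hP]; norm_num
  have h1 := ell_eq_of_deg_ge hK E (by rw [hEdeg, hg]; norm_num)
  rw [hEdeg, hg] at h1
  have hpos : 0 < ell E := by
    have : (ell E : ℤ) = 1 := by rw [h1]; norm_num
    omega
  obtain ⟨z, hz0, hz⟩ := exists_ne_zero_of_ell_pos E hpos
  have h2 := nonneg_of_mem_L hK E hz0 hz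
  obtain ⟨P, hPdeg, hPeq⟩ := eq_single_of_nonneg_of_deg_eq_one hK h2
    (by rw [deg_add, deg_div hK, hEdeg]; norm_num)
  refine ⟨P, ⟨hPdeg, z⁻¹, inv_ne_zero hz0, ?_⟩, ?_⟩
  · rw [div_inv hK, ← hPeq, hE]; abel
  · rintro P' ⟨hP'deg, x', hx'0, hx'⟩
    have h3 : (Finsupp.single P' 1 - Finsupp.single P 1 : Divisor k K)
        = FunFld.div k (x'⁻¹ * z⁻¹) := by
      rw [div_mul hK (inv_ne_zero hx'0) (inv_ne_zero hz0), div_inv hK, div_inv hK]
      have h4 : D = Finsupp.single P 1 - Finsupp.single P₀ 1 + -FunFld.div k z := by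
        rw [← hPeq, hE]; abel
      have h5 : Finsupp.single P' 1 - Finsupp.single P₀ 1 + FunFld.div k x'
          = Finsupp.single P 1 - Finsupp.single P₀ 1 + -FunFld.div k z := by rw [← hx', h4]
      have h6 : (Finsupp.single P' 1 - Finsupp.single P 1 : Divisor k K)
          = (Finsupp.single P' 1 - Finsupp.single P₀ 1 + FunFld.div k x')
            - (Finsupp.single P 1 - Finsupp.single P₀ 1 + -FunFld.div k z)
            + (-FunFld.div k x' + -FunFld.div k z) := by abel
      rw [h6, h5]; abel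
    exact eq_of_single_sub_single_eq_div hK (by omega) hPdeg h3

end GenusOne

section StrongApprox

theorem strong_approx_le (hK : FunFld.IsFunctionField k K) (Pinf : Place k K)
    (S : Finset (Place k K)) (hinf : Pinf ∉ S) (x : Place k K → K) (m : Place k K → ℤ) :
    ∃ z : K, (∀ P ∈ S, P.1 (z - x P) ≤ exp (m P)) ∧
      ∀ Q : Place k K, Q ≠ Pinf → Q ∉ S → Q.1 z ≤ 1 := by
  classical
  obtain ⟨N₁, hN₁⟩ := adele_eq hK
  let D₀ : Divisor k K := Finsupp.onFinset S (fun Q => if Q ∈ S then m Q else 0)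
    (fun Q hQ => by
      by_contra h
      simp only [if_neg h, ne_eq, not_true_eq_false] at hQ)
  have hD₀ : ∀ Q, D₀ Q = if Q ∈ S then m Q else 0 := fun Q => rfl
  set N : ℕ := (N₁ - D₀.deg).toNat with hN
  set D : Divisor k K := D₀ + Finsupp.single Pinf (N : ℤ) with hD
  have hdeg : N₁ ≤ D.deg := by
    rw [hD, deg_add, deg_single]
    have h1 : (1 : ℤ) ≤ Pinf.deg := by exact_mod_cast deg_pos hK Pinf
    have h2 := Int.self_le_toNat (N₁ - D₀.deg)
    have : (N : ℤ) ≤ N * Pinf.deg := by nlinarith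
    omega
  have hDS : ∀ P ∈ S, D P = m P := by
    intro P hP
    have hne : Pinf ≠ P := fun h => hinf (h ▸ hP)
    rw [hD, Finsupp.add_apply, hD₀, if_pos hP, Finsupp.single_apply, if_neg hne, add_zero]
  have hDQ : ∀ Q, Q ≠ Pinf → Q ∉ S → D Q = 0 := by
    intro Q hQ hQS
    rw [hD, Finsupp.add_apply, hD₀, if_neg hQS, Finsupp.single_apply, if_neg (Ne.symm hQ), add_zero]
  let α : Place k K → K := fun P => if P ∈ S then x P else 0
  have hα : α ∈ adele k K := by
    rw [mem_adele]
    refine S.finite_toSet.subset ?_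
    intro P hP
    by_contra hPS
    apply hP
    simp only [α]
    rw [if_neg (by simpa using hPS)]
    simp
  rw [hN₁ D hdeg] at hα
  obtain ⟨a, ha, y, ⟨z, rfl⟩, hsum⟩ := Submodule.mem_sup.mp hα
  refine ⟨z, ?_, ?_⟩
  · intro P hP
    have h1 := congrFun hsum P
    simp only [Pi.add_apply, α, if_pos hP] at h1
    have h2 : z - x P = -(a P) := by
      rw [← h1]; change z - (a P + z) = _; ring
    rw [h2, Valuation.map_neg, ← hDS P hP]
    exact ha P
  · intro Q hQ hQS
    have h1 := congrFun hsum Q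
    simp only [Pi.add_apply, α, if_neg hQS] at h1
    have h2 : z = -(a Q) := by
      have : a Q + z = 0 := h1
      linear_combination this
    rw [h2, Valuation.map_neg]
    have := ha Q
    rwa [hDQ Q hQ hQS, exp_zero] at this

/-- Strong approximation. -/
theorem strong_approx (hK : FunFld.IsFunctionField k K) (Pinf : Place k K)
    (S : Finset (Place k K)) (hinf : Pinf ∉ S) (x : Place k K → K) (m : Place k K → ℤ) :
    ∃ y : K, (∀ P ∈ S, P.1 (y - x P) = exp (m P)) ∧
      ∀ Q : Place k K, Q ≠ Pinf → Q ∉ S → Q.1 y ≤ 1 := by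
  obtain ⟨z, hz1, hz2⟩ := strong_approx_le hK Pinf S hinf x (fun P => m P - 1)
  have ht : ∀ P : Place k K, ∃ t : K, P.1 t = exp (m P) :=
    fun P => (pl_exists_val_eq_exp P (m P)).imp fun _ h => h.2
  choose t ht using ht
  obtain ⟨z', hz'1, hz'2⟩ := strong_approx_le hK Pinf S hinf t (fun P => m P - 1)
  have hlt : ∀ P : Place k K, (exp (m P - 1) : WithZero (Multiplicative ℤ)) < exp (m P) := by
    intro P; rw [exp_lt_exp]; omega
  refine ⟨z + z', ?_, ?_⟩
  · intro P hP
    have h1 : P.1 z' = exp (m P) := by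
      have : z' = (z' - t P) + t P := by ring
      rw [this, Valuation.map_add_eq_of_lt_right, ht]
      rw [ht]; exact lt_of_le_of_lt (hz'1 P hP) (hlt P)
    have : z + z' - x P = (z - x P) + z' := by ring
    rw [this, Valuation.map_add_eq_of_lt_right, h1]
    rw [h1]; exact lt_of_le_of_lt (hz1 P hP) (hlt P)
  · intro Q hQ hQS
    exact (Q.1.map_add _ _).trans (max_le (hz2 Q hQ hQS) (hz'2 Q hQ hQS))

end StrongApprox

section AlgClosed

theorem deg_eq_one_of_isAlgClosed [IsAlgClosed k] (hK : FunFld.IsFunctionField k K)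
    (P : Place k K) : P.deg = 1 := by
  have h1 : @Module.Finite k (IsLocalRing.ResidueField P.O) _ _ (Place.algRes P).toModule :=
    residue_finiteDimensional hK P
  have hint : @Algebra.IsIntegral k (IsLocalRing.ResidueField P.O) _ _ (Place.algRes P) :=
    @Algebra.IsIntegral.of_finite k (IsLocalRing.ResidueField P.O) _ _ (Place.algRes P) h1
  have hbij := @IsAlgClosed.algebraMap_bijective_of_isIntegral k (IsLocalRing.ResidueField P.O)
    _ _ _ _ (Place.algRes P) hint
  let e : k ≃ₗ[k] IsLocalRing.ResidueField P.O :=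
    LinearEquiv.ofBijective (Algebra.linearMap k _) hbij
  have h : Module.finrank k (IsLocalRing.ResidueField P.O) = 1 := by
    rw [← e.finrank_eq, Module.finrank_self]
  exact h

end AlgClosed

section Gaps

variable (P : Place k K)

theorem single_mono {a b : ℤ} (h : a ≤ b) :
    (Finsupp.single P a : Divisor k K) ≤ Finsupp.single P b := by
  classical
  intro Q
  by_cases hQ : Q = P
  · subst hQ; simpa using h
  · rw [Finsupp.single_apply, Finsupp.single_apply, if_neg (Ne.symm hQ), if_neg (Ne.symm hQ)]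

theorem mem_L_single_iff {a : ℤ} {f : K} (hf : f ≠ 0) :
    f ∈ L (Finsupp.single P a : Divisor k K) ↔
      (-a ≤ P.ord f ∧ ∀ Q : Place k K, Q ≠ P → 0 ≤ Q.ord f) := by
  classical
  constructor
  · intro h
    refine ⟨?_, fun Q hQ => ?_⟩
    · have := h P
      rwa [pl_val_le_exp_iff P hf, Finsupp.single_eq_same] at this
    · have := h Q
      rw [pl_val_le_exp_iff Q hf, Finsupp.single_apply, if_neg (Ne.symm hQ)] at this
      omega
  · rintro ⟨h1, h2⟩ Q
    rw [pl_val_le_exp_iff Q hf]
    by_cases hQ : Q = P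
    · subst hQ; rwa [Finsupp.single_eq_same]
    · rw [Finsupp.single_apply, if_neg (Ne.symm hQ)]
      have := h2 Q hQ
      omega

/-- `m` is a gap at `P`. -/
def IsGap (m : ℤ) : Prop :=
  L (Finsupp.single P m : Divisor k K) = L (Finsupp.single P (m - 1) : Divisor k K)

theorem exists_of_not_isGap {m : ℤ} (h : ¬ IsGap P m) :
    ∃ f : K, f ≠ 0 ∧ P.ord f = -m ∧ ∀ Q : Place k K, Q ≠ P → 0 ≤ Q.ord f := by
  have hlt : L (Finsupp.single P (m - 1) : Divisor k K) < L (Finsupp.single P m : Divisor k K) :=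
    lt_of_le_of_ne (L_mono (single_mono P (by omega))) (fun e => h e.symm)
  obtain ⟨f, hf, hfn⟩ := SetLike.exists_of_lt hlt
  have hf0 : f ≠ 0 := by
    rintro rfl; exact hfn (Submodule.zero_mem _)
  rw [mem_L_single_iff P hf0] at hf hfn
  refine ⟨f, hf0, ?_, hf.2⟩
  by_contra hne
  apply hfn
  exact ⟨by omega, hf.2⟩

theorem not_isGap_of_exists {m : ℤ} {f : K} (hf0 : f ≠ 0) (hP : P.ord f = -m)
    (hQ : ∀ Q : Place k K, Q ≠ P → 0 ≤ Q.ord f) : ¬ IsGap P m := by
  intro h
  have h1 : f ∈ L (Finsupp.single P m : Divisor k K) :=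
    (mem_L_single_iff P hf0).mpr ⟨by omega, hQ⟩
  rw [h, mem_L_single_iff P hf0] at h1
  omega

theorem not_isGap_add {a b : ℤ} (ha : ¬ IsGap P a) (hb : ¬ IsGap P b) : ¬ IsGap P (a + b) := by
  obtain ⟨f, hf0, hfP, hfQ⟩ := exists_of_not_isGap P ha
  obtain ⟨g, hg0, hgP, hgQ⟩ := exists_of_not_isGap P hb
  refine not_isGap_of_exists P (mul_ne_zero hf0 hg0) ?_ ?_
  · rw [pl_ord_mul P hf0 hg0, hfP, hgP]; ring
  · intro Q hQ
    rw [pl_ord_mul Q hf0 hg0]
    have := hfQ Q hQ
    have := hgQ Q hQ
    omega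

open scoped Classical in
theorem ell_single_step (hK : FunFld.IsFunctionField k K) (hP : P.deg = 1) (m : ℤ) :
    ell (Finsupp.single P m : Divisor k K) =
      ell (Finsupp.single P (m - 1) : Divisor k K) + (if IsGap P m then 0 else 1) := by
  have hle := single_mono (k := k) (K := K) P (show m - 1 ≤ m by omega)
  have h1 := ell_sub_le hK hle
  rw [deg_single, deg_single, hP] at h1
  have h2 := ell_mono hK hle
  by_cases hg : IsGap P m
  · rw [if_pos hg, add_zero]
    unfold ell
    rw [hg]
  · rw [if_neg hg]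
    have hlt : L (Finsupp.single P (m - 1) : Divisor k K) <
        L (Finsupp.single P m : Divisor k K) :=
      lt_of_le_of_ne (L_mono hle) (fun e => hg e.symm)
    haveI := L_finite hK (Finsupp.single P m : Divisor k K)
    have h3 := Submodule.finrank_lt_finrank_of_lt hlt
    unfold ell at h1 h2 ⊢
    push_cast at h1
    omega

open scoped Classical in
/-- `ℓ(nP) = 1 + #nongaps in [1, n]`. -/
theorem ell_single_eq_card (hK : FunFld.IsFunctionField k K) (hP : P.deg = 1) (n : ℕ) :
    ell (Finsupp.single P (n : ℤ) : Divisor k K) =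
      1 + ((Finset.Icc 1 n).filter (fun m : ℕ => ¬ IsGap P (m : ℤ))).card := by
  induction n with
  | zero =>
    simp only [Nat.cast_zero, Finsupp.single_zero]
    rw [show ell (0 : Divisor k K) = 1 from (L_zero_finite hK).2]
    simp
  | succ n ih =>
    have hstep := ell_single_step P hK hP ((n + 1 : ℕ) : ℤ)
    have e : ((n + 1 : ℕ) : ℤ) - 1 = (n : ℤ) := by push_cast; ring
    rw [e, ih] at hstep
    rw [hstep, ← Finset.insert_Icc_right_eq_Icc_add_one (by omega : 1 ≤ n + 1)]
    rw [Finset.filter_insert]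
    by_cases hg : IsGap P ((n + 1 : ℕ) : ℤ)
    · rw [if_pos hg, if_neg (not_not.mpr hg), add_zero]
    · rw [if_neg hg, if_pos hg, Finset.card_insert_of_notMem]
      · ring
      · intro h
        have := (Finset.mem_filter.mp h).1
        rw [Finset.mem_Icc] at this
        omega

open scoped Classical in
/-- If `n ≥ 1` is a gap then at least half of `[1, n-1]` are gaps. -/
theorem gap_count (n : ℕ) (hgap : IsGap P (n : ℤ)) :
    n - 1 ≤ 2 * ((Finset.Ico 1 n).filter (fun m : ℕ => IsGap P (m : ℤ))).card := by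
  set Gf := (Finset.Ico 1 n).filter (fun m : ℕ => IsGap P (m : ℤ)) with hGf
  set Hf := (Finset.Ico 1 n).filter (fun m : ℕ => ¬ IsGap P (m : ℤ)) with hHf
  have hsum : Gf.card + Hf.card = n - 1 := by
    rw [hGf, hHf, Finset.card_filter_add_card_filter_not]
    simp
  have hle : Hf.card ≤ Gf.card := by
    apply Finset.card_le_card_of_injOn (fun m => n - m)
    · intro m hm
      rw [hHf, Finset.coe_filter] at hm
      obtain ⟨hm1, hm2⟩ := hm
      rw [Finset.mem_Ico] at hm1
      rw [hGf, Finset.coe_filter]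
      refine ⟨Finset.mem_Ico.mpr ⟨?_, ?_⟩, ?_⟩
      · change 1 ≤ n - m; omega
      · change n - m < n; omega
      change IsGap P ((n - m : ℕ) : ℤ)
      by_contra hcon
      have := not_isGap_add P hm2 hcon
      apply this
      have e : (m : ℤ) + ((n - m : ℕ) : ℤ) = (n : ℤ) := by
        rw [Nat.cast_sub hm1.2.le]; ring
      rw [e]; exact hgap
    · intro a ha b hb hab
      rw [hHf, Finset.coe_filter] at ha hb
      have ha1 := Finset.mem_Ico.mp ha.1
      have hb1 := Finset.mem_Ico.mp hb.1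
      simp only at hab
      omega
  omega

end Gaps

end Groth.Agent.H55
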