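import Groth.Agent.H55.FFWeil
import Mathlib

/-!
`dim_K W_K = 1`, duality `L(C - D) ≃ W(D)`, the Riemann–Roch theorem and first consequences.
-/

set_option autoImplicit false

namespace Groth.Agent.H55

open FunFld WithZero Polynomial IntermediateField

variable {k K : Type*} [Field k] [Field K] [Algebra k K]

theorem mulWL_injective (hK : FunFld.IsFunctionField k K) {ω : Module.Dual k (adele k K)}
    (hω : ω ≠ 0) : Function.Injective (mulWL hK ω) := by
  rw [← LinearMap.ker_eq_bot, LinearMap.ker_eq_bot']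
  intro x hx
  exact (mulW_eq_zero_iff hK (smul_mem_adele hK x) hω).mp hx

theorem mulWL_mem_WD (hK : FunFld.IsFunctionField k K) {ω : Module.Dual k (adele k K)}
    {A : Divisor k K} (hω : ω ∈ WD A) (B : Divisor k K) {x : K} (hx : x ∈ L (A + B)) :
    mulWL hK ω x ∈ WD (-B) := by
  by_cases hx0 : x = 0
  · subst hx0; rw [map_zero]; exact Submodule.zero_mem _
  · change mulW x (smul_mem_adele hK x) ω ∈ _
    rw [mulW_mem_WD_iff hK hx0]
    refine WD_anti ?_ hω
    have := nonneg_of_mem_L hK _ hx0 hx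
    have h2 : A + B + FunFld.div k x = A - (-B - FunFld.div k x) := by abel
    rw [h2] at this
    exact sub_nonneg.mp this

theorem finrank_WD_neg (hK : FunFld.IsFunctionField k K) (B : Divisor k K) (hB : 0 < B.deg) :
    (Module.finrank k (WD (-B)) : ℤ) = (genus k K : ℤ) + B.deg - 1 := by
  rw [(finrank_WD hK (-B)).2]
  unfold delta
  rw [ell_eq_zero_of_deg_neg hK (-B) (by rw [deg_neg]; omega), deg_neg]
  push_cast
  ring

/-- `dim_K W_K = 1`. -/
theorem exists_mulWL_eq (hK : FunFld.IsFunctionField k K) (ω₁ ω₂ : Module.Dual k (adele k K))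
    (h₁ : IsWeil ω₁) (h0 : ω₁ ≠ 0) (h₂ : IsWeil ω₂) : ∃ x : K, mulWL hK ω₁ x = ω₂ := by
  classical
  by_cases hω₂ : ω₂ = 0
  · exact ⟨0, by rw [map_zero, hω₂]⟩
  obtain ⟨A₁, hA₁⟩ := h₁
  obtain ⟨A₂, hA₂⟩ := h₂
  obtain ⟨P₀⟩ := exists_place hK
  set g : ℤ := (genus k K : ℤ) with hg
  set m : ℕ := (3 * g - 3 - A₁.deg - A₂.deg).toNat + 1 with hm
  set B : Divisor k K := Finsupp.single P₀ (m : ℤ) with hB
  have hP₀ : (1 : ℤ) ≤ P₀.deg := by exact_mod_cast deg_pos hK P₀
  have hBdeg : B.deg = m * P₀.deg := deg_single P₀ m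
  have hm1 : (1 : ℤ) ≤ m := by rw [hm]; push_cast; omega
  have hmB : (m : ℤ) ≤ B.deg := by rw [hBdeg]; nlinarith
  have hBpos : 0 < B.deg := by omega
  have hBbig : 3 * g - 3 - A₁.deg - A₂.deg < B.deg := by
    have := Int.self_le_toNat (3 * g - 3 - A₁.deg - A₂.deg)
    have h2 : (m : ℤ) = (3 * g - 3 - A₁.deg - A₂.deg).toNat + 1 := by rw [hm]; push_cast; ring
    omega
  set U₁ : Submodule k (Module.Dual k (adele k K)) := (L (A₁ + B)).map (mulWL hK ω₁) with hU₁
  set U₂ : Submodule k (Module.Dual k (adele k K)) := (L (A₂ + B)).map (mulWL hK ω₂) with hU₂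
  have hU₁le : U₁ ≤ WD (-B) := by
    rintro _ ⟨x, hx, rfl⟩
    exact mulWL_mem_WD hK hA₁ B hx
  have hU₂le : U₂ ≤ WD (-B) := by
    rintro _ ⟨x, hx, rfl⟩
    exact mulWL_mem_WD hK hA₂ B hx
  haveI := (finrank_WD hK (-B)).1
  haveI : FiniteDimensional k U₁ := Submodule.finiteDimensional_of_le hU₁le
  haveI : FiniteDimensional k U₂ := Submodule.finiteDimensional_of_le hU₂le
  have hf₁ : Module.finrank k U₁ = ell (A₁ + B) :=
    (Submodule.equivMapOfInjective _ (mulWL_injective hK h0) _).finrank_eq.symm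
  have hf₂ : Module.finrank k U₂ = ell (A₂ + B) :=
    (Submodule.equivMapOfInjective _ (mulWL_injective hK hω₂) _).finrank_eq.symm
  have hd₁ := delta_le_genus hK (A₁ + B)
  have hd₂ := delta_le_genus hK (A₂ + B)
  unfold delta at hd₁ hd₂
  rw [deg_add] at hd₁ hd₂
  have hsum := Submodule.finrank_sup_add_finrank_inf_eq U₁ U₂
  have hsuple : Module.finrank k ↥(U₁ ⊔ U₂) ≤ Module.finrank k (WD (-B)) :=
    Submodule.finrank_mono (sup_le hU₁le hU₂le)
  have hW := finrank_WD_neg hK B hBpos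
  have hpos : 0 < Module.finrank k ↥(U₁ ⊓ U₂) := by
    have e1 : (Module.finrank k ↥(U₁ ⊔ U₂) : ℤ) + Module.finrank k ↥(U₁ ⊓ U₂)
        = ell (A₁ + B) + ell (A₂ + B) := by
      rw [← hf₁, ← hf₂]; exact_mod_cast hsum
    have e2 : (Module.finrank k ↥(U₁ ⊔ U₂) : ℤ) ≤ Module.finrank k (WD (-B)) := by
      exact_mod_cast hsuple
    have : (0 : ℤ) < Module.finrank k ↥(U₁ ⊓ U₂) := by omega
    exact_mod_cast this
  have hne : U₁ ⊓ U₂ ≠ ⊥ := by
    intro h
    rw [h, finrank_bot] at hpos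
    exact lt_irrefl _ hpos
  obtain ⟨η, hη, hη0⟩ := Submodule.exists_mem_ne_zero_of_ne_bot hne
  obtain ⟨⟨x₁, -, hx₁⟩, ⟨x₂, -, hx₂⟩⟩ := hη
  have hx₂0 : x₂ ≠ 0 := by
    rintro rfl
    rw [map_zero] at hx₂
    exact hη0 hx₂.symm
  refine ⟨x₂⁻¹ * x₁, ?_⟩
  have e1 : mulW x₂⁻¹ (smul_mem_adele hK _) (mulW x₁ (smul_mem_adele hK _) ω₁)
      = mulW (x₂⁻¹ * x₁) (smul_mem_adele hK _) ω₁ := mulW_mulW _ _ _ _ _ _
  have e2 : mulW x₂⁻¹ (smul_mem_adele hK _) (mulW x₂ (smul_mem_adele hK _) ω₂)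
      = mulW (x₂⁻¹ * x₂) (smul_mem_adele hK _) ω₂ := mulW_mulW _ _ _ _ _ _
  have e3 : mulW (x₂⁻¹ * x₂) (smul_mem_adele hK _) ω₂ = ω₂ := by
    have := mulW_one (smul_mem_adele hK 1) ω₂
    convert this using 2
    exact inv_mul_cancel₀ hx₂0
  have e4 : mulW x₁ (smul_mem_adele hK _) ω₁ = mulW x₂ (smul_mem_adele hK _) ω₂ := by
    change mulWL hK ω₁ x₁ = mulWL hK ω₂ x₂
    rw [hx₁, hx₂]
  change mulW (x₂⁻¹ * x₁) (smul_mem_adele hK _) ω₁ = ω₂
  rw [← e1, e4, e2, e3]

theorem isWeil_of_isDivOf {ω : Module.Dual k (adele k K)} {C : Divisor k K} (h : IsDivOf ω C) :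
    IsWeil ω := ⟨C, (h C).mpr le_rfl⟩

/-- Duality: for `ω` with divisor `C`, every element of `W(D)` is `xω` for a unique
`x ∈ L(C - D)`. -/
theorem existsUnique_mulWL (hK : FunFld.IsFunctionField k K) {ω : Module.Dual k (adele k K)}
    {C : Divisor k K} (hω : IsDivOf ω C) (D : Divisor k K) {ω' : Module.Dual k (adele k K)}
    (hω' : ω' ∈ WD D) : ∃! x : K, x ∈ L (C - D) ∧ mulWL hK ω x = ω' := by
  have hω0 := ne_zero_of_isDivOf hK hω
  obtain ⟨x, hx⟩ := exists_mulWL_eq hK ω ω' (isWeil_of_isDivOf hω) hω0 ⟨D, hω'⟩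
  refine ⟨x, ⟨?_, hx⟩, fun y hy => mulWL_injective hK hω0 (hy.2.trans hx.symm)⟩
  by_cases hx0 : x = 0
  · rw [hx0]; exact Submodule.zero_mem _
  · have h1 : IsDivOf ω' (C + FunFld.div k x) := by
      rw [← hx]
      exact isDivOf_mulW hK hx0 (smul_mem_adele hK x) hω
    have h2 := (h1 D).mp hω'
    intro P
    have h3 := h2 P
    rw [Finsupp.add_apply, div_apply hK] at h3
    rw [pl_val_le_exp_iff P hx0, Finsupp.sub_apply]
    omega

theorem mulWL_mem_WD_of_mem_L (hK : FunFld.IsFunctionField k K) {ω : Module.Dual k (adele k K)}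
    {C : Divisor k K} (hω : IsDivOf ω C) (D : Divisor k K) {x : K} (hx : x ∈ L (C - D)) :
    mulWL hK ω x ∈ WD D := by
  have := mulWL_mem_WD hK ((hω C).mpr le_rfl) (-D) (x := x) (by rwa [← sub_eq_add_neg])
  rwa [neg_neg] at this

theorem ell_sub_eq_finrank_WD (hK : FunFld.IsFunctionField k K) {ω : Module.Dual k (adele k K)}
    {C : Divisor k K} (hω : IsDivOf ω C) (D : Divisor k K) :
    ell (C - D) = Module.finrank k (WD D) := by
  have hω0 := ne_zero_of_isDivOf hK hω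
  let f : L (C - D) →ₗ[k] WD D :=
    (mulWL hK ω).restrict (fun x hx => mulWL_mem_WD_of_mem_L hK hω D hx)
  have hinj : Function.Injective f := by
    intro x y hxy
    apply Subtype.ext
    apply mulWL_injective hK hω0
    exact congrArg Subtype.val hxy
  have hsurj : Function.Surjective f := by
    intro ω'
    obtain ⟨x, ⟨hx, hxe⟩, -⟩ := existsUnique_mulWL hK hω D ω'.2
    exact ⟨⟨x, hx⟩, Subtype.ext hxe⟩
  exact (LinearEquiv.ofBijective f ⟨hinj, hsurj⟩).finrank_eq

/-- The Riemann–Roch theorem. -/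
theorem riemann_roch (hK : FunFld.IsFunctionField k K) {C : Divisor k K}
    (hC : IsCanonical k K C) (D : Divisor k K) :
    (ell D : ℤ) = D.deg + 1 - genus k K + ell (C - D) := by
  obtain ⟨ω, -, hω⟩ := hC
  rw [ell_sub_eq_finrank_WD hK hω D, (finrank_WD hK D).2]
  unfold delta
  ring

theorem exists_canonical (hK : FunFld.IsFunctionField k K) : ∃ C : Divisor k K, IsCanonical k K C := by
  obtain ⟨P₀⟩ := exists_place hK
  set D : Divisor k K := Finsupp.single P₀ (-2 : ℤ) with hD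
  have hP₀ : (1 : ℤ) ≤ P₀.deg := by exact_mod_cast deg_pos hK P₀
  have hdeg : D.deg = -2 * P₀.deg := deg_single P₀ (-2)
  obtain ⟨hfin, hrank⟩ := finrank_WD hK D
  unfold delta at hrank
  rw [ell_eq_zero_of_deg_neg hK D (by rw [hdeg]; omega), hdeg] at hrank
  have hpos : 0 < Module.finrank k (WD D) := by
    have : (0 : ℤ) < Module.finrank k (WD D) := by
      rw [hrank]; push_cast
      have : (0 : ℤ) ≤ genus k K := by positivity
      omega
    exact_mod_cast this
  have hne : WD D ≠ ⊥ := by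
    intro h
    rw [h, finrank_bot] at hpos
    exact lt_irrefl _ hpos
  obtain ⟨ω, hω, hω0⟩ := Submodule.exists_mem_ne_zero_of_ne_bot hne
  obtain ⟨C, hC⟩ := exists_isDivOf hK ω ⟨D, hω⟩ hω0
  exact ⟨C, ω, hω0, hC⟩

theorem ell_canonical (hK : FunFld.IsFunctionField k K) {C : Divisor k K}
    (hC : IsCanonical k K C) : ell C = genus k K ∧ C.deg = 2 * (genus k K : ℤ) - 2 := by
  have h1 := riemann_roch hK hC 0
  have h2 := riemann_roch hK hC C
  rw [sub_zero, deg_zero] at h1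
  rw [sub_self] at h2
  have h0 : ell (0 : Divisor k K) = 1 := (L_zero_finite hK).2
  rw [h0] at h1 h2
  push_cast at h1 h2
  constructor
  · have : (ell C : ℤ) = genus k K := by omega
    exact_mod_cast this
  · omega

theorem isCanonical_iff (hK : FunFld.IsFunctionField k K) (C : Divisor k K) :
    IsCanonical k K C ↔ (ell C = genus k K ∧ C.deg = 2 * (genus k K : ℤ) - 2) := by
  refine ⟨ell_canonical hK, fun ⟨h1, h2⟩ => ?_⟩
  obtain ⟨W, hW⟩ := exists_canonical hK
  have hWd := (ell_canonical hK hW).2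
  have h3 := riemann_roch hK hW C
  rw [h1, h2] at h3
  have h4 : ell (W - C) = 1 := by
    have : (ell (W - C) : ℤ) = 1 := by omega
    exact_mod_cast this
  obtain ⟨z, hz0, hz⟩ := exists_ne_zero_of_ell_pos (W - C) (by omega)
  have h5 := nonneg_of_mem_L hK _ hz0 hz
  have h6 : W - C + FunFld.div k z = 0 := by
    apply eq_zero_of_nonneg_of_deg_eq_zero hK h5
    rw [deg_add, deg_sub, deg_div hK, hWd, h2]; ring
  have h7 : C = W + FunFld.div k z := by
    have : W - C + FunFld.div k z = W + FunFld.div k z - C := by abel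
    rw [this] at h6
    exact (sub_eq_zero.mp h6).symm
  obtain ⟨ω, hω0, hω⟩ := hW
  refine ⟨mulW z (smul_mem_adele hK z) ω, ?_, ?_⟩
  · intro h
    exact hz0 ((mulW_eq_zero_iff hK (smul_mem_adele hK z) hω0).mp h)
  · rw [h7]
    exact isDivOf_mulW hK hz0 (smul_mem_adele hK z) hω

theorem ell_eq_of_deg_ge (hK : FunFld.IsFunctionField k K) (D : Divisor k K)
    (h : 2 * (genus k K : ℤ) - 1 ≤ D.deg) : (ell D : ℤ) = D.deg + 1 - genus k K := by
  obtain ⟨W, hW⟩ := exists_canonical hK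
  have h1 := riemann_roch hK hW D
  have h2 : ell (W - D) = 0 := by
    apply ell_eq_zero_of_deg_neg hK
    rw [deg_sub, (ell_canonical hK hW).2]; omega
  rw [h2] at h1
  push_cast at h1
  omega

theorem exists_weil_of_effective (hK : FunFld.IsFunctionField k K) (D : Divisor k K)
    (hD : 0 ≤ D) (hdeg : D.deg < genus k K) :
    ∃ ω : Module.Dual k (adele k K), ω ≠ 0 ∧ ω ∈ WD D := by
  obtain ⟨hfin, hrank⟩ := finrank_WD hK D
  unfold delta at hrank
  have h1 : 1 ≤ ell D := by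
    have := ell_mono hK hD
    rw [show ell (0 : Divisor k K) = 1 from (L_zero_finite hK).2] at this
    exact this
  have hpos : 0 < Module.finrank k (WD D) := by
    have h1' : (1 : ℤ) ≤ ell D := by exact_mod_cast h1
    have : (0 : ℤ) < Module.finrank k (WD D) := by rw [hrank]; omega
    exact_mod_cast this
  have hne : WD D ≠ ⊥ := by
    intro h
    rw [h, finrank_bot] at hpos
    exact lt_irrefl _ hpos
  obtain ⟨ω, hω, hω0⟩ := Submodule.exists_mem_ne_zero_of_ne_bot hne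
  exact ⟨ω, hω0, hω⟩

end Groth.Agent.H55
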