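import Groth.Prelude.Def_W4bk4goldsch23FF
import Mathlib.NumberTheory.FunctionField

/-!
Basic field-theoretic facts about function fields of one variable (`FunFld.IsFunctionField`).
-/

set_option autoImplicit false

namespace Groth.Agent.H55

open IntermediateField

section AdjoinTranscendental

variable {F K : Type*} [Field F] [Field K] [Algebra F K]

/-- Exchange: if `K` is algebraic over `F(x)`, `x` and `y` transcendental, then `x` is algebraic
over `F(y)`. -/
theorem isAlgebraic_adjoin_swap {x y : K} (hx : Transcendental F x) (hy : Transcendental F y)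
    (h : IsAlgebraic F⟮x⟯ y) : IsAlgebraic F⟮y⟯ x :=
  isAlgebraic_adjoin_iff.mpr
    (IsAlgebraic.adjoin_singleton (A := K) (B := K) hx hy (isAlgebraic_adjoin_iff.mp h))

/-- If `K` is finite over `F(x)` for one transcendental `x`, it is finite over `F(y)` for every
transcendental `y`. -/
theorem finiteDimensional_adjoin_of_transcendental {x y : K} (hx : Transcendental F x)
    [FiniteDimensional F⟮x⟯ K] (hy : Transcendental F y) : FiniteDimensional F⟮y⟯ K :=
  let Fyx := restrictScalars F F⟮y⟯⟮x⟯
  let Fxy := restrictScalars F F⟮x⟯⟮y⟯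
  let : Algebra F⟮y⟯ Fyx := F⟮y⟯⟮x⟯.algebra
  let : Module F⟮y⟯ Fyx := Algebra.toModule
  let : SMul F⟮y⟯ Fyx := Algebra.toSMul
  let : Algebra F⟮x⟯ Fxy := F⟮x⟯⟮y⟯.algebra
  let : Module F⟮x⟯ Fxy := Algebra.toModule
  let : SMul F⟮x⟯ Fxy := Algebra.toSMul
  have hxalg : IsAlgebraic F⟮y⟯ x :=
    isAlgebraic_adjoin_swap hx hy (Algebra.IsAlgebraic.isAlgebraic y)
  have : FiniteDimensional F⟮y⟯ Fyx :=
    adjoin.finiteDimensional (isAlgebraic_iff_isIntegral.mp hxalg)
  have : FiniteDimensional Fyx K := by
    unfold Fyx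
    rw [adjoin_simple_comm]
    have : IsScalarTower F⟮x⟯ Fxy K := isScalarTower_mid' F⟮x⟯⟮y⟯
    exact .right F⟮x⟯ Fxy K
  have : IsScalarTower F⟮y⟯ Fyx K := isScalarTower_mid' F⟮y⟯⟮x⟯
  .trans F⟮y⟯ Fyx K

end AdjoinTranscendental

section FunFld

variable {k K : Type*} [Field k] [Field K] [Algebra k K]

/-- In a function field of one variable, `K` is finite over `k(x)` for every transcendental `x`. -/
theorem ff_finite (hK : FunFld.IsFunctionField k K) {x : K}
    (hx : Transcendental k x) : FiniteDimensional k⟮x⟯ K := by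
  obtain ⟨⟨x₁, hx₁, hfin⟩, -⟩ := hK
  exact finiteDimensional_adjoin_of_transcendental hx₁ hx

/-- In a function field of one variable, an element is transcendental iff it is not a constant. -/
theorem ff_transcendental_iff (hK : FunFld.IsFunctionField k K) {x : K} :
    Transcendental k x ↔ x ∉ Set.range (algebraMap k K) := by
  constructor
  · rintro hx ⟨c, rfl⟩
    exact hx (isAlgebraic_algebraMap c)
  · intro hx halg
    exact hx (hK.2 x halg)

end FunFld

end Groth.Agent.H55
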