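import Groth.Agent.H55.FFUnram
import Mathlib

/-!
Places of the rational function field and of quadratic extensions `y² = f(x)`.
-/

set_option autoImplicit false

namespace Groth.Agent.H55

open FunFld WithZero Polynomial IntermediateField

section PolyVal

variable {k K : Type*} [Field k] [Field K] [Algebra k K]

theorem pl_isTrivialOn (P : Place k K) : P.1.IsTrivialOn k := ⟨fun a ha => pl_val_const P ha⟩

theorem val_aeval_le_one (P : Place k K) {x : K} (hx : P.1 x ≤ 1) (q : k[X]) :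
    P.1 (aeval x q) ≤ 1 := by
  rw [Polynomial.aeval_eq_sum_range]
  refine P.1.map_sum_le (fun i _ => ?_)
  refine (pl_val_smul_le P _ _).trans ?_
  rw [map_pow]
  exact pow_le_one' hx i

theorem val_le_one_of_val_aeval_lt_one (P : Place k K) {x : K} {q : k[X]} (hq : q ≠ 0)
    (h : P.1 (aeval x q) < 1) : P.1 x ≤ 1 := by
  by_contra hx
  rw [not_le] at hx
  haveI := pl_isTrivialOn P
  rw [Polynomial.valuation_aeval_eq_valuation_X_pow_natDegree_of_one_lt_valuation_X x hx hq] at h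
  exact absurd h (not_lt.mpr (one_le_pow_of_one_le' hx.le _))

end PolyVal

section RatFuncPlace

variable {k : Type*} [Field k]

theorem isFF1_ratFunc : G.IsFF1 k (RatFunc k) := by
  refine ⟨RatFunc.X, RatFunc.transcendental_X, ?_⟩
  rw [RatFunc.adjoin_X]
  apply Module.finite_of_finrank_pos
  rw [IntermediateField.finrank_top]
  exact Nat.one_pos

theorem ratfunc_val_poly_le_one (P₀ : Place k (RatFunc k)) (hX : P₀.1 RatFunc.X ≤ 1)
    (q : k[X]) : P₀.1 (algebraMap k[X] (RatFunc k) q) ≤ 1 := by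
  rw [← RatFunc.aeval_X_left_eq_algebraMap]
  exact val_aeval_le_one P₀ hX q

theorem ratfunc_val_X_le_one (P₀ : Place k (RatFunc k)) {p : k[X]} (hp0 : p ≠ 0)
    (hp : P₀.1 (algebraMap k[X] (RatFunc k) p) < 1) : P₀.1 RatFunc.X ≤ 1 := by
  rw [← RatFunc.aeval_X_left_eq_algebraMap] at hp
  exact val_le_one_of_val_aeval_lt_one P₀ hp0 hp

theorem ratfunc_val_coprime (P₀ : Place k (RatFunc k)) {p q : k[X]} (hp0 : p ≠ 0)
    (hp : P₀.1 (algebraMap k[X] (RatFunc k) p) < 1) (hpq : IsCoprime p q) :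
    P₀.1 (algebraMap k[X] (RatFunc k) q) = 1 := by
  have hX := ratfunc_val_X_le_one P₀ hp0 hp
  obtain ⟨a, b, hab⟩ := hpq
  have h1 : algebraMap k[X] (RatFunc k) b * algebraMap k[X] (RatFunc k) q =
      1 - algebraMap k[X] (RatFunc k) a * algebraMap k[X] (RatFunc k) p := by
    have := congrArg (algebraMap k[X] (RatFunc k)) hab
    rw [map_add, map_mul, map_mul, map_one] at this
    rw [← this]; ring
  have h2 : P₀.1 (algebraMap k[X] (RatFunc k) a * algebraMap k[X] (RatFunc k) p) < 1 := by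
    rw [map_mul]
    calc P₀.1 (algebraMap k[X] (RatFunc k) a) * P₀.1 (algebraMap k[X] (RatFunc k) p)
        ≤ 1 * P₀.1 (algebraMap k[X] (RatFunc k) p) :=
          mul_le_mul' (ratfunc_val_poly_le_one P₀ hX a) le_rfl
      _ = P₀.1 (algebraMap k[X] (RatFunc k) p) := one_mul _
      _ < 1 := hp
  have h3 : P₀.1 (algebraMap k[X] (RatFunc k) b) * P₀.1 (algebraMap k[X] (RatFunc k) q) = 1 := by
    rw [← map_mul, h1]
    exact Valuation.map_one_sub_of_lt _ h2
  apply le_antisymm (ratfunc_val_poly_le_one P₀ hX q)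
  calc 1 = P₀.1 (algebraMap k[X] (RatFunc k) b) * P₀.1 (algebraMap k[X] (RatFunc k) q) := h3.symm
    _ ≤ 1 * P₀.1 (algebraMap k[X] (RatFunc k) q) :=
        mul_le_mul' (ratfunc_val_poly_le_one P₀ hX b) le_rfl
    _ = P₀.1 (algebraMap k[X] (RatFunc k) q) := one_mul _

/-- An irreducible polynomial in the maximal ideal of a place of `k(x)` is a uniformizer. -/
theorem ratfunc_val_irreducible (P₀ : Place k (RatFunc k)) {p : k[X]} (hp : Irreducible p)
    (hlt : P₀.1 (algebraMap k[X] (RatFunc k) p) < 1) :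
    P₀.1 (algebraMap k[X] (RatFunc k) p) = exp (-1) := by
  have hp0 : p ≠ 0 := hp.ne_zero
  have hP0 : algebraMap k[X] (RatFunc k) p ≠ 0 :=
    (map_ne_zero_iff _ (RatFunc.algebraMap_injective k)).mpr hp0
  have hm : 0 < P₀.ord (algebraMap k[X] (RatFunc k) p) := (pl_val_lt_one_iff P₀ hP0).mp hlt
  have hpoly : ∀ a : k[X], a ≠ 0 → ∃ n : ℕ, P₀.ord (algebraMap k[X] (RatFunc k) a) =
      n * P₀.ord (algebraMap k[X] (RatFunc k) p) := by
    intro a ha
    obtain ⟨n, a', hndvd, rfl⟩ := WfDvdMonoid.max_power_factor ha hp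
    refine ⟨n, ?_⟩
    have hcop : IsCoprime p a' := (hp.coprime_iff_not_dvd).mpr hndvd
    have h1 := ratfunc_val_coprime P₀ hp0 hlt hcop
    have ha'0 : algebraMap k[X] (RatFunc k) a' ≠ 0 := by
      intro h0
      rw [h0, map_zero] at h1
      exact zero_ne_one h1
    rw [map_mul, map_pow, pl_ord_mul P₀ (pow_ne_zero _ hP0) ha'0, pl_ord_pow,
      (pl_val_eq_one_iff P₀ ha'0).mp h1, add_zero]
  obtain ⟨z, hz0, hz⟩ := pl_exists_val_eq_exp P₀ (-1)
  obtain ⟨a, b, hb, hab⟩ := IsFractionRing.div_surjective (A := k[X]) z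
  have hb0 : b ≠ 0 := nonZeroDivisors.ne_zero hb
  have hB0 : algebraMap k[X] (RatFunc k) b ≠ 0 :=
    (map_ne_zero_iff _ (RatFunc.algebraMap_injective k)).mpr hb0
  have ha0 : a ≠ 0 := by
    rintro rfl
    rw [map_zero, zero_div] at hab
    exact hz0 hab.symm
  have hA0 : algebraMap k[X] (RatFunc k) a ≠ 0 :=
    (map_ne_zero_iff _ (RatFunc.algebraMap_injective k)).mpr ha0
  obtain ⟨na, hna⟩ := hpoly a ha0
  obtain ⟨nb, hnb⟩ := hpoly b hb0
  have hordz : P₀.ord z = 1 := by rw [pl_ord_eq_of_val_eq P₀ hz]; norm_num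
  rw [← hab, pl_ord_div P₀ hA0 hB0, hna, hnb] at hordz
  have hdvd : P₀.ord (algebraMap k[X] (RatFunc k) p) ∣ 1 :=
    ⟨(na : ℤ) - nb, by rw [← hordz]; ring⟩
  have hm1 : P₀.ord (algebraMap k[X] (RatFunc k) p) = 1 := Int.eq_one_of_dvd_one hm.le hdvd
  rw [pl_val_eq_exp_neg_ord P₀ hP0, hm1]

end RatFuncPlace

section Hyper

variable {k K : Type*} [Field k] [Field K] [Algebra k K]
  [Algebra (RatFunc k) K] [IsScalarTower k (RatFunc k) K]

/-- Places of `y² = f(x)` over an irreducible factor of the squarefree polynomial `f`. -/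
theorem hyperelliptic_ramified
    (hdeg : Module.finrank (RatFunc k) K = 2) (y : K) (f : Polynomial k) (hf : Squarefree f)
    (heq : y ^ 2 = algebraMap (RatFunc k) K (algebraMap (Polynomial k) (RatFunc k) f))
    (p : Polynomial k) (hp : Irreducible p) (hpf : p ∣ f)
    (P₀ : Place k (RatFunc k)) (hP₀ : P₀.1 (algebraMap (Polynomial k) (RatFunc k) p) < 1) :
    (∃! P : Place k K, IsOver P P₀) ∧
    ∀ P : Place k K, IsOver P P₀ → IsOverWith P P₀ 2 ∧ P.deg = P₀.deg := by
  classical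
  haveI : FiniteDimensional (RatFunc k) K :=
    Module.finite_of_finrank_pos (by rw [hdeg]; norm_num)
  have hF : G.IsFF1 k (RatFunc k) := isFF1_ratFunc
  have hK : G.IsFF1 k K := isFF1_of_finite hF
  have hp0 : p ≠ 0 := hp.ne_zero
  obtain ⟨g, rfl⟩ := hpf
  have hcop : IsCoprime p g := by
    rw [hp.coprime_iff_not_dvd]
    intro hpg
    obtain ⟨g', rfl⟩ := hpg
    have : p * p ∣ p * (p * g') := ⟨g', by ring⟩
    exact hp.not_isUnit (hf p this)
  have hvp := ratfunc_val_irreducible P₀ hp hP₀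
  have hvg := ratfunc_val_coprime P₀ hp0 hP₀ hcop
  have hvf : P₀.1 (algebraMap k[X] (RatFunc k) (p * g)) = exp (-1) := by
    rw [map_mul, map_mul, hvp, hvg, mul_one]
  have hdP₀ := G.deg_pos hF P₀
  obtain ⟨hfin, hsum⟩ := G.sum_ramIdx_mul_deg (K' := K) hF P₀
  have hs := hsum hfin.toFinset (fun Q => by rw [Set.Finite.mem_toFinset]; rfl)
  rw [hdeg] at hs
  have key : ∀ P : Place k K, ∀ e : ℕ, IsOverWith P P₀ e → e = 2 ∧ P.deg = P₀.deg := by
    intro P e he
    have hy0 : y ≠ 0 := by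
      intro hy
      have h0 : P.1 (y ^ 2) = 0 := by rw [hy, zero_pow two_ne_zero, map_zero]
      rw [heq, he, hvf] at h0
      exact (pow_ne_zero e exp_ne_zero) h0
    have hord : 2 * P.ord y = e := by
      have h1 : P.1 (y ^ 2) = exp (-1) ^ e := by rw [heq, he, hvf]
      rw [map_pow, pl_val_eq_exp_neg_ord P hy0, ← exp_nsmul, ← exp_nsmul, exp_inj,
        nsmul_eq_mul, nsmul_eq_mul] at h1
      push_cast at h1
      linarith
    have hepos := isOverWith_pos he
    haveI := G.residue_finiteDimensional hK P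
    have hdle := deg_le_of_isOverWith he
    have hPmem : P ∈ hfin.toFinset := by rw [Set.Finite.mem_toFinset]; exact ⟨e, he⟩
    have hle : ramIdx P P₀ * P.deg ≤ ∑ Q ∈ hfin.toFinset, ramIdx Q P₀ * Q.deg :=
      Finset.single_le_sum (f := fun Q => ramIdx Q P₀ * Q.deg) (fun _ _ => Nat.zero_le _) hPmem
    rw [ramIdx_eq he, hs] at hle
    have he2 : 2 ≤ e := by omega
    have hdP : 0 < P.deg := lt_of_lt_of_le hdP₀ hdle
    have he_eq : e = 2 := by
      by_contra hne
      have h3 : 3 ≤ e := by omega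
      have h4 : 3 * P.deg ≤ e * P.deg := Nat.mul_le_mul_right _ h3
      omega
    refine ⟨he_eq, ?_⟩
    rw [he_eq] at hle
    omega
  have key2 : ∀ P : Place k K, IsOver P P₀ → IsOverWith P P₀ 2 ∧ P.deg = P₀.deg := by
    rintro P ⟨e, he⟩
    obtain ⟨h1, h2'⟩ := key P e he
    subst h1
    exact ⟨he, h2'⟩
  refine ⟨?_, key2⟩
  obtain ⟨P, hP⟩ := exists_place_over (K' := K) hF P₀
  refine ⟨P, hP, ?_⟩
  intro P' hP'
  by_contra hne
  have hsub : ({P', P} : Finset (Place k K)) ⊆ hfin.toFinset := by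
    intro Q hQ
    rw [Finset.mem_insert, Finset.mem_singleton] at hQ
    rw [Set.Finite.mem_toFinset]
    rcases hQ with rfl | rfl
    · exact hP'
    · exact hP
  have hle := Finset.sum_le_sum_of_subset (f := fun Q => ramIdx Q P₀ * Q.deg) hsub
  rw [Finset.sum_pair hne, hs] at hle
  obtain ⟨h1, h1'⟩ := key2 P hP
  obtain ⟨h3, h3'⟩ := key2 P' hP'
  rw [ramIdx_eq h1, ramIdx_eq h3, h1', h3'] at hle
  omega

end Hyper

end Groth.Agent.H55
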