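import Groth.Agent.H55.FFGeom
import Mathlib

/-!
`kK^p` in a geometric function field of characteristic `p`.
-/

set_option autoImplicit false

universe u v

namespace Groth.Agent.H55

open FunFld Polynomial IntermediateField TensorProduct

section

variable {k : Type u} {K : Type v} [Field k] [Field K] [Algebra k K]

/-- The kernel of the universal derivation, as an intermediate field. -/
noncomputable def kerD (k : Type u) (K : Type v) [Field k] [Field K] [Algebra k K] :
    IntermediateField k K where
  carrier := {x | KaehlerDifferential.D k K x = 0}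
  mul_mem' := by
    intro a b ha hb
    simp only [Set.mem_setOf_eq] at *
    rw [Derivation.leibniz, ha, hb, smul_zero, smul_zero, add_zero]
  one_mem' := Derivation.map_one_eq_zero _
  add_mem' := by
    intro a b ha hb
    simp only [Set.mem_setOf_eq] at *
    rw [map_add, ha, hb, add_zero]
  zero_mem' := map_zero _
  algebraMap_mem' := fun c => Derivation.map_algebraMap _ c
  inv_mem' := by
    intro a ha
    simp only [Set.mem_setOf_eq] at *
    rw [Derivation.leibniz_inv, ha, smul_zero]

theorem mem_kerD {x : K} : x ∈ kerD k K ↔ KaehlerDifferential.D k K x = 0 := Iff.rfl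

theorem adjoin_pow_le_kerD (p : ℕ) [Fact p.Prime] [CharP K p] :
    adjoin k (Set.range fun y : K => y ^ p) ≤ kerD k K := by
  rw [adjoin_le_iff]
  rintro _ ⟨y, rfl⟩
  show KaehlerDifferential.D k K (y ^ p) = 0
  rw [Derivation.leibniz_pow, ← Nat.cast_smul_eq_nsmul K, CharP.cast_eq_zero, zero_smul]

/-- `[K : kK^p] = p`, with a separating variable outside `kK^p`. -/
theorem finrank_adjoin_pow (hK : FunFld.IsFunctionField k K) (hg : FunFld.IsGeometric k K)
    (p : ℕ) [hp : Fact p.Prime] [CharP K p] :
    Module.finrank (adjoin k (Set.range fun y : K => y ^ p)) K = p ∧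
    ∃ t : K, Transcendental k t ∧ Algebra.IsSeparable k⟮t⟯ K ∧
      t ∉ adjoin k (Set.range fun y : K => y ^ p) := by
  obtain ⟨t, ht, hsep⟩ := exists_separating hK hg
  haveI := hsep
  obtain ⟨e, he⟩ := kaehler_equiv_of_separating t ht
  obtain ⟨M, hM⟩ : ∃ M : IntermediateField k K, M = adjoin k (Set.range fun y : K => y ^ p) :=
    ⟨_, rfl⟩
  rw [← hM]
  have hdt : KaehlerDifferential.D k K t ≠ 0 := by
    intro h0
    rw [h0, map_zero] at he
    exact zero_ne_one he
  have htM : t ∉ M := fun h => hdt (adjoin_pow_le_kerD p (hM ▸ h))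
  haveI : CharP k p :=
    (RingHom.charP_iff (algebraMap k K) (algebraMap k K).injective p).mpr inferInstance
  haveI : CharP k⟮t⟯ p := charP_of_injective_algebraMap (algebraMap k k⟮t⟯).injective p
  have htop : M⟮t⟯ = ⊤ := by
    rw [← IntermediateField.restrictScalars_eq_top_iff (K := k), hM,
      IntermediateField.adjoin_adjoin_left]
    have h1 := IntermediateField.adjoin_eq_adjoin_pow_expChar_of_isSeparable' k⟮t⟯ K Set.univ p
    rw [IntermediateField.adjoin_univ, Set.image_univ] at h1
    have h2 := congrArg (IntermediateField.restrictScalars k) h1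
    rw [IntermediateField.restrictScalars_top, IntermediateField.adjoin_adjoin_left] at h2
    rw [Set.union_comm, ← h2]
  have htp : t ^ p ∈ M := by rw [hM]; exact subset_adjoin _ _ ⟨t, rfl⟩
  have hirr : Irreducible (X ^ p - C (⟨t ^ p, htp⟩ : M)) := by
    apply X_pow_sub_C_irreducible_of_prime hp.out
    intro b hb
    have h1 : ((b : K) - t) ^ p = 0 := by
      rw [sub_pow_char, sub_eq_zero]
      exact congrArg Subtype.val hb
    have h2 : (b : K) = t := sub_eq_zero.mp ((pow_eq_zero_iff hp.out.ne_zero).mp h1)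
    exact htM (h2 ▸ b.2)
  have hroot : aeval t (X ^ p - C (⟨t ^ p, htp⟩ : M)) = 0 := by
    rw [aeval_def, eval₂_sub, eval₂_pow, eval₂_X, eval₂_C]
    exact sub_self _
  have hint : IsIntegral M t :=
    ⟨X ^ p - C (⟨t ^ p, htp⟩ : M), monic_X_pow_sub_C _ hp.out.ne_zero, hroot⟩
  have hmin : minpoly M t = X ^ p - C (⟨t ^ p, htp⟩ : M) :=
    (minpoly.eq_of_irreducible_of_monic hirr hroot
      (monic_X_pow_sub_C _ hp.out.ne_zero)).symm
  have hfr : Module.finrank M M⟮t⟯ = p := by
    rw [IntermediateField.adjoin.finrank hint, hmin, natDegree_X_pow_sub_C]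
  have eTop : M⟮t⟯ ≃ₐ[M] K :=
    (IntermediateField.equivOfEq htop).trans IntermediateField.topEquiv
  exact ⟨by rw [← eTop.toLinearEquiv.finrank_eq, hfr], t, ht, hsep, htM⟩

theorem mem_adjoin_pow_iff (hK : FunFld.IsFunctionField k K) (hg : FunFld.IsGeometric k K)
    (p : ℕ) [hp : Fact p.Prime] [CharP K p] (x : K) :
    (x ∈ adjoin k (Set.range fun y : K => y ^ p) ↔ KaehlerDifferential.D k K x = 0) ∧
    (x ∈ adjoin k (Set.range fun y : K => y ^ p) ↔ ¬ Algebra.IsSeparable k⟮x⟯ K) := by
  obtain ⟨hfr, t, ht, hsep, htM⟩ := finrank_adjoin_pow hK hg p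
  haveI := hsep
  obtain ⟨e, he⟩ := kaehler_equiv_of_separating t ht
  obtain ⟨M, hM⟩ : ∃ M : IntermediateField k K, M = adjoin k (Set.range fun y : K => y ^ p) :=
    ⟨_, rfl⟩
  rw [← hM] at hfr htM ⊢
  have hML : M ≤ kerD k K := hM ▸ adjoin_pow_le_kerD p
  have hdt : KaehlerDifferential.D k K t ≠ 0 := by
    intro h0
    rw [h0, map_zero] at he
    exact zero_ne_one he
  have htL : t ∉ kerD k K := hdt
  have hLM : kerD k K ≤ M := by
    haveI : FiniteDimensional M K :=
      Module.finite_of_finrank_pos (by rw [hfr]; exact hp.out.pos)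
    obtain ⟨L', hL'⟩ : ∃ L' : IntermediateField M K,
        L' = IntermediateField.extendScalars hML := ⟨_, rfl⟩
    have hmemL' : ∀ y : K, y ∈ L' ↔ y ∈ kerD k K := fun y => by
      rw [hL']; exact IntermediateField.mem_extendScalars hML
    have hmul := Module.finrank_mul_finrank M L' K
    rw [hfr] at hmul
    have hL'top : L' ≠ ⊤ := by
      intro h
      have h1 : t ∈ L' := by rw [h]; exact IntermediateField.mem_top
      exact htL ((hmemL' t).mp h1)
    have h1 : Module.finrank L' K ≠ 1 :=
      fun h => hL'top (IntermediateField.finrank_eq_one_iff_eq_top.mp h)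
    have h2 : Module.finrank L' K ∣ p := ⟨Module.finrank M L', by rw [mul_comm]; exact hmul.symm⟩
    have h3 : Module.finrank L' K = p := (hp.out.eq_one_or_self_of_dvd _ h2).resolve_left h1
    rw [h3] at hmul
    have h4 : Module.finrank M L' = 1 :=
      Nat.eq_of_mul_eq_mul_right hp.out.pos (by rw [hmul, one_mul])
    have h5 : L' = ⊥ := IntermediateField.finrank_eq_one_iff.mp h4
    intro y hy
    have hy' : y ∈ L' := (hmemL' y).mpr hy
    rw [h5, IntermediateField.mem_bot] at hy'
    obtain ⟨m, rfl⟩ := hy'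
    exact m.2
  have hI : x ∈ M ↔ KaehlerDifferential.D k K x = 0 := ⟨fun h => hML h, fun h => hLM h⟩
  refine ⟨hI, ?_⟩
  rw [hI]
  constructor
  · intro hdx hsepx
    have hxtr : Transcendental k x := by
      intro halg
      haveI : Algebra.IsAlgebraic k k⟮x⟯ :=
        IntermediateField.isAlgebraic_adjoin_simple halg.isIntegral
      haveI : Algebra.IsAlgebraic k⟮x⟯ K := Algebra.IsSeparable.isAlgebraic _ _
      have h1 : Algebra.IsAlgebraic k K := Algebra.IsAlgebraic.trans k k⟮x⟯ K
      exact ht (h1.isAlgebraic t)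
    obtain ⟨ex, hex⟩ := kaehler_equiv_of_separating x hxtr
    rw [hdx, map_zero] at hex
    exact zero_ne_one hex
  · intro hns
    by_contra hdx
    apply hns
    have hxtr : Transcendental k x := by
      intro halg
      obtain ⟨c, rfl⟩ := hK.2 x halg
      exact hdx (Derivation.map_algebraMap _ c)
    haveI hfinx : FiniteDimensional k⟮x⟯ K := ff_finite hK hxtr
    haveI : Algebra.FormallyUnramified k⟮x⟯ K := by
      constructor
      refine ⟨fun ω₁ ω₂ => ?_⟩
      suffices h : ∀ ω : Ω[K⁄k⟮x⟯], ω = 0 by rw [h ω₁, h ω₂]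
      intro ω
      obtain ⟨η, rfl⟩ := KaehlerDifferential.map_surjective k k⟮x⟯ K ω
      have hedx : e (KaehlerDifferential.D k K x) ≠ 0 :=
        fun h => hdx (e.map_eq_zero_iff.mp h)
      have hη : η = (e η / e (KaehlerDifferential.D k K x)) • KaehlerDifferential.D k K x := by
        apply e.injective
        rw [map_smul, smul_eq_mul, div_mul_cancel₀ _ hedx]
      rw [hη, map_smul, KaehlerDifferential.map_D]
      have h0 : KaehlerDifferential.D k⟮x⟯ K (algebraMap K K x) = 0 := by
        have h1 : algebraMap K K x = algebraMap k⟮x⟯ K ⟨x, mem_adjoin_simple_self k x⟩ := rfl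
        rw [h1, Derivation.map_algebraMap]
      rw [h0, smul_zero]
    exact Algebra.FormallyUnramified.isSeparable k⟮x⟯ K

theorem purelyInseparable_iff (hK : FunFld.IsFunctionField k K) (hg : FunFld.IsGeometric k K)
    (p : ℕ) [hp : Fact p.Prime] [CharP K p] (K₀ : IntermediateField k K) :
    (IsPurelyInseparable K₀ K ∧ Module.finrank K₀ K = p) ↔
      K₀ = adjoin k (Set.range fun y : K => y ^ p) := by
  obtain ⟨hfr, -⟩ := finrank_adjoin_pow hK hg p
  constructor
  · rintro ⟨hpi, hdeg⟩
    haveI : FiniteDimensional K₀ K :=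
      Module.finite_of_finrank_pos (by rw [hdeg]; exact hp.out.pos)
    haveI : CharP K₀ p :=
      (RingHom.charP_iff (algebraMap K₀ K) (algebraMap K₀ K).injective p).mpr inferInstance
    have hle : adjoin k (Set.range fun y : K => y ^ p) ≤ K₀ := by
      rw [adjoin_le_iff]
      rintro _ ⟨y, rfl⟩
      obtain ⟨n, c, hmin⟩ := IsPurelyInseparable.minpoly_eq_X_pow_sub_C K₀ p y
      have hdegy : (minpoly K₀ y).natDegree ≤ p := by
        have h1 := minpoly.natDegree_le (A := K₀) y
        rwa [hdeg] at h1
      rw [hmin, natDegree_X_pow_sub_C] at hdegy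
      have hn : n ≤ 1 := by
        by_contra h
        push_neg at h
        have h1 : p ^ 2 ≤ p ^ n := Nat.pow_le_pow_right hp.out.pos h
        have hp2 := hp.out.two_le
        nlinarith
      have hy : y ^ p ^ n = algebraMap K₀ K c := by
        have h0 := minpoly.aeval K₀ y
        rw [hmin, aeval_def, eval₂_sub, eval₂_pow, eval₂_X, eval₂_C, sub_eq_zero] at h0
        exact h0
      show y ^ p ∈ K₀
      interval_cases n
      · rw [pow_zero, pow_one] at hy
        rw [hy]
        exact pow_mem c.2 p
      · rw [pow_one] at hy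
        rw [hy]
        exact c.2
    symm
    haveI : FiniteDimensional (adjoin k (Set.range fun y : K => y ^ p)) K :=
      Module.finite_of_finrank_pos (by rw [hfr]; exact hp.out.pos)
    exact IntermediateField.eq_of_le_of_finrank_eq' hle (by rw [hfr, hdeg])
  · rintro rfl
    refine ⟨?_, hfr⟩
    haveI : CharP (adjoin k (Set.range fun y : K => y ^ p)) p :=
      (RingHom.charP_iff (algebraMap (adjoin k (Set.range fun y : K => y ^ p)) K)
        (algebraMap (adjoin k (Set.range fun y : K => y ^ p)) K).injective p).mpr inferInstance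
    rw [isPurelyInseparable_iff_pow_mem _ p]
    intro y
    exact ⟨1, ⟨y ^ p, subset_adjoin _ _ ⟨y, rfl⟩⟩, by rw [pow_one]; rfl⟩

end

end Groth.Agent.H55
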