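import Mathlib

/-!
Base change of a field extension in which the ground field is algebraically closed, along a
simple algebraic extension: the tensor product is a field.
-/

namespace Groth.Agent.H55

open Polynomial TensorProduct IntermediateField

/-- If `K₀` is algebraically closed in `F₀`, a monic irreducible polynomial over `K₀` stays
irreducible over `F₀`. -/
theorem irreducible_map_of_algClosed_in {K₀ F₀ : Type*} [Field K₀] [Field F₀] [Algebra K₀ F₀]
    (h : ∀ y : F₀, IsIntegral K₀ y → y ∈ Set.range (algebraMap K₀ F₀))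
    {p : K₀[X]} (hpm : p.Monic) (hp : Irreducible p) :
    Irreducible (p.map (algebraMap K₀ F₀)) := by
  have hnu : ¬ IsUnit (p.map (algebraMap K₀ F₀)) := by
    intro hu
    have h0 := natDegree_eq_zero_of_isUnit hu
    rw [natDegree_map] at h0
    exact hp.not_isUnit (hpm.isUnit_iff.mpr (hpm.natDegree_eq_zero.mp h0))
  obtain ⟨g, hgm, hgi, hgd⟩ := Polynomial.exists_monic_irreducible_factor _ hnu
  have hlift : g ∈ Polynomial.lifts (algebraMap K₀ F₀) := by
    rw [Polynomial.lifts_iff_coeff_lifts]
    intro n
    exact h _ (Polynomial.isIntegral_coeff_of_dvd p g hpm hgm hgd n)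
  obtain ⟨g₀, hg₀, -, hg₀m⟩ := Polynomial.lifts_and_natDegree_eq_and_monic hlift hgm
  have hdvd : g₀ ∣ p := by
    rw [← Polynomial.map_dvd_map' (algebraMap K₀ F₀), hg₀]
    exact hgd
  obtain ⟨c, hc⟩ := hdvd
  have hg₀nu : ¬ IsUnit g₀ := by
    intro hu
    have : IsUnit (g₀.map (algebraMap K₀ F₀)) := hu.map (Polynomial.mapRingHom _)
    rw [hg₀] at this
    exact hgi.not_isUnit this
  have hcu : IsUnit c := (hp.isUnit_or_isUnit hc).resolve_left hg₀nu
  have hassoc : Associated g₀ p := by
    obtain ⟨u, rfl⟩ := hcu
    exact ⟨u, hc.symm⟩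
  have : g₀ = p := Polynomial.eq_of_monic_of_associated hg₀m hpm hassoc
  rw [← this, hg₀]
  exact hgi

/-- If `k` is algebraically closed in `K` and `k' = k(α)` is a simple algebraic extension, then
`K ⊗[k] k'` is a field. -/
theorem isField_tensor_of_simple {k K k' : Type*} [Field k] [Field K] [Field k'] [Algebra k K]
    [Algebra k k'] (h : ∀ y : K, IsIntegral k y → y ∈ Set.range (algebraMap k K)) (α : k')
    (hα : IsIntegral k α) (htop : k⟮α⟯ = ⊤) : IsField (K ⊗[k] k') := by
  classical
  have hpm : (minpoly k α).Monic := minpoly.monic hα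
  have hpi : Irreducible (minpoly k α) := minpoly.irreducible hα
  have hqi : Irreducible ((minpoly k α).map (algebraMap k K)) :=
    irreducible_map_of_algClosed_in h hpm hpi
  haveI : Fact (Irreducible ((minpoly k α).map (algebraMap k K))) := ⟨hqi⟩
  have hq0 : (minpoly k α).map (algebraMap k K) ≠ 0 := hqi.ne_zero
  have hfr : Module.finrank k k' = (minpoly k α).natDegree := by
    rw [← IntermediateField.finrank_top', ← htop]
    exact IntermediateField.adjoin.finrank hα
  haveI : FiniteDimensional k k' := by
    apply Module.finite_of_finrank_pos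
    rw [hfr]
    exact minpoly.natDegree_pos hα
  haveI : Nontrivial (K ⊗[k] k') :=
    Algebra.TensorProduct.nontrivial_of_algebraMap_injective_of_isDomain k K k'
      (algebraMap k K).injective (algebraMap k k').injective
  have hx : Polynomial.aeval ((1 : K) ⊗ₜ[k] α) ((minpoly k α).map (algebraMap k K)) = 0 := by
    rw [Polynomial.aeval_map_algebraMap]
    have : ((1 : K) ⊗ₜ[k] α) = (Algebra.TensorProduct.includeRight : k' →ₐ[k] K ⊗[k] k') α := rfl
    rw [this, Polynomial.aeval_algHom_apply, minpoly.aeval, map_zero]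
  let f : AdjoinRoot ((minpoly k α).map (algebraMap k K)) →ₐ[K] K ⊗[k] k' :=
    AdjoinRoot.liftAlgHom _ (Algebra.ofId K _) ((1 : K) ⊗ₜ[k] α) (by
      rw [Polynomial.aeval_def] at hx
      exact hx)
  have hinj : Function.Injective f := f.toRingHom.injective
  have hdim : Module.finrank K (AdjoinRoot ((minpoly k α).map (algebraMap k K))) =
      Module.finrank K (K ⊗[k] k') := by
    rw [Module.finrank_baseChange, hfr, (AdjoinRoot.powerBasis hq0).finrank,
      AdjoinRoot.powerBasis_dim, Polynomial.natDegree_map]
  haveI : FiniteDimensional K (AdjoinRoot ((minpoly k α).map (algebraMap k K))) :=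
    (AdjoinRoot.powerBasis hq0).finite
  haveI : FiniteDimensional K (K ⊗[k] k') := Module.Finite.base_change k K k'
  have hsurj : Function.Surjective f :=
    (LinearMap.injective_iff_surjective_of_finrank_eq_finrank (f := f.toLinearMap) hdim).mp hinj
  let e : AdjoinRoot ((minpoly k α).map (algebraMap k K)) ≃+* K ⊗[k] k' :=
    RingEquiv.ofBijective f ⟨hinj, hsurj⟩
  exact e.symm.toMulEquiv.isField (Field.toIsField _)

end Groth.Agent.H55
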