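import Groth.Agent.H55.FFOver
import Groth.Agent.S11013
import Mathlib

/-!
Conorm of divisors, embeddings of a function field into itself, Galois action on places.
-/

set_option autoImplicit false

namespace Groth.Agent.H55

open FunFld WithZero Polynomial IntermediateField

section Conorm

variable {k K K' : Type*} [Field k] [Field K] [Field K'] [Algebra k K] [Algebra K K']
  [Algebra k K'] [IsScalarTower k K K']

theorem isOverWith_trans {K'' : Type*} [Field K''] [Algebra k K''] [Algebra K' K'']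
    [Algebra K K''] [IsScalarTower K K' K'']
    {Q'' : Place k K''} {Q' : Place k K'} {P : Place k K} {e₁ e₂ : ℕ}
    (h₂ : IsOverWith Q'' Q' e₂) (h₁ : IsOverWith Q' P e₁) : IsOverWith Q'' P (e₁ * e₂) := by
  intro x
  rw [IsScalarTower.algebraMap_apply K K' K'', h₂, h₁, pow_mul]

/-- Value of the conorm at a place, assuming finiteness of the fibres. -/
theorem conorm_apply' (hfin : ∀ P' : Place k K, {Q : Place k K' | IsOver Q P'}.Finite)
    (D : Divisor k K) {Q : Place k K'} {P : Place k K} {e : ℕ} (h : IsOverWith Q P e) :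
    conorm K' D Q = (e : ℤ) * D P := by
  classical
  unfold conorm
  rw [Finsupp.sum_apply]
  have hterm : ∀ (P' : Place k K) (n : ℤ),
      (n • if h : {Q : Place k K' | IsOver Q P'}.Finite then
        h.toFinset.sum (fun Q => (ramIdx Q P' : ℤ) • (Finsupp.single Q 1 : Divisor k K'))
          else 0) Q = n * (ramIdx Q P' : ℤ) := by
    intro P' n
    have hf := hfin P'
    rw [dif_pos hf, Finsupp.smul_apply, Finsupp.finsetSum_apply, smul_eq_mul]
    congr 1
    by_cases hQ : IsOver Q P'
    · rw [Finset.sum_eq_single Q]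
      · rw [Finsupp.smul_apply, Finsupp.single_eq_same, smul_eq_mul, mul_one]
      · intro b _ hb
        rw [Finsupp.smul_apply, Finsupp.single_apply, if_neg hb, smul_zero]
      · intro hQn
        exact absurd ((Set.Finite.mem_toFinset hf).mpr hQ) hQn
    · rw [ramIdx_eq_zero hQ, Nat.cast_zero]
      apply Finset.sum_eq_zero
      intro b hb
      have hbQ : b ≠ Q := by
        rintro rfl
        exact hQ ((Set.Finite.mem_toFinset hf).mp hb)
      rw [Finsupp.smul_apply, Finsupp.single_apply, if_neg hbQ, smul_zero]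
  rw [Finsupp.sum_congr (g2 := fun P' n => n * (ramIdx Q P' : ℤ)) (fun P' _ => hterm P' _)]
  rw [Finsupp.sum, Finset.sum_eq_single P]
  · rw [ramIdx_eq h]; ring
  · intro P' _ hP'
    have h0 : ramIdx Q P' = 0 := by
      apply ramIdx_eq_zero
      rintro ⟨e', h'⟩
      exact hP' (isOverWith_unique h' h).1
    rw [h0, Nat.cast_zero, mul_zero]
  · intro hP
    have : D P = 0 := by simpa [Finsupp.mem_support_iff] using hP
    rw [this, zero_mul]

theorem conorm_apply (hK : FunFld.IsFunctionField k K) [FiniteDimensional K K']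
    (D : Divisor k K) {Q : Place k K'} {P : Place k K} {e : ℕ} (h : IsOverWith Q P e) :
    conorm K' D Q = (e : ℤ) * D P :=
  conorm_apply' (fun P' => (sum_ramIdx_mul_deg (K' := K') hK P').1) D h

theorem conormP_deg (hK : FunFld.IsFunctionField k K) [FiniteDimensional K K'] (P : Place k K)
    (hf : {Q : Place k K' | IsOver Q P}.Finite) :
    Divisor.deg (hf.toFinset.sum
      (fun Q => (ramIdx Q P : ℤ) • (Finsupp.single Q 1 : Divisor k K')) : Divisor k K')
      = Module.finrank K K' * P.deg := by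
  classical
  rw [← degHom_apply, map_sum]
  have h := (sum_ramIdx_mul_deg (K' := K') hK P).2 hf.toFinset
    (fun Q => by rw [Set.Finite.mem_toFinset]; exact Iff.rfl)
  have hterm : ∀ Q ∈ hf.toFinset,
      degHom k K' ((ramIdx Q P : ℤ) • (Finsupp.single Q 1 : Divisor k K'))
        = ((ramIdx Q P * Q.deg : ℕ) : ℤ) := by
    intro Q _
    rw [map_zsmul, degHom_apply, deg_single, smul_eq_mul, one_mul, Nat.cast_mul]
  rw [Finset.sum_congr rfl hterm, ← Nat.cast_sum, h, Nat.cast_mul]

/-- `deg N*(D) = [K':K] deg D`. -/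
theorem deg_conorm (hK : FunFld.IsFunctionField k K) [FiniteDimensional K K']
    (D : Divisor k K) : (conorm K' D).deg = Module.finrank K K' * D.deg := by
  classical
  unfold conorm
  rw [← degHom_apply, map_finsuppSum]
  unfold Divisor.deg
  rw [Finsupp.mul_sum]
  apply Finsupp.sum_congr
  intro P _
  have hf := (sum_ramIdx_mul_deg (K' := K') hK P).1
  rw [dif_pos hf, map_zsmul, degHom_apply, conormP_deg hK P hf, smul_eq_mul]
  ring

/-- `[x]_{K'} = N*([x]_K)`. -/
theorem div_algebraMap_eq_conorm (hK : FunFld.IsFunctionField k K) [FiniteDimensional K K']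
    (x : K) : FunFld.div k (algebraMap K K' x) = conorm K' (FunFld.div k x) := by
  have hK' : G.IsFF1 k K' := isFF1_of_finite (G.isFF1_of_isFunctionField hK)
  ext Q
  obtain ⟨P, e, h⟩ := exists_place_under (G.isFF1_of_isFunctionField hK) Q
  rw [conorm_apply hK _ h, G.div_apply hK', div_apply hK, ord_eq_of_isOverWith h]

/-- The divisor of a projective map with entries in `K`, viewed in `K'`, is the conorm. -/
theorem mapDiv_algebraMap_eq_conorm (hK : FunFld.IsFunctionField k K)
    (hK' : FunFld.IsFunctionField k K') [FiniteDimensional K K']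
    {ι : Type*} [Fintype ι] [Nonempty ι] (φ : ι → K) :
    mapDiv k (fun i => algebraMap K K' (φ i)) = conorm K' (mapDiv k φ) := by
  ext Q
  obtain ⟨P, e, h⟩ := exists_place_under (G.isFF1_of_isFunctionField hK) Q
  rw [conorm_apply hK _ h, mapDiv_apply hK', mapDiv_apply hK]
  simp only [ord_eq_of_isOverWith h]
  obtain ⟨j, -, hj⟩ := Finset.exists_mem_eq_inf' Finset.univ_nonempty (fun i => P.ord (φ i))
  rw [hj]
  have : Finset.univ.inf' Finset.univ_nonempty (fun i => (e : ℤ) * P.ord (φ i))
      = (e : ℤ) * P.ord (φ j) := by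
    apply le_antisymm
    · exact Finset.inf'_le _ (Finset.mem_univ j)
    · apply Finset.le_inf'
      intro i _
      apply mul_le_mul_of_nonneg_left _ (by positivity)
      rw [← hj]
      exact Finset.inf'_le _ (Finset.mem_univ i)
  rw [this]; ring

/-- Conorms compose. -/
theorem conorm_conorm {K'' : Type*} [Field K''] [Algebra k K''] [Algebra K' K'']
    [Algebra K K''] [IsScalarTower k K' K''] [IsScalarTower k K K''] [IsScalarTower K K' K'']
    [FiniteDimensional K K'] [FiniteDimensional K' K'']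
    (hK : FunFld.IsFunctionField k K) (D : Divisor k K) :
    conorm K'' (conorm K' D) = conorm K'' D := by
  haveI : FiniteDimensional K K'' := FiniteDimensional.trans K K' K''
  have hK1 : G.IsFF1 k K := G.isFF1_of_isFunctionField hK
  have hK' : G.IsFF1 k K' := isFF1_of_finite hK1
  have hfin12 : ∀ Q' : Place k K', {Q'' : Place k K'' | IsOver Q'' Q'}.Finite := by
    intro Q'
    obtain ⟨P, e₁, h₁⟩ := exists_place_under hK1 Q'
    refine ((sum_ramIdx_mul_deg (K' := K'') hK P).1).subset ?_
    rintro Q'' ⟨e₂, h₂⟩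
    exact ⟨e₁ * e₂, isOverWith_trans h₂ h₁⟩
  ext Q''
  obtain ⟨Q', e₂, h₂⟩ := exists_place_under hK' Q''
  obtain ⟨P, e₁, h₁⟩ := exists_place_under hK1 Q'
  rw [conorm_apply' hfin12 _ h₂, conorm_apply hK _ h₁,
    conorm_apply hK _ (isOverWith_trans h₂ h₁)]
  push_cast
  ring

end Conorm

section Tau

variable {k K : Type*} [Field k] [Field K] [Algebra k K]

/-- `K` regarded as an extension of itself through `τ`. -/
def TauTop (_τ : K →ₐ[k] K) : Type _ := K

noncomputable instance (τ : K →ₐ[k] K) : Field (TauTop τ) := inferInstanceAs (Field K)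

noncomputable instance (τ : K →ₐ[k] K) : Algebra k (TauTop τ) := inferInstanceAs (Algebra k K)

noncomputable instance (τ : K →ₐ[k] K) : Algebra K (TauTop τ) := τ.toRingHom.toAlgebra

instance (τ : K →ₐ[k] K) : IsScalarTower k K (TauTop τ) :=
  IsScalarTower.of_algebraMap_eq (fun c => (τ.commutes c).symm)

theorem tauTop_algebraMap (τ : K →ₐ[k] K) (x : K) : algebraMap K (TauTop τ) x = τ x := rfl

/-- `τ` as a ring isomorphism onto its range. -/
noncomputable def tauEquiv (τ : K →ₐ[k] K) : K ≃+* τ.fieldRange :=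
  RingEquiv.ofBijective
    ((τ : K →+* K).codRestrict τ.fieldRange (fun a => ⟨a, rfl⟩))
    ⟨fun a b h => τ.injective (congrArg Subtype.val h),
     fun y => by
      obtain ⟨a, ha⟩ := y.2
      exact ⟨a, Subtype.ext ha⟩⟩

theorem tauEquiv_apply (τ : K →ₐ[k] K) (a : K) : ((tauEquiv τ a : τ.fieldRange) : K) = τ a := rfl

theorem finite_tauTop (hK : FunFld.IsFunctionField k K) (τ : K →ₐ[k] K) :
    FiniteDimensional K (TauTop τ) := by
  classical
  obtain ⟨x, hxt, -⟩ := hK.1
  have hτx : Transcendental k (τ x) := fun h =>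
    hxt ((isAlgebraic_algHom_iff τ τ.injective).mp h)
  haveI := ff_finite hK hτx
  have hle : k⟮τ x⟯ ≤ τ.fieldRange := by
    rw [IntermediateField.adjoin_simple_le_iff]; exact ⟨x, rfl⟩
  letI : Algebra k⟮τ x⟯ τ.fieldRange := (IntermediateField.inclusion hle).toAlgebra
  haveI : IsScalarTower k⟮τ x⟯ τ.fieldRange K := IsScalarTower.of_algebraMap_eq (fun _ => rfl)
  haveI : FiniteDimensional τ.fieldRange K := FiniteDimensional.right k⟮τ x⟯ τ.fieldRange K
  refine Module.Finite.of_equiv_equiv (A₁ := τ.fieldRange) (B₁ := K) (A₂ := K) (B₂ := TauTop τ)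
    (tauEquiv τ).symm (RingEquiv.refl K) ?_
  ext y
  show τ ((tauEquiv τ).symm y) = (y : K)
  rw [← tauEquiv_apply, RingEquiv.apply_symm_apply]

theorem finrank_tauTop (τ : K →ₐ[k] K) :
    Module.finrank K (TauTop τ) = Module.finrank τ.fieldRange K :=
  Algebra.finrank_eq_of_equiv_equiv (tauEquiv τ) (RingEquiv.refl K) (by ext a; rfl)

/-- `deg [τ(φ)] = [K : τ K] deg [φ]`. -/
theorem deg_mapDiv_comp (hK : FunFld.IsFunctionField k K) (τ : K →ₐ[k] K)
    {ι : Type*} [Fintype ι] [Nonempty ι] (φ : ι → K) :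
    (mapDiv k (τ ∘ φ)).deg = Module.finrank τ.fieldRange K * (mapDiv k φ).deg := by
  haveI := finite_tauTop hK τ
  have hK' : FunFld.IsFunctionField k (TauTop τ) := hK
  have h1 : (mapDiv k (fun i => algebraMap K (TauTop τ) (φ i))).deg
      = Module.finrank K (TauTop τ) * (mapDiv k φ).deg := by
    rw [mapDiv_algebraMap_eq_conorm hK hK' φ, deg_conorm hK]
  rw [← finrank_tauTop τ]
  exact h1

end Tau

section DegComap

variable {k K : Type*} [Field k] [Field K] [Algebra k K]

/-- `σ` as a ring isomorphism between the valuation rings of `P ∘ σ` and `P`. -/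
noncomputable def comapRingEquiv (P : Place k K) (σ : K ≃ₐ[k] K) :
    (comapEquiv P σ).O ≃+* P.O where
  toFun x := ⟨σ x.1, x.2⟩
  invFun y := ⟨σ.symm y.1, by
    show P.1 (σ (σ.symm y.1)) ≤ 1
    rw [σ.apply_symm_apply]; exact y.2⟩
  left_inv x := Subtype.ext (σ.symm_apply_apply x.1)
  right_inv y := Subtype.ext (σ.apply_symm_apply y.1)
  map_mul' x y := Subtype.ext (map_mul σ x.1 y.1)
  map_add' x y := Subtype.ext (map_add σ x.1 y.1)

theorem deg_comapEquiv (P : Place k K) (σ : K ≃ₐ[k] K) : (comapEquiv P σ).deg = P.deg := by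
  unfold Place.deg
  have hf : ∀ c : k, IsLocalRing.ResidueField.mapEquiv (comapRingEquiv P σ)
      (algebraMap k (IsLocalRing.ResidueField (comapEquiv P σ).O) c)
        = algebraMap k (IsLocalRing.ResidueField P.O) c := by
    intro c
    show IsLocalRing.residue _ ((comapRingEquiv P σ) (algebraMap k (comapEquiv P σ).O c))
      = IsLocalRing.residue _ (algebraMap k P.O c)
    congr 1
    apply Subtype.ext
    exact σ.commutes c
  exact (AlgEquiv.ofRingEquiv hf).toLinearEquiv.finrank_eq

end DegComap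

section Galois

open scoped Pointwise

variable {k K K' : Type*} [Field k] [Field K] [Field K'] [Algebra k K] [Algebra K K']
  [Algebra k K'] [IsScalarTower k K K']

/-- `Q ∘ σ` for `σ ∈ Gal(K'/K)`. -/
noncomputable def comapGal (Q : Place k K') (σ : K' ≃ₐ[K] K') : Place k K' :=
  comapEquiv Q (σ.restrictScalars k)

theorem comapGal_apply (Q : Place k K') (σ : K' ≃ₐ[K] K') (x : K') :
    (comapGal Q σ).1 x = Q.1 (σ x) := rfl

theorem comapGal_isOverWith {Q : Place k K'} {P : Place k K} {e : ℕ} (h : IsOverWith Q P e)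
    (σ : K' ≃ₐ[K] K') : IsOverWith (comapGal Q σ) P e := by
  intro x
  rw [comapGal_apply, σ.commutes]; exact h x

theorem comapGal_deg (Q : Place k K') (σ : K' ≃ₐ[K] K') : (comapGal Q σ).deg = Q.deg :=
  deg_comapEquiv Q _

theorem comapGal_O (Q : Place k K') (σ : K' ≃ₐ[K] K') : (comapGal Q σ).O = σ⁻¹ • Q.O := by
  ext x
  rw [ValuationSubring.mem_inv_pointwise_smul_iff]
  exact Iff.rfl

/-- Galois action on the places above `P`: orbit-stabilizer and constancy of `e`, `f`. -/
theorem galois_places [FiniteDimensional K K'] (hK : FunFld.IsFunctionField k K)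
    (hg : FunFld.IsGeometric k K) [IsGalois K K'] (Q : Place k K') (P : Place k K) (e : ℕ)
    (he : IsOverWith Q P e) :
    Nat.card {Q' : Place k K' // IsOver Q' P} *
        Nat.card ((Q.O).decompositionSubgroup K) = Module.finrank K K' ∧
    ∀ Q' : Place k K', IsOver Q' P → IsOverWith Q' P e ∧ Q'.deg = Q.deg := by
  classical
  have he0 := isOverWith_pos he
  have htrans : ∀ Q' : Place k K', IsOver Q' P → ∃ σ : K' ≃ₐ[K] K', Q' = comapGal Q σ := by
    rintro Q' ⟨e', he'⟩
    have he'0 := isOverWith_pos he'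
    have hequiv : (Q.1.comap (algebraMap K K')).IsEquiv (Q'.1.comap (algebraMap K K')) := by
      intro x y
      show Q.1 (algebraMap K K' x) ≤ Q.1 (algebraMap K K' y) ↔
        Q'.1 (algebraMap K K' x) ≤ Q'.1 (algebraMap K K' y)
      rw [he x, he y, he' x, he' y, pow_le_pow_iff_left₀ zero_le' zero_le' he0.ne',
        pow_le_pow_iff_left₀ zero_le' zero_le' he'0.ne']
    obtain ⟨σ, hσ⟩ := Groth.Agent.S11013.result k K K' hK hg Q Q' hequiv
    refine ⟨σ, ?_⟩
    apply pl_ext
    intro x
    rw [comapGal_apply, ← hσ]; rfl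
  have h2 : ∀ Q' : Place k K', IsOver Q' P → IsOverWith Q' P e ∧ Q'.deg = Q.deg := by
    intro Q' hQ'
    obtain ⟨σ, rfl⟩ := htrans Q' hQ'
    exact ⟨comapGal_isOverWith he σ, comapGal_deg Q σ⟩
  refine ⟨?_, h2⟩
  rw [← IsGalois.card_aut_eq_finrank K K',
    ← Subgroup.card_mul_index (ValuationSubring.decompositionSubgroup K Q.O), mul_comm]
  congr 1
  rw [MulAction.index_stabilizer, ← Nat.card_coe_set_eq]
  refine Nat.card_congr (Equiv.ofBijective (fun Q' => ⟨Q'.1.O, ?_⟩) ⟨?_, ?_⟩)
  · obtain ⟨σ, hσ⟩ := htrans Q'.1 Q'.2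
    rw [hσ, comapGal_O]; exact MulAction.mem_orbit _ _
  · intro Q₁ Q₂ h
    have h' : Q₁.1.O = Q₂.1.O := congrArg Subtype.val h
    apply Subtype.ext
    apply pl_eq_of_le
    intro x hx
    have h3 : x ∈ Q₁.1.O := hx
    rw [h'] at h3; exact h3
  · rintro ⟨A, hA⟩
    obtain ⟨σ, rfl⟩ := MulAction.mem_orbit_iff.mp hA
    refine ⟨⟨comapGal Q σ⁻¹, ⟨e, comapGal_isOverWith he σ⁻¹⟩⟩, ?_⟩
    apply Subtype.ext
    show (comapGal Q σ⁻¹).O = σ • Q.O
    rw [comapGal_O, inv_inv]

/-- `|G₀| deg P = e deg Q`. -/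
theorem card_decomposition_mul_deg [FiniteDimensional K K'] (hK : FunFld.IsFunctionField k K)
    (hg : FunFld.IsGeometric k K) [IsGalois K K'] (Q : Place k K') (P : Place k K) (e : ℕ)
    (he : IsOverWith Q P e) :
    Nat.card ((Q.O).decompositionSubgroup K) * P.deg = e * Q.deg := by
  classical
  obtain ⟨h1, h2⟩ := galois_places hK hg Q P e he
  obtain ⟨hfin, hsum⟩ := sum_ramIdx_mul_deg (K' := K') hK P
  have hs := hsum hfin.toFinset (fun Q' => by rw [Set.Finite.mem_toFinset]; exact Iff.rfl)
  have hterm : ∀ Q' ∈ hfin.toFinset, ramIdx Q' P * Q'.deg = e * Q.deg := by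
    intro Q' hQ'
    have hQ'' : IsOver Q' P := (Set.Finite.mem_toFinset hfin).mp hQ'
    obtain ⟨h3, h4⟩ := h2 Q' hQ''
    rw [ramIdx_eq h3, h4]
  rw [Finset.sum_congr rfl hterm, Finset.sum_const, smul_eq_mul] at hs
  have hcard : hfin.toFinset.card = Nat.card {Q' : Place k K' // IsOver Q' P} := by
    rw [← Set.ncard_eq_toFinset_card _ hfin, ← Nat.card_coe_set_eq]; rfl
  rw [hcard, ← h1] at hs
  have hr : 0 < Nat.card {Q' : Place k K' // IsOver Q' P} := by
    haveI : Finite {Q' : Place k K' // IsOver Q' P} := hfin.to_subtype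
    haveI : Nonempty {Q' : Place k K' // IsOver Q' P} := ⟨⟨Q, e, he⟩⟩
    exact Nat.card_pos
  have h5 : Nat.card {Q' : Place k K' // IsOver Q' P} * (e * Q.deg)
      = Nat.card {Q' : Place k K' // IsOver Q' P} *
        (Nat.card ((Q.O).decompositionSubgroup K) * P.deg) := by
    rw [hs]; ring
  exact (Nat.eq_of_mul_eq_mul_left hr h5).symm

end Galois

end Groth.Agent.H55
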