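import Groth.Agent.H55.FFHyper4
import Groth.Agent.H55.FFOver2
import Groth.Agent.H55.FFRR
import Mathlib

/-!
The genus of a hyperelliptic function field `y² = f(x)`, `char ≠ 2`.
-/

set_option autoImplicit false

namespace Groth.Agent.H55

open FunFld WithZero Polynomial IntermediateField

section

variable {k K : Type*} [Field k] [Field K] [Algebra k K]

theorem hyper_sigma (h2 : ringChar k ≠ 2) (x y : K) (hx : Transcendental k x)
    (hxy : IntermediateField.adjoin k ({x, y} : Set K) = ⊤)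
    (f : Polynomial k) (hf : Squarefree f) (hd : 1 ≤ f.natDegree)
    (heq : y ^ 2 = Polynomial.aeval x f) :
    Module.finrank k⟮x⟯ K = 2 ∧ y ∉ (algebraMap k⟮x⟯ K).range ∧
    ∃ σ : K ≃ₐ[k⟮x⟯] K, σ y = -y ∧ (∀ w : K, σ (σ w) = w) ∧
      ∀ w : K, σ w = w → ∃ a : k⟮x⟯, algebraMap k⟮x⟯ K a = w := by
  classical
  have hgxK : algebraMap k⟮x⟯ K (AdjoinSimple.gen k x) = x := AdjoinSimple.algebraMap_gen k x
  obtain ⟨fF, hfF⟩ : ∃ fF : k⟮x⟯, fF = aeval (AdjoinSimple.gen k x) f := ⟨_, rfl⟩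
  have hfFK : algebraMap k⟮x⟯ K fF = aeval x f := by
    rw [hfF, ← Polynomial.aeval_algebraMap_apply, hgxK]
  have heq' : y ^ 2 = algebraMap k⟮x⟯ K fF := by rw [hfFK]; exact heq
  have hyint : IsIntegral k⟮x⟯ y := by
    refine ⟨X ^ 2 - C fF, Polynomial.monic_X_pow_sub_C fF two_ne_zero, ?_⟩
    rw [eval₂_sub, eval₂_pow, eval₂_X, eval₂_C, heq', sub_self]
  have htop : k⟮x⟯⟮y⟯ = ⊤ := by
    rw [← IntermediateField.restrictScalars_eq_top_iff (K := k), adjoin_simple_adjoin_simple]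
    exact hxy
  haveI hfinFy : FiniteDimensional k⟮x⟯ k⟮x⟯⟮y⟯ := adjoin.finiteDimensional hyint
  have eTop : k⟮x⟯⟮y⟯ ≃ₐ[k⟮x⟯] K :=
    (IntermediateField.equivOfEq htop).trans IntermediateField.topEquiv
  haveI hfin : FiniteDimensional k⟮x⟯ K := Module.Finite.equiv eTop.toLinearEquiv
  obtain ⟨φ, hφ⟩ : ∃ φ : RatFunc k ≃ₐ[k] k⟮x⟯, φ = RatFunc.algEquivOfTranscendental x hx :=
    ⟨_, rfl⟩
  have hφf : φ.symm fF = algebraMap k[X] (RatFunc k) f := by
    rw [hφ, hfF]
    exact RatFunc.algEquivOfTranscendental_symm_aeval x hx f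
  have hsq : ∀ (b : k⟮x⟯) (c : k), b ^ 2 * fF = algebraMap k k⟮x⟯ c → b = 0 := by
    intro b c h
    have h' := congrArg φ.symm h
    rw [map_mul, map_pow, hφf, φ.symm.commutes] at h'
    have h3 := ratfunc_sq_mul_ne_const hf hd (φ.symm b) c h'
    exact (map_eq_zero_iff φ.symm φ.symm.injective).mp h3
  have hfF0 : fF ≠ 0 := by
    intro h0
    have h1 := congrArg φ.symm h0
    rw [hφf, map_zero] at h1
    exact hf.ne_zero (RatFunc.algebraMap_injective k (by rw [h1, map_zero]))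
  have hyF : y ∉ (algebraMap k⟮x⟯ K).range := by
    rintro ⟨b, hb⟩
    have hb2 : b ^ 2 = fF := by
      apply (algebraMap k⟮x⟯ K).injective
      rw [map_pow, hb]; exact heq'
    have hb0 : b ≠ 0 := by
      rintro rfl
      rw [zero_pow two_ne_zero] at hb2
      exact hfF0 hb2.symm
    have h3 := hsq b⁻¹ 1 (by rw [map_one, inv_pow, ← hb2, inv_mul_cancel₀ (pow_ne_zero 2 hb0)])
    exact inv_ne_zero hb0 h3
  have hmin2 : (minpoly k⟮x⟯ y).natDegree = 2 := by
    have h1 := (minpoly.two_le_natDegree_iff hyint).mpr hyF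
    have h2' : (minpoly k⟮x⟯ y).natDegree ≤ 2 := by
      have hdvd : minpoly k⟮x⟯ y ∣ X ^ 2 - C fF :=
        minpoly.dvd _ _ (by rw [aeval_def, eval₂_sub, eval₂_pow, eval₂_X, eval₂_C, heq',
          sub_self])
      have h3 := Polynomial.natDegree_le_of_dvd hdvd (Polynomial.X_pow_sub_C_ne_zero two_pos fF)
      rwa [Polynomial.natDegree_X_pow_sub_C] at h3
    omega
  have hdeg : Module.finrank k⟮x⟯ K = 2 := by
    rw [← eTop.toLinearEquiv.finrank_eq, IntermediateField.adjoin.finrank hyint, hmin2]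
  have h2F : (2 : k⟮x⟯) ≠ 0 := by
    have h3 := (map_ne_zero_iff (algebraMap k k⟮x⟯)
      (algebraMap k k⟮x⟯).injective).mpr (Ring.two_ne_zero h2)
    rwa [map_ofNat] at h3
  have h2K : (2 : K) ≠ 0 := by
    have h3 := (map_ne_zero_iff (algebraMap k K)
      (algebraMap k K).injective).mpr (Ring.two_ne_zero h2)
    rwa [map_ofNat] at h3
  have h2k : (2 : k) ≠ 0 := Ring.two_ne_zero h2
  haveI : Algebra.IsQuadraticExtension k⟮x⟯ K := { finrank_eq_two' := hdeg }
  haveI : Algebra.IsSeparable k⟮x⟯ K := quadratic_separable h2F hdeg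
  haveI : IsGalois k⟮x⟯ K := inferInstance
  have hcard : Nat.card (K ≃ₐ[k⟮x⟯] K) = 2 := by
    rw [IsGalois.card_aut_eq_finrank, hdeg]
  obtain ⟨σ, hσ1, hσuniq⟩ := (Nat.card_eq_two_iff' (1 : K ≃ₐ[k⟮x⟯] K)).mp hcard
  have hadj : Algebra.adjoin k⟮x⟯ ({y} : Set K) = ⊤ := by
    rw [← IntermediateField.adjoin_simple_toSubalgebra_of_isAlgebraic hyint.isAlgebraic,
      htop, IntermediateField.top_toSubalgebra]
  have hσy : σ y = -y := by
    have hsq' : (σ y) ^ 2 = y ^ 2 := by rw [← map_pow, heq', σ.commutes]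
    have hprod : (σ y - y) * (σ y + y) = 0 := by
      have h3 : (σ y - y) * (σ y + y) = (σ y) ^ 2 - y ^ 2 := by ring
      rw [h3, hsq', sub_self]
    rcases mul_eq_zero.mp hprod with h | h
    · exfalso
      apply hσ1
      have hfix : σ y = y := sub_eq_zero.mp h
      have hhom : (σ : K →ₐ[k⟮x⟯] K) = AlgHom.id k⟮x⟯ K := by
        apply AlgHom.ext_of_adjoin_eq_top hadj
        intro w hw
        rw [Set.mem_singleton_iff] at hw
        subst hw
        exact hfix
      exact AlgEquiv.ext (fun w => DFunLike.congr_fun hhom w)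
    · exact eq_neg_of_add_eq_zero_left h
  have hsq1 : σ * σ = 1 := by
    by_contra hne
    have h3 := hσuniq (σ * σ) hne
    exact hσ1 (mul_left_cancel (h3.trans (mul_one σ).symm))
  have hσσ : ∀ w : K, σ (σ w) = w := by
    intro w
    rw [← AlgEquiv.mul_apply, hsq1, AlgEquiv.one_apply]
  have hall : ∀ τ : K ≃ₐ[k⟮x⟯] K, τ = 1 ∨ τ = σ := fun τ => by
    by_cases h : τ = 1
    · exact Or.inl h
    · exact Or.inr (hσuniq τ h)
  have hfixed : ∀ w : K, σ w = w → ∃ a : k⟮x⟯, algebraMap k⟮x⟯ K a = w := by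
    intro w hw
    exact (IsGalois.mem_range_algebraMap_iff_fixed (F := k⟮x⟯) w).mpr (fun τ => by
      rcases hall τ with rfl | rfl
      · rfl
      · exact hw)
  exact ⟨hdeg, hyF, σ, hσy, hσσ, hfixed⟩

theorem val_aeval_of_one_lt (P : Place k K) {x : K} (hx : 1 < P.1 x) {u : k[X]} (hu : u ≠ 0) :
    P.1 (aeval x u) = P.1 x ^ u.natDegree := by
  haveI := pl_isTrivialOn P
  exact Polynomial.valuation_aeval_eq_valuation_X_pow_natDegree_of_one_lt_valuation_X x hx hu

theorem exp_poleDiv (hK : FunFld.IsFunctionField k K) (x : K) (P : Place k K) :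
    exp (poleDiv k x P) = max (P.1 x) 1 := by
  rw [poleDiv_apply hK]
  by_cases hx0 : x = 0
  · subst hx0
    rw [pl_ord_zero, map_zero]
    simp
  · rcases le_or_gt (P.1 x) 1 with h | h
    · have h0 := (pl_val_le_one_iff P hx0).mp h
      rw [max_eq_right (by omega), max_eq_right h, exp_zero]
    · have h0 := (pl_one_lt_val_iff P x).mp h
      rw [max_eq_left (by omega), max_eq_left h.le, ← pl_val_eq_exp_neg_ord P hx0]

theorem mem_L_nsmul_poleDiv (hK : FunFld.IsFunctionField k K) (x z : K) (n : ℕ) :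
    z ∈ L (n • poleDiv k x) ↔ ∀ P : Place k K, P.1 z ≤ (max (P.1 x) 1) ^ n := by
  rw [mem_L]
  refine forall_congr' (fun P => ?_)
  rw [Finsupp.smul_apply, exp_nsmul, exp_poleDiv hK]

theorem aeval_mem_L (hK : FunFld.IsFunctionField k K) (x : K) (n : ℕ) (u : k[X])
    (hu : u.natDegree ≤ n) : aeval x u ∈ L (n • poleDiv k x) := by
  rw [mem_L_nsmul_poleDiv hK]
  intro P
  rcases le_or_gt (P.1 x) 1 with h | h
  · rw [max_eq_right h, one_pow]
    exact val_aeval_le_one P h u
  · rw [max_eq_left h.le]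
    by_cases hu0 : u = 0
    · rw [hu0, map_zero, map_zero]; exact zero_le'
    · rw [val_aeval_of_one_lt P h hu0]
      exact pow_le_pow_right₀ h.le hu

theorem exists_coprime_repr (r s : k[X]) (hs : s ≠ 0) :
    ∃ r' s' g : k[X], g ≠ 0 ∧ r = g * r' ∧ s = g * s' ∧ IsCoprime r' s' := by
  classical
  obtain ⟨g, hgdef⟩ : ∃ g, g = EuclideanDomain.gcd r s := ⟨_, rfl⟩
  obtain ⟨r', hr'⟩ : g ∣ r := hgdef ▸ EuclideanDomain.gcd_dvd_left r s
  obtain ⟨s', hs'⟩ : g ∣ s := hgdef ▸ EuclideanDomain.gcd_dvd_right r s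
  have hg : g ≠ 0 := fun h => hs (EuclideanDomain.gcd_eq_zero_iff.mp (hgdef ▸ h)).2
  obtain ⟨A, B, hb⟩ : ∃ A B, g = r * A + s * B :=
    ⟨_, _, hgdef ▸ EuclideanDomain.gcd_eq_gcd_ab r s⟩
  refine ⟨r', s', g, hg, hr', hs', A, B, ?_⟩
  apply mul_left_cancel₀ hg
  calc g * (A * r' + B * s') = (g * r') * A + (g * s') * B := by ring
    _ = r * A + s * B := by rw [← hr', ← hs']
    _ = g := hb.symm
    _ = g * 1 := (mul_one g).symm

theorem aeval_mem_adjoin_simple (x : K) (u : k[X]) : aeval x u ∈ k⟮x⟯ :=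
  (IntermediateField.mem_adjoin_simple_iff k _).mpr ⟨u, 1, by simp⟩

theorem exists_coprime_frac {x : K} (hx : Transcendental k x) {a : K} (ha : a ∈ k⟮x⟯) :
    ∃ r s : k[X], s ≠ 0 ∧ IsCoprime r s ∧ a = aeval x r / aeval x s := by
  obtain ⟨r, s, hrs⟩ := (IntermediateField.mem_adjoin_simple_iff k a).mp ha
  by_cases hs0 : s = 0
  · exact ⟨0, 1, one_ne_zero, isCoprime_zero_left.mpr isUnit_one, by rw [hrs, hs0]; simp⟩
  obtain ⟨r', s', g, hg0, hr', hs', hcop⟩ := exists_coprime_repr r s hs0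
  have hinj := transcendental_iff_injective.mp hx
  have hgx : aeval x g ≠ 0 := fun h => hg0 (hinj (h.trans (map_zero _).symm))
  have hs'0 : s' ≠ 0 := by
    rintro rfl
    rw [mul_zero] at hs'
    exact hs0 hs'
  exact ⟨r', s', hs'0, hcop, by
    rw [hrs, hr', hs', map_mul, map_mul, mul_div_mul_left _ _ hgx]⟩

/-- Elements of `k(x)` in `L(n (x)_∞)` are polynomials in `x` of degree at most `n`. -/
theorem exists_poly_of_mem_L (hK : FunFld.IsFunctionField k K) (x : K) (hx : Transcendental k x)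
    (n : ℕ) (a : K) (ha : a ∈ k⟮x⟯) (haL : a ∈ L (n • poleDiv k x)) :
    ∃ u : k[X], u.natDegree ≤ n ∧ a = aeval x u := by
  classical
  rw [mem_L_nsmul_poleDiv hK] at haL
  obtain ⟨r', s', hs'0, hcop, ha'⟩ := exists_coprime_frac hx ha
  have hinj := transcendental_iff_injective.mp hx
  have hs'x : aeval x s' ≠ 0 := fun h => hs'0 (hinj (h.trans (map_zero _).symm))
  have hdeg0 : s'.natDegree = 0 := by
    by_contra hne
    have htr : Transcendental k (aeval x s') :=
      hx.aeval s' hne (mem_nonZeroDivisors_of_ne_zero (leadingCoeff_ne_zero.mpr hs'0))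
    obtain ⟨Q, hQ⟩ := exists_zero hK (aeval x s') htr
    have hQx : Q.1 x ≤ 1 := val_le_one_of_val_aeval_lt_one Q hs'0 hQ
    obtain ⟨A, B, hAB⟩ := hcop
    have h1 : aeval x A * aeval x r' + aeval x B * aeval x s' = 1 := by
      rw [← map_mul, ← map_mul, ← map_add, hAB, map_one]
    have hr1 : Q.1 (aeval x r') = 1 := by
      have hBs : Q.1 (aeval x B * aeval x s') < 1 := by
        rw [map_mul]
        calc Q.1 (aeval x B) * Q.1 (aeval x s') ≤ 1 * Q.1 (aeval x s') :=
              mul_le_mul' (val_aeval_le_one Q hQx B) le_rfl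
          _ = Q.1 (aeval x s') := one_mul _
          _ < 1 := hQ
      have hAr : Q.1 (aeval x A * aeval x r') = 1 := by
        have h2 : Q.1 (aeval x A * aeval x r' + aeval x B * aeval x s') = 1 := by
          rw [h1, map_one]
        by_contra hne
        have hlt : Q.1 (aeval x A * aeval x r') < 1 :=
          lt_of_le_of_ne (by
            rw [map_mul]
            exact mul_le_one' (val_aeval_le_one Q hQx A) (val_aeval_le_one Q hQx r')) hne
        have h3 := Q.1.map_add_lt hlt hBs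
        rw [h2] at h3
        exact lt_irrefl _ h3
      rw [map_mul] at hAr
      apply le_antisymm (val_aeval_le_one Q hQx r')
      by_contra hlt
      rw [not_le] at hlt
      have h4 : Q.1 (aeval x A) * Q.1 (aeval x r') < 1 := by
        calc Q.1 (aeval x A) * Q.1 (aeval x r') ≤ 1 * Q.1 (aeval x r') :=
              mul_le_mul' (val_aeval_le_one Q hQx A) le_rfl
          _ = Q.1 (aeval x r') := one_mul _
          _ < 1 := hlt
      rw [hAr] at h4
      exact lt_irrefl _ h4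
    have hQa := haL Q
    rw [max_eq_right hQx, one_pow, ha', map_div₀, hr1, one_div] at hQa
    have hpos : 0 < Q.1 (aeval x s') := zero_lt_iff.mpr ((Q.1.ne_zero_iff).mpr hs'x)
    have h5 := (inv_le_one₀ hpos).mp hQa
    exact absurd hQ (not_lt.mpr h5)
  obtain ⟨c, hc⟩ : ∃ c : k, s' = C c := ⟨s'.coeff 0, Polynomial.eq_C_of_natDegree_eq_zero hdeg0⟩
  have hc0 : c ≠ 0 := by
    rintro rfl
    rw [map_zero] at hc
    exact hs'0 hc
  obtain ⟨w, hw⟩ : ∃ w : k[X], w = C c⁻¹ * r' := ⟨_, rfl⟩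
  have haw : a = aeval x w := by
    rw [ha', hc, hw, map_mul, aeval_C, aeval_C, div_eq_inv_mul, ← map_inv₀]
  refine ⟨w, ?_, haw⟩
  by_cases hw0 : w = 0
  · rw [hw0]; simp
  obtain ⟨Q, hQ⟩ := exists_pole hK x hx
  have hQa := haL Q
  rw [max_eq_left hQ.le, haw, val_aeval_of_one_lt Q hQ hw0] at hQa
  exact (pow_le_pow_iff_right₀ hQ).mp hQa

theorem sigma_mem_L (hK : FunFld.IsFunctionField k K) (x : K) (σ : K ≃ₐ[k⟮x⟯] K) (n : ℕ) {z : K}
    (hz : z ∈ L (n • poleDiv k x)) : σ z ∈ L (n • poleDiv k x) := by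
  rw [mem_L_nsmul_poleDiv hK] at hz ⊢
  intro Q
  have h1 := hz (comapGal Q σ)
  rw [comapGal_apply, comapGal_apply] at h1
  have hσx : σ x = x := by
    have h0 := σ.commutes (AdjoinSimple.gen k x)
    rwa [AdjoinSimple.algebraMap_gen] at h0
  rwa [hσx] at h1

theorem exists_poly_of_sq_mul (hK : FunFld.IsFunctionField k K) (x : K) (hx : Transcendental k x)
    (f : k[X]) (hf : Squarefree f) (N : ℕ) (b : K) (hb : b ∈ k⟮x⟯)
    (hbL : b ^ 2 * aeval x f ∈ L (N • poleDiv k x)) :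
    ∃ v : k[X], b = aeval x v ∧ (v ^ 2 * f).natDegree ≤ N := by
  have hinj := transcendental_iff_injective.mp hx
  have hmem : b ^ 2 * aeval x f ∈ k⟮x⟯ :=
    k⟮x⟯.mul_mem (pow_mem hb 2) (aeval_mem_adjoin_simple x f)
  obtain ⟨q, hq, hbq⟩ := exists_poly_of_mem_L hK x hx N _ hmem hbL
  obtain ⟨b₁, b₂, hb₂0, hcop, hbfrac⟩ := exists_coprime_frac hx hb
  have hb₂x : aeval x b₂ ≠ 0 := fun h => hb₂0 (hinj (h.trans (map_zero _).symm))
  have hpoly : b₁ ^ 2 * f = q * b₂ ^ 2 := by
    apply hinj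
    rw [map_mul, map_mul, map_pow, map_pow, ← hbq, hbfrac, div_pow]
    field_simp
  have hdvd : b₂ * b₂ ∣ f := by
    have h1 : b₂ ^ 2 ∣ b₁ ^ 2 * f := ⟨q, by rw [hpoly]; ring⟩
    have hc2 : IsCoprime (b₂ ^ 2) (b₁ ^ 2) := hcop.symm.pow
    rw [← sq]
    exact hc2.dvd_of_dvd_mul_left h1
  have hunit : IsUnit b₂ := hf b₂ hdvd
  obtain ⟨c, hc, hcb⟩ := Polynomial.isUnit_iff.mp hunit
  have hc0 : c ≠ 0 := hc.ne_zero
  refine ⟨C c⁻¹ * b₁, ?_, ?_⟩
  · rw [hbfrac, ← hcb, map_mul, aeval_C, aeval_C, div_eq_inv_mul, map_inv₀]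
  · have h3 : (C c⁻¹ * b₁) ^ 2 * f = q := by
      calc (C c⁻¹ * b₁) ^ 2 * f = (C c⁻¹) ^ 2 * (b₁ ^ 2 * f) := by ring
        _ = (C c⁻¹) ^ 2 * (q * (C c) ^ 2) := by rw [hpoly, ← hcb]
        _ = q * (C (c⁻¹ * c)) ^ 2 := by rw [map_mul]; ring
        _ = q := by rw [inv_mul_cancel₀ hc0, map_one, one_pow, mul_one]
    rw [h3]
    exact hq

theorem natDegree_le_of_mem_degreeLT {u : k[X]} {n : ℕ} (h : u ∈ degreeLT k (n + 1)) :
    u.natDegree ≤ n := by
  by_cases hu0 : u = 0
  · rw [hu0]; simp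
  · have := (natDegree_lt_iff_degree_lt hu0).mpr (mem_degreeLT.mp h)
    omega

theorem mem_degreeLT_of_natDegree_le {u : k[X]} {n : ℕ} (h : u.natDegree ≤ n) :
    u ∈ degreeLT k (n + 1) :=
  mem_degreeLT.mpr (lt_of_le_of_lt degree_le_natDegree (by exact_mod_cast Nat.lt_succ_of_le h))

theorem genus_hyperelliptic (hK : FunFld.IsFunctionField k K) (h2 : ringChar k ≠ 2) (x y : K)
    (hx : Transcendental k x)
    (hxy : IntermediateField.adjoin k ({x, y} : Set K) = ⊤)
    (f : Polynomial k) (hf : Squarefree f) (hd : 1 ≤ f.natDegree)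
    (heq : y ^ 2 = Polynomial.aeval x f) :
    FunFld.genus k K = (f.natDegree - 1) / 2 := by
  classical
  obtain ⟨hdeg, hyF, σ, hσy, hσσ, hfixed⟩ := hyper_sigma h2 x y hx hxy f hf hd heq
  have h2k : (2 : k) ≠ 0 := Ring.two_ne_zero h2
  have h2K : (2 : K) ≠ 0 := by
    have h3 := (map_ne_zero_iff (algebraMap k K) (algebraMap k K).injective).mpr h2k
    rwa [map_ofNat] at h3
  have hinj := transcendental_iff_injective.mp hx
  have hy0 : y ≠ 0 := by
    rintro rfl
    exact hyF ⟨0, map_zero _⟩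
  have hσx : σ x = x := by
    have h0 := σ.commutes (AdjoinSimple.gen k x)
    rwa [AdjoinSimple.algebraMap_gen] at h0
  have hσu : ∀ u : k[X], σ (aeval x u) = aeval x u := by
    intro u
    have h := Polynomial.aeval_algHom_apply ((σ.restrictScalars k).toAlgHom) x u
    have h' : aeval (σ x) u = σ (aeval x u) := h
    rw [← h', hσx]
  obtain ⟨n, hn⟩ : ∃ n : ℕ, n = f.natDegree + FunFld.genus k K := ⟨_, rfl⟩
  obtain ⟨m, hm⟩ : ∃ m : ℕ, m = (2 * n - f.natDegree) / 2 := ⟨_, rfl⟩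
  have h2m : 2 * m + f.natDegree ≤ 2 * n := by omega
  let Φ : (degreeLT k (n + 1) × degreeLT k (m + 1)) →ₗ[k] K :=
    ((Polynomial.aeval x).toLinearMap.comp (degreeLT k (n + 1)).subtype).coprod
      (((LinearMap.mulRight k y).comp (Polynomial.aeval x).toLinearMap).comp
        (degreeLT k (m + 1)).subtype)
  have hΦ : ∀ p, Φ p = aeval x (p.1 : k[X]) + aeval x (p.2 : k[X]) * y := fun p => rfl
  have hΦinj : Function.Injective Φ := by
    rw [injective_iff_map_eq_zero]
    intro p hp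
    rw [hΦ] at hp
    have hp' := congrArg σ hp
    rw [map_add, map_mul, hσu, hσu, hσy, map_zero, mul_neg] at hp'
    have hU : aeval x (p.1 : k[X]) = 0 := by
      have h3 : (2 : K) * aeval x (p.1 : k[X]) = 0 := by linear_combination hp + hp'
      exact (mul_eq_zero.mp h3).resolve_left h2K
    have hV : aeval x (p.2 : k[X]) = 0 := by
      rw [hU, zero_add] at hp
      exact (mul_eq_zero.mp hp).resolve_right hy0
    have h1 : (p.1 : k[X]) = 0 := hinj (hU.trans (map_zero _).symm)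
    have h2' : (p.2 : k[X]) = 0 := hinj (hV.trans (map_zero _).symm)
    exact Prod.ext (Subtype.ext h1) (Subtype.ext h2')
  have hΦrange : LinearMap.range Φ = L (n • poleDiv k x) := by
    apply le_antisymm
    · rintro _ ⟨p, rfl⟩
      rw [hΦ]
      apply Submodule.add_mem
      · exact aeval_mem_L hK x n _ (natDegree_le_of_mem_degreeLT p.1.2)
      · have hv := natDegree_le_of_mem_degreeLT p.2.2
        rw [mem_L_nsmul_poleDiv hK]
        intro P
        have hsq : (aeval x (p.2 : k[X]) * y) ^ 2 = aeval x ((p.2 : k[X]) ^ 2 * f) := by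
          rw [mul_pow, heq, map_mul, map_pow]
        have hmem := aeval_mem_L hK x (2 * n) ((p.2 : k[X]) ^ 2 * f) (by
          refine (natDegree_mul_le).trans ?_
          have h4 := natDegree_pow_le (p := (p.2 : k[X])) (n := 2)
          omega)
        rw [mem_L_nsmul_poleDiv hK] at hmem
        have h3 := hmem P
        rw [← hsq, map_pow, mul_comm 2 n, pow_mul] at h3
        exact (pow_le_pow_iff_left₀ zero_le' zero_le' two_ne_zero).mp h3
    · intro z hz
      have hσz : σ z ∈ L (n • poleDiv k x) := sigma_mem_L hK x σ n hz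
      have hhalf : ∀ t ∈ L (n • poleDiv k x), t / 2 ∈ L (n • poleDiv k x) := by
        intro t ht
        have h0 : t / 2 = (2⁻¹ : k) • t := by
          rw [Algebra.smul_def, map_inv₀, map_ofNat, div_eq_inv_mul]
        rw [h0]
        exact Submodule.smul_mem _ _ ht
      have haL : (z + σ z) / 2 ∈ L (n • poleDiv k x) := hhalf _ (Submodule.add_mem _ hz hσz)
      have hwL : (z - σ z) / 2 ∈ L (n • poleDiv k x) := hhalf _ (Submodule.sub_mem _ hz hσz)
      obtain ⟨a₀, ha₀⟩ := hfixed ((z + σ z) / 2) (by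
        rw [map_div₀, map_add, hσσ, map_ofNat, add_comm])
      obtain ⟨u, hu, hau⟩ := exists_poly_of_mem_L hK x hx n _ (by rw [← ha₀]; exact a₀.2) haL
      obtain ⟨b₀, hb₀⟩ := hfixed ((z - σ z) / 2 / y) (by
        rw [map_div₀, map_div₀, map_sub, hσσ, map_ofNat, hσy, div_neg, ← neg_div, ← neg_div,
          neg_sub])
      have hwb : (z - σ z) / 2 = (z - σ z) / 2 / y * y := (div_mul_cancel₀ _ hy0).symm
      have hbmem : (z - σ z) / 2 / y ∈ k⟮x⟯ := by rw [← hb₀]; exact b₀.2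
      have hb2 : ((z - σ z) / 2 / y) ^ 2 * aeval x f ∈ L ((2 * n) • poleDiv k x) := by
        have h5 : ((z - σ z) / 2 / y) ^ 2 * aeval x f = ((z - σ z) / 2) ^ 2 := by
          rw [← heq, ← mul_pow, ← hwb]
        rw [h5, mem_L_nsmul_poleDiv hK]
        intro P
        have h6 := (mem_L_nsmul_poleDiv hK x _ n).mp hwL P
        rw [map_pow, mul_comm 2 n, pow_mul]
        exact pow_le_pow_left₀ zero_le' h6 2
      obtain ⟨v, hbv, hv⟩ := exists_poly_of_sq_mul hK x hx f hf (2 * n) _ hbmem hb2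
      have hvm : v.natDegree ≤ m := by
        by_cases hv0 : v = 0
        · rw [hv0]; simp
        · rw [natDegree_mul (pow_ne_zero 2 hv0) hf.ne_zero, natDegree_pow] at hv
          omega
      refine ⟨(⟨u, mem_degreeLT_of_natDegree_le hu⟩, ⟨v, mem_degreeLT_of_natDegree_le hvm⟩), ?_⟩
      rw [hΦ]
      show aeval x u + aeval x v * y = z
      rw [← hau, ← hbv, ← hwb, ← add_div, add_add_sub_cancel, ← two_mul,
        mul_div_cancel_left₀ _ h2K]
  have hell : ell (n • poleDiv k x) = (n + 1) + (m + 1) := by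
    unfold ell
    rw [← hΦrange, LinearMap.finrank_range_of_inj hΦinj, Module.finrank_prod,
      (degreeLTEquiv k (n + 1)).finrank_eq, (degreeLTEquiv k (m + 1)).finrank_eq,
      Module.finrank_fin_fun, Module.finrank_fin_fun]
  have hdegD : (n • poleDiv k x).deg = 2 * n := by
    rw [deg_nsmul, deg_poleDiv hK x hx, hdeg]
    push_cast
    ring
  have hRR := ell_eq_of_deg_ge hK (n • poleDiv k x) (by rw [hdegD, hn]; push_cast; omega)
  rw [hell, hdegD] at hRR
  push_cast at hRR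
  omega

end

end Groth.Agent.H55
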