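import Groth.Agent.H55.FFPlane3

/-!
Integrality over `k[t]`, the degree-bounded relation of a plane model, and the genus formula for
nonsingular plane models.
-/

namespace Groth.Agent.H55

open FunFld WithZero IntermediateField Polynomial
open scoped IntermediateField.algebraAdjoinAdjoin

variable {k K : Type*} [Field k] [Field K] [Algebra k K]

/-- A function regular wherever `t` is regular is integral over `k[t]`. -/
theorem isIntegral_of_regular (hK : FunFld.IsFunctionField k K) (t z : K)
    (hz : ∀ Q : Place k K, Q.1 t ≤ 1 → Q.1 z ≤ 1) :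
    IsIntegral (Algebra.adjoin k ({t} : Set K)) z := by
  classical
  have key : z ∈ (⨅ V : {V : ValuationSubring K //
      ((Algebra.adjoin k ({t} : Set K) : Set K)) ⊆ V.toSubring}, V.1.toSubring) := by
    rw [Subring.mem_iInf]
    rintro ⟨V, hV⟩
    show z ∈ V
    by_contra hzV
    have hkV : ∀ c : k, algebraMap k K c ∈ V :=
      fun c => hV ((Algebra.adjoin k ({t} : Set K)).algebraMap_mem c)
    have htV : t ∈ V := hV (Algebra.self_mem_adjoin_singleton k t)
    have hz0 : z ≠ 0 := by
      rintro rfl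
      exact hzV V.zero_mem
    have h1 : 1 < V.valuation z := by
      rw [← not_le, ValuationSubring.valuation_le_one_iff]
      exact hzV
    have h2 : z⁻¹ ∈ V.nonunits := by
      rw [ValuationSubring.mem_nonunits_iff, map_inv₀]
      exact inv_lt_one_of_one_lt₀ h1
    obtain ⟨P, hPV, hPV'⟩ := exists_place_of_valuationSubring V hkV hK z⁻¹ (inv_ne_zero hz0) h2
    have h3 := hPV' _ h2
    have h4 := hz P (hPV t htV)
    rw [map_inv₀] at h3
    have h5 : 1 < P.1 z := by
      by_contra hcon
      rw [not_lt] at hcon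
      have hpos : 0 < P.1 z := zero_lt_iff.mpr ((Valuation.ne_zero_iff _).mpr hz0)
      have := (one_le_inv₀ hpos).mpr hcon
      exact absurd h3 (not_lt.mpr this)
    exact absurd h4 (not_le.mpr h5)
  rw [iInf_valuationSubring_superset] at key
  have hint : IsIntegral ↥(Subring.closure ((Algebra.adjoin k ({t} : Set K) : Set K))) z := key
  have hle : ∀ x ∈ Subring.closure ((Algebra.adjoin k ({t} : Set K) : Set K)),
      x ∈ Algebra.adjoin k ({t} : Set K) := by
    intro x hx
    have h1 : Subring.closure ((Algebra.adjoin k ({t} : Set K) : Set K)) ≤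
        (Algebra.adjoin k ({t} : Set K)).toSubring := Subring.closure_le.mpr (fun y hy => hy)
    exact h1 hx
  let ι : ↥(Subring.closure ((Algebra.adjoin k ({t} : Set K) : Set K))) →+*
      ↥(Algebra.adjoin k ({t} : Set K)) :=
    { toFun := fun x => ⟨x.1, hle x.1 x.2⟩
      map_one' := rfl
      map_mul' := fun _ _ => rfl
      map_zero' := rfl
      map_add' := fun _ _ => rfl }
  letI : Algebra ↥(Subring.closure ((Algebra.adjoin k ({t} : Set K) : Set K)))
      ↥(Algebra.adjoin k ({t} : Set K)) := ι.toAlgebra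
  haveI : IsScalarTower ↥(Subring.closure ((Algebra.adjoin k ({t} : Set K) : Set K)))
      ↥(Algebra.adjoin k ({t} : Set K)) K := IsScalarTower.of_algebraMap_eq (fun x => rfl)
  exact hint.tower_top

theorem natDegree_le_of_aeval_eq {t : K} (htr : Transcendental k t) (p q : k[X]) (c : ℕ)
    (h : aeval t p = aeval t⁻¹ q * t ^ c) : p.natDegree ≤ c := by
  have ht0 : t ≠ 0 := fun h0 => htr (by rw [h0]; exact isAlgebraic_zero)
  letI : Invertible t := invertibleOfNonzero ht0
  have hrefl : (q.reflect q.natDegree).natDegree ≤ q.natDegree := by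
    have := natDegree_reflect_le (N := q.natDegree) (p := q)
    simpa using this
  have h1 := eval₂_reflect_mul_pow (algebraMap k K) t q.natDegree (q.reflect q.natDegree) hrefl
  rw [reflect_reflect, invOf_eq_inv] at h1
  have h2 : aeval t (p * X ^ q.natDegree) = aeval t (q.reflect q.natDegree * X ^ c) := by
    rw [map_mul, map_mul, map_pow, map_pow, aeval_X, h, aeval_def, aeval_def, ← h1]
    ring
  have h3 := transcendental_iff_injective.mp htr h2
  by_cases hp : p = 0
  · rw [hp, natDegree_zero]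
    exact Nat.zero_le _
  have h4 : (p * X ^ q.natDegree).natDegree = p.natDegree + q.natDegree :=
    natDegree_mul_X_pow _ hp
  have h5 : (q.reflect q.natDegree * X ^ c).natDegree ≤ q.natDegree + c :=
    (natDegree_mul_le).trans (add_le_add hrefl (natDegree_X_pow_le c))
  rw [h3] at h4
  omega

/-- A monic relation of degree `[K : k(t)]` with coefficients in `k[t]` for an integral element. -/
theorem exists_monic_rel (t z : K) (htr : Transcendental k t) [FiniteDimensional k⟮t⟯ K]
    (hint : IsIntegral (Algebra.adjoin k ({t} : Set K)) z) :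
    ∃ a : ℕ → k[X], z ^ (Module.finrank k⟮t⟯ K) +
      ∑ i ∈ Finset.range (Module.finrank k⟮t⟯ K), aeval t (a i) * z ^ i = 0 := by
  classical
  haveI : IsIntegrallyClosed ↥(Algebra.adjoin k ({t} : Set K)) :=
    IsIntegrallyClosed.of_equiv (Polynomial.algEquivOfTranscendental k t htr).toRingEquiv
  have hmin := minpoly.isIntegrallyClosed_eq_field_fractions' k⟮t⟯ hint
  have hmonic := minpoly.monic hint
  have hdeg : (minpoly ↥(Algebra.adjoin k ({t} : Set K)) z).natDegree ≤
      Module.finrank k⟮t⟯ K := by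
    have h1 := minpoly.natDegree_le (A := k⟮t⟯) z
    rw [hmin, hmonic.natDegree_map] at h1
    exact h1
  obtain ⟨N, hN⟩ : ∃ N : ℕ, N = Module.finrank k⟮t⟯ K := ⟨_, rfl⟩
  rw [← hN] at hdeg ⊢
  obtain ⟨G, hG⟩ : ∃ G : (↥(Algebra.adjoin k ({t} : Set K)))[X],
      G = X ^ (N - (minpoly ↥(Algebra.adjoin k ({t} : Set K)) z).natDegree) *
        minpoly ↥(Algebra.adjoin k ({t} : Set K)) z := ⟨_, rfl⟩
  have hGm : G.Monic := by
    rw [hG]
    exact (monic_X_pow _).mul hmonic
  have hGd : G.natDegree = N := by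
    rw [hG, (monic_X_pow _).natDegree_mul hmonic, natDegree_X_pow]
    omega
  have hGz : aeval z G = 0 := by
    rw [hG, map_mul, minpoly.aeval, mul_zero]
  have hcoef : ∀ i, ∃ p : k[X], aeval t p = ((G.coeff i : ↥(Algebra.adjoin k ({t} : Set K))) : K) := by
    intro i
    have h1 : ((G.coeff i : ↥(Algebra.adjoin k ({t} : Set K))) : K) ∈
        (aeval t : k[X] →ₐ[k] K).range := by
      rw [← Algebra.adjoin_singleton_eq_range_aeval]
      exact (G.coeff i).2
    obtain ⟨p, hp⟩ := h1
    exact ⟨p, hp⟩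
  choose a ha using hcoef
  refine ⟨a, ?_⟩
  rw [aeval_eq_sum_range, hGd, Finset.sum_range_succ] at hGz
  have hlead : G.coeff N = 1 := by
    rw [← hGd]
    exact hGm.coeff_natDegree
  rw [hlead, one_smul] at hGz
  rw [add_comm]
  rw [← hGz]
  congr 1
  refine Finset.sum_congr rfl (fun i _ => ?_)
  rw [ha i, Algebra.smul_def]
  rfl

theorem aeval_mem_adjoin_simple (u : K) (p : k[X]) : aeval u p ∈ k⟮u⟯ :=
  algebra_adjoin_le_adjoin k {u} (Polynomial.aeval_mem_adjoin_singleton k u)

/-- The relation of total degree `[K : k(t)]` satisfied by `t` and an element `s` whose poles are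
bounded by those of `t`. -/
theorem plane_relation (hK : FunFld.IsFunctionField k K) (t s : K) (htr : Transcendental k t)
    (N : ℕ) (hN : Module.finrank k⟮t⟯ K = N)
    (hli : LinearIndependent k⟮t⟯ (fun b : Fin N => s ^ (b : ℕ)))
    (hs : ∀ Q : Place k K, Q.1 s ≤ max (Q.1 t) 1) :
    ∃ a : ℕ → k[X], (∀ i, i < N → (a i).natDegree ≤ N - i) ∧
      s ^ N + ∑ i ∈ Finset.range N, aeval t (a i) * s ^ i = 0 := by
  classical
  haveI := ff_finite hK htr
  have htr' := transcendental_inv htr
  haveI := ff_finite hK htr'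
  have ht0 : t ≠ 0 := fun h0 => htr (by rw [h0]; exact isAlgebraic_zero)
  have int1 : IsIntegral (Algebra.adjoin k ({t} : Set K)) s :=
    isIntegral_of_regular hK t s (fun Q hQ => (hs Q).trans (max_le hQ le_rfl))
  have int2 : IsIntegral (Algebra.adjoin k ({t⁻¹} : Set K)) (s * t⁻¹) := by
    refine isIntegral_of_regular hK t⁻¹ (s * t⁻¹) (fun Q hQ => ?_)
    rw [map_inv₀] at hQ
    have hpos : 0 < Q.1 t := zero_lt_iff.mpr ((Valuation.ne_zero_iff _).mpr ht0)
    have h1 : 1 ≤ Q.1 t := (inv_le_one₀ hpos).mp hQ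
    have h2 : Q.1 s ≤ Q.1 t := (hs Q).trans (max_le le_rfl h1)
    rw [map_mul, map_inv₀, ← div_eq_mul_inv]
    exact div_le_one_of_le₀ h2 zero_le'
  obtain ⟨a, ha⟩ := exists_monic_rel t s htr int1
  obtain ⟨b, hb⟩ := exists_monic_rel t⁻¹ (s * t⁻¹) htr' int2
  have hN2 : Module.finrank k⟮t⁻¹⟯ K = N := by
    rw [adjoin_inv_eq]
    exact hN
  rw [hN] at ha
  rw [hN2] at hb
  have hb' : s ^ N + ∑ i ∈ Finset.range N, (aeval t⁻¹ (b i) * t ^ (N - i)) * s ^ i = 0 := by
    have h1 : ((s * t⁻¹) ^ N + ∑ i ∈ Finset.range N, aeval t⁻¹ (b i) * (s * t⁻¹) ^ i) * t ^ N =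
        0 := by rw [hb, zero_mul]
    rw [add_mul, Finset.sum_mul] at h1
    rw [← h1]
    congr 1
    · rw [mul_pow, mul_assoc, ← mul_pow, inv_mul_cancel₀ ht0, one_pow, mul_one]
    · refine Finset.sum_congr rfl (fun i hi => ?_)
      have hi' := Finset.mem_range.mp hi
      obtain ⟨c, hc⟩ := Nat.exists_eq_add_of_le hi'.le
      rw [hc, Nat.add_sub_cancel_left, pow_add, mul_pow]
      have e : (t⁻¹) ^ i * t ^ i = 1 := by rw [← mul_pow, inv_mul_cancel₀ ht0, one_pow]
      linear_combination (-(aeval t⁻¹ (b i) * s ^ i * t ^ c)) * e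
  have hdiff : ∑ i ∈ Finset.range N,
      (aeval t (a i) - aeval t⁻¹ (b i) * t ^ (N - i)) * s ^ i = 0 := by
    have h1 : (s ^ N + ∑ i ∈ Finset.range N, aeval t (a i) * s ^ i) -
        (s ^ N + ∑ i ∈ Finset.range N, (aeval t⁻¹ (b i) * t ^ (N - i)) * s ^ i) = 0 := by
      rw [ha, hb', sub_zero]
    rw [add_sub_add_left_eq_sub, ← Finset.sum_sub_distrib] at h1
    rw [← h1]
    exact Finset.sum_congr rfl (fun i _ => by ring)
  have hmemF : ∀ i, aeval t (a i) - aeval t⁻¹ (b i) * t ^ (N - i) ∈ k⟮t⟯ := by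
    intro i
    refine sub_mem (aeval_mem_adjoin_simple t (a i))
      (mul_mem ?_ (pow_mem (mem_adjoin_simple_self k t) _))
    have h1 := aeval_mem_adjoin_simple (k := k) t⁻¹ (b i)
    rwa [adjoin_inv_eq] at h1
  have hsum : ∑ i : Fin N, (⟨_, hmemF i⟩ : k⟮t⟯) • s ^ (i : ℕ) = 0 := by
    rw [← hdiff, ← Fin.sum_univ_eq_sum_range
      (fun i => (aeval t (a i) - aeval t⁻¹ (b i) * t ^ (N - i)) * s ^ i) N]
    rfl
  have hzero := Fintype.linearIndependent_iff.mp hli (fun i => (⟨_, hmemF i⟩ : k⟮t⟯)) hsum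
  refine ⟨a, fun i hi => ?_, ha⟩
  have h1 := congrArg Subtype.val (hzero ⟨i, hi⟩)
  have h2 : aeval t (a i) - aeval t⁻¹ (b i) * t ^ (N - i) = 0 := h1
  exact natDegree_le_of_aeval_eq htr (a i) (b i) (N - i) (sub_eq_zero.mp h2)

/-- Powers of `span(1, t, s)` are spanned by the reduced monomials. -/
theorem pow_le_monomials (t s : K) (N : ℕ) (hN : 1 ≤ N) (W : Submodule k K)
    (hW : W ≤ Submodule.span k ({1, t, s} : Set K)) (a : ℕ → k[X])
    (hdeg : ∀ i, i < N → (a i).natDegree ≤ N - i)
    (hrel : s ^ N + ∑ i ∈ Finset.range N, aeval t (a i) * s ^ i = 0) (n : ℕ) :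
    W ^ n ≤ Submodule.span k {v : K | ∃ α β : ℕ, α + β ≤ n ∧ β < N ∧ v = t ^ α * s ^ β} := by
  have helper : ∀ (p : k[X]) (α c i n' : ℕ), p.natDegree ≤ c → α + c + i ≤ n' → i < N →
      t ^ α * aeval t p * s ^ i ∈
        Submodule.span k {v : K | ∃ α β : ℕ, α + β ≤ n' ∧ β < N ∧ v = t ^ α * s ^ β} := by
    intro p α c i n' hp hle hi
    rw [aeval_eq_sum_range, Finset.mul_sum, Finset.sum_mul]
    refine Submodule.sum_mem _ (fun l hl => ?_)
    have hl' := Finset.mem_range.mp hl
    rw [mul_smul_comm, smul_mul_assoc, ← pow_add]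
    exact Submodule.smul_mem _ _ (Submodule.subset_span ⟨α + l, i, by omega, hi, rfl⟩)
  induction n with
  | zero =>
    rw [pow_zero, Submodule.one_le]
    exact Submodule.subset_span ⟨0, 0, le_rfl, hN, by rw [pow_zero, pow_zero, mul_one]⟩
  | succ n ih =>
    have hstep : ∀ u ∈ Submodule.span k {v : K | ∃ α β : ℕ, α + β ≤ n ∧ β < N ∧
        v = t ^ α * s ^ β}, ∀ w ∈ ({1, t, s} : Set K), u * w ∈ Submodule.span k
          {v : K | ∃ α β : ℕ, α + β ≤ n + 1 ∧ β < N ∧ v = t ^ α * s ^ β} := by
      intro u hu w hw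
      induction hu using Submodule.span_induction with
      | mem v hv =>
        obtain ⟨α, β, hαβ, hβ, rfl⟩ := hv
        rcases hw with h | h | h
        · rw [h, mul_one]
          exact Submodule.subset_span ⟨α, β, by omega, hβ, rfl⟩
        · rw [h]
          exact Submodule.subset_span ⟨α + 1, β, by omega, hβ, by rw [pow_succ]; ring⟩
        · rw [Set.mem_singleton_iff] at h
          rw [h]
          by_cases hβ' : β + 1 < N
          · exact Submodule.subset_span ⟨α, β + 1, by omega, hβ', by rw [pow_succ]; ring⟩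
          · have hβN : β + 1 = N := by omega
            have e1 : t ^ α * s ^ β * s = t ^ α * s ^ N := by rw [← hβN, pow_succ]; ring
            have e2 : s ^ N = -∑ i ∈ Finset.range N, aeval t (a i) * s ^ i :=
              eq_neg_of_add_eq_zero_left hrel
            rw [e1, e2, mul_neg, Finset.mul_sum]
            refine Submodule.neg_mem _ (Submodule.sum_mem _ (fun i hi => ?_))
            have hi' := Finset.mem_range.mp hi
            rw [← mul_assoc]
            exact helper (a i) α (N - i) i (n + 1) (hdeg i hi') (by omega) hi'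
      | zero =>
        rw [zero_mul]
        exact Submodule.zero_mem _
      | add u v _ _ hu hv =>
        rw [add_mul]
        exact Submodule.add_mem _ hu hv
      | smul c u _ hu =>
        rw [smul_mul_assoc]
        exact Submodule.smul_mem _ _ hu
    rw [pow_succ]
    refine Submodule.mul_le.mpr (fun u hu w hw => ?_)
    have hu' := ih hu
    have hw' := hW hw
    clear hw
    induction hw' using Submodule.span_induction with
    | mem v hv => exact hstep u hu' v hv
    | zero =>
      rw [mul_zero]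
      exact Submodule.zero_mem _
    | add v₁ v₂ _ _ h₁ h₂ =>
      rw [mul_add]
      exact Submodule.add_mem _ h₁ h₂
    | smul c v _ hv =>
      rw [mul_smul_comm]
      exact Submodule.smul_mem _ _ hv

theorem finrank_le_of_le_monomials (t s : K) (d' e : ℕ) (A : Submodule k K)
    (hA : A ≤ Submodule.span k {v : K | ∃ α β : ℕ, α + β ≤ d' + e ∧ β < d' + 1 ∧
      v = t ^ α * s ^ β}) :
    2 * Module.finrank k ↥A ≤ (d' + 1) * (2 * e + d' + 2) := by
  classical
  let fam : (Σ b' : Fin (d' + 1), Fin (e + (b' : ℕ) + 1)) → K :=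
    fun p => t ^ (p.2 : ℕ) * s ^ ((Fin.rev p.1 : Fin (d' + 1)) : ℕ)
  have hle : Submodule.span k {v : K | ∃ α β : ℕ, α + β ≤ d' + e ∧ β < d' + 1 ∧
      v = t ^ α * s ^ β} ≤ Submodule.span k (Set.range fam) := by
    apply Submodule.span_mono
    rintro v ⟨α, β, hαβ, hβ, rfl⟩
    refine ⟨⟨⟨d' - β, by omega⟩, ⟨α, by simp only; omega⟩⟩, ?_⟩
    have h2 : ((Fin.rev (⟨d' - β, by omega⟩ : Fin (d' + 1)) : Fin (d' + 1)) : ℕ) = β := by
      rw [Fin.val_rev]
      simp only
      omega
    show t ^ α * s ^ ((Fin.rev (⟨d' - β, _⟩ : Fin (d' + 1)) : Fin (d' + 1)) : ℕ) = t ^ α * s ^ β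
    rw [h2]
  haveI : FiniteDimensional k ↥(Submodule.span k (Set.range fam)) :=
    FiniteDimensional.span_of_finite k (Set.finite_range fam)
  have h1 := Submodule.finrank_mono (hA.trans hle)
  have h2 : Module.finrank k ↥(Submodule.span k (Set.range fam)) ≤
      Fintype.card (Σ b' : Fin (d' + 1), Fin (e + (b' : ℕ) + 1)) := finrank_range_le_card fam
  rw [Fintype.card_sigma] at h2
  simp only [Fintype.card_fin] at h2
  rw [Fin.sum_univ_eq_sum_range (fun b => e + b + 1) (d' + 1)] at h2
  have hsum : 2 * ∑ b ∈ Finset.range (d' + 1), (e + b + 1) = (d' + 1) * (2 * e + d' + 2) := by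
    rw [sum_range_add_succ e (d' + 1)]
    ring
  calc 2 * Module.finrank k ↥A ≤ 2 * ∑ b ∈ Finset.range (d' + 1), (e + b + 1) :=
        Nat.mul_le_mul_left 2 (h1.trans h2)
    _ = (d' + 1) * (2 * e + d' + 2) := hsum

end Groth.Agent.H55
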