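import Groth.Agent.H55.IntOver
import Groth.Agent.H10.FFConstPlace
import Mathlib

/-!
Nonsingularity of a place with respect to a tower of constant field extensions.
-/

set_option autoImplicit false

namespace Groth.Agent.H55

open FunFld WithZero Polynomial IntermediateField IsLocalRing

section SO

variable {k K M : Type*} [Field k] [Field K] [Field M] [Algebra k K] [Algebra K M]
  [Algebra k M] [IsScalarTower k K M]

/-- The image of the valuation ring of `P` in an extension field. -/
abbrev SO (P : Place k K) (M : Type*) [Field M] [Algebra K M] : Subring M :=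
  P.O.toSubring.map (algebraMap K M)

theorem mem_SO_iff (P : Place k K) (y : M) :
    y ∈ SO P M ↔ ∃ a : K, P.1 a ≤ 1 ∧ algebraMap K M a = y := by
  constructor
  · rintro ⟨a, ha, rfl⟩
    exact ⟨a, ha, rfl⟩
  · rintro ⟨a, ha, rfl⟩
    exact ⟨a, ha, rfl⟩

theorem isIntegral_SO_iff (hK : G.IsFF1 k K) [FiniteDimensional K M] (P : Place k K) (z : M) :
    IsIntegral (SO P M) z ↔ ∀ Q : Place k M, IsOver Q P → Q.1 z ≤ 1 := by
  constructor
  · rintro hz Q ⟨e, he⟩
    refine val_le_one_of_isIntegral Q (R := SO P M) (fun a => ?_) hz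
    obtain ⟨a', ha', ha⟩ := (mem_SO_iff P a.1).mp a.2
    show Q.1 (a : M) ≤ 1
    rw [← ha, he]
    exact pow_le_one₀ zero_le' ha'
  · intro h
    letI : Algebra P.O M := ((algebraMap K M).comp P.O.subtype).toAlgebra
    haveI : IsScalarTower P.O K M := IsScalarTower.of_algebraMap_eq (fun _ => rfl)
    obtain ⟨p, hpm, hp⟩ := isIntegral_of_forall_over hK P z h
    let φ : P.O →+* SO P M :=
      ((algebraMap K M).comp P.O.subtype).codRestrict (SO P M) (fun a => ⟨a.1, a.2, rfl⟩)
    refine ⟨p.map φ, hpm.map φ, ?_⟩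
    rw [eval₂_map]
    exact hp

end SO

section Adj

theorem adjoin_mono_base {M : Type*} [CommRing M] {S S' : Subring M} (h : S ≤ S') (C : Set M)
    {z : M} (hz : z ∈ Algebra.adjoin S C) : z ∈ Algebra.adjoin S' C := by
  induction hz using Algebra.adjoin_induction with
  | mem x hx => exact Algebra.subset_adjoin hx
  | algebraMap r => exact Subalgebra.algebraMap_mem _ (⟨r.1, h r.2⟩ : S')
  | add x y _ _ hx hy => exact add_mem hx hy
  | mul x y _ _ hx hy => exact mul_mem hx hy

variable {k' K' k'' K'' : Type*} [Field k'] [Field K'] [Field k''] [Field K'']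
  [Algebra k' K'] [Algebra k'' K''] [Algebra K' K'']

theorem lambda_adjoin_mem (O : Subring K') (hO : ∀ c : k', algebraMap k' K' c ∈ O)
    (lam : K'' →ₗ[K'] K')
    (hlam : ∀ c : k'', lam (algebraMap k'' K'' c) ∈ Set.range (algebraMap k' K')) {u : K''}
    (hu : u ∈ Algebra.adjoin (O.map (algebraMap K' K'')) (Set.range (algebraMap k'' K''))) :
    lam u ∈ O := by
  have h1 : u ∈ Subalgebra.toSubmodule
      (Algebra.adjoin (O.map (algebraMap K' K'')) (Set.range (algebraMap k'' K''))) := hu
  rw [Algebra.adjoin_eq_span] at h1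
  have hcl : (Submonoid.closure (Set.range (algebraMap k'' K'')) : Set K'') =
      Set.range (algebraMap k'' K'') := by
    have h2 : Set.range (algebraMap k'' K'') =
        ((MonoidHom.mrange (algebraMap k'' K'' : k'' →* K'') : Submonoid K'') : Set K'') := by
      ext x; simp
    rw [h2, Submonoid.closure_eq]
  rw [hcl] at h1
  clear hu
  induction h1 using Submodule.span_induction with
  | mem x hx =>
    obtain ⟨c, rfl⟩ := hx
    obtain ⟨c', hc'⟩ := hlam c
    rw [← hc']
    exact hO c'
  | zero => rw [map_zero]; exact O.zero_mem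
  | add x y _ _ hx hy => rw [map_add]; exact O.add_mem hx hy
  | smul r x _ hx =>
    obtain ⟨r', hr', hr⟩ := r.2
    have h3 : r • x = r' • x := by
      rw [Algebra.smul_def, Algebra.smul_def]
      show (r : K'') * x = _
      rw [← hr]
    rw [h3, map_smul, smul_eq_mul]
    exact O.mul_mem hr' hx

end Adj

section Lam

open TensorProduct

variable {k' K' k'' K'' : Type*} [Field k'] [Field K'] [Field k''] [Field K'']
  [Algebra k' k''] [Algebra k' K'] [Algebra K' K''] [Algebra k'' K''] [Algebra k' K'']
  [IsScalarTower k' k'' K''] [IsScalarTower k' K' K'']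

theorem exists_lambda (h2 : Function.Bijective (Algebra.TensorProduct.productMap
      (IsScalarTower.toAlgHom k' k'' K'') (IsScalarTower.toAlgHom k' K' K'')))
    (ℓ : k'' →ₗ[k'] k') :
    ∃ lam : K'' →ₗ[K'] K', ∀ c : k'', lam (algebraMap k'' K'' c) = algebraMap k' K' (ℓ c) := by
  let g : K' ⊗[k'] k'' →ₐ[K'] K'' :=
    Algebra.TensorProduct.productLeftAlgHom (Algebra.ofId K' K'')
      (IsScalarTower.toAlgHom k' k'' K'')
  have hcomp : ∀ t, g t = Algebra.TensorProduct.productMap
      (IsScalarTower.toAlgHom k' k'' K'') (IsScalarTower.toAlgHom k' K' K'')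
        (Algebra.TensorProduct.comm k' K' k'' t) := by
    intro t
    induction t using TensorProduct.induction_on with
    | zero => simp
    | tmul a c => simp [g, mul_comm]
    | add x y hx hy => simp only [map_add, hx, hy]
  have hg : Function.Bijective g := by
    constructor
    · intro x y hxy
      rw [hcomp, hcomp] at hxy
      exact (Algebra.TensorProduct.comm k' K' k'').injective (h2.1 hxy)
    · intro z
      obtain ⟨t, ht⟩ := h2.2 z
      exact ⟨(Algebra.TensorProduct.comm k' K' k'').symm t, by
        rw [hcomp, AlgEquiv.apply_symm_apply, ht]⟩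
  let e : K' ⊗[k'] k'' ≃ₗ[K'] K'' := LinearEquiv.ofBijective g.toLinearMap hg
  let m : K' ⊗[k'] k'' →ₗ[K'] K' :=
    (TensorProduct.AlgebraTensorModule.rid k' K' K').toLinearMap ∘ₗ (LinearMap.baseChange K' ℓ)
  refine ⟨m ∘ₗ e.symm.toLinearMap, fun c => ?_⟩
  have h1 : e (1 ⊗ₜ c) = algebraMap k'' K'' c := by simp [e, g]
  rw [LinearMap.comp_apply, ← h1]
  simp [m, Algebra.algebraMap_eq_smul_one]

end Lam

section Lam2

open TensorProduct

variable {k' K' k'' K'' : Type*} [Field k'] [Field K'] [Field k''] [Field K'']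
  [Algebra k' k''] [Algebra k' K'] [Algebra K' K''] [Algebra k'' K''] [Algebra k' K'']
  [IsScalarTower k' k'' K''] [IsScalarTower k' K' K'']

theorem sum_lambda_mul_basis (h2 : Function.Surjective (Algebra.TensorProduct.productMap
      (IsScalarTower.toAlgHom k' k'' K'') (IsScalarTower.toAlgHom k' K' K'')))
    {ι : Type*} [Fintype ι] (b : Module.Basis ι k' k'') (lam : ι → K'' →ₗ[K'] K')
    (hlam : ∀ j c, lam j (algebraMap k'' K'' c) = algebraMap k' K' (b.coord j c)) (z : K'') :
    z = ∑ j, algebraMap K' K'' (lam j z) * algebraMap k'' K'' (b j) := by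
  obtain ⟨t, rfl⟩ := h2 z
  induction t using TensorProduct.induction_on with
  | zero => simp
  | tmul c a =>
    rw [Algebra.TensorProduct.productMap_apply_tmul]
    show algebraMap k'' K'' c * algebraMap K' K'' a = _
    have h1 : ∀ j, lam j (algebraMap k'' K'' c * algebraMap K' K'' a) =
        a * algebraMap k' K' (b.coord j c) := by
      intro j
      have h0 : algebraMap k'' K'' c * algebraMap K' K'' a = a • algebraMap k'' K'' c := by
        rw [Algebra.smul_def, mul_comm]
      rw [h0, map_smul, hlam, smul_eq_mul]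
    have h3 : algebraMap k'' K'' c = ∑ j, algebraMap K' K'' (algebraMap k' K' (b.coord j c)) *
        algebraMap k'' K'' (b j) := by
      conv_lhs => rw [← b.sum_repr c]
      rw [map_sum]
      apply Finset.sum_congr rfl
      intro j _
      rw [Algebra.smul_def, map_mul, ← IsScalarTower.algebraMap_apply k' k'' K'',
        ← IsScalarTower.algebraMap_apply k' K' K'']
      rfl
    conv_lhs => rw [h3]
    rw [Finset.sum_mul]
    apply Finset.sum_congr rfl
    intro j _
    have h4 : (IsScalarTower.toAlgHom k' k'' K'') c * (IsScalarTower.toAlgHom k' K' K'') a =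
        algebraMap k'' K'' c * algebraMap K' K'' a := rfl
    rw [h4, h1, map_mul]
    ring
  | add x y hx hy =>
    rw [map_add]
    conv_lhs => rw [hx, hy]
    rw [← Finset.sum_add_distrib]
    apply Finset.sum_congr rfl
    intro j _
    rw [map_add, map_add, add_mul]

end Lam2

section Mid

variable {k K K' K'' : Type*} [Field k] [Field K] [Field K'] [Field K''] [Algebra k K]
  [Algebra K K'] [Algebra k K'] [IsScalarTower k K K'] [Algebra k K''] [Algebra K' K'']
  [Algebra K K''] [IsScalarTower K K' K''] [IsScalarTower k K' K'']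

theorem exists_mid_place (hK : G.IsFF1 k K) [FiniteDimensional K K'] [FiniteDimensional K' K'']
    {P : Place k K} {R : Place k K''} (hR : IsOver R P) :
    ∃ Q : Place k K', IsOver Q P ∧ IsOver R Q := by
  have hK' : G.IsFF1 k K' := isFF1_of_finite hK
  obtain ⟨Q, e', he'⟩ := exists_place_under (K' := K'') hK' R
  obtain ⟨P₀, e₀, he₀⟩ := exists_place_under (K' := K') hK Q
  have h1 := isOverWith_trans he' he₀
  obtain ⟨e, he⟩ := hR
  haveI : IsScalarTower k K K'' := by
    refine IsScalarTower.of_algebraMap_eq (fun c => ?_)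
    rw [IsScalarTower.algebraMap_apply K K' K'', ← IsScalarTower.algebraMap_apply k K K',
      ← IsScalarTower.algebraMap_apply k K' K'']
  obtain ⟨hPP, -⟩ := isOverWith_unique he h1
  subst hPP
  exact ⟨Q, ⟨e₀, he₀⟩, ⟨e', he'⟩⟩

end Mid

section Consts

variable {k F K M : Type*} [Field k] [Field F] [Field K] [Field M] [Algebra k K] [Algebra K M]
  [Algebra k M] [IsScalarTower k K M] [Algebra k F] [Algebra F M] [IsScalarTower k F M]

theorem val_const_le_one [Algebra.IsAlgebraic k F] (R : Place k M) (c : F) :
    R.1 (algebraMap F M c) ≤ 1 := by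
  by_cases hc : algebraMap F M c = 0
  · rw [hc, map_zero]; exact zero_le'
  · have h1 : IsAlgebraic k (algebraMap F M c) :=
      (Algebra.IsAlgebraic.isAlgebraic c).algebraMap
    exact (G.val_eq_one_of_isAlgebraic R hc h1).le

theorem adjoin_const_le_integralClosure [Algebra.IsAlgebraic k F] (hK : G.IsFF1 k K)
    [FiniteDimensional K M] (P : Place k K) :
    Algebra.adjoin (SO P M) (Set.range (algebraMap F M)) ≤ integralClosure (SO P M) M := by
  apply Algebra.adjoin_le
  rintro _ ⟨c, rfl⟩
  show IsIntegral (SO P M) _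
  rw [isIntegral_SO_iff hK]
  intro Q _
  exact val_const_le_one Q c

theorem ns_iff [Algebra.IsAlgebraic k F] (hK : G.IsFF1 k K) [FiniteDimensional K M]
    (P : Place k K) :
    integralClosure (SO P M) M = Algebra.adjoin (SO P M) (Set.range (algebraMap F M)) ↔
      ∀ z : M, (∀ Q : Place k M, IsOver Q P → Q.1 z ≤ 1) →
        z ∈ Algebra.adjoin (SO P M) (Set.range (algebraMap F M)) := by
  constructor
  · intro h z hz
    rw [← h]
    show IsIntegral (SO P M) z
    rw [isIntegral_SO_iff hK]
    exact hz
  · intro h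
    apply le_antisymm
    · intro z hz
      have hz' : IsIntegral (SO P M) z := hz
      rw [isIntegral_SO_iff hK] at hz'
      exact h z hz'
    · exact adjoin_const_le_integralClosure hK P

end Consts

section Main

variable {k k' k'' K K' K'' : Type*} [Field k] [Field k'] [Field k''] [Field K] [Field K']
    [Field K'']
    [Algebra k k'] [Algebra k' k''] [Algebra k k''] [IsScalarTower k k' k'']
    [FiniteDimensional k k'] [FiniteDimensional k' k'']
    [Algebra k K] [Algebra K K'] [Algebra k' K'] [Algebra k K'] [IsScalarTower k k' K']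
    [IsScalarTower k K K']
    [Algebra K' K''] [Algebra k'' K''] [Algebra k' K''] [Algebra k K''] [Algebra K K'']
    [IsScalarTower k' k'' K''] [IsScalarTower k' K' K''] [IsScalarTower K K' K'']
    [IsScalarTower k K K'']

theorem map_adjoin_mem (P : Place k K) {w : K'}
    (hw : w ∈ Algebra.adjoin (SO P K') (Set.range (algebraMap k' K'))) :
    algebraMap K' K'' w ∈ Algebra.adjoin (SO P K'') (Set.range (algebraMap k'' K'')) := by
  induction hw using Algebra.adjoin_induction with
  | mem x hx =>
    obtain ⟨c, rfl⟩ := hx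
    apply Algebra.subset_adjoin
    refine ⟨algebraMap k' k'' c, ?_⟩
    rw [← IsScalarTower.algebraMap_apply k' k'' K'', ← IsScalarTower.algebraMap_apply k' K' K'']
  | algebraMap r =>
    obtain ⟨a, ha, har⟩ := (mem_SO_iff P r.1).mp r.2
    have hmem : algebraMap K' K'' (r : K') ∈ SO P K'' := by
      rw [mem_SO_iff]
      refine ⟨a, ha, ?_⟩
      rw [IsScalarTower.algebraMap_apply K K' K'', har]
    exact Subalgebra.algebraMap_mem _ (⟨_, hmem⟩ : SO P K'')
  | add x y _ _ hx hy => rw [map_add]; exact add_mem hx hy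
  | mul x y _ _ hx hy => rw [map_mul]; exact mul_mem hx hy

theorem nonsingular_tower_iff
    (h1 : Function.Bijective (Algebra.TensorProduct.productMap
      (IsScalarTower.toAlgHom k k' K') (IsScalarTower.toAlgHom k K K')))
    (h2 : Function.Bijective (Algebra.TensorProduct.productMap
      (IsScalarTower.toAlgHom k' k'' K'') (IsScalarTower.toAlgHom k' K' K'')))
    (hK : G.IsFF1 k K) (P : Place k K) :
    (integralClosure (SO P K'') K'' =
        Algebra.adjoin (SO P K'') (Set.range (algebraMap k'' K''))) ↔
      (integralClosure (SO P K') K' =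
          Algebra.adjoin (SO P K') (Set.range (algebraMap k' K')) ∧
        ∀ Q : Place k K', IsOver Q P →
          integralClosure (SO Q K'') K'' =
            Algebra.adjoin (SO Q K'') (Set.range (algebraMap k'' K''))) := by
  classical
  haveI hfin1 : FiniteDimensional K K' := finiteDimensional_of_productMap h1.2
  haveI hfin2 : FiniteDimensional K' K'' := finiteDimensional_of_productMap h2.2
  haveI hfin3 : FiniteDimensional K K'' := FiniteDimensional.trans K K' K''
  haveI tow1 : IsScalarTower k K' K'' := by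
    refine IsScalarTower.of_algebraMap_eq (fun c => ?_)
    rw [IsScalarTower.algebraMap_apply k K K'', IsScalarTower.algebraMap_apply K K' K'',
      ← IsScalarTower.algebraMap_apply k K K']
  haveI tow2 : IsScalarTower k k'' K'' := by
    refine IsScalarTower.of_algebraMap_eq (fun c => ?_)
    rw [IsScalarTower.algebraMap_apply k K' K'', IsScalarTower.algebraMap_apply k k' K',
      ← IsScalarTower.algebraMap_apply k' K' K'', IsScalarTower.algebraMap_apply k' k'' K'',
      ← IsScalarTower.algebraMap_apply k k' k'']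
  haveI : FiniteDimensional k k'' := FiniteDimensional.trans k k' k''
  haveI : Algebra.IsAlgebraic k k' := Algebra.IsAlgebraic.of_finite k k'
  haveI : Algebra.IsAlgebraic k k'' := Algebra.IsAlgebraic.of_finite k k''
  have hK' : G.IsFF1 k K' := isFF1_of_finite hK
  rw [ns_iff (F := k'') hK P, ns_iff (F := k') hK P]
  have hQiff : ∀ Q : Place k K', (integralClosure (SO Q K'') K'' =
      Algebra.adjoin (SO Q K'') (Set.range (algebraMap k'' K''))) ↔
      ∀ z : K'', (∀ R : Place k K'', IsOver R Q → R.1 z ≤ 1) →
        z ∈ Algebra.adjoin (SO Q K'') (Set.range (algebraMap k'' K'')) :=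
    fun Q => ns_iff (F := k'') hK' Q
  simp only [hQiff]
  have hSOle : ∀ Q : Place k K', IsOver Q P → SO P K'' ≤ SO Q K'' := by
    rintro Q ⟨e, he⟩ y hy
    obtain ⟨a, ha, rfl⟩ := (mem_SO_iff P y).mp hy
    rw [mem_SO_iff]
    refine ⟨algebraMap K K' a, ?_, (IsScalarTower.algebraMap_apply K K' K'' a).symm⟩
    rw [he]
    exact pow_le_one₀ zero_le' ha
  constructor
  · intro NS2
    constructor
    · -- (a)
      intro z hz
      have hz2 : ∀ R : Place k K'', IsOver R P → R.1 (algebraMap K' K'' z) ≤ 1 := by
        intro R hR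
        obtain ⟨Q, hQP, e', he'⟩ := exists_mid_place (K' := K') hK hR
        rw [he']
        exact pow_le_one₀ zero_le' (hz Q hQP)
      have hz3 := NS2 _ hz2
      obtain ⟨ℓ, hℓ⟩ := LinearMap.exists_leftInverse_of_injective (Algebra.linearMap k' k'')
        (LinearMap.ker_eq_bot.mpr (algebraMap k' k'').injective)
      obtain ⟨lam, hlam⟩ := exists_lambda h2 ℓ
      have hℓ1 : ℓ 1 = 1 := by
        have := LinearMap.congr_fun hℓ 1
        simpa using this
      have hlamz : lam (algebraMap K' K'' z) = z := by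
        have h0 : algebraMap K' K'' z = z • algebraMap k'' K'' 1 := by
          rw [map_one, Algebra.smul_def, mul_one]
        rw [h0, map_smul, hlam, hℓ1, map_one, smul_eq_mul, mul_one]
      obtain ⟨O, hOdef⟩ : ∃ O : Subring K', O =
          (Algebra.adjoin (SO P K') (Set.range (algebraMap k' K'))).toSubring := ⟨_, rfl⟩
      have hO : ∀ c : k', algebraMap k' K' c ∈ O := by
        intro c
        rw [hOdef, Subalgebra.mem_toSubring]
        exact Algebra.subset_adjoin ⟨c, rfl⟩
      have hle : SO P K'' ≤ O.map (algebraMap K' K'') := by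
        intro y hy
        obtain ⟨a, ha, rfl⟩ := (mem_SO_iff P y).mp hy
        refine ⟨algebraMap K K' a, ?_, (IsScalarTower.algebraMap_apply K K' K'' a).symm⟩
        rw [hOdef]
        have hmem : algebraMap K K' a ∈ SO P K' := (mem_SO_iff P _).mpr ⟨a, ha, rfl⟩
        exact Subalgebra.algebraMap_mem
          (Algebra.adjoin (SO P K') (Set.range (algebraMap k' K'))) (⟨_, hmem⟩ : SO P K')
      have hz4 := adjoin_mono_base hle _ hz3
      have hz5 := lambda_adjoin_mem O hO lam (fun c => ⟨ℓ c, (hlam c).symm⟩) hz4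
      rw [hlamz, hOdef, Subalgebra.mem_toSubring] at hz5
      exact hz5
    · -- (b)
      rintro Q hQP z hz
      by_cases hz0 : z = 0
      · rw [hz0]; exact zero_mem _
      obtain ⟨hfinP, -⟩ := G.sum_ramIdx_mul_deg (K' := K') hK P
      have hfinQ : ∀ Q' : Place k K', {R : Place k K'' | IsOver R Q'}.Finite :=
        fun Q' => (G.sum_ramIdx_mul_deg (K' := K'') hK' Q').1
      obtain ⟨N, hN⟩ : ∃ N : Place k K' → ℕ, ∀ Q' (R : Place k K''), IsOver R Q' →
          R.1 z ≤ exp ((N Q' : ℕ) : ℤ) := by
        refine ⟨fun Q' => ∑ R ∈ (hfinQ Q').toFinset, (-(R.ord z)).toNat, ?_⟩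
        intro Q' R hR
        beta_reduce
        rw [pl_val_eq_exp_neg_ord R hz0, exp_le_exp]
        have h3 : (-(R.ord z)).toNat ≤ ∑ R ∈ (hfinQ Q').toFinset, (-(R.ord z)).toNat :=
          Finset.single_le_sum (f := fun R : Place k K'' => (-(R.ord z)).toNat)
            (fun _ _ => Nat.zero_le _) ((Set.Finite.mem_toFinset _).mpr hR)
        have h4 := Int.self_le_toNat (-(R.ord z))
        omega
      obtain ⟨s, hs⟩ := weak_approx (insert Q hfinP.toFinset)
        (fun Q' => if Q' = Q then 1 else 0)
        (fun Q' => if Q' = Q then -1 else -((N Q' : ℕ) : ℤ))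
      have hsQ : Q.1 (s - 1) < 1 := by
        have h3 := hs Q (Finset.mem_insert_self _ _)
        rw [if_pos rfl, if_pos rfl] at h3
        rw [h3, ← exp_zero, exp_lt_exp]
        norm_num
      have hsQ' : ∀ Q' : Place k K', IsOver Q' P → Q' ≠ Q →
          Q'.1 s = exp (-((N Q' : ℕ) : ℤ)) := by
        intro Q' hQ' hne
        have h3 := hs Q' (Finset.mem_insert_of_mem ((Set.Finite.mem_toFinset hfinP).mpr hQ'))
        rw [if_neg hne, if_neg hne, sub_zero] at h3
        exact h3
      have hsQ1 : Q.1 s = 1 := by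
        have h3 : s = 1 + (s - 1) := by ring
        rw [h3, Valuation.map_add_eq_of_lt_left]
        · exact map_one _
        · rw [map_one]; exact hsQ
      have hs0 : s ≠ 0 := by
        rintro rfl
        rw [map_zero] at hsQ1
        exact zero_ne_one hsQ1
      have hsz : ∀ R : Place k K'', IsOver R P → R.1 (algebraMap K' K'' s * z) ≤ 1 := by
        intro R hR
        obtain ⟨Q', hQ'P, e', he'⟩ := exists_mid_place (K' := K') hK hR
        rw [map_mul, he']
        by_cases hne : Q' = Q
        · rw [hne, hsQ1, one_pow, one_mul]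
          exact hz R (hne ▸ ⟨e', he'⟩)
        · rw [hsQ' Q' hQ'P hne]
          have h5 : exp (-((N Q' : ℕ) : ℤ)) ^ e' ≤ exp (-((N Q' : ℕ) : ℤ)) := by
            apply pow_le_of_le_one zero_le' _ (isOverWith_pos he').ne'
            rw [← exp_zero, exp_le_exp]
            omega
          calc exp (-((N Q' : ℕ) : ℤ)) ^ e' * R.1 z
              ≤ exp (-((N Q' : ℕ) : ℤ)) * exp ((N Q' : ℕ) : ℤ) :=
                mul_le_mul' h5 (hN Q' R ⟨e', he'⟩)
            _ = 1 := by rw [← exp_add]; simp
      have h6 := adjoin_mono_base (hSOle Q hQP) _ (NS2 _ hsz)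
      have hinv : algebraMap K' K'' s⁻¹ ∈ SO Q K'' := by
        rw [mem_SO_iff]
        refine ⟨s⁻¹, ?_, rfl⟩
        rw [map_inv₀, hsQ1, inv_one]
      have h7 : z = algebraMap K' K'' s⁻¹ * (algebraMap K' K'' s * z) := by
        rw [← mul_assoc, ← map_mul, inv_mul_cancel₀ hs0, map_one, one_mul]
      rw [h7]
      exact mul_mem (Subalgebra.algebraMap_mem _ (⟨_, hinv⟩ : SO Q K'')) h6
  · rintro ⟨NS1, NSQ⟩ z hz
    obtain ⟨b, hb⟩ : ∃ b : Module.Basis (Fin (Module.finrank k' k'')) k' k'', b = Module.finBasis k' k'' :=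
      ⟨_, rfl⟩
    choose lam hlam using fun j => exists_lambda h2 (b.coord j)
    rw [sum_lambda_mul_basis h2.2 b lam hlam z]
    refine Subalgebra.sum_mem _ (fun j _ => ?_)
    refine mul_mem (map_adjoin_mem P (NS1 _ ?_)) (Algebra.subset_adjoin ⟨b j, rfl⟩)
    intro Q hQP
    have hzQ : z ∈ Algebra.adjoin (SO Q K'') (Set.range (algebraMap k'' K'')) := by
      apply NSQ Q hQP z
      rintro R ⟨e', he'⟩
      obtain ⟨e, he⟩ := hQP
      exact hz R ⟨_, isOverWith_trans he' he⟩
    have h3 := lambda_adjoin_mem Q.O.toSubring (fun c => val_const_le_one Q c) (lam j)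
      (fun c => ⟨b.coord j c, (hlam j c).symm⟩) hzQ
    exact h3

end Main

end Groth.Agent.H55
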