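import Groth.Agent.H55.FFZeta4

/-!
# The Euler product in logarithmic-derivative form: `n a_n = ∑_{r=1}^n N_r a_{n-r}`.
-/

set_option autoImplicit false

open FunFld

namespace Groth.Agent.H55

variable {k K : Type*} [Field k] [Field K] [Algebra k K]

variable (k K) in
/-- `N_r = ∑_{deg P ∣ r} deg P`. -/
noncomputable def placeSum (r : ℕ) : ℕ :=
  ∑ᶠ P : Place k K, if P.deg ∣ r then P.deg else 0

theorem placeSum_eq_sum {r n : ℕ} (hr : 1 ≤ r) (hrn : r ≤ n)
    (s : Finset (Place k K)) (hs : ∀ P, P ∈ s ↔ P.deg ≤ n) :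
    placeSum k K r = ∑ P ∈ s, if P.deg ∣ r then P.deg else 0 := by
  unfold placeSum
  apply finsum_eq_sum_of_support_subset
  intro P hP
  rw [Function.mem_support] at hP
  rw [Finset.mem_coe, hs]
  by_cases h : P.deg ∣ r
  · exact (Nat.le_of_dvd (by omega) h).trans hrn
  · rw [if_neg h] at hP; exact absurd rfl hP

theorem sum_Icc_ite_le (n : ℕ) (z : ℤ) (hz0 : 0 ≤ z) (hzn : z ≤ n) (c : ℤ) :
    ∑ j ∈ Finset.Icc 1 n, (if (j : ℤ) ≤ z then c else 0) = z * c := by
  lift z to ℕ using hz0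
  have hzn' : z ≤ n := by exact_mod_cast hzn
  rw [← Finset.sum_filter]
  have : (Finset.Icc 1 n).filter (fun j : ℕ => (j : ℤ) ≤ (z : ℤ)) = Finset.Icc 1 z := by
    ext j
    simp only [Finset.mem_filter, Finset.mem_Icc, Nat.cast_le]
    omega
  rw [this, Finset.sum_const, Nat.card_Icc]
  simp

theorem sum_Icc_dvd (n d : ℕ) (hd : 1 ≤ d) (f : ℕ → ℤ) :
    ∑ r ∈ Finset.Icc 1 n, (if d ∣ r then f r else 0) =
      ∑ j ∈ Finset.Icc 1 n, (if j * d ≤ n then f (j * d) else 0) := by
  rw [← Finset.sum_filter, ← Finset.sum_filter]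
  apply Finset.sum_nbij' (fun r => r / d) (fun j => j * d)
  · intro r hr
    simp only [Finset.mem_filter, Finset.mem_Icc] at hr ⊢
    obtain ⟨⟨h1, h2⟩, h3⟩ := hr
    have h4 : r / d * d = r := Nat.div_mul_cancel h3
    have h5 : d ≤ r := Nat.le_of_dvd (by omega) h3
    have h6 : 1 ≤ r / d := (Nat.one_le_div_iff (by omega)).mpr h5
    have h7 : r / d ≤ r := Nat.div_le_self r d
    exact ⟨⟨h6, by omega⟩, by omega⟩
  · intro j hj
    simp only [Finset.mem_filter, Finset.mem_Icc] at hj ⊢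
    obtain ⟨⟨h1, h2⟩, h3⟩ := hj
    refine ⟨⟨?_, h3⟩, Dvd.intro_left j rfl⟩
    calc 1 = 1 * 1 := rfl
      _ ≤ j * d := Nat.mul_le_mul h1 hd
  · intro r hr
    simp only [Finset.mem_filter, Finset.mem_Icc] at hr
    exact Nat.div_mul_cancel hr.2
  · intro j _
    exact Nat.mul_div_cancel j (by omega)
  · intro r hr
    simp only [Finset.mem_filter, Finset.mem_Icc] at hr
    rw [Nat.div_mul_cancel hr.2]

theorem card_effDiv_ge (n : ℕ) (P : Place k K) (j : ℕ) :
    Nat.card {D : {D : Divisor k K // 0 ≤ D ∧ D.deg = (n : ℤ)} // (j : ℤ) ≤ D.1 P} =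
      if j * P.deg ≤ n then effDivCount k K (n - j * P.deg) else 0 := by
  classical
  split_ifs with h
  · unfold effDivCount
    apply Nat.card_congr
    refine
      { toFun := fun D => ⟨D.1.1 - Finsupp.single P (j : ℤ), ?_, ?_⟩
        invFun := fun D' => ⟨⟨D'.1 + Finsupp.single P (j : ℤ), ?_, ?_⟩, ?_⟩
        left_inv := fun D => by
          apply Subtype.ext; apply Subtype.ext
          simp
        right_inv := fun D' => by
          apply Subtype.ext
          simp }
    · intro Q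
      have h0 := D.1.2.1 Q
      simp only [Finsupp.coe_zero, Pi.zero_apply, Finsupp.coe_sub, Pi.sub_apply] at h0 ⊢
      by_cases hQ : Q = P
      · subst hQ
        rw [Finsupp.single_eq_same]
        have := D.2
        omega
      · rw [Finsupp.single_eq_of_ne hQ]; omega
    · rw [deg_sub, deg_single, D.1.2.2]
      push_cast [Nat.cast_sub h]
      ring
    · intro Q
      have h0 := D'.2.1 Q
      simp only [Finsupp.coe_zero, Pi.zero_apply, Finsupp.coe_add, Pi.add_apply] at h0 ⊢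
      have : (0 : ℤ) ≤ (Finsupp.single P (j : ℤ) : Divisor k K) Q := by
        by_cases hQ : Q = P
        · subst hQ; rw [Finsupp.single_eq_same]; positivity
        · rw [Finsupp.single_eq_of_ne hQ]
      omega
    · rw [deg_add, deg_single, D'.2.2]
      push_cast [Nat.cast_sub h]
      ring
    · have h0 := D'.2.1 P
      simp only [Finsupp.coe_zero, Pi.zero_apply, Finsupp.coe_add, Pi.add_apply,
        Finsupp.single_eq_same] at h0 ⊢
      omega
  · rw [Nat.card_eq_zero]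
    left
    refine ⟨fun D => h ?_⟩
    have h1 := deg_mono (single_le_of_nonneg D.1.2.1 P)
    rw [deg_single, D.1.2.2] at h1
    have h2 := D.2
    have h3 : (j : ℤ) * (P.deg : ℤ) ≤ D.1.1 P * (P.deg : ℤ) :=
      mul_le_mul_of_nonneg_right h2 (by positivity)
    have h4 : ((j * P.deg : ℕ) : ℤ) ≤ (n : ℤ) := by push_cast; omega
    exact_mod_cast h4

/-- `n a_n = ∑_{r=1}^n N_r a_{n-r}`. -/
theorem euler_recurrence [Finite k] (hK : FunFld.IsFunctionField k K) (n : ℕ) :
    (n : ℤ) * (effDivCount k K n : ℤ) =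
      ∑ r ∈ Finset.Icc 1 n, (placeSum k K r : ℤ) * (effDivCount k K (n - r) : ℤ) := by
  classical
  set s := (places_deg_le_finite hK n).toFinset with hs
  have hsm : ∀ P, P ∈ s ↔ P.deg ≤ n := fun P => by rw [hs, Set.Finite.mem_toFinset]; rfl
  haveI : Finite {D : Divisor k K // 0 ≤ D ∧ D.deg = (n : ℤ)} := (effDiv_finite hK n).to_subtype
  haveI : Fintype {D : Divisor k K // 0 ≤ D ∧ D.deg = (n : ℤ)} := Fintype.ofFinite _
  -- Step 1
  have hD : ∀ D : {D : Divisor k K // 0 ≤ D ∧ D.deg = (n : ℤ)},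
      ∑ P ∈ s, ∑ j ∈ Finset.Icc 1 n, (if (j : ℤ) ≤ D.1 P then (P.deg : ℤ) else 0) = n := by
    intro D
    have hDP : ∀ P : Place k K, D.1 P * (P.deg : ℤ) ≤ n := by
      intro P
      have h1 := deg_mono (single_le_of_nonneg D.2.1 P)
      rwa [deg_single, D.2.2] at h1
    have hsub : D.1.support ⊆ s := by
      intro P hP
      rw [Finsupp.mem_support_iff] at hP
      rw [hsm]
      have h0 := D.2.1 P
      simp only [Finsupp.coe_zero, Pi.zero_apply] at h0
      have h1 : 1 ≤ D.1 P := by omega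
      have h2 := hDP P
      have h3 : (P.deg : ℤ) ≤ D.1 P * (P.deg : ℤ) := by nlinarith
      have : (P.deg : ℤ) ≤ n := h3.trans h2
      exact_mod_cast this
    have h1 : ∀ P ∈ s, ∑ j ∈ Finset.Icc 1 n, (if (j : ℤ) ≤ D.1 P then (P.deg : ℤ) else 0) =
        D.1 P * (P.deg : ℤ) := by
      intro P _
      have h0 := D.2.1 P
      simp only [Finsupp.coe_zero, Pi.zero_apply] at h0
      apply sum_Icc_ite_le n _ h0
      have hd : (1 : ℤ) ≤ P.deg := by exact_mod_cast deg_pos hK P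
      have h2 := hDP P
      nlinarith
    rw [Finset.sum_congr rfl h1]
    refine Eq.trans ?_ D.2.2
    unfold Divisor.deg
    exact (Finsupp.sum_of_support_subset D.1 hsub (fun P n => n * (P.deg : ℤ))
      (by intro P _; exact zero_mul _)).symm
  have hstep1 : (n : ℤ) * (effDivCount k K n : ℤ) =
      ∑ D : {D : Divisor k K // 0 ≤ D ∧ D.deg = (n : ℤ)},
        ∑ P ∈ s, ∑ j ∈ Finset.Icc 1 n, (if (j : ℤ) ≤ D.1 P then (P.deg : ℤ) else 0) := by
    rw [Finset.sum_congr rfl (fun D _ => hD D), Finset.sum_const, Finset.card_univ]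
    unfold effDivCount
    rw [Nat.card_eq_fintype_card]
    simp [mul_comm]
  -- Step 2
  have hcount : ∀ (P : Place k K) (j : ℕ),
      ∑ D : {D : Divisor k K // 0 ≤ D ∧ D.deg = (n : ℤ)},
        (if (j : ℤ) ≤ D.1 P then (P.deg : ℤ) else 0) =
      if j * P.deg ≤ n then (P.deg : ℤ) * (effDivCount k K (n - j * P.deg) : ℤ) else 0 := by
    intro P j
    rw [← Finset.sum_filter, Finset.sum_const, nsmul_eq_mul, mul_comm]
    have h1 : ((Finset.univ.filter fun D : {D : Divisor k K // 0 ≤ D ∧ D.deg = (n : ℤ)} =>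
        (j : ℤ) ≤ D.1 P).card : ℕ) =
        Nat.card {D : {D : Divisor k K // 0 ≤ D ∧ D.deg = (n : ℤ)} // (j : ℤ) ≤ D.1 P} := by
      rw [Nat.card_eq_fintype_card, Fintype.card_subtype]
    rw [h1, card_effDiv_ge]
    split_ifs <;> simp
  rw [hstep1, Finset.sum_comm]
  have hstep2 : ∀ P ∈ s, ∑ D : {D : Divisor k K // 0 ≤ D ∧ D.deg = (n : ℤ)},
      ∑ j ∈ Finset.Icc 1 n, (if (j : ℤ) ≤ D.1 P then (P.deg : ℤ) else 0) =
      ∑ r ∈ Finset.Icc 1 n, (if P.deg ∣ r then
        (P.deg : ℤ) * (effDivCount k K (n - r) : ℤ) else 0) := by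
    intro P _
    rw [Finset.sum_comm, Finset.sum_congr rfl (fun j _ => hcount P j),
      sum_Icc_dvd n P.deg (deg_pos hK P) (fun r => (P.deg : ℤ) * (effDivCount k K (n - r) : ℤ))]
  rw [Finset.sum_congr rfl hstep2, Finset.sum_comm]
  refine Finset.sum_congr rfl fun r hr => ?_
  rw [Finset.mem_Icc] at hr
  rw [placeSum_eq_sum hr.1 hr.2 s hsm]
  push_cast
  rw [Finset.sum_mul]
  refine Finset.sum_congr rfl fun P _ => ?_
  split_ifs <;> simp

end Groth.Agent.H55
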