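import Groth.Agent.H55.FFSchmidt
import Groth.Agent.H55.FFEuler

/-!
# Constant field extensions over finite fields: the splitting law for places.
-/

set_option autoImplicit false

namespace Groth.Agent.H55

open FunFld WithZero Polynomial IsLocalRing IntermediateField

namespace ConstExt

section FiniteFieldLemmas

/-- Over a finite field there is an irreducible polynomial of each degree `g ≥ 1`, dividing
`X^(q^m) - X` whenever `g ∣ m`. -/
theorem exists_irreducible (k : Type*) [Field k] [Finite k] (g : ℕ) (hg : 0 < g) :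
    ∃ f : k[X], f.Monic ∧ Irreducible f ∧ f.natDegree = g ∧
      ∀ m : ℕ, g ∣ m → f ∣ X ^ (Nat.card k ^ m) - X := by
  classical
  obtain ⟨p, hp⟩ := CharP.exists k
  haveI := hp
  haveI : Fact p.Prime := ⟨CharP.char_is_prime k p⟩
  haveI : NeZero g := ⟨hg.ne'⟩
  have hfr : Module.finrank k (FiniteField.Extension k p g) = g :=
    FiniteField.finrank_extension k p g
  have hcard : Nat.card (FiniteField.Extension k p g) = Nat.card k ^ g :=
    FiniteField.natCard_extension k p g
  obtain ⟨β, hβ⟩ := Field.exists_primitive_element k (FiniteField.Extension k p g)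
  have hint : IsIntegral k β := IsIntegral.of_finite k β
  refine ⟨minpoly k β, minpoly.monic hint, minpoly.irreducible hint, ?_, ?_⟩
  · have h1 : Module.finrank k k⟮β⟯ = (minpoly k β).natDegree :=
      IntermediateField.adjoin.finrank hint
    have h2 : Module.finrank k (⊤ : IntermediateField k (FiniteField.Extension k p g))
        = Module.finrank k (FiniteField.Extension k p g) := IntermediateField.finrank_top'
    rw [hβ] at h1
    rw [← h1, h2, hfr]
  · rintro m ⟨t, rfl⟩
    have hβpow : β ^ (Nat.card k ^ g) = β := by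
      haveI : Fintype (FiniteField.Extension k p g) := Fintype.ofFinite _
      rw [← hcard, Nat.card_eq_fintype_card]
      exact FiniteField.pow_card β
    apply minpoly.dvd k β
    rw [pow_mul]
    simp [pow_pow_card_eq hβpow t]

/-- A monic polynomial over `k` dividing `X^(card F) - X` splits in the finite field `F` with
distinct roots. -/
theorem splits_of_dvd (k F : Type*) [Field k] [Field F] [Finite F] [Algebra k F]
    {f : k[X]} (hfm : f.Monic) (hdvd : f ∣ X ^ Nat.card F - X) :
    (f.map (algebraMap k F)).Splits ∧ (f.map (algebraMap k F)).roots.Nodup ∧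
      (f.map (algebraMap k F)).roots.card = f.natDegree := by
  classical
  haveI : Fintype F := Fintype.ofFinite F
  have hcard : Nat.card F = Fintype.card F := Nat.card_eq_fintype_card
  have h1 : (X ^ Fintype.card F - X : F[X]).roots = Finset.univ.val :=
    FiniteField.roots_X_pow_card_sub_X F
  have hne : (X ^ Fintype.card F - X : F[X]) ≠ 0 :=
    FiniteField.X_pow_card_sub_X_ne_zero F Fintype.one_lt_card
  have hdeg : (X ^ Fintype.card F - X : F[X]).natDegree = Fintype.card F :=
    FiniteField.X_pow_card_sub_X_natDegree_eq F Fintype.one_lt_card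
  have hsp : (X ^ Fintype.card F - X : F[X]).Splits := by
    rw [splits_iff_card_roots, h1, hdeg]
    simp
  have hdvd' : f.map (algebraMap k F) ∣ X ^ Fintype.card F - X := by
    have := Polynomial.map_dvd (algebraMap k F) hdvd
    rwa [Polynomial.map_sub, Polynomial.map_pow, map_X, hcard] at this
  have hs : (f.map (algebraMap k F)).Splits := hsp.of_dvd hne hdvd'
  refine ⟨hs, ?_, ?_⟩
  · have hle : (f.map (algebraMap k F)).roots ≤ (X ^ Fintype.card F - X : F[X]).roots :=
      Polynomial.roots.le_of_dvd hne hdvd'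
    rw [h1] at hle
    exact Multiset.nodup_of_le hle Finset.univ.nodup
  · rw [← hfm.natDegree_map (algebraMap k F)]
    exact (splits_iff_card_roots.mp hs)

end FiniteFieldLemmas

section Main

variable {k K k' K' : Type*} [Field k] [Field K] [Algebra k K] [Field k'] [Field K']
  [Algebra k k'] [Algebra K K'] [Algebra k' K'] [Algebra k K'] [IsScalarTower k k' K']
  [IsScalarTower k K K']

variable (k) in
/-- A place of `K'/k'` viewed as a place of `K'/k`. -/
def toK (Q' : Place k' K') : Place k K' :=
  ⟨Q'.1, fun c => by rw [IsScalarTower.algebraMap_apply k k' K']; exact Q'.2.1 _, Q'.2.2⟩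

/-- A place of `K'/k` viewed as a place of `K'/k'` (for `k'/k` algebraic). -/
def ofK [Algebra.IsAlgebraic k k'] (Q : Place k K') : Place k' K' :=
  ⟨Q.1, fun c => by
    by_cases h0 : algebraMap k' K' c = 0
    · rw [h0, map_zero]; exact zero_le'
    · have halg : IsAlgebraic k (algebraMap k' K' c) :=
        (Algebra.IsAlgebraic.isAlgebraic c).algebraMap
      exact (G.val_eq_one_of_isAlgebraic Q h0 halg).le, Q.2.2⟩

omit [Algebra K K'] [IsScalarTower k K K'] in
theorem toK_ofK [Algebra.IsAlgebraic k k'] (Q : Place k K') : toK k (ofK (k' := k') Q) = Q := rfl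

omit [Algebra K K'] [IsScalarTower k K K'] in
theorem ofK_toK [Algebra.IsAlgebraic k k'] (Q' : Place k' K') : ofK (toK k Q') = Q' := rfl

omit [Algebra K K'] [IsScalarTower k K K'] in
theorem deg_toK (Q' : Place k' K') :
    (toK k Q').deg = Module.finrank k k' * Q'.deg := by
  unfold Place.deg
  letI a1 : Algebra k (ResidueField Q'.O) := Place.algRes (toK k Q')
  have hst : IsScalarTower k k' (ResidueField Q'.O) := IsScalarTower.of_algebraMap_eq (fun c => by
    show residue Q'.O (algebraMap k (toK k Q').O c) =
      residue Q'.O (algebraMap k' Q'.O (algebraMap k k' c))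
    congr 1
    apply Subtype.ext
    exact IsScalarTower.algebraMap_apply k k' K' c)
  have := @Module.finrank_mul_finrank k k' (ResidueField Q'.O) _ _ _ _ _ a1.toModule hst _ _ _ _
  exact this.symm

omit [Algebra k k'] [Algebra k K'] [IsScalarTower k k' K'] [IsScalarTower k K K'] [Algebra k K] in
theorem isGalois_constExt [Finite k']
    (hgen : Algebra.adjoin K (Set.range (algebraMap k' K')) = ⊤) : IsGalois K K' := by
  classical
  haveI : Fintype k' := Fintype.ofFinite k'
  obtain ⟨p, hp⟩ := CharP.exists k'
  haveI := hp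
  haveI : Fact p.Prime := ⟨CharP.char_is_prime k' p⟩
  obtain ⟨a, -, ha⟩ := FiniteField.card k' p
  haveI : CharP K' p := (RingHom.charP_iff (algebraMap k' K') (algebraMap k' K').injective p).mp hp
  haveI : CharP K p := (RingHom.charP_iff (algebraMap K K') (algebraMap K K').injective p).mpr
    inferInstance
  have hpd : p ∣ Fintype.card k' := by rw [ha]; exact dvd_pow_self p a.ne_zero
  have sep : (X ^ Fintype.card k' - X : K[X]).Separable := galois_poly_separable p _ hpd
  have h1 : 1 < Fintype.card k' := Fintype.one_lt_card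
  have hmap : (X ^ Fintype.card k' - X : K[X]).map (algebraMap K K') = X ^ Fintype.card k' - X := by
    rw [Polynomial.map_sub, Polynomial.map_pow, map_X]
  have hne : (X ^ Fintype.card k' - X : K'[X]) ≠ 0 := FiniteField.X_pow_card_sub_X_ne_zero K' h1
  have hdeg : (X ^ Fintype.card k' - X : K'[X]).natDegree = Fintype.card k' :=
    FiniteField.X_pow_card_sub_X_natDegree_eq K' h1
  have hroot : ∀ c : k', (X ^ Fintype.card k' - X : K'[X]).IsRoot (algebraMap k' K' c) := by
    intro c
    rw [IsRoot.def, eval_sub, eval_pow, eval_X, ← map_pow, FiniteField.pow_card, sub_self]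
  haveI : IsSplittingField K K' (X ^ Fintype.card k' - X : K[X]) := by
    refine ⟨?_, ?_⟩
    · rw [hmap, splits_iff_card_roots, hdeg]
      apply le_antisymm
      · exact (card_roots' (X ^ Fintype.card k' - X : K'[X])).trans hdeg.le
      · have hle : (Finset.univ.image (algebraMap k' K')).val ≤
            (X ^ Fintype.card k' - X : K'[X]).roots := by
          rw [Multiset.le_iff_subset (Finset.nodup _)]
          intro z hz
          rw [Finset.mem_val, Finset.mem_image] at hz
          obtain ⟨c, -, rfl⟩ := hz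
          exact (mem_roots hne).mpr (hroot c)
        have := Multiset.card_le_card hle
        rwa [Finset.card_val, Finset.card_image_of_injective _ (algebraMap k' K').injective,
          Finset.card_univ] at this
    · rw [eq_top_iff, ← hgen]
      apply Algebra.adjoin_mono
      rintro _ ⟨c, rfl⟩
      rw [mem_rootSet]
      refine ⟨sep.ne_zero, ?_⟩
      have := hroot c
      rw [IsRoot.def] at this
      rw [aeval_def, eval₂_eq_eval_map, hmap]
      exact this
  exact IsGalois.of_separable_splitting_field sep

omit [Algebra K K'] [IsScalarTower k K K'] in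
theorem val_const_eq_one [Algebra.IsAlgebraic k k'] (Q : Place k K') {c : k'} (hc : c ≠ 0) :
    Q.1 (algebraMap k' K' c) = 1 := by
  have halg : IsAlgebraic k (algebraMap k' K' c) :=
    (Algebra.IsAlgebraic.isAlgebraic c).algebraMap
  exact G.val_eq_one_of_isAlgebraic Q ((_root_.map_ne_zero _).mpr hc) halg

/-- The splitting law for places in a constant field extension of finite fields. -/
theorem splitting_law [Finite k] [Finite k'] (hK : FunFld.IsFunctionField k K)
    (hgen : Algebra.adjoin K (Set.range (algebraMap k' K')) = ⊤)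
    (hrank : Module.finrank K K' = Module.finrank k k') (P : Place k K) :
    Nat.card {Q : Place k K' // IsOver Q P} = Nat.gcd P.deg (Module.finrank k k') ∧
      ∀ Q : Place k K', IsOver Q P → Q.deg = Nat.lcm P.deg (Module.finrank k k') := by
  classical
  set n := Module.finrank k k' with hn_def
  have hn : 0 < n := Module.finrank_pos
  haveI : FiniteDimensional K K' := Module.finite_of_finrank_pos (by rw [hrank]; exact hn)
  haveI : IsGalois K K' := isGalois_constExt hgen
  have hK1 : G.IsFF1 k K := G.isFF1_of_isFunctionField hK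
  have hK1' : G.IsFF1 k K' := isFF1_of_finite hK1
  set d := P.deg with hd_def
  have hd : 0 < d := deg_pos hK P
  set g := Nat.gcd d n with hg_def
  have hg : 0 < g := Nat.gcd_pos_of_pos_left _ hd
  haveI : Algebra.IsAlgebraic k k' := Algebra.IsAlgebraic.of_finite k k'
  obtain ⟨Q₀, e, he⟩ := exists_place_over (K' := K') hK1 P
  obtain ⟨h1, h2⟩ := G.galois_places hK1 Q₀ P e he
  have h3 := G.card_decomposition_mul_deg hK1 Q₀ P e he
  have he0 := isOverWith_pos he
  -- divisibility
  have hnδ : n ∣ Q₀.deg := ⟨(ofK (k' := k') Q₀).deg, by rw [← deg_toK, toK_ofK]⟩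
  have hdδ : d ∣ Q₀.deg := by
    letI a2 : Algebra (ResidueField P.O) (ResidueField Q₀.O) := (resExt he).toAlgebra
    have hst : IsScalarTower k (ResidueField P.O) (ResidueField Q₀.O) :=
      IsScalarTower.of_algebraMap_eq (fun c => (resExt_algebraMap he c).symm)
    have := @Module.finrank_mul_finrank k (ResidueField P.O) (ResidueField Q₀.O) _ _ _ _ _ _ hst
      _ _ _ _
    exact ⟨_, this.symm⟩
  have hlcm : Nat.lcm d n ∣ Q₀.deg := Nat.lcm_dvd hdδ hnδ
  -- at least `g` places
  have hfinQ : {Q : Place k K' | IsOver Q P}.Finite := (G.sum_ramIdx_mul_deg (K' := K') hK1 P).1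
  have hge : g ≤ Nat.card {Q : Place k K' // IsOver Q P} := by
    obtain ⟨f, hfm, hfi, hfd, hfdvd⟩ := exists_irreducible k g hg
    have hk'card : Nat.card k' = Nat.card k ^ n := Module.natCard_eq_pow_finrank
    obtain ⟨hs', hnd', hc'⟩ := splits_of_dvd k k' hfm
      (by rw [hk'card]; exact hfdvd n (Nat.gcd_dvd_right d n))
    haveI : Finite (ResidueField P.O) := by
      apply Nat.finite_of_card_ne_zero
      rw [card_residueField hK1 P]
      exact (pow_pos Nat.card_pos _).ne'
    obtain ⟨hsP, -, hcP⟩ := splits_of_dvd k (ResidueField P.O) hfm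
      (by rw [card_residueField hK1 P]; exact hfdvd d (Nat.gcd_dvd_left d n))
    obtain ⟨c, hc⟩ : ∃ c, c ∈ (f.map (algebraMap k (ResidueField P.O))).roots :=
      Multiset.card_pos_iff_exists_mem.mp (by rw [hcP, hfd]; exact hg)
    obtain ⟨u, rfl⟩ := residue_surjective c
    have hfu : P.1 (aeval (u : K) f) < 1 := by
      haveI : IsScalarTower k P.O K := IsScalarTower.of_algebraMap_eq (fun c => rfl)
      have hroot := (mem_roots (hfm.map _).ne_zero).mp hc
      have h1 : residue P.O (aeval u f) = 0 := by
        have h2 : residue P.O (aeval u f) = aeval (residue P.O u) f := by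
          rw [aeval_def, aeval_def, Polynomial.hom_eval₂]
          rfl
        rw [h2, aeval_def, eval₂_eq_eval_map]
        exact hroot
      have h3 : aeval u f ∈ maximalIdeal P.O := (residue_eq_zero_iff _).mp h1
      rw [mem_maximalIdeal_iff] at h3
      have h4 : ((aeval u f : P.O) : K) = aeval (u : K) f :=
        (Polynomial.aeval_algebraMap_apply K u f).symm
      rwa [h4] at h3
    set R := (f.map (algebraMap k k')).roots with hR
    have hprod : algebraMap K K' (aeval (u : K) f) =
        (R.map (fun β => algebraMap K K' (u : K) - algebraMap k' K' β)).prod := by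
      have hp := hs'.eq_prod_roots_of_monic (hfm.map _)
      have h1 : algebraMap K K' (aeval (u : K) f) =
          eval₂ (algebraMap k' K') (algebraMap K K' u) (f.map (algebraMap k k')) := by
        rw [eval₂_map, aeval_def, hom_eval₂]
        congr 1
        ext c
        rw [RingHom.comp_apply, RingHom.comp_apply, ← IsScalarTower.algebraMap_apply k K K',
          ← IsScalarTower.algebraMap_apply k k' K']
      rw [h1]
      conv_lhs => rw [hp]
      rw [eval₂_multiset_prod, Multiset.map_map]
      congr 1
      refine Multiset.map_congr rfl fun c _ => ?_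
      simp [eval₂_sub]
    have hexβ : ∀ Q : Place k K', IsOver Q P →
        ∃ β ∈ R, Q.1 (algebraMap K K' u - algebraMap k' K' β) < 1 := by
      rintro Q ⟨e', he'⟩
      have he'0 := isOverWith_pos he'
      have hQf : Q.1 (algebraMap K K' (aeval (u : K) f)) < 1 := by
        rw [he']
        exact pow_lt_one₀ zero_le' hfu he'0.ne'
      rw [hprod] at hQf
      have hQu : Q.1 (algebraMap K K' u) ≤ 1 := by
        rw [he']
        exact pow_le_one₀ zero_le' ((Valuation.mem_valuationSubring_iff _ _).mp u.2)
      by_contra hcon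
      push_neg at hcon
      have hall : ∀ β ∈ R, Q.1 (algebraMap K K' u - algebraMap k' K' β) = 1 := by
        intro β hβ
        refine le_antisymm ((Valuation.map_sub _ _ _).trans (max_le hQu ?_)) (hcon β hβ)
        exact (ofK (k' := k') Q).2.1 β
      rw [map_multiset_prod, Multiset.map_map] at hQf
      have : (R.map (Q.1 ∘ fun β => algebraMap K K' (u : K) - algebraMap k' K' β)).prod = 1 := by
        apply Multiset.prod_eq_one
        intro v hv
        obtain ⟨β, hβ, rfl⟩ := Multiset.mem_map.mp hv
        exact hall β hβ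
      rw [this] at hQf
      exact lt_irrefl _ hQf
    obtain ⟨β₀, hβ₀R, hβ₀⟩ := hexβ Q₀ ⟨e, he⟩
    have hfK : Irreducible (f.map (algebraMap k K)) :=
      irreducible_map_of_algClosed_in (fun y hy => hK.2 y hy.isAlgebraic) hfm hfi
    have hminpoly : ∀ β ∈ R, minpoly K (algebraMap k' K' β) = f.map (algebraMap k K) := by
      intro β hβ
      symm
      apply minpoly.eq_of_irreducible_of_monic hfK _ (hfm.map _)
      rw [Polynomial.aeval_map_algebraMap, Polynomial.aeval_algebraMap_apply, aeval_def,
        eval₂_eq_eval_map]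
      have := (mem_roots (hfm.map _).ne_zero).mp hβ
      rw [IsRoot.def] at this
      rw [this, map_zero]
    have hsurj : ∀ β ∈ R, ∃ Q : Place k K', IsOver Q P ∧
        Q.1 (algebraMap K K' u - algebraMap k' K' β) < 1 := by
      intro β hβ
      have halg : IsAlgebraic K (algebraMap k' K' β) := Algebra.IsAlgebraic.isAlgebraic _
      have hev : aeval (algebraMap k' K' β₀) (minpoly K (algebraMap k' K' β)) = 0 := by
        rw [hminpoly β hβ, ← hminpoly β₀ hβ₀R]
        exact minpoly.aeval _ _
      obtain ⟨σ, hσ⟩ := minpoly.exists_algEquiv_of_root halg hev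
      refine ⟨comapGal Q₀ σ⁻¹, ⟨e, comapGal_isOverWith he _⟩, ?_⟩
      rw [comapGal_apply, map_sub, AlgEquiv.commutes, ← hσ]
      have : σ⁻¹ (σ (algebraMap k' K' β₀)) = algebraMap k' K' β₀ := by
        rw [← AlgEquiv.mul_apply, inv_mul_cancel, AlgEquiv.one_apply]
      rw [this]
      exact hβ₀
    have hsurj' : ∀ β, ∃ Q : Place k K', β ∈ R → (IsOver Q P ∧
        Q.1 (algebraMap K K' u - algebraMap k' K' β) < 1) := by
      intro β
      by_cases hβ : β ∈ R
      · obtain ⟨Q, hQ⟩ := hsurj β hβ
        exact ⟨Q, fun _ => hQ⟩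
      · exact ⟨Q₀, fun h => absurd h hβ⟩
    choose Qf hQf using hsurj'
    have hQf1 : ∀ β ∈ R, IsOver (Qf β) P := fun β hβ => (hQf β hβ).1
    have hQf2 : ∀ β ∈ R, (Qf β).1 (algebraMap K K' u - algebraMap k' K' β) < 1 :=
      fun β hβ => (hQf β hβ).2
    haveI : Finite {Q : Place k K' // IsOver Q P} := hfinQ.to_subtype
    have hinj : Function.Injective
        (fun β : {β // β ∈ R.toFinset} =>
          (⟨Qf β.1, hQf1 β.1 (Multiset.mem_toFinset.mp β.2)⟩ : {Q : Place k K' // IsOver Q P})) := by
      intro β β' hββ'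
      have hQ : Qf β.1 = Qf β'.1 := congrArg Subtype.val hββ'
      have hb1 := hQf2 β.1 (Multiset.mem_toFinset.mp β.2)
      have hb2 := hQf2 β'.1 (Multiset.mem_toFinset.mp β'.2)
      rw [← hQ] at hb2
      apply Subtype.ext
      by_contra hne
      have h5 : (Qf β.1).1 (algebraMap k' K' (β.1 - β'.1)) < 1 := by
        have e1 : algebraMap k' K' (β.1 - β'.1) =
            (algebraMap K K' u - algebraMap k' K' β'.1) -
              (algebraMap K K' u - algebraMap k' K' β.1) := by
          rw [map_sub]; ring
        rw [e1]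
        exact lt_of_le_of_lt (Valuation.map_sub _ _ _) (max_lt hb2 hb1)
      rw [val_const_eq_one (Qf β.1) (sub_ne_zero.mpr hne)] at h5
      exact lt_irrefl _ h5
    have hcard := Nat.card_le_card_of_injective _ hinj
    have hRc : Nat.card {β // β ∈ R.toFinset} = g := by
      rw [Nat.card_eq_fintype_card, Fintype.card_coe, Multiset.toFinset_card_of_nodup hnd', hc',
        hfd]
    rwa [hRc] at hcard
  -- conclude
  obtain ⟨t, ht⟩ := hlcm
  have hδ0 : 0 < Q₀.deg := G.deg_pos hK1' Q₀
  have ht0 : 0 < t := by
    rcases Nat.eq_zero_or_pos t with h0 | h0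
    · rw [h0, mul_zero] at ht; omega
    · exact h0
  have hgl : g * Nat.lcm d n = d * n := Nat.gcd_mul_lcm d n
  have hl0 : 0 < Nat.lcm d n := Nat.lcm_pos hd hn
  have key : Nat.card {Q : Place k K' // IsOver Q P} * e * t = g := by
    apply Nat.eq_of_mul_eq_mul_right hl0
    calc Nat.card {Q : Place k K' // IsOver Q P} * e * t * Nat.lcm d n
        = Nat.card {Q : Place k K' // IsOver Q P} * (e * (Nat.lcm d n * t)) := by ring
      _ = Nat.card {Q : Place k K' // IsOver Q P} *
            (Nat.card ((Q₀.O).decompositionSubgroup K) * d) := by rw [← ht, h3]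
      _ = (Nat.card {Q : Place k K' // IsOver Q P} *
            Nat.card ((Q₀.O).decompositionSubgroup K)) * d := by ring
      _ = n * d := by rw [h1, hrank]
      _ = g * Nat.lcm d n := by rw [hgl]; ring
  have h5 : Nat.card {Q : Place k K' // IsOver Q P} ≤
      Nat.card {Q : Place k K' // IsOver Q P} * e * t := by
    calc Nat.card {Q : Place k K' // IsOver Q P}
        = Nat.card {Q : Place k K' // IsOver Q P} * 1 * 1 := by ring
      _ ≤ Nat.card {Q : Place k K' // IsOver Q P} * e * t :=
          Nat.mul_le_mul (Nat.mul_le_mul le_rfl he0) ht0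
  have hr : Nat.card {Q : Place k K' // IsOver Q P} = g := le_antisymm (h5.trans key.le) hge
  have het : e * t = 1 := by
    have h6 : g * (e * t) = g * 1 := by
      rw [mul_one, ← mul_assoc]
      conv_lhs => rw [← hr]
      exact key
    exact Nat.eq_of_mul_eq_mul_left hg h6
  have ht1 : t = 1 := Nat.eq_one_of_mul_eq_one_left het
  refine ⟨hr, fun Q hQ => ?_⟩
  rw [(h2 Q hQ).2, ht, ht1, mul_one]

theorem div_gcd_dvd_iff {d n r : ℕ} (hd : 0 < d) :
    d / Nat.gcd d n ∣ r ↔ d ∣ n * r := by
  have hg : 0 < Nat.gcd d n := Nat.gcd_pos_of_pos_left _ hd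
  obtain ⟨d', hd'⟩ := Nat.gcd_dvd_left d n
  obtain ⟨n', hn'⟩ := Nat.gcd_dvd_right d n
  have hcop : Nat.Coprime d' n' := by
    have := Nat.coprime_div_gcd_div_gcd hg
    rwa [Nat.div_eq_of_eq_mul_right hg hd', Nat.div_eq_of_eq_mul_right hg hn'] at this
  have e1 : d / Nat.gcd d n = d' := Nat.div_eq_of_eq_mul_right hg hd'
  rw [e1]
  generalize Nat.gcd d n = g at *
  subst hd' hn'
  constructor
  · intro h
    rw [mul_assoc]
    exact Nat.mul_dvd_mul_left _ (Dvd.dvd.mul_left h n')
  · intro h
    rw [mul_assoc] at h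
    have h3 : d' ∣ n' * r := Nat.dvd_of_mul_dvd_mul_left hg h
    exact hcop.dvd_of_dvd_mul_left h3

/-- `N_r(K') = N_{nr}(K)` for a constant field extension of degree `n`. -/
theorem placeSum_constExt [Finite k] [Finite k'] (hK : FunFld.IsFunctionField k K)
    (hK' : FunFld.IsFunctionField k' K')
    (hgen : Algebra.adjoin K (Set.range (algebraMap k' K')) = ⊤)
    (hrank : Module.finrank K K' = Module.finrank k k') (r : ℕ) (hr : 1 ≤ r) :
    placeSum k' K' r = placeSum k K (Module.finrank k k' * r) := by
  classical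
  set n := Module.finrank k k' with hn_def
  have hn : 0 < n := Module.finrank_pos
  haveI : FiniteDimensional K K' := Module.finite_of_finrank_pos (by rw [hrank]; exact hn)
  have hK1 : G.IsFF1 k K := G.isFF1_of_isFunctionField hK
  haveI : Algebra.IsAlgebraic k k' := Algebra.IsAlgebraic.of_finite k k'
  -- the place below
  have hbelow : ∀ Q' : Place k' K', ∃ P : Place k K, IsOver (toK k Q') P := by
    intro Q'
    obtain ⟨P, e, he⟩ := exists_place_under hK1 (toK k Q')
    exact ⟨P, e, he⟩
  choose below hbel using hbelow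
  have hbelow_unique : ∀ (Q' : Place k' K') (P : Place k K), IsOver (toK k Q') P →
      below Q' = P := by
    rintro Q' P ⟨e, he⟩
    obtain ⟨e', he'⟩ := hbel Q'
    exact (isOverWith_unique he' he).1
  -- degrees
  have hdeg : ∀ (Q' : Place k' K') (P : Place k K), IsOver (toK k Q') P →
      Q'.deg = P.deg / Nat.gcd P.deg n := by
    intro Q' P hQP
    have h1 := (splitting_law hK hgen hrank P).2 (toK k Q') hQP
    rw [deg_toK] at h1
    have hgl : Nat.gcd P.deg n * Nat.lcm P.deg n = P.deg * n := Nat.gcd_mul_lcm _ _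
    have hg : 0 < Nat.gcd P.deg n := Nat.gcd_pos_of_pos_left _ (deg_pos hK P)
    symm
    apply Nat.div_eq_of_eq_mul_right hg
    apply Nat.eq_of_mul_eq_mul_right hn
    rw [← hgl, ← h1]
    ring
  -- finite sets
  set S' := ((places_deg_le_finite hK' r).toFinset).filter (fun Q' => Q'.deg ∣ r) with hS'
  set S := ((places_deg_le_finite hK (n * r)).toFinset).filter (fun P => P.deg ∣ n * r) with hS
  have hnr : 1 ≤ n * r := Nat.mul_pos hn hr
  have hS'm : ∀ Q', Q' ∈ S' ↔ Q'.deg ∣ r := by
    intro Q'
    rw [hS', Finset.mem_filter, Set.Finite.mem_toFinset]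
    exact ⟨fun h => h.2, fun h => ⟨Nat.le_of_dvd (by omega) h, h⟩⟩
  have hSm : ∀ P, P ∈ S ↔ P.deg ∣ n * r := by
    intro P
    rw [hS, Finset.mem_filter, Set.Finite.mem_toFinset]
    exact ⟨fun h => h.2, fun h => ⟨Nat.le_of_dvd (by omega) h, h⟩⟩
  have h1 : placeSum k' K' r = ∑ Q' ∈ S', Q'.deg := by
    unfold placeSum
    rw [finsum_eq_sum_of_support_subset (s := S')]
    · refine Finset.sum_congr rfl fun Q' hQ' => ?_
      rw [if_pos ((hS'm Q').mp hQ')]
    · intro Q' hQ'
      rw [Function.mem_support] at hQ'
      rw [Finset.mem_coe, hS'm]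
      by_contra h
      rw [if_neg h] at hQ'
      exact hQ' rfl
  have h2 : placeSum k K (n * r) = ∑ P ∈ S, P.deg := by
    unfold placeSum
    rw [finsum_eq_sum_of_support_subset (s := S)]
    · refine Finset.sum_congr rfl fun P hP => ?_
      rw [if_pos ((hSm P).mp hP)]
    · intro P hP
      rw [Function.mem_support] at hP
      rw [Finset.mem_coe, hSm]
      by_contra h
      rw [if_neg h] at hP
      exact hP rfl
  rw [h1, h2]
  have hmaps : ∀ Q' ∈ S', below Q' ∈ S := by
    intro Q' hQ'
    rw [hSm, ← div_gcd_dvd_iff (deg_pos hK _), ← hdeg Q' _ (hbel Q')]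
    exact (hS'm Q').mp hQ'
  rw [← Finset.sum_fiberwise_of_maps_to hmaps]
  refine Finset.sum_congr rfl fun P hP => ?_
  have hPd : P.deg / Nat.gcd P.deg n ∣ r := (div_gcd_dvd_iff (deg_pos hK P)).mpr ((hSm P).mp hP)
  have hfilter : ∀ Q', Q' ∈ S'.filter (fun Q' => below Q' = P) ↔ IsOver (toK k Q') P := by
    intro Q'
    rw [Finset.mem_filter]
    constructor
    · rintro ⟨-, hb⟩
      rw [← hb]; exact hbel Q'
    · intro h
      refine ⟨?_, hbelow_unique Q' P h⟩
      rw [hS'm, hdeg Q' P h]
      exact hPd
  have hconst : ∀ Q' ∈ S'.filter (fun Q' => below Q' = P),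
      Q'.deg = P.deg / Nat.gcd P.deg n := fun Q' hQ' => hdeg Q' P ((hfilter Q').mp hQ')
  rw [Finset.sum_congr rfl hconst, Finset.sum_const, smul_eq_mul]
  have hcard : (S'.filter (fun Q' => below Q' = P)).card = Nat.gcd P.deg n := by
    rw [← (splitting_law hK hgen hrank P).1, ← Fintype.card_coe, ← Nat.card_eq_fintype_card]
    apply Nat.card_congr
    exact
      { toFun := fun Q' => ⟨toK k Q'.1, (hfilter Q'.1).mp Q'.2⟩
        invFun := fun Q => ⟨ofK Q.1, (hfilter _).mpr (by rw [toK_ofK]; exact Q.2)⟩
        left_inv := fun Q' => by apply Subtype.ext; rfl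
        right_inv := fun Q => by apply Subtype.ext; rfl }
  rw [hcard]
  exact Nat.mul_div_cancel' (Nat.gcd_dvd_left _ _)

end Main

end ConstExt

end Groth.Agent.H55
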