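import Groth.Agent.H55.IntOver
import Groth.Agent.H10.FFConstPlace
import Mathlib

/-!
The integral closure of `O_P` in a constant field extension modulo `O_P[k']`.
-/

set_option autoImplicit false

namespace Groth.Agent.H55

open FunFld WithZero Polynomial IntermediateField IsLocalRing

section Approx

variable {k K : Type*} [Field k] [Field K] [Algebra k K]

/-- `O_P` is a finite-dimensional space modulo `π^N O_P`. -/
theorem exists_fd_approx (hK : G.IsFF1 k K) (P : Place k K) (N : ℕ) :
    ∃ W : Submodule k K, FiniteDimensional k W ∧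
      ∀ a : K, P.1 a ≤ 1 → ∃ v ∈ W, P.1 (a - v) ≤ exp (-(N : ℤ)) := by
  induction N with
  | zero =>
    refine ⟨⊥, inferInstance, fun a ha => ⟨0, zero_mem _, ?_⟩⟩
    simpa using ha
  | succ N ih =>
    obtain ⟨W, hW, hWa⟩ := ih
    haveI := hW
    haveI hfd : FiniteDimensional k (ResidueField P.O) := G.residue_finiteDimensional hK P
    obtain ⟨g, hg⟩ := (resMap P).exists_rightInverse_of_surjective
      (LinearMap.range_eq_top.mpr (resMap_surjective P))
    obtain ⟨π, hπ0, hπ⟩ := pl_exists_val_eq_exp P (-1)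
    obtain ⟨L, hL⟩ : ∃ L : ResidueField P.O →ₗ[k] K,
        L = (LinearMap.mulLeft k (π ^ N)) ∘ₗ (ball P 0).subtype ∘ₗ g := ⟨_, rfl⟩
    haveI : FiniteDimensional k (LinearMap.range L) := Module.Finite.range L
    refine ⟨W ⊔ LinearMap.range L, inferInstance, ?_⟩
    intro a ha
    obtain ⟨v, hv, hav⟩ := hWa a ha
    have hπN : P.1 (π ^ N) = exp (-(N : ℤ)) := by
      rw [map_pow, hπ, ← exp_nsmul]; simp
    have hπN0 : π ^ N ≠ 0 := pow_ne_zero _ hπ0
    have hb : P.1 ((a - v) / π ^ N) ≤ 1 := by
      rw [map_div₀, hπN, div_le_iff₀ (by simp), one_mul]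
      exact hav
    obtain ⟨b, hbdef⟩ : ∃ b : ball P 0, b = ⟨(a - v) / π ^ N, (mem_ball_zero P _).mpr hb⟩ :=
      ⟨_, rfl⟩
    have hres : resMap P (b - g (resMap P b)) = 0 := by
      rw [map_sub, sub_eq_zero]
      exact (LinearMap.congr_fun hg (resMap P b)).symm
    rw [resMap_eq_zero_iff] at hres
    have hres' : P.1 ((a - v) / π ^ N - ((g (resMap P b) : ball P 0) : K)) ≤ exp (-1 : ℤ) := by
      rw [← zm0_lt_one_iff]
      have h1 : ((b - g (resMap P b) : ball P 0) : K) =
          (a - v) / π ^ N - ((g (resMap P b) : ball P 0) : K) := by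
        rw [Submodule.coe_sub, hbdef]
      rw [← h1]
      exact hres
    refine ⟨v + L (resMap P b), add_mem (Submodule.mem_sup_left hv)
      (Submodule.mem_sup_right (LinearMap.mem_range_self L _)), ?_⟩
    have h2 : a - (v + L (resMap P b)) =
        π ^ N * ((a - v) / π ^ N - ((g (resMap P b) : ball P 0) : K)) := by
      rw [hL]
      simp only [LinearMap.comp_apply, LinearMap.mulLeft_apply, Submodule.subtype_apply]
      field_simp
      ring
    rw [h2, map_mul, hπN]
    calc exp (-(N : ℤ)) * P.1 ((a - v) / π ^ N - ((g (resMap P b) : ball P 0) : K))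
        ≤ exp (-(N : ℤ)) * exp (-1 : ℤ) := mul_le_mul' le_rfl hres'
      _ = exp (-((N + 1 : ℕ) : ℤ)) := by
        rw [← exp_add]; congr 1; push_cast; ring

end Approx

section Conductor

open TensorProduct Groth.Agent.H10.FFConst Groth.Agent.H10.FFConstPlace

variable {k k' K K' : Type*} [Field k] [Field k'] [Field K] [Field K']
  [Algebra k k'] [Algebra k K] [Algebra K K'] [Algebra k' K'] [Algebra k K']
  [IsScalarTower k k' K'] [IsScalarTower k K K']

theorem conductor_aux [FiniteDimensional k k']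
    (h : Function.Bijective (Algebra.TensorProduct.productMap
      (IsScalarTower.toAlgHom k k' K') (IsScalarTower.toAlgHom k K K')))
    (hK : G.IsFF1 k K) (P : Place k K) [Algebra P.O K'] [IsScalarTower P.O K K'] :
    (∃ V : Submodule k K', FiniteDimensional k V ∧ ∀ r ∈ integralClosure P.O K',
        ∃ s ∈ Algebra.adjoin P.O (Set.range (algebraMap k' K')), r - s ∈ V) ∧
    (∃ c ∈ integralClosure P.O K', c ≠ 0 ∧ ∀ r ∈ integralClosure P.O K',
        c * r ∈ Algebra.adjoin P.O (Set.range (algebraMap k' K'))) := by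
  classical
  haveI : FiniteDimensional K K' := finiteDimensional_of_productMap h.2
  haveI hRfin : Module.Finite P.O (integralClosure P.O K') := integralClosure_finite hK P K'
  have htow : IsScalarTower k P.O K' := by
    refine IsScalarTower.of_algebraMap_eq (fun c => ?_)
    rw [IsScalarTower.algebraMap_apply k K K', IsScalarTower.algebraMap_apply P.O K K']
    rfl
  obtain ⟨π, hπ0, hπv, hker, hloc⟩ := exists_uniformizer P
  have hπK' : algebraMap P.O K' π ≠ 0 := by
    rw [algebraMap_O_eq]
    intro h0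
    exact hπ0 (Subtype.ext ((algebraMap K K').injective (h0.trans (map_zero _).symm)))
  have hfg : (Subalgebra.toSubmodule (integralClosure P.O K')).FG := Module.Finite.iff_fg.mp hRfin
  obtain ⟨T, hT⟩ := hfg
  have hTint : ∀ w ∈ T, IsIntegral P.O w := by
    intro w hw
    have : w ∈ Subalgebra.toSubmodule (integralClosure P.O K') := by
      rw [← hT]; exact Submodule.subset_span hw
    exact this
  have hden : ∀ w : K', ∃ m : ℕ, algebraMap P.O K' π ^ m * w ∈
      Algebra.adjoin P.O (Set.range (algebraMap k' K')) := by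
    intro w
    obtain ⟨m, t, ht⟩ := exists_psi_eq_pow_mul h π hloc w
    refine ⟨m, ?_⟩
    rw [← ht]
    have h1 : psi k k' P.O K' t ∈ Set.range (psi k k' P.O K') := ⟨t, rfl⟩
    rw [range_psi] at h1
    exact h1
  choose m hm using hden
  obtain ⟨N, hN⟩ : ∃ N : ℕ, N = T.sup m := ⟨_, rfl⟩
  have hcw : ∀ w ∈ T, algebraMap P.O K' π ^ N * w ∈
      Algebra.adjoin P.O (Set.range (algebraMap k' K')) := by
    intro w hw
    have hle : m w ≤ N := by rw [hN]; exact Finset.le_sup hw
    have h1 : algebraMap P.O K' π ^ N * w =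
        algebraMap P.O K' (π ^ (N - m w)) * (algebraMap P.O K' π ^ m w * w) := by
      rw [map_pow, ← mul_assoc, ← pow_add, Nat.sub_add_cancel hle]
    rw [h1]
    exact mul_mem (Subalgebra.algebraMap_mem _ _) (hm w)
  have hcond : ∀ r ∈ integralClosure P.O K', algebraMap P.O K' π ^ N * r ∈
      Algebra.adjoin P.O (Set.range (algebraMap k' K')) := by
    intro r hr
    have hr' : r ∈ Submodule.span P.O (T : Set K') := by rw [hT]; exact hr
    obtain ⟨f, -, hf⟩ := Submodule.mem_span_finset.mp hr'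
    rw [← hf, Finset.mul_sum]
    refine Subalgebra.sum_mem _ (fun w hw => ?_)
    rw [mul_smul_comm]
    exact Subalgebra.smul_mem _ (hcw w hw) _
  refine ⟨?_, algebraMap P.O K' π ^ N, ?_, pow_ne_zero _ hπK', hcond⟩
  swap
  · exact (isIntegral_algebraMap (R := P.O) (A := K') (x := π)).pow N
  obtain ⟨W, hWfd, hW⟩ := exists_fd_approx hK P N
  haveI := hWfd
  obtain ⟨V, hV⟩ : ∃ V : Submodule k K', V = T.sup (fun w => W.map
      ((LinearMap.mulRight k w) ∘ₗ (IsScalarTower.toAlgHom k K K').toLinearMap)) := ⟨_, rfl⟩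
  haveI : FiniteDimensional k V := by
    rw [hV]
    exact Submodule.finiteDimensional_finset_sup T _
  refine ⟨V, inferInstance, ?_⟩
  intro r hr
  have hr' : r ∈ Submodule.span P.O (T : Set K') := by rw [hT]; exact hr
  obtain ⟨f, -, hf⟩ := Submodule.mem_span_finset.mp hr'
  have hπN : P.1 ((π : K) ^ N) = exp (-(N : ℤ)) := by
    rw [map_pow, hπv, ← exp_nsmul]; simp
  have hπK0 : (π : K) ≠ 0 := fun h0 => hπ0 (Subtype.ext h0)
  have hdec : ∀ w : K', ∃ (v : K) (a' : P.O), v ∈ W ∧
      ((f w : P.O) : K) = v + (π : K) ^ N * (a' : K) := by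
    intro w
    obtain ⟨v, hv, hav⟩ := hW ((f w : P.O) : K) ((P.1.mem_valuationSubring_iff _).mp (f w).2)
    have hb : P.1 ((((f w : P.O) : K) - v) / (π : K) ^ N) ≤ 1 := by
      rw [map_div₀, hπN, div_le_iff₀ (by simp), one_mul]
      exact hav
    refine ⟨v, ⟨_, (P.1.mem_valuationSubring_iff _).mpr hb⟩, hv, ?_⟩
    have : (π : K) ^ N ≠ 0 := pow_ne_zero _ hπK0
    field_simp
    ring
  choose v a' hvW hva using hdec
  refine ⟨algebraMap P.O K' π ^ N * ∑ w ∈ T, a' w • w, ?_, ?_⟩
  · apply hcond
    exact Subalgebra.sum_mem _ (fun w hw => Subalgebra.smul_mem _ (hTint w hw) _)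
  · have h1 : r - algebraMap P.O K' π ^ N * ∑ w ∈ T, a' w • w =
        ∑ w ∈ T, algebraMap K K' (v w) * w := by
      rw [← hf, Finset.mul_sum, ← Finset.sum_sub_distrib]
      apply Finset.sum_congr rfl
      intro w _
      rw [Algebra.smul_def, Algebra.smul_def, algebraMap_O_eq, algebraMap_O_eq, algebraMap_O_eq,
        hva w, map_add, map_mul, map_pow]
      ring
    rw [h1, hV]
    refine Submodule.sum_mem _ (fun w hw => ?_)
    refine (Finset.le_sup (f := fun w => W.map
      ((LinearMap.mulRight k w) ∘ₗ (IsScalarTower.toAlgHom k K K').toLinearMap)) hw) ?_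
    exact ⟨v w, hvW w, rfl⟩

end Conductor

end Groth.Agent.H55
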