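import Mathlib

/-!
Relative dimension `dim B/(A ∩ B)` of two subspaces of a vector space.
-/

set_option autoImplicit false

namespace Groth.Agent.H55

variable {k V : Type*} [Field k] [AddCommGroup V] [Module k V]

/-- The quotient `B / (A ∩ B)`. -/
abbrev RelQ (A B : Submodule k V) := B ⧸ A.comap B.subtype

/-- `dim_k B/(A ∩ B)` (zero if infinite). -/
noncomputable def relfr (A B : Submodule k V) : ℕ := Module.finrank k (RelQ A B)

/-- `B/(A ∩ B)` is finite-dimensional. -/
def RelFin (A B : Submodule k V) : Prop := Module.Finite k (RelQ A B)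

/-- If `f : B → W` is surjective with kernel `A ∩ B`, then `B/(A∩B) ≃ W`. -/
noncomputable def relqEquiv {W : Type*} [AddCommGroup W] [Module k W] (A B : Submodule k V)
    (f : B →ₗ[k] W) (hf : Function.Surjective f) (hker : ∀ b : B, f b = 0 ↔ (b : V) ∈ A) :
    RelQ A B ≃ₗ[k] W :=
  (Submodule.quotEquivOfEq _ _ (by
    ext b
    rw [LinearMap.mem_ker, hker b]
    rfl)).trans (f.quotKerEquivOfSurjective hf)

theorem relfr_eq_of_surj {W : Type*} [AddCommGroup W] [Module k W] (A B : Submodule k V)
    (f : B →ₗ[k] W) (hf : Function.Surjective f) (hker : ∀ b : B, f b = 0 ↔ (b : V) ∈ A) :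
    relfr A B = Module.finrank k W :=
  (relqEquiv A B f hf hker).finrank_eq

theorem relFin_of_surj {W : Type*} [AddCommGroup W] [Module k W] [Module.Finite k W]
    (A B : Submodule k V)
    (f : B →ₗ[k] W) (hf : Function.Surjective f) (hker : ∀ b : B, f b = 0 ↔ (b : V) ∈ A) :
    RelFin A B :=
  Module.Finite.equiv (relqEquiv A B f hf hker).symm

theorem finite_of_relFin_of_surj {W : Type*} [AddCommGroup W] [Module k W]
    (A B : Submodule k V) (h : RelFin A B)
    (f : B →ₗ[k] W) (hf : Function.Surjective f) (hker : ∀ b : B, f b = 0 ↔ (b : V) ∈ A) :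
    Module.Finite k W :=
  haveI : Module.Finite k (RelQ A B) := h
  Module.Finite.equiv (relqEquiv A B f hf hker)

theorem relFin_of_le {A B : Submodule k V} (h : B ≤ A) : RelFin A B ∧ relfr A B = 0 := by
  have htop : A.comap B.subtype = ⊤ := by
    ext b; simp only [Submodule.mem_comap, Submodule.subtype_apply, Submodule.mem_top, iff_true]
    exact h b.2
  haveI hsub : Subsingleton (RelQ A B) := Submodule.Quotient.subsingleton_iff.mpr htop
  exact ⟨Module.Finite.of_finite, Module.finrank_zero_of_subsingleton⟩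

theorem relfr_self (A : Submodule k V) : relfr A A = 0 := (relFin_of_le le_rfl).2

theorem relFin_self (A : Submodule k V) : RelFin A A := (relFin_of_le le_rfl).1

/-- Additivity of relative dimension along a chain `A ≤ B ≤ C`. -/
theorem relfr_add {A B C : Submodule k V} (hAB : A ≤ B) (hBC : B ≤ C)
    (h1 : RelFin A B) (h2 : RelFin B C) :
    RelFin A C ∧ relfr A C = relfr A B + relfr B C := by
  -- M = C/(A∩C), N = image of B in M
  let g : B →ₗ[k] RelQ A C := (A.comap C.subtype).mkQ ∘ₗ Submodule.inclusion hBC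
  let N : Submodule k (RelQ A C) := LinearMap.range g
  have hgker : ∀ b : B, g.rangeRestrict b = 0 ↔ (b : V) ∈ A := by
    intro b
    rw [← Submodule.coe_eq_zero]
    change (A.comap C.subtype).mkQ (Submodule.inclusion hBC b) = 0 ↔ _
    rw [Submodule.mkQ_apply, Submodule.Quotient.mk_eq_zero]
    rfl
  have e1 : RelQ A B ≃ₗ[k] N := relqEquiv A B g.rangeRestrict g.surjective_rangeRestrict hgker
  let h : C →ₗ[k] (RelQ A C ⧸ N) := N.mkQ ∘ₗ (A.comap C.subtype).mkQ
  have hsurj : Function.Surjective h :=
    (Submodule.mkQ_surjective _).comp (Submodule.mkQ_surjective _)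
  have hker : ∀ c : C, h c = 0 ↔ (c : V) ∈ B := by
    intro c
    change N.mkQ ((A.comap C.subtype).mkQ c) = 0 ↔ _
    rw [Submodule.mkQ_apply, Submodule.Quotient.mk_eq_zero]
    constructor
    · rintro ⟨b, hb⟩
      change (A.comap C.subtype).mkQ (Submodule.inclusion hBC b) = (A.comap C.subtype).mkQ c at hb
      rw [Submodule.mkQ_apply, Submodule.mkQ_apply, Submodule.Quotient.eq] at hb
      have hb' : ((b : V) - (c : V)) ∈ A := hb
      have : (c : V) = (b : V) - ((b : V) - (c : V)) := by abel
      rw [this]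
      exact B.sub_mem b.2 (hAB hb')
    · intro hc
      exact ⟨⟨c, hc⟩, rfl⟩
  have e2 : RelQ B C ≃ₗ[k] (RelQ A C ⧸ N) := relqEquiv B C h hsurj hker
  haveI : Module.Finite k (RelQ A B) := h1
  haveI : Module.Finite k (RelQ B C) := h2
  haveI : Module.Finite k N := Module.Finite.equiv e1
  haveI : Module.Finite k (RelQ A C ⧸ N) := Module.Finite.equiv e2
  haveI hfin : Module.Finite k (RelQ A C) := Module.Finite.of_submodule_quotient N
  refine ⟨hfin, ?_⟩
  have : Module.finrank k (RelQ A C ⧸ N) + Module.finrank k N = Module.finrank k (RelQ A C) :=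
    N.finrank_quotient_add_finrank
  unfold relfr
  rw [e1.finrank_eq, e2.finrank_eq]
  omega

/-- Injectivity comparison: if `f` maps `B'` into `B` and `f b' ∈ A ↔ b' ∈ A'` on `B'`, then
`B'/(A'∩B')` embeds into `B/(A∩B)`. -/
theorem relfr_le_of_inj {V' : Type*} [AddCommGroup V'] [Module k V']
    (f : V' →ₗ[k] V) (A' B' : Submodule k V') (A B : Submodule k V)
    (hB : ∀ b ∈ B', f b ∈ B) (hA : ∀ b ∈ B', f b ∈ A ↔ b ∈ A') (hfin : RelFin A B) :
    RelFin A' B' ∧ relfr A' B' ≤ relfr A B := by
  let g : B' →ₗ[k] RelQ A B := (A.comap B.subtype).mkQ ∘ₗ (f.restrict hB)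
  have hgker : ∀ b : B', g.rangeRestrict b = 0 ↔ (b : V') ∈ A' := by
    intro b
    rw [← Submodule.coe_eq_zero]
    change (A.comap B.subtype).mkQ (f.restrict hB b) = 0 ↔ _
    rw [Submodule.mkQ_apply, Submodule.Quotient.mk_eq_zero]
    exact hA b b.2
  have e1 : RelQ A' B' ≃ₗ[k] LinearMap.range g :=
    relqEquiv A' B' g.rangeRestrict g.surjective_rangeRestrict hgker
  haveI : Module.Finite k (RelQ A B) := hfin
  haveI : Module.Finite k (LinearMap.range g) := inferInstance
  refine ⟨Module.Finite.equiv e1.symm, ?_⟩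
  unfold relfr
  rw [e1.finrank_eq]
  exact Submodule.finrank_le _

/-- If `B` itself is finite-dimensional then so is every `B/(A∩B)`, and
`dim B = dim (A ∩ B) + dim B/(A∩B)`; phrased for `A ≤ B`. -/
theorem finrank_eq_add_relfr {A B : Submodule k V} (hAB : A ≤ B) [Module.Finite k A]
    (h : RelFin A B) : Module.Finite k B ∧ Module.finrank k B = Module.finrank k A + relfr A B := by
  haveI : Module.Finite k (RelQ A B) := h
  let e : A ≃ₗ[k] (A.comap B.subtype) :=
    (Submodule.comapSubtypeEquivOfLe hAB).symm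
  haveI : Module.Finite k (A.comap B.subtype) := Module.Finite.equiv e
  haveI hfin : Module.Finite k B := Module.Finite.of_submodule_quotient (A.comap B.subtype)
  refine ⟨hfin, ?_⟩
  have : Module.finrank k (RelQ A B) + Module.finrank k (A.comap B.subtype)
      = Module.finrank k B := (A.comap B.subtype).finrank_quotient_add_finrank
  unfold relfr
  rw [e.finrank_eq]
  omega

end Groth.Agent.H55

namespace Groth.Agent.H55

variable {k V : Type*} [Field k] [AddCommGroup V] [Module k V]

/-- Splitting along an intermediate subspace `A ≤ M ≤ B` when `B/A` is finite-dimensional. -/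
theorem relfr_add' {A M B : Submodule k V} (hAM : A ≤ M) (hMB : M ≤ B) (h : RelFin A B) :
    RelFin A M ∧ RelFin M B ∧ relfr A B = relfr A M + relfr M B := by
  have h1 : RelFin A M :=
    (relfr_le_of_inj LinearMap.id A M A B (fun b hb => hMB hb) (fun b _ => Iff.rfl) h).1
  have h2 : RelFin M B := by
    haveI : Module.Finite k (RelQ A B) := h
    let f : RelQ A B →ₗ[k] RelQ M B :=
      Submodule.mapQ _ _ LinearMap.id (by
        intro b hb
        exact hAM hb)
    have hf : Function.Surjective f := by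
      intro q
      obtain ⟨b, rfl⟩ := Submodule.Quotient.mk_surjective _ q
      exact ⟨Submodule.Quotient.mk b, rfl⟩
    exact Module.Finite.of_surjective f hf
  exact ⟨h1, h2, (relfr_add hAM hMB h1 h2).2⟩

/-- Enlarging `B` by a subspace of `A` does not change `B/(A ∩ B)`. -/
theorem relfr_sup_right {A B C : Submodule k V} (hC : C ≤ A) :
    relfr A (B ⊔ C) = relfr A B ∧ (RelFin A (B ⊔ C) ↔ RelFin A B) := by
  let f : B →ₗ[k] RelQ A (B ⊔ C) :=
    (A.comap (B ⊔ C).subtype).mkQ ∘ₗ Submodule.inclusion (le_sup_left : B ≤ B ⊔ C)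
  have hf : Function.Surjective f := by
    intro q
    obtain ⟨⟨m, hm⟩, rfl⟩ := Submodule.Quotient.mk_surjective _ q
    obtain ⟨b, hb, c, hc, rfl⟩ := Submodule.mem_sup.mp hm
    refine ⟨⟨b, hb⟩, ?_⟩
    change Submodule.Quotient.mk _ = Submodule.Quotient.mk _
    rw [Submodule.Quotient.eq]
    change b - (b + c) ∈ A
    have : b - (b + c) = -c := by abel
    rw [this]
    exact A.neg_mem (hC hc)
  have hker : ∀ b : B, f b = 0 ↔ (b : V) ∈ A := by
    intro b
    change Submodule.Quotient.mk _ = 0 ↔ _
    rw [Submodule.Quotient.mk_eq_zero]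
    rfl
  have e := relqEquiv A B f hf hker
  exact ⟨e.finrank_eq.symm, ⟨fun h => by
      haveI : Module.Finite k (RelQ A (B ⊔ C)) := h
      exact Module.Finite.equiv e.symm, fun h => by
      haveI : Module.Finite k (RelQ A B) := h
      exact Module.Finite.equiv e⟩⟩

/-- Only `A ⊓ B` matters. -/
theorem relfr_inf_left (A B : Submodule k V) :
    relfr (A ⊓ B) B = relfr A B ∧ (RelFin (A ⊓ B) B ↔ RelFin A B) := by
  have h : (A ⊓ B).comap B.subtype = A.comap B.subtype := by
    ext b
    simp only [Submodule.mem_comap, Submodule.subtype_apply, Submodule.mem_inf, b.2, and_true]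
  unfold relfr RelFin RelQ
  rw [h]
  exact ⟨rfl, Iff.rfl⟩

theorem le_of_relfr_eq_zero {A B : Submodule k V} (h : RelFin A B) (h0 : relfr A B = 0) :
    B ≤ A := by
  haveI : Module.Finite k (RelQ A B) := h
  have hs : Subsingleton (RelQ A B) := Module.finrank_zero_iff.mp h0
  have htop : A.comap B.subtype = ⊤ := Submodule.Quotient.subsingleton_iff.mp hs
  intro b hb
  have : (⟨b, hb⟩ : B) ∈ A.comap B.subtype := by rw [htop]; trivial
  exact this

end Groth.Agent.H55
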