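import Groth.Agent.H55.FFExist
import Groth.Agent.H55.FFRel
import Groth.Prelude.Def_W4bk4goldsch45
import Mathlib

/-!
Dimension counts along the filtration by `ball P n`; the fundamental inequality
`∑ v_P(x) deg P ≤ [K : k(x)]`; finiteness of zeros and poles; divisor API.
-/

set_option autoImplicit false

namespace Groth.Agent.H55

open FunFld WithZero Polynomial IntermediateField

variable {k K : Type*} [Field k] [Field K] [Algebra k K]

section Filtration

theorem relfr_ball_succ (hK : FunFld.IsFunctionField k K) (P : Place k K) (n : ℤ) :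
    RelFin (ball P (n - 1)) (ball P n) ∧ relfr (ball P (n - 1)) (ball P n) = P.deg := by
  obtain ⟨s, hs0, hs⟩ := pl_exists_val_eq_exp P (-n)
  have hmem : ∀ a ∈ ball P n, (LinearMap.mulLeft k s) a ∈ ball P 0 := by
    intro a ha
    rw [mem_ball] at ha ⊢
    rw [LinearMap.mulLeft_apply, map_mul, hs]
    calc exp (-n) * P.1 a ≤ exp (-n) * exp n := mul_le_mul' le_rfl ha
      _ = exp 0 := by rw [← exp_add]; simp
  let f : ball P n →ₗ[k] IsLocalRing.ResidueField P.O :=
    (resMap P) ∘ₗ ((LinearMap.mulLeft k s).restrict hmem)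
  have hfs : Function.Surjective f := by
    intro r
    obtain ⟨b, rfl⟩ := resMap_surjective P r
    have hb : P.1 (b : K) ≤ 1 := (mem_ball_zero P _).mp b.2
    have ha : s⁻¹ * (b : K) ∈ ball P n := by
      rw [mem_ball, map_mul, map_inv₀, hs, exp_neg, inv_inv]
      calc exp n * P.1 (b : K) ≤ exp n * 1 := mul_le_mul' le_rfl hb
        _ = exp n := mul_one _
    refine ⟨⟨s⁻¹ * b, ha⟩, ?_⟩
    change resMap P ⟨s * (s⁻¹ * b), _⟩ = resMap P b
    congr 1
    apply Subtype.ext
    change s * (s⁻¹ * (b : K)) = b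
    field_simp
  have hker : ∀ a : ball P n, f a = 0 ↔ (a : K) ∈ ball P (n - 1) := by
    intro a
    change resMap P ⟨s * a, _⟩ = 0 ↔ _
    rw [resMap_eq_zero_iff, mem_ball, ← zm0_lt_exp_iff]
    change P.1 (s * (a : K)) < 1 ↔ _
    rw [map_mul, hs, exp_neg, inv_mul_lt_iff₀ exp_pos, mul_one]
  haveI := residue_finiteDimensional hK P
  exact ⟨relFin_of_surj _ _ f hfs hker, relfr_eq_of_surj _ _ f hfs hker⟩

theorem relfr_ball_nat (hK : FunFld.IsFunctionField k K) (P : Place k K) (n : ℤ) (d : ℕ) :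
    RelFin (ball P n) (ball P (n + d)) ∧ relfr (ball P n) (ball P (n + d)) = d * P.deg := by
  induction d with
  | zero =>
    simp only [Nat.cast_zero, add_zero, zero_mul]
    exact ⟨relFin_self _, relfr_self _⟩
  | succ d ih =>
    have h1 := relfr_ball_succ hK P (n + ((d + 1 : ℕ) : ℤ))
    have e : n + ((d + 1 : ℕ) : ℤ) - 1 = n + (d : ℤ) := by push_cast; ring
    rw [e] at h1
    obtain ⟨hf, he⟩ := relfr_add (ball_mono P (by omega : n ≤ n + (d : ℤ)))
      (ball_mono P (by push_cast; omega : n + (d : ℤ) ≤ n + ((d + 1 : ℕ) : ℤ))) ih.1 h1.1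
    refine ⟨hf, ?_⟩
    rw [he, ih.2, h1.2]; ring

theorem relfr_ball (hK : FunFld.IsFunctionField k K) (P : Place k K) {n m : ℤ} (h : n ≤ m) :
    RelFin (ball P n) (ball P m) ∧ (relfr (ball P n) (ball P m) : ℤ) = (m - n) * P.deg := by
  obtain ⟨d, hd⟩ : ∃ d : ℕ, m = n + d := ⟨(m - n).toNat, by omega⟩
  subst hd
  obtain ⟨h1, h2⟩ := relfr_ball_nat hK P n d
  refine ⟨h1, ?_⟩
  rw [h2]; push_cast; ring

/-- `ball P m / (ball P n ∩ ball P m)` as an opaque type family, with its instances attached. -/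
def BQ (P : Place k K) (n m : ℤ) : Type _ := RelQ (ball P n) (ball P m)

noncomputable instance (P : Place k K) (n m : ℤ) : AddCommGroup (BQ P n m) :=
  inferInstanceAs (AddCommGroup (RelQ _ _))

noncomputable instance (P : Place k K) (n m : ℤ) : Module k (BQ P n m) :=
  inferInstanceAs (Module k (RelQ _ _))

/-- The quotient map `ball P m → BQ P n m`. -/
noncomputable def BQ.mk (P : Place k K) (n m : ℤ) : ball P m →ₗ[k] BQ P n m :=
  Submodule.mkQ ((ball P n).comap (ball P m).subtype)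

theorem BQ.mk_surjective (P : Place k K) (n m : ℤ) : Function.Surjective (BQ.mk P n m) :=
  Submodule.mkQ_surjective _

theorem BQ.mk_eq_zero_iff (P : Place k K) (n m : ℤ) (a : ball P m) :
    BQ.mk P n m a = 0 ↔ (a : K) ∈ ball P n := by
  have h : (Submodule.Quotient.mk a : ball P m ⧸ (ball P n).comap (ball P m).subtype) = 0 ↔
      a ∈ (ball P n).comap (ball P m).subtype := Submodule.Quotient.mk_eq_zero _
  exact h

theorem BQ.mk_eq_mk_iff (P : Place k K) (n m : ℤ) (a b : ball P m) :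
    BQ.mk P n m a = BQ.mk P n m b ↔ (a : K) - (b : K) ∈ ball P n := by
  rw [← sub_eq_zero, ← map_sub, BQ.mk_eq_zero_iff]
  rfl

theorem BQ.finite (hK : FunFld.IsFunctionField k K) (P : Place k K) {n m : ℤ} (h : n ≤ m) :
    Module.Finite k (BQ P n m) ∧ (Module.finrank k (BQ P n m) : ℤ) = (m - n) * P.deg :=
  relfr_ball hK P h

end Filtration

section Fundamental

/-- `{y | ∀ P ∈ S, v_P(y) ≤ exp (m P)}` -/
def interBall (S : Finset (Place k K)) (m : Place k K → ℤ) : Submodule k K :=
  ⨅ P ∈ S, ball P (m P)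

theorem mem_interBall (S : Finset (Place k K)) (m : Place k K → ℤ) (y : K) :
    y ∈ interBall S m ↔ ∀ P ∈ S, P.1 y ≤ exp (m P) := by
  simp [interBall, Submodule.mem_iInf, mem_ball]

theorem interBall_le (S : Finset (Place k K)) (m : Place k K → ℤ) {P : Place k K} (hP : P ∈ S) :
    interBall S m ≤ ball P (m P) := fun y hy => (mem_interBall S m y).mp hy P hP

/-- The fundamental inequality `∑_{P ∈ S} v_P(x) deg P ≤ [K : k(x)]` for a finite set `S` of zeros
of `x`. -/
theorem sum_ord_mul_deg_le (hK : FunFld.IsFunctionField k K) (x : K) (hx0 : x ≠ 0)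
    (S : Finset (Place k K)) (hS : ∀ P ∈ S, P.1 x < 1) :
    ∑ P ∈ S, P.ord x * (P.deg : ℤ) ≤ (Module.finrank k⟮x⟯ K : ℤ) := by
  classical
  rcases S.eq_empty_or_nonempty with rfl | ⟨P₀, hP₀⟩
  · simp
  haveI := ff_finite hK (transcendental_of_val_lt_one hK P₀ hx0 (hS P₀ hP₀))
  have hepos : ∀ P ∈ S, 0 < P.ord x := fun P hP => (pl_val_lt_one_iff P hx0).mp (hS P hP)
  set A : Submodule k K := interBall S (fun _ => 0) with hA
  have hxA : ∀ a ∈ A, x * a ∈ A := by
    intro a ha
    rw [hA, mem_interBall] at ha ⊢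
    intro P hP
    rw [map_mul]
    calc P.1 x * P.1 a ≤ 1 * exp 0 := mul_le_mul' (hS P hP).le (ha P hP)
      _ = exp 0 := one_mul _
  let π : A →ₗ[k] (∀ P : S, BQ P.1 (-(P.1.ord x)) 0) := LinearMap.pi (fun P : S =>
    (BQ.mk P.1 (-(P.1.ord x)) 0) ∘ₗ (Submodule.inclusion (interBall_le S (fun _ => 0) P.2)))
  have hπs : Function.Surjective π := by
    intro w
    have hb : ∀ P : S, ∃ b : ball P.1 0, BQ.mk P.1 (-(P.1.ord x)) 0 b = w P :=
      fun P => BQ.mk_surjective _ _ _ (w P)
    choose b hb using hb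
    let x' : Place k K → K := fun Q => if h : Q ∈ S then (b ⟨Q, h⟩ : K) else 0
    obtain ⟨y, hy⟩ := weak_approx_le S x' (fun P => -(P.ord x))
    have hyA : y ∈ A := by
      rw [hA, mem_interBall]
      intro P hP
      have h1 := hy P hP
      have h2 : P.1 (x' P) ≤ exp 0 := by
        simp only [x', dif_pos hP]
        exact (b ⟨P, hP⟩).2
      have : y = (y - x' P) + x' P := by ring
      rw [this]
      refine le_trans (P.1.map_add _ _) (max_le (h1.trans ?_) h2)
      rw [exp_le_exp]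
      have := hepos P hP
      omega
    refine ⟨⟨y, hyA⟩, ?_⟩
    funext P
    rw [← hb P]
    change BQ.mk P.1 (-(P.1.ord x)) 0 (⟨y, _⟩ : ball P.1 0) = BQ.mk P.1 (-(P.1.ord x)) 0 (b P)
    rw [BQ.mk_eq_mk_iff]
    change (y - (b P : K)) ∈ ball P.1 (-(P.1.ord x))
    have h1 := hy P.1 P.2
    simp only [x', dif_pos P.2] at h1
    exact h1
  have hπ : ∀ a (ha : a ∈ A), π ⟨x * a, hxA a ha⟩ = 0 := by
    intro a ha
    funext P
    change BQ.mk P.1 (-(P.1.ord x)) 0 (⟨x * a, _⟩ : ball P.1 0) = 0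
    rw [BQ.mk_eq_zero_iff]
    change x * a ∈ ball P.1 (-(P.1.ord x))
    rw [hA, mem_interBall] at ha
    rw [mem_ball, map_mul, ← pl_val_eq_exp_neg_ord P.1 hx0]
    calc P.1.1 x * P.1.1 a ≤ P.1.1 x * 1 := mul_le_mul' le_rfl (by simpa using ha P.1 P.2)
      _ = P.1.1 x := mul_one _
  obtain ⟨hWfin, hWle⟩ := finite_of_mul_mem (W := (∀ P : S, BQ P.1 (-(P.1.ord x)) 0)) x hx0 A hxA π hπs hπ
  have hcomp : ∀ P : S, Module.Finite k (BQ P.1 (-(P.1.ord x)) 0) ∧
      (Module.finrank k (BQ P.1 (-(P.1.ord x)) 0) : ℤ) = (0 - -(P.1.ord x)) * P.1.deg :=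
    fun P => BQ.finite hK P.1 (by have := hepos P.1 P.2; omega)
  haveI : ∀ P : S, Module.Finite k (BQ P.1 (-(P.1.ord x)) 0) :=
    fun P => (hcomp P).1
  have hW : Module.finrank k (∀ P : S, BQ P.1 (-(P.1.ord x)) 0) = ∑ P : S, Module.finrank k (BQ P.1 (-(P.1.ord x)) 0) :=
    Module.finrank_pi_fintype k
  have hsum : ∑ P ∈ S, P.ord x * (P.deg : ℤ) = (Module.finrank k (∀ P : S, BQ P.1 (-(P.1.ord x)) 0) : ℤ) := by
    rw [hW, ← Finset.sum_coe_sort S (fun P => P.ord x * (P.deg : ℤ))]
    push_cast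
    apply Finset.sum_congr rfl
    intro P _
    rw [(hcomp P).2]; ring
  rw [hsum]
  exact_mod_cast hWle

theorem zeros_finite (hK : FunFld.IsFunctionField k K) (x : K) (hx0 : x ≠ 0) :
    {P : Place k K | P.1 x < 1}.Finite := by
  classical
  by_contra hinf
  obtain ⟨t, ht, htc⟩ := Set.Infinite.exists_subset_card_eq hinf (Module.finrank k⟮x⟯ K + 1)
  have h1 := sum_ord_mul_deg_le hK x hx0 t (fun P hP => ht hP)
  have h2 : (t.card : ℤ) ≤ ∑ P ∈ t, P.ord x * (P.deg : ℤ) := by
    rw [Finset.card_eq_sum_ones]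
    push_cast
    apply Finset.sum_le_sum
    intro P hP
    have h3 : 0 < P.ord x := (pl_val_lt_one_iff P hx0).mp (ht hP)
    have h4 : 0 < (P.deg : ℤ) := by exact_mod_cast deg_pos hK P
    nlinarith
  rw [htc] at h2
  push_cast at h2
  omega

theorem poles_finite (hK : FunFld.IsFunctionField k K) (x : K) :
    {P : Place k K | 1 < P.1 x}.Finite := by
  by_cases hx0 : x = 0
  · subst hx0
    simp
  · refine (zeros_finite hK x⁻¹ (inv_ne_zero hx0)).subset ?_
    intro P hP
    have hne : P.1 x ≠ 0 := (P.1.ne_zero_iff).mpr hx0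
    change P.1 x⁻¹ < 1
    rw [map_inv₀]
    exact (inv_lt_one₀ (zero_lt_iff.mpr hne)).mpr hP

theorem ord_support_finite (hK : FunFld.IsFunctionField k K) (x : K) :
    (Function.support fun P : Place k K => P.ord x).Finite := by
  by_cases hx0 : x = 0
  · subst hx0
    have : (Function.support fun P : Place k K => P.ord (0 : K)) = ∅ := by
      ext P; simp [pl_ord_zero]
    rw [this]; exact Set.finite_empty
  · refine ((zeros_finite hK x hx0).union (poles_finite hK x)).subset ?_
    intro P hP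
    rw [Function.mem_support, pl_ord_ne_zero_iff] at hP
    rcases lt_or_gt_of_ne hP.2 with h | h
    · exact Or.inl h
    · exact Or.inr h

end Fundamental

section DivAPI

theorem div_apply (hK : FunFld.IsFunctionField k K) (x : K) (P : Place k K) :
    FunFld.div k x P = P.ord x := by
  unfold FunFld.div
  rw [dif_pos (ord_support_finite hK x)]
  rfl

theorem degHom_apply (D : Divisor k K) : degHom k K D = D.deg := by
  unfold degHom Divisor.deg
  rw [Finsupp.liftAddHom_apply]
  rfl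

theorem deg_add (D₁ D₂ : Divisor k K) : (D₁ + D₂).deg = D₁.deg + D₂.deg := by
  simp only [← degHom_apply, map_add]

theorem deg_sub (D₁ D₂ : Divisor k K) : (D₁ - D₂).deg = D₁.deg - D₂.deg := by
  simp only [← degHom_apply, map_sub]

theorem deg_neg (D : Divisor k K) : (-D).deg = -D.deg := by
  simp only [← degHom_apply, map_neg]

theorem deg_zero : (0 : Divisor k K).deg = 0 := by
  simp only [← degHom_apply, map_zero]

theorem deg_zsmul (n : ℤ) (D : Divisor k K) : (n • D).deg = n * D.deg := by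
  simp only [← degHom_apply, map_zsmul, smul_eq_mul]

theorem deg_nsmul (n : ℕ) (D : Divisor k K) : (n • D).deg = n * D.deg := by
  simp only [← degHom_apply, map_nsmul, nsmul_eq_mul]

theorem deg_single (P : Place k K) (n : ℤ) :
    Divisor.deg (Finsupp.single P n : Divisor k K) = n * P.deg := by
  unfold Divisor.deg
  rw [Finsupp.sum_single_index]
  simp

theorem deg_nonneg_of_nonneg {D : Divisor k K} (h : 0 ≤ D) : 0 ≤ D.deg := by
  unfold Divisor.deg
  apply Finsupp.sum_nonneg
  intro P _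
  exact mul_nonneg (h P) (by positivity)

theorem deg_mono {D₁ D₂ : Divisor k K} (h : D₁ ≤ D₂) : D₁.deg ≤ D₂.deg := by
  have := deg_nonneg_of_nonneg (sub_nonneg.mpr h)
  rw [deg_sub] at this
  omega

theorem deg_eq_sum (D : Divisor k K) (S : Finset (Place k K)) (hS : D.support ⊆ S) :
    D.deg = ∑ P ∈ S, D P * (P.deg : ℤ) := by
  unfold Divisor.deg
  exact Finsupp.sum_of_support_subset D hS _ (by simp)

end DivAPI

end Groth.Agent.H55
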