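import Groth.Agent.H55.ASH1c
import Groth.Agent.H27.Hyp.RegDiff
import Mathlib

/-!
Regular differentials on an Artin–Schreier curve `y² + y = f(x)` in characteristic two:
the order of `dx` at the wildly ramified places.
-/

set_option autoImplicit false

namespace Groth.Agent.H55

open FunFld WithZero Polynomial IntermediateField

section RatFuncDeriv

variable {k : Type*} [Field k]

theorem ratfunc_val_of_eval_ne (p : Place k (RatFunc k)) (α : k)
    (hp : p.1 ((RatFunc.X : RatFunc k) - RatFunc.C α) < 1) (q : k[X]) (hq : q.eval α ≠ 0) :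
    p.1 (algebraMap k[X] (RatFunc k) q) = 1 := by
  rw [← ratfunc_X_sub_C_eq] at hp
  apply ratfunc_val_coprime p (Polynomial.X_sub_C_ne_zero α) hp
  rw [(Polynomial.irreducible_X_sub_C α).coprime_iff_not_dvd, Polynomial.dvd_iff_isRoot]
  exact hq

theorem ratfunc_ord_pow_mul (p : Place k (RatFunc k)) (α : k)
    (hp : p.1 ((RatFunc.X : RatFunc k) - RatFunc.C α) < 1) (m : ℕ) (q : k[X])
    (hq : q.eval α ≠ 0) :
    p.ord (algebraMap k[X] (RatFunc k) ((X - C α) ^ m * q)) = m := by
  have h1 := ratfunc_val_of_eval_ne p α hp q hq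
  have hq0 : algebraMap k[X] (RatFunc k) q ≠ 0 := by
    intro h0; rw [h0, map_zero] at h1; exact zero_ne_one h1
  have ht0 : algebraMap k[X] (RatFunc k) (X - C α) ≠ 0 :=
    (map_ne_zero_iff _ (RatFunc.algebraMap_injective k)).mpr (Polynomial.X_sub_C_ne_zero α)
  rw [map_mul, map_pow, pl_ord_mul p (pow_ne_zero _ ht0) hq0, pl_ord_pow,
    (pl_val_eq_one_iff p hq0).mp h1, ratfunc_X_sub_C_eq, ratfunc_ord_X_sub_C p α hp]
  ring

theorem exists_pow_mul_eval_ne (α : k) {q : k[X]} (hq : q ≠ 0) :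
    ∃ (m : ℕ) (q₁ : k[X]), q = (X - C α) ^ m * q₁ ∧ q₁.eval α ≠ 0 := by
  obtain ⟨m, q₁, hndvd, rfl⟩ := WfDvdMonoid.max_power_factor hq (Polynomial.irreducible_X_sub_C α)
  refine ⟨m, q₁, rfl, ?_⟩
  rwa [Polynomial.dvd_iff_isRoot] at hndvd

/-- Tame differentiation at a rational point: if `a/b` has a pole of order `d` prime to the
characteristic at `x = α`, then `(a/b)'` has a pole of order `d + 1`. -/
theorem ratfunc_ord_deriv (p : Place k (RatFunc k)) (α : k)
    (hp : p.1 ((RatFunc.X : RatFunc k) - RatFunc.C α) < 1) (a b : k[X]) (hab : IsCoprime a b)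
    (ha0 : a ≠ 0) (hb0 : b ≠ 0) (d : ℕ) (hd : (d : k) ≠ 0)
    (hord : p.ord (algebraMap k[X] (RatFunc k) a / algebraMap k[X] (RatFunc k) b) = -(d : ℤ)) :
    p.ord (algebraMap k[X] (RatFunc k) (b * derivative a - a * derivative b) /
      (algebraMap k[X] (RatFunc k) b) ^ 2) = -(d : ℤ) - 1 := by
  have hinj := RatFunc.algebraMap_injective k
  have hA0 : algebraMap k[X] (RatFunc k) a ≠ 0 := (map_ne_zero_iff _ hinj).mpr ha0
  have hB0 : algebraMap k[X] (RatFunc k) b ≠ 0 := (map_ne_zero_iff _ hinj).mpr hb0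
  obtain ⟨ma, a₁, hae, ha₁⟩ := exists_pow_mul_eval_ne α ha0
  obtain ⟨m, b₁, hbe, hb₁⟩ := exists_pow_mul_eval_ne α hb0
  have horda : p.ord (algebraMap k[X] (RatFunc k) a) = ma := by
    rw [hae]; exact ratfunc_ord_pow_mul p α hp ma a₁ ha₁
  have hordb : p.ord (algebraMap k[X] (RatFunc k) b) = m := by
    rw [hbe]; exact ratfunc_ord_pow_mul p α hp m b₁ hb₁
  rw [pl_ord_div p hA0 hB0, horda, hordb] at hord
  have hd1 : 1 ≤ d := by
    rcases Nat.eq_zero_or_pos d with h | h
    · rw [h, Nat.cast_zero] at hd; exact absurd rfl hd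
    · exact h
  have hma : ma = 0 := by
    by_contra hne
    have h1 : (X - C α) ∣ a := by
      rw [hae]; exact Dvd.dvd.mul_right (dvd_pow_self _ hne) _
    have h2 : (X - C α) ∣ b := by
      rw [hbe]; exact Dvd.dvd.mul_right (dvd_pow_self _ (by omega)) _
    exact (Polynomial.irreducible_X_sub_C α).not_isUnit (hab.isUnit_of_dvd' h1 h2)
  have hmd : m = d := by omega
  subst hmd
  rw [hma, pow_zero, one_mul] at hae
  subst hae
  obtain ⟨d', rfl⟩ : ∃ d', m = d' + 1 := ⟨m - 1, by omega⟩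
  have hN : b * derivative a - a * derivative b =
      (X - C α) ^ d' * ((X - C α) * (b₁ * derivative a - a * derivative b₁) -
        C ((d' + 1 : ℕ) : k) * a * b₁) := by
    rw [hbe, derivative_mul, Polynomial.derivative_X_sub_C_pow]
    simp only [Nat.add_sub_cancel]
    ring
  have hM : ((X - C α) * (b₁ * derivative a - a * derivative b₁) -
      C ((d' + 1 : ℕ) : k) * a * b₁).eval α ≠ 0 := by
    simp only [eval_sub, eval_mul, eval_X, eval_C, sub_self, zero_mul, zero_sub, neg_ne_zero]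
    exact mul_ne_zero (mul_ne_zero hd ha₁) hb₁
  have hN0 : algebraMap k[X] (RatFunc k) (b * derivative a - a * derivative b) ≠ 0 := by
    apply (map_ne_zero_iff _ hinj).mpr
    rw [hN]
    apply mul_ne_zero (pow_ne_zero _ (Polynomial.X_sub_C_ne_zero α))
    intro h0
    rw [h0, eval_zero] at hM
    exact hM rfl
  rw [pl_ord_div p hN0 (pow_ne_zero _ hB0), pl_ord_pow, hordb]
  rw [hN, ratfunc_ord_pow_mul p α hp d' _ hM]
  push_cast
  ring

end RatFuncDeriv

section Wild

universe u v w

variable {k : Type u} {K : Type v} [Field k] [Field K] [Algebra k K] [Algebra (RatFunc k) K]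
  [IsScalarTower k (RatFunc k) K]

theorem kaehler_aeval_div (x : K) (a b : k[X]) :
    KaehlerDifferential.D k K (aeval x a / aeval x b) =
      ((aeval x b * aeval x (derivative a) - aeval x a * aeval x (derivative b)) /
        (aeval x b) ^ 2) • KaehlerDifferential.D k K x := by
  rw [Derivation.leibniz_div, Derivation.map_aeval, Derivation.map_aeval, smul_smul, smul_smul,
    ← sub_smul, smul_smul]
  congr 1
  rw [div_eq_mul_inv, inv_pow]
  ring

variable {y : K} {f : RatFunc k} {B : Finset k} {d : k → ℕ}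

/-- At the wild place above `x = α`, `dx` vanishes to order at least `d α + 1`. -/
theorem ASData.vD_wild (D : ASData y f B d) (P : Place k K) {α : k} (hα : α ∈ B)
    (hP : P.1 (algebraMap (RatFunc k) K RatFunc.X - algebraMap k K α) < 1)
    {Fp : Type w} [Field Fp] [Algebra k Fp] (φ : K →ₐ[k] LaurentSeries Fp)
    (hφ : LocRes.IsExpansionAt P.1 φ) :
    Valued.v (LocRes.D Fp (φ (algebraMap (RatFunc k) K RatFunc.X))) ≤
      exp (-((d α : ℤ) + 1)) := by
  obtain ⟨hordy, -, p, he, hp⟩ := D.fin_pole P hα hP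
  obtain ⟨c, hc⟩ := D.hd α hα
  have hordf := D.hpole p α hα hp
  have hy0 : y ≠ 0 := D.y_ne_zero
  have h2F : (2 : RatFunc k) = 0 := by
    apply (algebraMap (RatFunc k) K).injective
    rw [map_ofNat, map_zero]; exact D.h2
  have h2k : (2 : k) = 0 := by
    apply (algebraMap k (RatFunc k)).injective
    rw [map_ofNat, map_zero]; exact h2F
  have hf0 : f ≠ 0 := by
    rintro rfl
    rw [pl_ord_zero] at hordf
    omega
  have hdk : ((d α : ℕ) : k) ≠ 0 := by
    rw [hc]
    push_cast
    rw [h2k, zero_mul, zero_add]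
    exact one_ne_zero
  have hfdiv : f = algebraMap k[X] (RatFunc k) f.num / algebraMap k[X] (RatFunc k) f.denom :=
    (RatFunc.num_div_denom f).symm
  obtain ⟨g₀, hg₀⟩ : ∃ g₀ : RatFunc k, g₀ = algebraMap k[X] (RatFunc k)
      (f.denom * derivative f.num - f.num * derivative f.denom) /
        (algebraMap k[X] (RatFunc k) f.denom) ^ 2 := ⟨_, rfl⟩
  have hordg : p.ord g₀ = -(d α : ℤ) - 1 := by
    rw [hg₀]
    apply ratfunc_ord_deriv p α hp f.num f.denom (RatFunc.isCoprime_num_denom f)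
      (RatFunc.num_ne_zero hf0) (RatFunc.denom_ne_zero f) (d α) hdk
    rw [← hfdiv]; exact hordf
  have hg₀0 : g₀ ≠ 0 := by
    rintro rfl
    rw [pl_ord_zero] at hordg
    omega
  -- Kähler relation
  have hDy : KaehlerDifferential.D k K y =
      algebraMap (RatFunc k) K g₀ • KaehlerDifferential.D k K (algebraMap (RatFunc k) K RatFunc.X) := by
    have h1 : KaehlerDifferential.D k K y = KaehlerDifferential.D k K (y ^ 2 + y) := by
      rw [map_add, Derivation.leibniz_pow]
      have : ((2 : ℕ) : K) = 0 := by exact_mod_cast D.h2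
      rw [← Nat.cast_smul_eq_nsmul K, this, zero_smul, zero_add]
    rw [h1, D.heq]
    conv_lhs => rw [hfdiv]
    rw [map_div₀, Groth.Agent.H27.Hyp.algebraMap_poly, Groth.Agent.H27.Hyp.algebraMap_poly,
      kaehler_aeval_div]
    congr 1
    rw [hg₀, map_div₀, map_pow, Groth.Agent.H27.Hyp.algebraMap_poly,
      Groth.Agent.H27.Hyp.algebraMap_poly, map_sub, map_mul, map_mul]
  have hchain := Groth.Agent.H27.DiffExp.chain_rule φ y (algebraMap (RatFunc k) K RatFunc.X)
    (algebraMap (RatFunc k) K g₀) hDy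
  have hvy : Valued.v (φ y) = exp (-(-(d α : ℤ))) := by
    rw [hφ.1, pl_val_eq_exp_neg_ord P hy0, hordy]
  have hvDy := (Groth.Agent.H27.DiffExp.valued_D_of_val hvy).1
  have hvg : Valued.v (φ (algebraMap (RatFunc k) K g₀)) = exp (2 * ((d α : ℤ) + 1)) := by
    have hG0 : algebraMap (RatFunc k) K g₀ ≠ 0 :=
      (map_ne_zero_iff _ (algebraMap (RatFunc k) K).injective).mpr hg₀0
    rw [hφ.1, pl_val_eq_exp_neg_ord P hG0, ord_eq_of_isOverWith he, hordg]
    congr 1
    push_cast
    ring
  rw [hchain, map_mul, hvg] at hvDy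
  have h3 := mul_le_mul' (le_refl (exp (-(2 * ((d α : ℤ) + 1))))) hvDy
  rw [← mul_assoc, ← exp_add, neg_add_cancel, exp_zero, one_mul, ← exp_add] at h3
  refine h3.trans (le_of_eq ?_)
  congr 1
  ring

end Wild

end Groth.Agent.H55
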