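import Groth.Agent.H55.ASDiff
import Mathlib

/-!
Regular differentials on an Artin–Schreier curve `y² + y = f(x)` in characteristic two:
linear independence of the explicit forms.
-/

set_option autoImplicit false

namespace Groth.Agent.H55

open FunFld WithZero Polynomial IntermediateField

section LI

variable {k : Type*} [Field k]

/-- The rational functions `(x - β)^{-(j+1)}` (`j ≥ 1`) and `β / (x (x - β))` (`j = 0`). -/
noncomputable def zT₀ (τ : Σ _ : k, ℕ) : RatFunc k :=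
  if τ.2 = 0 then RatFunc.C τ.1 / ((RatFunc.X : RatFunc k) * ((RatFunc.X : RatFunc k) - RatFunc.C τ.1))
  else (((RatFunc.X : RatFunc k) - RatFunc.C τ.1)⁻¹) ^ (τ.2 + 1)

theorem ratfunc_X_sub_C_ne_zero (β : k) : (RatFunc.X : RatFunc k) - RatFunc.C β ≠ 0 := by
  rw [← ratfunc_X_sub_C_eq]
  exact (map_ne_zero_iff _ (RatFunc.algebraMap_injective k)).mpr (Polynomial.X_sub_C_ne_zero β)

theorem zT₀_zero_eq (β : k) :
    zT₀ (⟨β, 0⟩ : Σ _ : k, ℕ) =
      ((RatFunc.X : RatFunc k) - RatFunc.C β)⁻¹ - (RatFunc.X : RatFunc k)⁻¹ := by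
  unfold zT₀
  rw [if_pos rfl]
  have h1 := ratfunc_X_sub_C_ne_zero β
  have h2 : (RatFunc.X : RatFunc k) ≠ 0 := RatFunc.X_ne_zero
  field_simp
  ring

theorem zT₀_succ_eq (β : k) {j : ℕ} (hj : j ≠ 0) :
    zT₀ (⟨β, j⟩ : Σ _ : k, ℕ) = (((RatFunc.X : RatFunc k) - RatFunc.C β)⁻¹) ^ (j + 1) := by
  unfold zT₀
  rw [if_neg hj]

/-- values of `x - γ` at the place `x = α`. -/
theorem ratfunc_val_X_sub_C_of_ne (p : Place k (RatFunc k)) {α γ : k}
    (hp : p.1 ((RatFunc.X : RatFunc k) - RatFunc.C α) < 1) (hne : γ ≠ α) :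
    p.1 ((RatFunc.X : RatFunc k) - RatFunc.C γ) = 1 := by
  have e1 : (RatFunc.X : RatFunc k) - RatFunc.C γ =
      ((RatFunc.X : RatFunc k) - RatFunc.C α) + algebraMap k (RatFunc k) (α - γ) := by
    rw [map_sub, RatFunc.algebraMap_eq_C]; ring
  have h4 : p.1 (algebraMap k (RatFunc k) (α - γ)) = 1 :=
    pl_val_const p (sub_ne_zero.mpr (Ne.symm hne))
  rw [e1, Valuation.map_add_eq_of_lt_right _ (by rw [h4]; exact hp), h4]

theorem polar_coeff_zero (p : Place k (RatFunc k)) (α : k)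
    (hp : p.1 ((RatFunc.X : RatFunc k) - RatFunc.C α) < 1) (n : ℕ) (g : ℕ → k)
    (hval : p.1 (∑ j ∈ Finset.range n,
      g j • (((RatFunc.X : RatFunc k) - RatFunc.C α)⁻¹) ^ (j + 1)) ≤ 1) :
    ∀ j < n, g j = 0 := by
  obtain ⟨t, ht⟩ : ∃ t : RatFunc k, t = (RatFunc.X : RatFunc k) - RatFunc.C α := ⟨_, rfl⟩
  rw [← ht] at hp hval
  have ht0 : t ≠ 0 := ht ▸ ratfunc_X_sub_C_ne_zero α
  have hpt : p.1 t = exp (-1 : ℤ) := by
    rw [pl_val_eq_exp_neg_ord p ht0, ht, ratfunc_ord_X_sub_C p α (ht ▸ hp)]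
  obtain ⟨Q, hQ⟩ : ∃ Q : k[X], Q = ∑ j ∈ Finset.range n, C (g j) * X ^ (n - 1 - j) := ⟨_, rfl⟩
  have hQt : aeval t Q = t ^ n * ∑ j ∈ Finset.range n, g j • (t⁻¹) ^ (j + 1) := by
    rw [hQ, map_sum, Finset.mul_sum]
    apply Finset.sum_congr rfl
    intro j hj
    rw [Finset.mem_range] at hj
    rw [map_mul, aeval_C, map_pow, aeval_X, Algebra.smul_def, inv_pow]
    have : t ^ n = t ^ (n - 1 - j) * t ^ (j + 1) := by rw [← pow_add]; congr 1; omega
    rw [this]
    field_simp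
  have hQval : p.1 (aeval t Q) ≤ exp (-(n : ℤ)) := by
    rw [hQt, map_mul, map_pow, hpt, ← exp_nsmul]
    calc exp (n • (-1 : ℤ)) * p.1 (∑ j ∈ Finset.range n, g j • (t⁻¹) ^ (j + 1))
        ≤ exp (n • (-1 : ℤ)) * 1 := mul_le_mul' le_rfl hval
      _ = exp (-(n : ℤ)) := by rw [mul_one]; congr 1; simp
  have hQcoeff : ∀ m : ℕ, Q.coeff m = ∑ j ∈ Finset.range n, if m = n - 1 - j then g j else 0 := by
    intro m
    rw [hQ]
    simp only [finset_sum_coeff, coeff_C_mul, coeff_X_pow, mul_ite, mul_one, mul_zero]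
  have hzero := poly_eq_zero_of_val_le p hpt n Q (by
    intro m hm
    rw [hQcoeff]
    apply Finset.sum_eq_zero
    intro j hj
    rw [Finset.mem_range] at hj
    rw [if_neg (by omega)]) hQval
  intro j hj
  have h3 := hQcoeff (n - 1 - j)
  rw [hzero, coeff_zero, Finset.sum_eq_single j] at h3
  · rw [if_pos rfl] at h3; exact h3.symm
  · intro i hi hij
    rw [Finset.mem_range] at hi
    rw [if_neg (by omega)]
  · intro hnm; exact absurd (Finset.mem_range.mpr hj) hnm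

theorem zT₀_indep [IsAlgClosed k] (B : Finset k) (d : k → ℕ) :
    LinearIndependent k (fun τ : ↥(asIdx B d) => zT₀ τ.1) := by
  classical
  have hF : G.IsFF1 k (RatFunc k) := isFF1_ratFunc
  choose pl hpl using fun β : k => G.exists_zero hF _ (ratfunc_transcendental_X_sub_C β)
  rw [Fintype.linearIndependent_iff]
  intro c hc
  obtain ⟨γ, hγ⟩ : ∃ γ : k → ℕ → k, γ = fun β j =>
      if h : (⟨β, j⟩ : Σ _ : k, ℕ) ∈ asIdx B d then c ⟨⟨β, j⟩, h⟩ else 0 := ⟨_, rfl⟩
  have hcγ : ∀ τ : ↥(asIdx B d), c τ = γ τ.1.1 τ.1.2 := by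
    intro τ
    rw [hγ]
    simp only
    rw [dif_pos τ.2]
  have hγ00 : γ 0 0 = 0 := by
    rw [hγ]
    simp only
    rw [dif_neg]
    intro h
    exact (mem_asIdx.mp h).1 rfl
  obtain ⟨Gs, hGs⟩ : ∃ Gs : k → RatFunc k, Gs = fun β =>
      ∑ j ∈ Finset.range ((d β + 1) / 2), γ β j • zT₀ (⟨β, j⟩ : Σ _ : k, ℕ) := ⟨_, rfl⟩
  have hsum' : ∑ τ : ↥(asIdx B d), c τ • zT₀ τ.1 = ∑ β ∈ B, Gs β := by
    rw [Finset.sum_congr rfl (fun τ _ => by rw [hcγ τ])]
    rw [Finset.sum_coe_sort (asIdx B d) (fun τ => γ τ.1 τ.2 • zT₀ τ)]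
    unfold asIdx
    rw [Finset.sum_erase _ (by rw [hγ00, zero_smul]), Finset.sum_sigma, hGs]
  have hsum : ∑ β ∈ B, Gs β = 0 := by rw [← hsum', hc]
  -- the polar part of `Gs α`
  have hGpolar : ∀ α : k, Gs α = (∑ j ∈ Finset.range ((d α + 1) / 2),
      γ α j • (((RatFunc.X : RatFunc k) - RatFunc.C α)⁻¹) ^ (j + 1)) -
        (if 0 < (d α + 1) / 2 then γ α 0 • (RatFunc.X : RatFunc k)⁻¹ else 0) := by
    intro α
    rw [hGs]
    simp only
    have hterm : ∀ j ∈ Finset.range ((d α + 1) / 2), γ α j • zT₀ (⟨α, j⟩ : Σ _ : k, ℕ) =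
        γ α j • (((RatFunc.X : RatFunc k) - RatFunc.C α)⁻¹) ^ (j + 1) -
          (if j = 0 then γ α 0 • (RatFunc.X : RatFunc k)⁻¹ else 0) := by
      intro j _
      by_cases hj : j = 0
      · subst hj
        rw [if_pos rfl, zT₀_zero_eq, zero_add, pow_one, smul_sub]
      · rw [if_neg hj, sub_zero, zT₀_succ_eq α hj]
    rw [Finset.sum_congr rfl hterm, Finset.sum_sub_distrib]
    congr 1
    rw [Finset.sum_ite_eq' (Finset.range ((d α + 1) / 2)) 0
      (fun _ => γ α 0 • (RatFunc.X : RatFunc k)⁻¹)]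
    simp only [Finset.mem_range]
  -- stage 1
  have hstage1 : ∀ α ∈ B, α ≠ 0 → ∀ j < (d α + 1) / 2, γ α j = 0 := by
    intro α hα hα0
    have hp := hpl α
    have hpX : (pl α).1 (RatFunc.X : RatFunc k) = 1 := by
      have := ratfunc_val_X_sub_C_of_ne (pl α) hp (Ne.symm hα0)
      rwa [map_zero, sub_zero] at this
    apply polar_coeff_zero (pl α) α hp
    have hrest : (pl α).1 (∑ β ∈ B.erase α, Gs β) ≤ 1 := by
      apply Valuation.map_sum_le
      intro β hβ
      rw [Finset.mem_erase] at hβ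
      rw [hGs]
      simp only
      apply Valuation.map_sum_le
      intro j _
      refine (pl_val_smul_le (pl α) _ _).trans ?_
      have hβα := ratfunc_val_X_sub_C_of_ne (pl α) hp hβ.1
      by_cases hj : j = 0
      · subst hj
        unfold zT₀
        rw [if_pos rfl, map_div₀, map_mul, hpX, hβα, mul_one, div_one, ← RatFunc.algebraMap_eq_C]
        exact (pl α).2.1 β
      · rw [zT₀_succ_eq β hj, map_pow, map_inv₀, hβα, inv_one, one_pow]
    have hsplit := Finset.add_sum_erase B Gs hα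
    rw [hsum] at hsplit
    have hGα : Gs α = -∑ β ∈ B.erase α, Gs β := eq_neg_of_add_eq_zero_left hsplit
    have e1 : (∑ j ∈ Finset.range ((d α + 1) / 2),
        γ α j • (((RatFunc.X : RatFunc k) - RatFunc.C α)⁻¹) ^ (j + 1)) =
        -(∑ β ∈ B.erase α, Gs β) +
          (if 0 < (d α + 1) / 2 then γ α 0 • (RatFunc.X : RatFunc k)⁻¹ else 0) := by
      rw [← hGα, hGpolar α]; ring
    rw [e1]
    refine ((pl α).1.map_add _ _).trans (max_le (by rwa [Valuation.map_neg]) ?_)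
    split_ifs
    · refine (pl_val_smul_le (pl α) _ _).trans ?_
      rw [map_inv₀, hpX, inv_one]
    · rw [map_zero]; exact zero_le'
  -- stage 2
  have hGzero : ∀ β ∈ B, β ≠ 0 → Gs β = 0 := by
    intro β hβ hβ0
    rw [hGs]
    simp only
    apply Finset.sum_eq_zero
    intro j hj
    rw [hstage1 β hβ hβ0 j (Finset.mem_range.mp hj), zero_smul]
  have hstage2 : ∀ j < (d 0 + 1) / 2, γ 0 j = 0 := by
    by_cases h0 : (0 : k) ∈ B
    · apply polar_coeff_zero (pl 0) 0 (hpl 0)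
      have hsplit := Finset.add_sum_erase B Gs h0
      rw [hsum, Finset.sum_eq_zero (fun β hβ => hGzero β (Finset.mem_of_mem_erase hβ)
        (Finset.ne_of_mem_erase hβ)), add_zero] at hsplit
      have e1 : (∑ j ∈ Finset.range ((d 0 + 1) / 2),
          γ 0 j • (((RatFunc.X : RatFunc k) - RatFunc.C 0)⁻¹) ^ (j + 1)) = 0 := by
        have := hGpolar 0
        rw [hsplit, hγ00, zero_smul, ite_self, sub_zero] at this
        exact this.symm
      rw [e1, map_zero]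
      exact zero_le'
    · intro j hj
      rw [hγ]
      simp only
      rw [dif_neg]
      intro h
      exact h0 (mem_asIdx.mp h).2.1
  intro τ
  rw [hcγ τ]
  obtain ⟨-, h1, h2⟩ := mem_asIdx.mp τ.2
  by_cases hτ0 : τ.1.1 = 0
  · have := hstage2 τ.1.2 (by rw [← hτ0]; exact h2)
    rw [hτ0]
    exact this
  · exact hstage1 τ.1.1 h1 hτ0 τ.1.2 h2

end LI

end Groth.Agent.H55
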