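import Groth.Agent.H55.ASDiff2
import Groth.Agent.H55.FFGeom3
import Mathlib

/-!
Regular differentials on an Artin–Schreier curve `y² + y = f(x)` in characteristic two:
regularity of the explicit forms and the basis theorem.
-/

set_option autoImplicit false

namespace Groth.Agent.H55

open FunFld WithZero Polynomial IntermediateField

section Reg

universe u v w

variable {k : Type u} {K : Type v} [Field k] [IsAlgClosed k] [Field K] [Algebra k K]
  [Algebra (RatFunc k) K] [IsScalarTower k (RatFunc k) K]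

variable {y : K} {f : RatFunc k} {B : Finset k} {d : k → ℕ}

theorem val_tK_of_ne (P : Place k K) {β γ : k}
    (hP : P.1 (algebraMap (RatFunc k) K RatFunc.X - algebraMap k K β) < 1) (hne : γ ≠ β) :
    P.1 (algebraMap (RatFunc k) K RatFunc.X - algebraMap k K γ) = 1 := by
  have e1 : algebraMap (RatFunc k) K RatFunc.X - algebraMap k K γ =
      (algebraMap (RatFunc k) K RatFunc.X - algebraMap k K β) + algebraMap k K (β - γ) := by
    rw [map_sub]; ring
  have h4 : P.1 (algebraMap k K (β - γ)) = 1 := pl_val_const P (sub_ne_zero.mpr (Ne.symm hne))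
  rw [e1, Valuation.map_add_eq_of_lt_right _ (by rw [h4]; exact hP), h4]

theorem vDiff_le_one_of {P : Place k K} {Fp : Type w} [Field Fp] [Algebra k Fp]
    {φ : K →ₐ[k] LaurentSeries Fp} (hφ : LocRes.IsExpansionAt P.1 φ) {z x : K} {a b : ℤ}
    (hz : P.1 z ≤ exp a) (hv : Valued.v (LocRes.D Fp (φ x)) ≤ exp b) (hab : a + b ≤ 0) :
    LocRes.vDiff φ z x ≤ 1 := by
  unfold LocRes.vDiff
  rw [map_mul, hφ.1]
  calc P.1 z * Valued.v (LocRes.D Fp (φ x)) ≤ exp a * exp b := mul_le_mul' hz hv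
    _ = exp (a + b) := (exp_add _ _).symm
    _ ≤ 1 := by rw [← exp_zero, exp_le_exp]; exact hab

theorem ASData.zT_regular (D : ASData y f B d) (h0 : (0 : k) ∈ B) {τ : Σ _ : k, ℕ}
    (hτ : τ ∈ asIdx B d) (P : Place k K)
    {Fp : Type w} [Field Fp] [Algebra k Fp] (φ : K →ₐ[k] LaurentSeries Fp)
    (hφ : LocRes.IsExpansionAt P.1 φ) :
    LocRes.vDiff φ (algebraMap (RatFunc k) K (zT₀ τ)) (algebraMap (RatFunc k) K RatFunc.X) ≤ 1 := by
  classical
  obtain ⟨α, j⟩ := τ
  obtain ⟨hne, hα, hj⟩ := mem_asIdx.mp hτ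
  change α ∈ B at hα
  change j < (d α + 1) / 2 at hj
  obtain ⟨cα, hcα⟩ := D.hd α hα
  have hx0 : algebraMap (RatFunc k) K RatFunc.X =
      algebraMap (RatFunc k) K RatFunc.X - algebraMap k K 0 := by rw [map_zero, sub_zero]
  -- the values of the form in terms of `P (x - α)` and `P x`
  have hzval : P.1 (algebraMap (RatFunc k) K (zT₀ ⟨α, j⟩)) =
      if j = 0 then (P.1 (algebraMap (RatFunc k) K RatFunc.X - algebraMap k K 0) *
        P.1 (algebraMap (RatFunc k) K RatFunc.X - algebraMap k K α))⁻¹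
      else (P.1 (algebraMap (RatFunc k) K RatFunc.X - algebraMap k K α))⁻¹ ^ (j + 1) := by
    by_cases hj0 : j = 0
    · subst hj0
      have hα0 : α ≠ 0 := by
        rintro rfl
        exact hne rfl
      rw [if_pos rfl]
      unfold zT₀
      rw [if_pos rfl, map_div₀, map_mul, algebraMap_X_sub_C, map_div₀, map_mul,
        ← RatFunc.algebraMap_eq_C, ← IsScalarTower.algebraMap_apply, pl_val_const P hα0,
        ← hx0, one_div]
    · rw [if_neg hj0, zT₀_succ_eq α hj0, map_pow, map_inv₀, algebraMap_X_sub_C, map_pow, map_inv₀]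
  by_cases hA : ∃ β ∈ B, P.1 (algebraMap (RatFunc k) K RatFunc.X - algebraMap k K β) < 1
  · obtain ⟨β, hβ, hPβ⟩ := hA
    obtain ⟨cβ, hcβ⟩ := D.hd β hβ
    have hv := D.vD_wild P hβ hPβ φ hφ
    obtain ⟨-, hordt, -⟩ := D.fin_pole P hβ hPβ
    have hPtβ : P.1 (algebraMap (RatFunc k) K RatFunc.X - algebraMap k K β) = exp (-2 : ℤ) := by
      rw [pl_val_eq_exp_neg_ord P (xK_sub_ne_zero β), hordt]
    have hPt : ∀ γ : k, P.1 (algebraMap (RatFunc k) K RatFunc.X - algebraMap k K γ) =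
        if γ = β then exp (-2 : ℤ) else 1 := by
      intro γ
      split_ifs with h
      · rw [h]; exact hPtβ
      · exact val_tK_of_ne P hPβ h
    rw [hPt 0, hPt α] at hzval
    by_cases hj0 : j = 0
    · rw [if_pos hj0] at hzval
      have hα0 : α ≠ 0 := by
        rintro rfl
        exact hne (by rw [hj0])
      have hz : P.1 (algebraMap (RatFunc k) K (zT₀ ⟨α, j⟩)) ≤ exp (2 : ℤ) := by
        rw [hzval]
        by_cases h1 : (0 : k) = β
        · rw [if_pos h1, if_neg (by rw [← h1]; exact hα0), mul_one, ← exp_neg]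
          norm_num
        · rw [if_neg h1, one_mul]
          split_ifs
          · rw [← exp_neg]; norm_num
          · rw [inv_one, ← exp_zero, exp_le_exp]; norm_num
      exact vDiff_le_one_of hφ hz hv (by omega)
    · rw [if_neg hj0] at hzval
      by_cases h1 : α = β
      · subst h1
        rw [if_pos rfl, ← exp_neg, ← exp_nsmul] at hzval
        exact vDiff_le_one_of hφ hzval.le hv (by
          simp only [nsmul_eq_mul]
          push_cast
          omega)
      · rw [if_neg h1, inv_one, one_pow] at hzval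
        have hz : P.1 (algebraMap (RatFunc k) K (zT₀ ⟨α, j⟩)) ≤ exp (0 : ℤ) := by
          rw [hzval, exp_zero]
        exact vDiff_le_one_of hφ hz hv (by omega)
  · push Not at hA
    by_cases hB : 1 < P.1 (algebraMap (RatFunc k) K RatFunc.X)
    · obtain ⟨-, hordx⟩ := D.inf P hB
      have hxne : algebraMap (RatFunc k) K RatFunc.X ≠ 0 := by
        intro h; rw [h, map_zero] at hB; exact absurd hB (by simp)
      have hPx : P.1 (algebraMap (RatFunc k) K RatFunc.X) = exp (-(-1 : ℤ)) := by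
        rw [pl_val_eq_exp_neg_ord P hxne, hordx]
      have hPt : ∀ γ : k, P.1 (algebraMap (RatFunc k) K RatFunc.X - algebraMap k K γ) =
          exp (1 : ℤ) := by
        intro γ
        rw [val_sub_const_of_one_lt P hB, hPx]
        norm_num
      have hv : Valued.v (LocRes.D Fp (φ (algebraMap (RatFunc k) K RatFunc.X))) ≤ exp (2 : ℤ) := by
        have h1 := (Groth.Agent.H27.DiffExp.valued_D_of_val (f := φ (algebraMap (RatFunc k) K RatFunc.X))
          (e := -1) (by rw [hφ.1, hPx])).1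
        refine h1.trans (le_of_eq ?_)
        congr 1
      rw [hPt 0, hPt α] at hzval
      by_cases hj0 : j = 0
      · rw [if_pos hj0, ← exp_add, ← exp_neg] at hzval
        exact vDiff_le_one_of hφ hzval.le hv (by norm_num)
      · rw [if_neg hj0, ← exp_neg, ← exp_nsmul] at hzval
        exact vDiff_le_one_of hφ hzval.le hv (by
          simp only [nsmul_eq_mul]
          push_cast
          omega)
    · rw [not_lt] at hB
      have hPt : ∀ γ ∈ B, P.1 (algebraMap (RatFunc k) K RatFunc.X - algebraMap k K γ) = 1 := by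
        intro γ hγ
        apply le_antisymm _ (hA γ hγ)
        exact (Valuation.map_sub _ _ _).trans (max_le hB (P.2.1 γ))
      have hv := Groth.Agent.H27.Hyp.vD_le_one hφ hB
      rw [hPt 0 h0, hPt α hα] at hzval
      have hz : P.1 (algebraMap (RatFunc k) K (zT₀ ⟨α, j⟩)) ≤ exp (0 : ℤ) := by
        rw [hzval, exp_zero]
        split_ifs <;> simp
      have hv' : Valued.v (LocRes.D Fp (φ (algebraMap (RatFunc k) K RatFunc.X))) ≤ exp (0 : ℤ) := by
        rw [exp_zero]; exact hv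
      exact vDiff_le_one_of hφ hz hv' (by norm_num)

/-- The reindexing of the families of S19044/S19046 by `asIdx`. -/
noncomputable def asPsi (B : Finset k) (d : k → ℕ) (hdpos : ∀ β ∈ B, 0 < (d β + 1) / 2) :
    ({a : ↥B × ℕ // 1 ≤ a.2 ∧ 2 * a.2 + 1 ≤ d (a.1 : k)} ⊕ {b : ↥B // (b : k) ≠ 0}) →
      ↥(asIdx B d) := Sum.elim
    (fun a => ⟨⟨(a.1.1 : k), a.1.2⟩, mem_asIdx.mpr ⟨by
      intro h
      have h1 : a.1.2 = 0 := congrArg (fun τ : (Σ _ : k, ℕ) => τ.2) h
      have h2 := a.2.1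
      omega, a.1.1.2, by
      have h2 := a.2.2
      show a.1.2 < (d (a.1.1 : k) + 1) / 2
      omega⟩⟩)
    (fun b => ⟨⟨(b.1 : k), 0⟩, mem_asIdx.mpr ⟨by
      intro h
      exact b.2 (congrArg (fun τ : (Σ _ : k, ℕ) => τ.1) h), b.1.2, hdpos _ b.1.2⟩⟩)

theorem asPsi_injective (B : Finset k) (d : k → ℕ) (hdpos : ∀ β ∈ B, 0 < (d β + 1) / 2) :
    Function.Injective (asPsi B d hdpos) := by
  rintro (a | b) (a' | b') h
  · have h' : (⟨(a.1.1 : k), a.1.2⟩ : Σ _ : k, ℕ) = ⟨(a'.1.1 : k), a'.1.2⟩ :=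
      congrArg Subtype.val h
    have h1 : (a.1.1 : k) = a'.1.1 := congrArg (fun τ : (Σ _ : k, ℕ) => τ.1) h'
    have h2 : a.1.2 = a'.1.2 := congrArg (fun τ : (Σ _ : k, ℕ) => τ.2) h'
    exact congrArg Sum.inl (Subtype.ext (Prod.ext (Subtype.ext h1) h2))
  · exfalso
    have h' : (⟨(a.1.1 : k), a.1.2⟩ : Σ _ : k, ℕ) = ⟨(b'.1 : k), 0⟩ := congrArg Subtype.val h
    have h2 : a.1.2 = 0 := congrArg (fun τ : (Σ _ : k, ℕ) => τ.2) h'
    have := a.2.1
    omega
  · exfalso
    have h' : (⟨(b.1 : k), 0⟩ : Σ _ : k, ℕ) = ⟨(a'.1.1 : k), a'.1.2⟩ := congrArg Subtype.val h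
    have h2 : 0 = a'.1.2 := congrArg (fun τ : (Σ _ : k, ℕ) => τ.2) h'
    have := a'.2.1
    omega
  · have h' : (⟨(b.1 : k), 0⟩ : Σ _ : k, ℕ) = ⟨(b'.1 : k), 0⟩ := congrArg Subtype.val h
    have h1 : (b.1 : k) = b'.1 := congrArg (fun τ : (Σ _ : k, ℕ) => τ.1) h'
    exact congrArg Sum.inr (Subtype.ext (Subtype.ext h1))

theorem asPsi_surjective (B : Finset k) (d : k → ℕ) (hdpos : ∀ β ∈ B, 0 < (d β + 1) / 2) :
    Function.Surjective (asPsi B d hdpos) := by
  rintro ⟨⟨β, j⟩, hτ⟩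
  obtain ⟨hne, hβ, hj⟩ := mem_asIdx.mp hτ
  by_cases hj0 : j = 0
  · subst hj0
    have hβ0 : β ≠ 0 := by
      rintro rfl
      exact hne rfl
    exact ⟨Sum.inr ⟨⟨β, hβ⟩, hβ0⟩, rfl⟩
  · refine ⟨Sum.inl ⟨(⟨β, hβ⟩, j), ⟨by omega, ?_⟩⟩, rfl⟩
    show 2 * j + 1 ≤ d β
    change j < (d β + 1) / 2 at hj
    omega

theorem ASData.diff_basis (D : ASData y f B d) (hK : FunFld.IsFunctionField k K)
    (h0 : (0 : k) ∈ B)
    (Fp : Place k K → Type w) [∀ P, Field (Fp P)] [∀ P, Algebra k (Fp P)]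
    [∀ P, FiniteDimensional k (Fp P)]
    (φ : ∀ P, K →ₐ[k] LaurentSeries (Fp P)) (hφ : ∀ P, LocRes.IsExpansionAt P.1 (φ P)) :
    LinearIndependent k (fun τ : ↥(asIdx B d) => algebraMap (RatFunc k) K (zT₀ τ.1)) ∧
    ∀ z : K, (∀ P, LocRes.vDiff (φ P) z (algebraMap (RatFunc k) K RatFunc.X) ≤ 1) →
      z ∈ Submodule.span k (Set.range
        (fun τ : ↥(asIdx B d) => algebraMap (RatFunc k) K (zT₀ τ.1))) := by
  classical
  have hF : G.IsFF1 k (RatFunc k) := isFF1_ratFunc
  haveI : FiniteDimensional (RatFunc k) K :=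
    Module.finite_of_finrank_pos (by rw [D.hdeg]; norm_num)
  have hli : LinearIndependent k
      (fun τ : ↥(asIdx B d) => algebraMap (RatFunc k) K (zT₀ τ.1)) := by
    have h1 := zT₀_indep B d
    have h2 := h1.map' (IsScalarTower.toAlgHom k (RatFunc k) K).toLinearMap (by
      rw [LinearMap.ker_eq_bot]
      exact (algebraMap (RatFunc k) K).injective)
    exact h2
  refine ⟨hli, ?_⟩
  have hfr : Module.finrank K (Ω[K⁄k]) = 1 := finrank_kaehler hK isGeometric_of_isAlgClosed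
  -- `dx ≠ 0`
  have hdx : KaehlerDifferential.D k K (algebraMap (RatFunc k) K RatFunc.X) ≠ 0 := by
    obtain ⟨p, hp⟩ := ratfunc_exists_inf (k := k)
    obtain ⟨P, e, he⟩ := exists_place_over (K' := K) hF p
    have hPx : 1 < P.1 (algebraMap (RatFunc k) K RatFunc.X) := by
      rw [he]; exact one_lt_pow₀ hp (isOverWith_pos he).ne'
    obtain ⟨-, hordx⟩ := D.inf P hPx
    have hxne : algebraMap (RatFunc k) K RatFunc.X ≠ 0 := by
      intro h; rw [h, map_zero] at hPx; exact absurd hPx (by simp)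
    have hPx' : P.1 (algebraMap (RatFunc k) K RatFunc.X) = exp (-(-1 : ℤ)) := by
      rw [pl_val_eq_exp_neg_ord P hxne, hordx]
    apply Groth.Agent.H27.DiffExp.D_ne_zero_of_expansion (φ P)
    have h1 := (Groth.Agent.H27.DiffExp.valued_D_of_val
      (f := φ P (algebraMap (RatFunc k) K RatFunc.X)) (e := -1)
      (by rw [(hφ P).1, hPx'])).2.1 (by
        push_cast
        exact neg_ne_zero.mpr one_ne_zero)
    intro h0'
    rw [h0', map_zero] at h1
    exact exp_ne_zero h1.symm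
  obtain ⟨Cd, hset, hell⟩ := Groth.Agent.H27.GenCanFr.regular_eq_L hK hfr φ hφ hdx
  have hwL : ∀ τ : ↥(asIdx B d), algebraMap (RatFunc k) K (zT₀ τ.1) ∈ L Cd := by
    intro τ
    have : algebraMap (RatFunc k) K (zT₀ τ.1) ∈
        {z : K | ∀ P, LocRes.vDiff (φ P) z (algebraMap (RatFunc k) K RatFunc.X) ≤ 1} :=
      fun P => D.zT_regular h0 τ.2 P (φ P) (hφ P)
    rwa [hset] at this
  haveI := L_finite hK Cd
  have hspan : Submodule.span k (Set.range
      (fun τ : ↥(asIdx B d) => algebraMap (RatFunc k) K (zT₀ τ.1))) = L Cd := by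
    apply Submodule.eq_of_le_of_finrank_eq
    · rw [Submodule.span_le]
      rintro _ ⟨τ, rfl⟩
      exact hwL τ
    · rw [finrank_span_eq_card hli, Fintype.card_coe, D.card_asIdx hK h0]
      exact hell.symm
  intro z hz
  rw [hspan]
  have : z ∈ {z : K | ∀ P, LocRes.vDiff (φ P) z (algebraMap (RatFunc k) K RatFunc.X) ≤ 1} := hz
  rwa [hset] at this

end Reg

end Groth.Agent.H55
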