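import Groth.Agent.H55.ASDiff3
import Mathlib

/-!
Regular differentials on an Artin–Schreier curve `y² + y = f(x)` over a perfect field of
characteristic two: the order of `dx` at wild places of arbitrary degree and at infinity.
-/

set_option autoImplicit false

namespace Groth.Agent.H55

open FunFld WithZero Polynomial IntermediateField

section RatFuncDerivGen

variable {k : Type*} [Field k]

theorem ratfunc_ord_pow_mul_gen (p : Place k (RatFunc k)) {π : k[X]} (hπ : Irreducible π)
    (hp : p.1 (algebraMap k[X] (RatFunc k) π) < 1) (m : ℕ) (q : k[X]) (hq : ¬ π ∣ q) :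
    p.ord (algebraMap k[X] (RatFunc k) (π ^ m * q)) = m := by
  have h1 := ratfunc_val_coprime p hπ.ne_zero hp (hπ.coprime_iff_not_dvd.mpr hq)
  have hq0 : algebraMap k[X] (RatFunc k) q ≠ 0 := by
    intro h0; rw [h0, map_zero] at h1; exact zero_ne_one h1
  have ht0 : algebraMap k[X] (RatFunc k) π ≠ 0 :=
    (map_ne_zero_iff _ (RatFunc.algebraMap_injective k)).mpr hπ.ne_zero
  have hπ1 : p.ord (algebraMap k[X] (RatFunc k) π) = 1 := by
    rw [pl_ord_eq_of_val_eq p (ratfunc_val_irreducible p hπ hp)]; norm_num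
  rw [map_mul, map_pow, pl_ord_mul p (pow_ne_zero _ ht0) hq0, pl_ord_pow,
    (pl_val_eq_one_iff p hq0).mp h1, hπ1]
  ring

/-- Tame differentiation at a finite place with separable uniformizer `π`. -/
theorem ratfunc_ord_deriv_gen (p : Place k (RatFunc k)) {π : k[X]} (hπ : Irreducible π)
    (hsep : IsCoprime π (derivative π))
    (hp : p.1 (algebraMap k[X] (RatFunc k) π) < 1) (a b : k[X]) (hab : IsCoprime a b)
    (ha0 : a ≠ 0) (hb0 : b ≠ 0) (d : ℕ) (hd : (d : k) ≠ 0)
    (hord : p.ord (algebraMap k[X] (RatFunc k) a / algebraMap k[X] (RatFunc k) b) = -(d : ℤ)) :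
    p.ord (algebraMap k[X] (RatFunc k) (b * derivative a - a * derivative b) /
      (algebraMap k[X] (RatFunc k) b) ^ 2) = -(d : ℤ) - 1 := by
  have hinj := RatFunc.algebraMap_injective k
  have hA0 : algebraMap k[X] (RatFunc k) a ≠ 0 := (map_ne_zero_iff _ hinj).mpr ha0
  have hB0 : algebraMap k[X] (RatFunc k) b ≠ 0 := (map_ne_zero_iff _ hinj).mpr hb0
  obtain ⟨ma, a₁, ha₁, hae⟩ := WfDvdMonoid.max_power_factor ha0 hπ
  obtain ⟨m, b₁, hb₁, hbe⟩ := WfDvdMonoid.max_power_factor hb0 hπ
  have horda : p.ord (algebraMap k[X] (RatFunc k) a) = ma := by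
    rw [hae]; exact ratfunc_ord_pow_mul_gen p hπ hp ma a₁ ha₁
  have hordb : p.ord (algebraMap k[X] (RatFunc k) b) = m := by
    rw [hbe]; exact ratfunc_ord_pow_mul_gen p hπ hp m b₁ hb₁
  rw [pl_ord_div p hA0 hB0, horda, hordb] at hord
  have hd1 : 1 ≤ d := by
    rcases Nat.eq_zero_or_pos d with h | h
    · rw [h, Nat.cast_zero] at hd; exact absurd rfl hd
    · exact h
  have hma : ma = 0 := by
    by_contra hne
    have h1 : π ∣ a := by
      rw [hae]; exact Dvd.dvd.mul_right (dvd_pow_self _ hne) _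
    have h2 : π ∣ b := by
      rw [hbe]; exact Dvd.dvd.mul_right (dvd_pow_self _ (by omega)) _
    exact hπ.not_isUnit (hab.isUnit_of_dvd' h1 h2)
  have hmd : m = d := by omega
  subst hmd
  rw [hma, pow_zero, one_mul] at hae
  subst hae
  obtain ⟨d', rfl⟩ : ∃ d', m = d' + 1 := ⟨m - 1, by omega⟩
  have hN : b * derivative a - a * derivative b =
      π ^ d' * (π * (b₁ * derivative a - a * derivative b₁) -
        C ((d' + 1 : ℕ) : k) * a * b₁ * derivative π) := by
    rw [hbe, derivative_mul, derivative_pow]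
    simp only [Nat.add_sub_cancel]
    ring
  have hM : ¬ π ∣ (π * (b₁ * derivative a - a * derivative b₁) -
      C ((d' + 1 : ℕ) : k) * a * b₁ * derivative π) := by
    intro hdvd
    have h1 : π ∣ C ((d' + 1 : ℕ) : k) * a * b₁ * derivative π := by
      have := (dvd_sub_right (Dvd.intro _ rfl :
        π ∣ π * (b₁ * derivative a - a * derivative b₁))).mp hdvd
      exact this
    rcases hπ.prime.dvd_mul.mp h1 with h | h
    · rcases hπ.prime.dvd_mul.mp h with h | h
      · rcases hπ.prime.dvd_mul.mp h with h | h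
        · exact hπ.not_isUnit (isUnit_of_dvd_unit h (Polynomial.isUnit_C.mpr (Ne.isUnit hd)))
        · exact ha₁ h
      · exact hb₁ h
    · exact hπ.not_isUnit (hsep.isUnit_of_dvd' dvd_rfl h)
  have hN0 : algebraMap k[X] (RatFunc k) (b * derivative a - a * derivative b) ≠ 0 := by
    apply (map_ne_zero_iff _ hinj).mpr
    rw [hN]
    apply mul_ne_zero (pow_ne_zero _ hπ.ne_zero)
    intro h0
    rw [h0] at hM
    exact hM (dvd_zero _)
  rw [pl_ord_div p hN0 (pow_ne_zero _ hB0), pl_ord_pow, hordb]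
  rw [hN, ratfunc_ord_pow_mul_gen p hπ hp d' _ hM]
  push_cast
  ring

theorem ratfunc_inf_ord_poly' (p : Place k (RatFunc k)) (hp : 1 < p.1 (RatFunc.X : RatFunc k))
    {q : k[X]} (hq : q ≠ 0) : p.ord (algebraMap k[X] (RatFunc k) q) = -(q.natDegree : ℤ) := by
  rw [ratfunc_inf_ord_poly p hp hq, ratfunc_inf_ord_X p ((pl_one_lt_val_iff p _).mp hp)]
  ring

/-- Tame differentiation at infinity. -/
theorem ratfunc_inf_ord_deriv (p : Place k (RatFunc k)) (hp : 1 < p.1 (RatFunc.X : RatFunc k))
    (a b : k[X]) (ha0 : a ≠ 0) (hb0 : b ≠ 0) (m : ℕ) (hm : (m : k) ≠ 0)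
    (hord : p.ord (algebraMap k[X] (RatFunc k) a / algebraMap k[X] (RatFunc k) b) = -(m : ℤ)) :
    algebraMap k[X] (RatFunc k) (b * derivative a - a * derivative b) ≠ 0 ∧
    p.ord (algebraMap k[X] (RatFunc k) (b * derivative a - a * derivative b) /
      (algebraMap k[X] (RatFunc k) b) ^ 2) ≤ -(m : ℤ) + 1 := by
  have hinj := RatFunc.algebraMap_injective k
  have hA0 : algebraMap k[X] (RatFunc k) a ≠ 0 := (map_ne_zero_iff _ hinj).mpr ha0
  have hB0 : algebraMap k[X] (RatFunc k) b ≠ 0 := (map_ne_zero_iff _ hinj).mpr hb0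
  rw [pl_ord_div p hA0 hB0, ratfunc_inf_ord_poly' p hp ha0, ratfunc_inf_ord_poly' p hp hb0] at hord
  have hm1 : 1 ≤ m := by
    rcases Nat.eq_zero_or_pos m with h | h
    · rw [h, Nat.cast_zero] at hm; exact absurd rfl hm
    · exact h
  have hda : a.natDegree = b.natDegree + m := by omega
  have hcoeff : (b * derivative a - a * derivative b).coeff (b.natDegree + (a.natDegree - 1)) =
      a.leadingCoeff * b.leadingCoeff * (m : k) := by
    rw [coeff_sub]
    have h1 : (b * derivative a).coeff (b.natDegree + (a.natDegree - 1)) =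
        b.leadingCoeff * (a.leadingCoeff * (a.natDegree : k)) := by
      rw [Polynomial.coeff_mul_add_eq_of_natDegree_le le_rfl (natDegree_derivative_le a),
        coeff_derivative]
      have : a.natDegree - 1 + 1 = a.natDegree := by omega
      rw [this]
      simp only [Polynomial.coeff_natDegree]
      congr 2
      have : ((a.natDegree - 1 : ℕ) : k) + 1 = ((a.natDegree - 1 + 1 : ℕ) : k) := by push_cast; ring
      rw [this]; congr 1
    have h2 : (a * derivative b).coeff (b.natDegree + (a.natDegree - 1)) =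
        a.leadingCoeff * (b.leadingCoeff * (b.natDegree : k)) := by
      rcases Nat.eq_zero_or_pos b.natDegree with hb | hb
      · rw [Polynomial.derivative_of_natDegree_zero hb, mul_zero, coeff_zero, hb, Nat.cast_zero,
          mul_zero, mul_zero]
      · have hidx : b.natDegree + (a.natDegree - 1) = a.natDegree + (b.natDegree - 1) := by omega
        rw [hidx, Polynomial.coeff_mul_add_eq_of_natDegree_le le_rfl (natDegree_derivative_le b),
          coeff_derivative]
        have : b.natDegree - 1 + 1 = b.natDegree := by omega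
        rw [this]
        simp only [Polynomial.coeff_natDegree]
        congr 2
        have : ((b.natDegree - 1 : ℕ) : k) + 1 = ((b.natDegree - 1 + 1 : ℕ) : k) := by
          push_cast; ring
        rw [this]; congr 1
    rw [h1, h2, hda]
    push_cast
    ring
  have hcne : (b * derivative a - a * derivative b).coeff (b.natDegree + (a.natDegree - 1)) ≠ 0 := by
    rw [hcoeff]
    exact mul_ne_zero (mul_ne_zero (leadingCoeff_ne_zero.mpr ha0) (leadingCoeff_ne_zero.mpr hb0)) hm
  have hN0 : b * derivative a - a * derivative b ≠ 0 := by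
    intro h0
    rw [h0, coeff_zero] at hcne
    exact hcne rfl
  have hdeg := Polynomial.le_natDegree_of_ne_zero hcne
  have hN0' : algebraMap k[X] (RatFunc k) (b * derivative a - a * derivative b) ≠ 0 :=
    (map_ne_zero_iff _ hinj).mpr hN0
  refine ⟨hN0', ?_⟩
  rw [pl_ord_div p hN0' (pow_ne_zero _ hB0), pl_ord_pow, ratfunc_inf_ord_poly' p hp hN0,
    ratfunc_inf_ord_poly' p hp hb0]
  push_cast
  omega

end RatFuncDerivGen

section WildGen

universe u v w

variable {k : Type u} {K : Type v} [Field k] [Field K] [Algebra k K] [Algebra (RatFunc k) K]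
  [IsScalarTower k (RatFunc k) K]

/-- `dy = f'(x) dx` on `y² + y = f(x)` in characteristic two. -/
theorem as_kaehler_y (h2 : (2 : K) = 0) (y : K) (f : RatFunc k)
    (heq : y ^ 2 + y = algebraMap (RatFunc k) K f) :
    KaehlerDifferential.D k K y =
      algebraMap (RatFunc k) K (algebraMap k[X] (RatFunc k)
        (f.denom * derivative f.num - f.num * derivative f.denom) /
          (algebraMap k[X] (RatFunc k) f.denom) ^ 2) •
        KaehlerDifferential.D k K (algebraMap (RatFunc k) K RatFunc.X) := by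
  have hfdiv : f = algebraMap k[X] (RatFunc k) f.num / algebraMap k[X] (RatFunc k) f.denom :=
    (RatFunc.num_div_denom f).symm
  have h1 : KaehlerDifferential.D k K y = KaehlerDifferential.D k K (y ^ 2 + y) := by
    rw [map_add, Derivation.leibniz_pow]
    have : ((2 : ℕ) : K) = 0 := by exact_mod_cast h2
    rw [← Nat.cast_smul_eq_nsmul K, this, zero_smul, zero_add]
  rw [h1, heq]
  conv_lhs => rw [hfdiv]
  rw [map_div₀, Groth.Agent.H27.Hyp.algebraMap_poly, Groth.Agent.H27.Hyp.algebraMap_poly,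
    kaehler_aeval_div]
  congr 1
  rw [map_div₀, map_pow, Groth.Agent.H27.Hyp.algebraMap_poly,
    Groth.Agent.H27.Hyp.algebraMap_poly, map_sub, map_mul, map_mul]

theorem as_vD_bound (P : Place k K) (p : Place k (RatFunc k)) (he : IsOverWith P p 2)
    {y : K} (hy0 : y ≠ 0) (m : ℤ) (hordy : P.ord y = -m) {g₀ : RatFunc k} (hg₀ : g₀ ≠ 0)
    (hDy : KaehlerDifferential.D k K y = algebraMap (RatFunc k) K g₀ •
      KaehlerDifferential.D k K (algebraMap (RatFunc k) K RatFunc.X))
    (s : ℤ) (hs : p.ord g₀ ≤ s)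
    {Fp : Type w} [Field Fp] [Algebra k Fp] (φ : K →ₐ[k] LaurentSeries Fp)
    (hφ : LocRes.IsExpansionAt P.1 φ) :
    Valued.v (LocRes.D Fp (φ (algebraMap (RatFunc k) K RatFunc.X))) ≤ exp (m + 1 + 2 * s) := by
  have hchain := Groth.Agent.H27.DiffExp.chain_rule φ y (algebraMap (RatFunc k) K RatFunc.X)
    (algebraMap (RatFunc k) K g₀) hDy
  have hvy : Valued.v (φ y) = exp (-(-m)) := by
    rw [hφ.1, pl_val_eq_exp_neg_ord P hy0, hordy]
  have hvDy := (Groth.Agent.H27.DiffExp.valued_D_of_val hvy).1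
  have hG0 : algebraMap (RatFunc k) K g₀ ≠ 0 :=
    (map_ne_zero_iff _ (algebraMap (RatFunc k) K).injective).mpr hg₀
  have hvg : Valued.v (φ (algebraMap (RatFunc k) K g₀)) = exp (-(2 * p.ord g₀)) := by
    rw [hφ.1, pl_val_eq_exp_neg_ord P hG0, ord_eq_of_isOverWith he]
    congr 1
  rw [hchain, map_mul, hvg] at hvDy
  have h3 := mul_le_mul' (le_refl (exp (2 * p.ord g₀))) hvDy
  rw [← mul_assoc, ← exp_add, add_neg_cancel, exp_zero, one_mul, ← exp_add] at h3
  refine h3.trans ?_
  rw [exp_le_exp]
  omega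

end WildGen

end Groth.Agent.H55
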