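import Groth.Agent.H55.ASDiff4
import Mathlib

/-!
Regular differentials on an Artin–Schreier curve `y² + y = f(x)` over a perfect field of
characteristic two: the genus in terms of the polynomial `q` of finite poles.
-/

set_option autoImplicit false

namespace Groth.Agent.H55

open FunFld WithZero Polynomial IntermediateField

section InfUnique

variable {k : Type*} [Field k]

theorem ratfunc_adjoin_X_inv : k⟮(RatFunc.X : RatFunc k)⁻¹⟯ = ⊤ := by
  rw [eq_top_iff, ← RatFunc.adjoin_X]
  apply IntermediateField.adjoin_le_iff.mpr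
  intro z hz
  rw [Set.mem_singleton_iff] at hz
  subst hz
  have h1 : (RatFunc.X : RatFunc k)⁻¹ ∈ k⟮(RatFunc.X : RatFunc k)⁻¹⟯ :=
    IntermediateField.mem_adjoin_simple_self k _
  have := inv_mem h1
  rwa [inv_inv] at this

theorem ratfunc_inf_unique (p p' : Place k (RatFunc k))
    (hp : 1 < p.1 (RatFunc.X : RatFunc k)) (hp' : 1 < p'.1 (RatFunc.X : RatFunc k)) : p = p' := by
  classical
  by_contra hne
  have hF : G.IsFF1 k (RatFunc k) := isFF1_ratFunc
  have hx0 : (RatFunc.X : RatFunc k)⁻¹ ≠ 0 := inv_ne_zero RatFunc.X_ne_zero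
  have hord : ∀ P : Place k (RatFunc k), 1 < P.1 (RatFunc.X : RatFunc k) →
      P.ord (RatFunc.X : RatFunc k)⁻¹ = 1 := by
    intro P hP
    rw [pl_ord_inv, ratfunc_inf_ord_X P ((pl_one_lt_val_iff P _).mp hP)]
    norm_num
  have hlt : ∀ P : Place k (RatFunc k), 1 < P.1 (RatFunc.X : RatFunc k) →
      P.1 (RatFunc.X : RatFunc k)⁻¹ < 1 := by
    intro P hP
    rw [pl_val_lt_one_iff P hx0, hord P hP]
    norm_num
  have h := G.sum_ord_mul_deg_le hF _ hx0 {p, p'} (by
    intro P hP
    rw [Finset.mem_insert, Finset.mem_singleton] at hP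
    rcases hP with rfl | rfl
    · exact hlt _ hp
    · exact hlt _ hp')
  rw [Finset.sum_pair hne, hord p hp, hord p' hp', ratfunc_adjoin_X_inv,
    IntermediateField.finrank_top] at h
  have h1 : (1 : ℤ) ≤ p.deg := by exact_mod_cast G.deg_pos hF p
  have h2 : (1 : ℤ) ≤ p'.deg := by exact_mod_cast G.deg_pos hF p'
  push_cast at h
  omega

end InfUnique

section GenusQ

variable {k K : Type*} [Field k] [Field K] [Algebra k K] [Algebra (RatFunc k) K]
  [IsScalarTower k (RatFunc k) K]

theorem deg_eq_sum_of_subset {F : Type*} [Field F] [Algebra k F] (E : Divisor k F)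
    (T : Finset (Place k F)) (hT : E.support ⊆ T) :
    E.deg = ∑ p ∈ T, E p * (p.deg : ℤ) := by
  unfold Divisor.deg
  rw [Finsupp.sum_of_support_subset E hT]
  intro p _
  rw [zero_mul]

theorem as_genus_q (hK : FunFld.IsFunctionField k K) (h2 : (2 : K) = 0)
    (hdeg : Module.finrank (RatFunc k) K = 2)
    (y : K) (hy : y ∉ Set.range (algebraMap (RatFunc k) K)) (f : RatFunc k)
    (heq : y ^ 2 + y = algebraMap (RatFunc k) K f)
    (hodd : ∀ p : Place k (RatFunc k), 1 < p.1 f → Odd (p.ord f))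
    (q : k[X]) (hq0 : q ≠ 0)
    (hq : ∀ p : Place k (RatFunc k), p.1 (RatFunc.X : RatFunc k) ≤ 1 →
      p.ord (algebraMap k[X] (RatFunc k) q) = if 1 < p.1 f then (1 - p.ord f) / 2 else 0)
    (pinf : Place k (RatFunc k)) (hpinf : 1 < pinf.1 (RatFunc.X : RatFunc k)) :
    (genus k K : ℤ) = -1 + q.natDegree +
      (if pinf.ord f < 0 then (1 - pinf.ord f) / 2 else 0) := by
  classical
  have hFF : FunFld.IsFunctionField k (RatFunc k) := isFunctionField_ratFunc
  have hdiv : ∀ (g : RatFunc k) (P : Place k (RatFunc k)), FunFld.div k g P = P.ord g :=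
    fun g P => div_apply hFF g P
  have hodd' : ∀ P : Place k (RatFunc k), FunFld.div k f P < 0 → Odd (FunFld.div k f P) := by
    intro P hP
    rw [hdiv] at hP ⊢
    exact hodd P ((pl_one_lt_val_iff P f).mpr hP)
  have hg := as_genus hFF genus_ratFunc hK h2 hdeg y hy f heq hodd'
  rw [hg]
  obtain ⟨Q, hQ⟩ : ∃ Q : RatFunc k, Q = algebraMap k[X] (RatFunc k) q := ⟨_, rfl⟩
  obtain ⟨T, hT⟩ : ∃ T : Finset (Place k (RatFunc k)),
      T = (FunFld.div k f).support ∪ (FunFld.div k Q).support ∪ {pinf} := ⟨_, rfl⟩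
  have hpT : pinf ∈ T := by rw [hT]; simp
  -- the genus sum over `T`
  have h1 : ∑ P ∈ (FunFld.div k f).support with FunFld.div k f P < 0,
      (1 - FunFld.div k f P) / 2 * (P.deg : ℤ) =
      ∑ P ∈ T, (if P.ord f < 0 then (1 - P.ord f) / 2 else 0) * (P.deg : ℤ) := by
    rw [Finset.sum_filter]
    have hsub : (FunFld.div k f).support ⊆ T := by
      rw [hT]; intro P hP; simp [hP]
    rw [← Finset.sum_subset hsub]
    · apply Finset.sum_congr rfl
      intro P _
      rw [hdiv]
      split_ifs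
      · rfl
      · rw [zero_mul]
    · intro P _ hP
      rw [Finsupp.mem_support_iff, not_not, hdiv] at hP
      rw [hP]
      simp
  -- the degree of `div q` over `T`
  have h2' : ∑ P ∈ T, P.ord Q * (P.deg : ℤ) = 0 := by
    have hsub : (FunFld.div k Q).support ⊆ T := by
      rw [hT]; intro P hP; simp [hP]
    have := deg_eq_sum_of_subset (FunFld.div k Q) T hsub
    rw [deg_div hFF Q] at this
    rw [this]
    apply Finset.sum_congr rfl
    intro P _
    rw [hdiv]
  rw [h1]
  have h3 : ∑ P ∈ T, (if P.ord f < 0 then (1 - P.ord f) / 2 else 0) * (P.deg : ℤ) =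
      ∑ P ∈ T, ((if P.ord f < 0 then (1 - P.ord f) / 2 else 0) - P.ord Q) * (P.deg : ℤ) := by
    simp only [sub_mul]
    rw [Finset.sum_sub_distrib, h2', sub_zero]
  rw [h3, Finset.sum_eq_single pinf]
  · rw [hQ, ratfunc_inf_ord_poly' pinf hpinf hq0, ratfunc_inf_deg pinf
      ((pl_one_lt_val_iff pinf _).mp hpinf)]
    push_cast
    ring
  · intro P _ hP
    have hfin : P.1 (RatFunc.X : RatFunc k) ≤ 1 := by
      by_contra hcon
      rw [not_le] at hcon
      exact hP (ratfunc_inf_unique P pinf hcon hpinf)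
    rw [hQ, hq P hfin]
    have hiff : (1 < P.1 f) ↔ (P.ord f < 0) := pl_one_lt_val_iff P f
    simp only [hiff, sub_self, zero_mul]
  · intro h; exact absurd hpT h

end GenusQ

end Groth.Agent.H55
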