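import Groth.Agent.H55.ASDiff5
import Mathlib

/-!
Regular differentials on an Artin–Schreier curve `y² + y = f(x)` over a perfect field of
characteristic two: regularity of `x^i dx / q(x)` and the basis theorem.
-/

set_option autoImplicit false

namespace Groth.Agent.H55

open FunFld WithZero Polynomial IntermediateField

section RegPerfect

universe u v w

variable {k : Type u} {K : Type v} [Field k] [Field K] [Algebra k K] [Algebra (RatFunc k) K]
  [IsScalarTower k (RatFunc k) K]

theorem vDiff_le_one_of' {P : Place k K} {Fp : Type w} [Field Fp] [Algebra k Fp]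
    {φ : K →ₐ[k] LaurentSeries Fp} (hφ : LocRes.IsExpansionAt P.1 φ) {z x : K} {a b : ℤ}
    (hz : P.1 z ≤ exp a) (hv : Valued.v (LocRes.D Fp (φ x)) ≤ exp b) (hab : a + b ≤ 0) :
    LocRes.vDiff φ z x ≤ 1 := by
  unfold LocRes.vDiff
  rw [map_mul, hφ.1]
  calc P.1 z * Valued.v (LocRes.D Fp (φ x)) ≤ exp a * exp b := mul_le_mul' hz hv
    _ = exp (a + b) := (exp_add _ _).symm
    _ ≤ 1 := by rw [← exp_zero, exp_le_exp]; exact hab

theorem as_perfect_regular [PerfectField k] (hK : FunFld.IsFunctionField k K) (h2 : (2 : K) = 0)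
    (hdeg : Module.finrank (RatFunc k) K = 2) [Algebra.IsSeparable (RatFunc k) K]
    (y : K) (hy : y ∉ Set.range (algebraMap (RatFunc k) K)) (f : RatFunc k)
    (heq : y ^ 2 + y = algebraMap (RatFunc k) K f)
    (hodd : ∀ p : Place k (RatFunc k), 1 < p.1 f → Odd (p.ord f))
    (q : k[X]) (hq0 : q ≠ 0)
    (hq : ∀ p : Place k (RatFunc k), p.1 (RatFunc.X : RatFunc k) ≤ 1 →
      p.ord (algebraMap k[X] (RatFunc k) q) = if 1 < p.1 f then (1 - p.ord f) / 2 else 0)
    (i : ℕ) (hi : i < genus k K) (P : Place k K)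
    {Fp : Type w} [Field Fp] [Algebra k Fp] (φ : K →ₐ[k] LaurentSeries Fp)
    (hφ : LocRes.IsExpansionAt P.1 φ) :
    LocRes.vDiff φ (algebraMap (RatFunc k) K
      ((RatFunc.X : RatFunc k) ^ i / algebraMap k[X] (RatFunc k) q))
      (algebraMap (RatFunc k) K RatFunc.X) ≤ 1 := by
  have hF : G.IsFF1 k (RatFunc k) := isFF1_ratFunc
  haveI : FiniteDimensional (RatFunc k) K :=
    Module.finite_of_finrank_pos (by rw [hdeg]; norm_num)
  have hy0 : y ≠ 0 := fun h => hy ⟨0, by rw [h, map_zero]⟩
  have h2F : (2 : RatFunc k) = 0 := by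
    apply (algebraMap (RatFunc k) K).injective
    rw [map_ofNat, map_zero]; exact h2
  have h2k : (2 : k) = 0 := by
    apply (algebraMap k (RatFunc k)).injective
    rw [map_ofNat, map_zero]; exact h2F
  have hQ0 : algebraMap k[X] (RatFunc k) q ≠ 0 :=
    (map_ne_zero_iff _ (RatFunc.algebraMap_injective k)).mpr hq0
  have hX0 : (RatFunc.X : RatFunc k) ≠ 0 := RatFunc.X_ne_zero
  obtain ⟨p, e, he⟩ := exists_place_under hF P
  have hepos := isOverWith_pos he
  have hram := as_ram hF h2 hdeg y hy f heq P p e he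
  -- the value of the form
  have hzord : P.ord (algebraMap (RatFunc k) K
      ((RatFunc.X : RatFunc k) ^ i / algebraMap k[X] (RatFunc k) q)) =
      (e : ℤ) * (i * p.ord (RatFunc.X : RatFunc k) - p.ord (algebraMap k[X] (RatFunc k) q)) := by
    rw [ord_eq_of_isOverWith he, pl_ord_div p (pow_ne_zero _ hX0) hQ0, pl_ord_pow]
  have hz0 : algebraMap (RatFunc k) K
      ((RatFunc.X : RatFunc k) ^ i / algebraMap k[X] (RatFunc k) q) ≠ 0 :=
    (map_ne_zero_iff _ (algebraMap (RatFunc k) K).injective).mpr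
      (div_ne_zero (pow_ne_zero _ hX0) hQ0)
  -- odd natural numbers are nonzero in `k`
  have hoddk : ∀ m : ℕ, Odd m → (m : k) ≠ 0 := by
    rintro m ⟨c, rfl⟩
    push_cast
    rw [h2k, zero_mul, zero_add]
    exact one_ne_zero
  have hfdiv : f = algebraMap k[X] (RatFunc k) f.num / algebraMap k[X] (RatFunc k) f.denom :=
    (RatFunc.num_div_denom f).symm
  have hDy := as_kaehler_y (k := k) h2 y f heq
  by_cases hfin : p.1 (RatFunc.X : RatFunc k) ≤ 1
  · -- finite places
    have hXord : 0 ≤ p.ord (RatFunc.X : RatFunc k) := (pl_val_le_one_iff p hX0).mp hfin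
    have hPx : P.1 (algebraMap (RatFunc k) K RatFunc.X) ≤ 1 := by
      rw [he]; exact pow_le_one₀ zero_le' hfin
    by_cases hpf : 1 < p.1 f
    · have hneg : p.ord f < 0 := (pl_one_lt_val_iff p f).mp hpf
      have hoddf := hodd p hpf
      obtain ⟨he2, hQy⟩ := hram.1 hneg hoddf
      subst he2
      have hf0 : f ≠ 0 := by
        rintro rfl
        rw [pl_ord_zero] at hneg
        exact lt_irrefl _ hneg
      obtain ⟨m, hm⟩ : ∃ m : ℕ, (m : ℤ) = -p.ord f := ⟨(-p.ord f).toNat, by omega⟩
      have hmodd : Odd m := by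
        obtain ⟨c, hc⟩ := hoddf
        exact (Int.odd_coe_nat m).mp ⟨-c - 1, by rw [hm, hc]; ring⟩
      have hb0 : f.denom ≠ 0 := RatFunc.denom_ne_zero f
      have ha0 : f.num ≠ 0 := RatFunc.num_ne_zero hf0
      have hA0 : algebraMap k[X] (RatFunc k) f.num ≠ 0 :=
        (map_ne_zero_iff _ (RatFunc.algebraMap_injective k)).mpr ha0
      have hB0 : algebraMap k[X] (RatFunc k) f.denom ≠ 0 :=
        (map_ne_zero_iff _ (RatFunc.algebraMap_injective k)).mpr hb0
      have hblt : p.1 (algebraMap k[X] (RatFunc k) f.denom) < 1 := by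
        rw [pl_val_lt_one_iff p hB0]
        have h1 : 0 ≤ p.ord (algebraMap k[X] (RatFunc k) f.num) :=
          (pl_val_le_one_iff p hA0).mp (ratfunc_val_poly_le_one p hfin _)
        have h3 : p.ord f = p.ord (algebraMap k[X] (RatFunc k) f.num) -
            p.ord (algebraMap k[X] (RatFunc k) f.denom) := by
          conv_lhs => rw [hfdiv]
          exact pl_ord_div p hA0 hB0
        omega
      obtain ⟨π, hπ, -, hπlt⟩ := ratfunc_exists_irreducible_factor p _ f.denom rfl hb0 hblt
      have hsep : IsCoprime π (derivative π) := PerfectField.separable_of_irreducible hπ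
      have hordg := ratfunc_ord_deriv_gen p hπ hsep hπlt f.num f.denom
        (RatFunc.isCoprime_num_denom f) ha0 hb0 m (hoddk m hmodd) (by rw [← hfdiv, hm]; ring)
      have hg₀0 : algebraMap k[X] (RatFunc k)
          (f.denom * derivative f.num - f.num * derivative f.denom) /
            (algebraMap k[X] (RatFunc k) f.denom) ^ 2 ≠ 0 := by
        intro h0
        rw [h0, pl_ord_zero] at hordg
        omega
      have hv := as_vD_bound P p he hy0 (m : ℤ) (by rw [hQy, hm]; ring) hg₀0 hDy
        (-(m : ℤ) - 1) hordg.le φ hφ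
      have hqord := hq p hfin
      rw [if_pos hpf] at hqord
      have hz : P.1 (algebraMap (RatFunc k) K
          ((RatFunc.X : RatFunc k) ^ i / algebraMap k[X] (RatFunc k) q)) ≤ exp ((m : ℤ) + 1) := by
        rw [pl_val_le_exp_iff P hz0, hzord, hqord]
        obtain ⟨c, hc⟩ := hmodd
        have h5 : (0 : ℤ) ≤ (i : ℤ) * p.ord (RatFunc.X : RatFunc k) :=
          mul_nonneg (Int.natCast_nonneg i) hXord
        push_cast
        omega
      exact vDiff_le_one_of' hφ hz hv (by ring_nf; omega)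
    · rw [not_lt] at hpf
      have hnn : 0 ≤ p.ord f := by
        by_cases hf0 : f = 0
        · rw [hf0, pl_ord_zero]
        · exact (pl_val_le_one_iff p hf0).mp hpf
      obtain ⟨he1, -⟩ := hram.2 hnn
      subst he1
      have hqord := hq p hfin
      rw [if_neg (not_lt.mpr hpf)] at hqord
      have hz : P.1 (algebraMap (RatFunc k) K
          ((RatFunc.X : RatFunc k) ^ i / algebraMap k[X] (RatFunc k) q)) ≤ exp (0 : ℤ) := by
        rw [pl_val_le_exp_iff P hz0, hzord, hqord]
        have h5 : (0 : ℤ) ≤ (i : ℤ) * p.ord (RatFunc.X : RatFunc k) :=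
          mul_nonneg (Int.natCast_nonneg i) hXord
        push_cast
        omega
      have hv : Valued.v (LocRes.D Fp (φ (algebraMap (RatFunc k) K RatFunc.X))) ≤ exp (0 : ℤ) := by
        rw [exp_zero]; exact Groth.Agent.H27.Hyp.vD_le_one hφ hPx
      exact vDiff_le_one_of' hφ hz hv (by norm_num)
  · -- infinite places
    rw [not_le] at hfin
    have hXord : p.ord (RatFunc.X : RatFunc k) = -1 :=
      ratfunc_inf_ord_X p ((pl_one_lt_val_iff p _).mp hfin)
    have hqord : p.ord (algebraMap k[X] (RatFunc k) q) = -(q.natDegree : ℤ) :=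
      ratfunc_inf_ord_poly' p hfin hq0
    have hgen := as_genus_q hK h2 hdeg y hy f heq hodd q hq0 hq p hfin
    have hxK0 : algebraMap (RatFunc k) K RatFunc.X ≠ 0 :=
      (map_ne_zero_iff _ (algebraMap (RatFunc k) K).injective).mpr hX0
    by_cases hpf : 1 < p.1 f
    · have hneg : p.ord f < 0 := (pl_one_lt_val_iff p f).mp hpf
      have hoddf := hodd p hpf
      obtain ⟨he2, hQy⟩ := hram.1 hneg hoddf
      subst he2
      have hf0 : f ≠ 0 := by
        rintro rfl
        rw [pl_ord_zero] at hneg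
        exact lt_irrefl _ hneg
      obtain ⟨m, hm⟩ : ∃ m : ℕ, (m : ℤ) = -p.ord f := ⟨(-p.ord f).toNat, by omega⟩
      have hmodd : Odd m := by
        obtain ⟨c, hc⟩ := hoddf
        exact (Int.odd_coe_nat m).mp ⟨-c - 1, by rw [hm, hc]; ring⟩
      have hb0 : f.denom ≠ 0 := RatFunc.denom_ne_zero f
      have ha0 : f.num ≠ 0 := RatFunc.num_ne_zero hf0
      obtain ⟨hg₀0', hordg⟩ := ratfunc_inf_ord_deriv p hfin f.num f.denom ha0 hb0 m
        (hoddk m hmodd) (by rw [← hfdiv, hm]; ring)
      have hB0 : algebraMap k[X] (RatFunc k) f.denom ≠ 0 :=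
        (map_ne_zero_iff _ (RatFunc.algebraMap_injective k)).mpr hb0
      have hg₀0 : algebraMap k[X] (RatFunc k)
          (f.denom * derivative f.num - f.num * derivative f.denom) /
            (algebraMap k[X] (RatFunc k) f.denom) ^ 2 ≠ 0 :=
        div_ne_zero hg₀0' (pow_ne_zero _ hB0)
      have hv := as_vD_bound P p he hy0 (m : ℤ) (by rw [hQy, hm]; ring) hg₀0 hDy
        (-(m : ℤ) + 1) hordg φ hφ
      rw [if_pos hneg] at hgen
      have hz : P.1 (algebraMap (RatFunc k) K
          ((RatFunc.X : RatFunc k) ^ i / algebraMap k[X] (RatFunc k) q)) ≤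
          exp (2 * ((i : ℤ) - q.natDegree)) := by
        rw [pl_val_le_exp_iff P hz0, hzord, hqord, hXord]
        push_cast
        omega
      refine vDiff_le_one_of' hφ hz hv ?_
      obtain ⟨c, hc⟩ := hmodd
      have hi' : (i : ℤ) < genus k K := by exact_mod_cast hi
      have hpf' : p.ord f = -(m : ℤ) := by omega
      rw [hpf'] at hgen
      push_cast at hgen ⊢
      omega
    · rw [not_lt] at hpf
      have hnn : 0 ≤ p.ord f := by
        by_cases hf0 : f = 0
        · rw [hf0, pl_ord_zero]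
        · exact (pl_val_le_one_iff p hf0).mp hpf
      obtain ⟨he1, -⟩ := hram.2 hnn
      subst he1
      rw [if_neg (not_lt.mpr hnn)] at hgen
      have hPx : P.1 (algebraMap (RatFunc k) K RatFunc.X) = exp (-(-1 : ℤ)) := by
        rw [pl_val_eq_exp_neg_ord P hxK0, ord_eq_of_isOverWith he, hXord]
        norm_num
      have hv : Valued.v (LocRes.D Fp (φ (algebraMap (RatFunc k) K RatFunc.X))) ≤ exp (2 : ℤ) := by
        have h1 := (Groth.Agent.H27.DiffExp.valued_D_of_val
          (f := φ (algebraMap (RatFunc k) K RatFunc.X)) (e := -1) (by rw [hφ.1, hPx])).1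
        refine h1.trans (le_of_eq ?_)
        congr 1
      have hz : P.1 (algebraMap (RatFunc k) K
          ((RatFunc.X : RatFunc k) ^ i / algebraMap k[X] (RatFunc k) q)) ≤
          exp ((i : ℤ) - q.natDegree) := by
        rw [pl_val_le_exp_iff P hz0, hzord, hqord, hXord]
        push_cast
        omega
      refine vDiff_le_one_of' hφ hz hv ?_
      have hi' : (i : ℤ) < genus k K := by exact_mod_cast hi
      omega

theorem isSeparable_adjoin_of_ratfunc [Algebra.IsSeparable (RatFunc k) K] :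
    Algebra.IsSeparable k⟮algebraMap (RatFunc k) K RatFunc.X⟯ K := by
  have hx : Transcendental k (algebraMap (RatFunc k) K RatFunc.X) :=
    Groth.Agent.H27.Hyp.transcendental_xK
  apply Algebra.IsSeparable.of_equiv_equiv (A₁ := RatFunc k) (B₁ := K)
    (RatFunc.algEquivOfTranscendental _ hx).toRingEquiv (RingEquiv.refl K)
  ext r
  show algebraMap k⟮algebraMap (RatFunc k) K RatFunc.X⟯ K
    (RatFunc.algEquivOfTranscendental _ hx r) = algebraMap (RatFunc k) K r
  have h1 := RatFunc.algEquivOfTranscendental_apply (algebraMap (RatFunc k) K RatFunc.X) hx r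
  rw [show algebraMap k⟮algebraMap (RatFunc k) K RatFunc.X⟯ K
    (RatFunc.algEquivOfTranscendental _ hx r) =
      ((RatFunc.algEquivOfTranscendental _ hx r : k⟮algebraMap (RatFunc k) K RatFunc.X⟯) : K)
    from rfl, h1]
  conv_rhs => rw [← RatFunc.num_div_denom r]
  rw [map_div₀, Groth.Agent.H27.Hyp.algebraMap_poly, Groth.Agent.H27.Hyp.algebraMap_poly]

theorem as_perfect_basis [PerfectField k] (hK : FunFld.IsFunctionField k K) (h2 : (2 : K) = 0)
    (hdeg : Module.finrank (RatFunc k) K = 2) [Algebra.IsSeparable (RatFunc k) K]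
    (y : K) (hy : y ∉ Set.range (algebraMap (RatFunc k) K)) (f : RatFunc k)
    (heq : y ^ 2 + y = algebraMap (RatFunc k) K f)
    (hodd : ∀ p : Place k (RatFunc k), 1 < p.1 f → Odd (p.ord f))
    (q : k[X]) (hq0 : q ≠ 0)
    (hq : ∀ p : Place k (RatFunc k), p.1 (RatFunc.X : RatFunc k) ≤ 1 →
      p.ord (algebraMap k[X] (RatFunc k) q) = if 1 < p.1 f then (1 - p.ord f) / 2 else 0)
    (Fp : Place k K → Type w) [∀ P, Field (Fp P)] [∀ P, Algebra k (Fp P)]
    [∀ P, FiniteDimensional k (Fp P)]
    (φ : ∀ P, K →ₐ[k] LaurentSeries (Fp P)) (hφ : ∀ P, LocRes.IsExpansionAt P.1 (φ P))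
    (z : K) (hz : ∀ P, LocRes.vDiff (φ P) z (algebraMap (RatFunc k) K RatFunc.X) ≤ 1) :
    ∃ a : k[X], a.degree < (genus k K : WithBot ℕ) ∧
      z = algebraMap (RatFunc k) K
        (algebraMap k[X] (RatFunc k) a / algebraMap k[X] (RatFunc k) q) := by
  classical
  obtain ⟨x, hxdef⟩ : ∃ x : K, x = algebraMap (RatFunc k) K RatFunc.X := ⟨_, rfl⟩
  have hx : Transcendental k x := hxdef ▸ Groth.Agent.H27.Hyp.transcendental_xK
  haveI : Algebra.IsSeparable k⟮x⟯ K := hxdef ▸ isSeparable_adjoin_of_ratfunc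
  obtain ⟨eΩ, heΩ⟩ := kaehler_equiv_of_separating x hx
  have hfr : Module.finrank K (Ω[K⁄k]) = 1 := by rw [eΩ.finrank_eq, Module.finrank_self]
  have hdx : KaehlerDifferential.D k K x ≠ 0 := by
    intro h0
    rw [h0, map_zero] at heΩ
    exact zero_ne_one heΩ
  rw [← hxdef] at hz
  obtain ⟨Cd, hset, hell⟩ := Groth.Agent.H27.GenCanFr.regular_eq_L hK hfr φ hφ hdx
  obtain ⟨g, hg⟩ : ∃ g : ℕ, g = genus k K := ⟨_, rfl⟩
  rw [← hg] at hell ⊢
  have hQ0 : algebraMap k[X] (RatFunc k) q ≠ 0 :=
    (map_ne_zero_iff _ (RatFunc.algebraMap_injective k)).mpr hq0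
  have hQK0 : algebraMap (RatFunc k) K (algebraMap k[X] (RatFunc k) q) ≠ 0 :=
    (map_ne_zero_iff _ (algebraMap (RatFunc k) K).injective).mpr hQ0
  have hzL : z ∈ L Cd := by
    have : z ∈ {y : K | ∀ P, LocRes.vDiff (φ P) y x ≤ 1} := hz
    rwa [hset] at this
  obtain ⟨w, hwdef⟩ : ∃ w : Fin g → K, w = fun i : Fin g =>
      algebraMap (RatFunc k) K ((RatFunc.X : RatFunc k) ^ (i : ℕ) /
        algebraMap k[X] (RatFunc k) q) := ⟨_, rfl⟩
  have hwL : ∀ i, w i ∈ L Cd := by
    intro i
    have : w i ∈ {y : K | ∀ P, LocRes.vDiff (φ P) y x ≤ 1} := by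
      rw [hwdef]
      intro P
      rw [hxdef]
      exact as_perfect_regular hK h2 hdeg y hy f heq hodd q hq0 hq i (hg ▸ i.2) P (φ P) (hφ P)
    rwa [hset] at this
  have hsumw : ∀ c : Fin g → k, ∑ i, c i • w i = algebraMap (RatFunc k) K
      (algebraMap k[X] (RatFunc k) (∑ i : Fin g, C (c i) * X ^ (i : ℕ)) /
        algebraMap k[X] (RatFunc k) q) := by
    intro c
    rw [map_sum, Finset.sum_div, map_sum]
    refine Finset.sum_congr rfl fun i _ => ?_
    rw [hwdef]
    simp only
    rw [Algebra.smul_def, map_mul, map_pow, RatFunc.algebraMap_X, RatFunc.algebraMap_C,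
      ← RatFunc.algebraMap_eq_C, mul_div_assoc, map_mul, ← IsScalarTower.algebraMap_apply]
  have hwli : LinearIndependent k w := by
    rw [Fintype.linearIndependent_iff]
    intro c hc
    rw [hsumw c, map_eq_zero, div_eq_zero_iff] at hc
    have h4 : (∑ i : Fin g, C (c i) * X ^ (i : ℕ)) = 0 :=
      RatFunc.algebraMap_injective k (by rw [hc.resolve_right hQ0, map_zero])
    intro j
    have h5 := congrArg (fun q : k[X] => q.coeff (j : ℕ)) h4
    simp only [finset_sum_coeff, coeff_C_mul, coeff_X_pow, coeff_zero] at h5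
    rw [Finset.sum_eq_single j] at h5
    · simpa using h5
    · intro b _ hb
      rw [if_neg, mul_zero]
      intro h
      exact hb (Fin.ext h.symm)
    · intro h
      exact absurd (Finset.mem_univ j) h
  haveI := L_finite hK Cd
  have hspan : Submodule.span k (Set.range w) = L Cd := by
    apply Submodule.eq_of_le_of_finrank_eq
    · rw [Submodule.span_le]
      rintro _ ⟨i, rfl⟩
      exact hwL i
    · rw [finrank_span_eq_card hwli, Fintype.card_fin]
      exact hell.symm
  rw [← hspan] at hzL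
  obtain ⟨c, hc⟩ := (Submodule.mem_span_range_iff_exists_fun k).1 hzL
  refine ⟨∑ i : Fin g, C (c i) * X ^ (i : ℕ), degree_sum_fin_lt c, ?_⟩
  rw [← hc, hsumw c]

end RegPerfect

end Groth.Agent.H55
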