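import Mathlib

/-!
(AS) for helper76's S11093 squad: a Galois extension of degree `p` in characteristic `p` has an
Artin–Schreier generator.
-/

set_option autoImplicit false
set_option linter.style.haveILetI false
universe u

namespace Groth.Agent.H55.ASGen

theorem exists_artinSchreier_gen (p : ℕ) [Fact p.Prime] (F E : Type u) [Field F] [Field E]
    [Algebra F E] [CharP F p] [IsGalois F E] (hdeg : Module.finrank F E = p) :
    ∃ x : E, x ∉ Set.range (algebraMap F E) ∧ x ^ p - x ∈ Set.range (algebraMap F E) := by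
  have hp : p.Prime := Fact.out
  haveI : FiniteDimensional F E := by
    apply Module.finite_of_finrank_pos
    rw [hdeg]; exact hp.pos
  have hcard : Nat.card (E ≃ₐ[F] E) = p := by rw [IsGalois.card_aut_eq_finrank, hdeg]
  haveI : IsCyclic (E ≃ₐ[F] E) := isCyclic_of_prime_card hcard
  obtain ⟨σ, hσ⟩ := IsCyclic.exists_generator (α := E ≃ₐ[F] E)
  have hσp : σ ^ p = 1 := by rw [← hcard]; exact pow_card_eq_one'
  have hσ1 : σ ≠ 1 := by
    intro h1
    have : ∀ τ : E ≃ₐ[F] E, τ = 1 := by
      intro τ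
      have := hσ τ
      rw [h1] at this
      simpa using this
    haveI : Subsingleton (E ≃ₐ[F] E) := ⟨fun a b => by rw [this a, this b]⟩
    have := Nat.card_unique (α := E ≃ₐ[F] E)
    rw [hcard] at this
    exact hp.one_lt.ne' this
  haveI : CharP E p := charP_of_injective_algebraMap (algebraMap F E).injective p
  -- fixed by σ implies in F
  have hfix : ∀ a : E, σ a = a → a ∈ Set.range (algebraMap F E) := by
    intro a ha
    have h1 : σ ∈ MulAction.stabilizer (E ≃ₐ[F] E) a := by
      rw [MulAction.mem_stabilizer_iff]; exact ha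
    have h2 : ∀ τ : E ≃ₐ[F] E, τ a = a := by
      intro τ
      have h3 : τ ∈ MulAction.stabilizer (E ≃ₐ[F] E) a :=
        (Subgroup.zpowers_le.mpr h1) (hσ τ)
      exact MulAction.mem_stabilizer_iff.mp h3
    have h4 : a ∈ IntermediateField.fixedField (⊤ : Subgroup (E ≃ₐ[F] E)) := by
      rw [IntermediateField.mem_fixedField_iff]
      intro τ _
      exact h2 τ
    rw [IsGalois.fixedField_top] at h4
    exact IntermediateField.mem_bot.mp h4
  -- the operator D = σ - 1
  obtain ⟨D, hD⟩ : ∃ D : Module.End F E, D = σ.toLinearMap - 1 := ⟨_, rfl⟩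
  have hDapp : ∀ a, D a = σ a - a := by
    intro a; rw [hD]; rfl
  have hDne : D ≠ 0 := by
    intro h0
    apply hσ1
    ext a
    have := hDapp a
    rw [h0, LinearMap.zero_apply] at this
    rw [AlgEquiv.one_apply]
    exact (sub_eq_zero.mp this.symm)
  have hσpow : ∀ (m : ℕ) (a : E), (σ.toLinearMap ^ m) a = (σ ^ m) a := by
    intro m
    induction m with
    | zero => intro a; simp
    | succ m ih =>
      intro a
      rw [pow_succ, Module.End.mul_apply, ih, pow_succ, AlgEquiv.mul_apply]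
      rfl
  haveI : CharP (Module.End F E) p :=
    charP_of_injective_algebraMap (algebraMap F (Module.End F E)).injective p
  have hDp : D ^ p = 0 := by
    rw [hD, sub_pow_char_of_commute (p := p) (h := Commute.one_right _), one_pow]
    apply LinearMap.ext
    intro a
    rw [LinearMap.sub_apply, hσpow, hσp]
    simp
  -- minimal exponent killing D
  have hex : ∃ m : ℕ, D ^ m = 0 := ⟨p, hDp⟩
  classical
  obtain ⟨m, hm, hmin⟩ : ∃ m : ℕ, D ^ m = 0 ∧ ∀ j < m, D ^ j ≠ 0 :=
    ⟨Nat.find hex, Nat.find_spec hex, fun j hj => Nat.find_min hex hj⟩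
  have hm2 : 2 ≤ m := by
    by_contra hlt
    push Not at hlt
    interval_cases m
    · rw [pow_zero] at hm
      exact one_ne_zero hm
    · rw [pow_one] at hm
      exact hDne hm
  obtain ⟨k, rfl⟩ : ∃ k, m = k + 2 := ⟨m - 2, by omega⟩
  have hk1 : D ^ (k + 1) ≠ 0 := hmin (k + 1) (by omega)
  obtain ⟨z, hz⟩ : ∃ z, (D ^ (k + 1)) z ≠ 0 := by
    by_contra hno
    push Not at hno
    exact hk1 (LinearMap.ext hno)
  obtain ⟨w, hw⟩ : ∃ w, w = (D ^ (k + 1)) z := ⟨_, rfl⟩
  obtain ⟨y, hy⟩ : ∃ y, y = (D ^ k) z := ⟨_, rfl⟩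
  have hDy : D y = w := by
    rw [hy, hw, pow_succ', Module.End.mul_apply]
  have hDw : D w = 0 := by
    rw [hw, ← Module.End.mul_apply, ← pow_succ', hm, LinearMap.zero_apply]
  have hw0 : w ≠ 0 := hw ▸ hz
  have hσw : σ w = w := by
    have := hDapp w
    rw [hDw] at this
    exact (sub_eq_zero.mp this.symm)
  obtain ⟨c, hc⟩ := hfix w hσw
  have hc0 : c ≠ 0 := by
    intro h0
    rw [h0, map_zero] at hc
    exact hw0 hc.symm
  refine ⟨c⁻¹ • y, ?_, ?_⟩
  have hσx : σ (c⁻¹ • y) = c⁻¹ • y + 1 := by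
    have h1 : D (c⁻¹ • y) = 1 := by
      rw [map_smul, hDy, ← hc, Algebra.smul_def, ← map_mul, inv_mul_cancel₀ hc0, map_one]
    rw [hDapp] at h1
    rw [← h1]; ring
  · intro hx
    obtain ⟨b, hb⟩ := hx
    have h1 : σ (c⁻¹ • y) = c⁻¹ • y := by rw [← hb, AlgEquiv.commutes]
    have hσx : σ (c⁻¹ • y) = c⁻¹ • y + 1 := by
      have h1 : D (c⁻¹ • y) = 1 := by
        rw [map_smul, hDy, ← hc, Algebra.smul_def, ← map_mul, inv_mul_cancel₀ hc0, map_one]
      rw [hDapp] at h1
      rw [← h1]; ring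
    rw [h1] at hσx
    have : (0 : E) = 1 := by
      have := congrArg (fun t => t - c⁻¹ • y) hσx
      simp at this
    exact zero_ne_one this
  · apply hfix
    have hσx : σ (c⁻¹ • y) = c⁻¹ • y + 1 := by
      have h1 : D (c⁻¹ • y) = 1 := by
        rw [map_smul, hDy, ← hc, Algebra.smul_def, ← map_mul, inv_mul_cancel₀ hc0, map_one]
      rw [hDapp] at h1
      rw [← h1]; ring
    rw [map_sub, map_pow, hσx, add_pow_char, one_pow]
    ring

end Groth.Agent.H55.ASGen
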