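import Groth.Agent.H55.FFRR
import Mathlib

/-!
First consequences of Riemann–Roch: rational function fields, genus zero, degree-one places.
-/

set_option autoImplicit false

namespace Groth.Agent.H55

open FunFld WithZero Polynomial IntermediateField

variable {k K : Type*} [Field k] [Field K] [Algebra k K]

theorem single_le_of_nonneg {D : Divisor k K} (h0 : 0 ≤ D) (P : Place k K) :
    (Finsupp.single P (D P) : Divisor k K) ≤ D := by
  classical
  intro Q
  by_cases hQ : Q = P
  · subst hQ; simp
  · rw [Finsupp.single_apply, if_neg (Ne.symm hQ)]; exact h0 Q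

theorem eq_single_of_nonneg_of_deg_eq_one (hK : FunFld.IsFunctionField k K) {D : Divisor k K}
    (h0 : 0 ≤ D) (hd : D.deg = 1) : ∃ P : Place k K, P.deg = 1 ∧ D = Finsupp.single P 1 := by
  classical
  have hD : D ≠ 0 := by
    rintro rfl
    rw [deg_zero] at hd
    exact zero_ne_one hd
  obtain ⟨P, hP⟩ : ∃ P, D P ≠ 0 := by
    by_contra hcon
    apply hD
    ext P
    by_contra hP
    exact hcon ⟨P, hP⟩
  have h1 := deg_mono (single_le_of_nonneg h0 P)
  rw [deg_single, hd] at h1
  have h3 : 0 < D P := lt_of_le_of_ne (h0 P) (Ne.symm hP)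
  have h4 : (0 : ℤ) < P.deg := by exact_mod_cast deg_pos hK P
  have h5 : D P = 1 := by nlinarith
  have h6 : (P.deg : ℤ) = 1 := by nlinarith
  refine ⟨P, by exact_mod_cast h6, ?_⟩
  have h7 : D - Finsupp.single P 1 = 0 := by
    apply eq_zero_of_nonneg_of_deg_eq_zero hK
    · rw [sub_nonneg, ← h5]; exact single_le_of_nonneg h0 P
    · rw [deg_sub, deg_single, hd, h6]; ring
  exact sub_eq_zero.mp h7

theorem poleDiv_eq_single (hK : FunFld.IsFunctionField k K) {x : K} {P : Place k K} {n : ℤ}
    (hn : 0 ≤ n) (hP : P.ord x = -n) (hQ : ∀ Q : Place k K, Q ≠ P → 0 ≤ Q.ord x) :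
    poleDiv k x = Finsupp.single P n := by
  classical
  ext Q
  rw [poleDiv_apply hK]
  by_cases h : Q = P
  · subst h
    rw [Finsupp.single_eq_same, hP]; simp [hn]
  · rw [Finsupp.single_apply, if_neg (Ne.symm h)]
    have := hQ Q h
    omega

/-- If `x` has a single simple pole at a place of degree one, then `K = k(x)`. -/
theorem adjoin_eq_top_of_simple_pole (hK : FunFld.IsFunctionField k K) {x : K} {P : Place k K}
    (hdeg : P.deg = 1) (hP : P.ord x = -1) (hQ : ∀ Q : Place k K, Q ≠ P → 0 ≤ Q.ord x) :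
    k⟮x⟯ = ⊤ := by
  have hx0 : x ≠ 0 := by
    rintro rfl
    rw [pl_ord_zero] at hP; omega
  have hne : P.1 x ≠ 1 := by
    rw [Ne, pl_val_eq_one_iff P hx0]; omega
  have hxt := transcendental_of_val_ne_one hK P hx0 hne
  have h1 := deg_poleDiv hK x hxt
  rw [poleDiv_eq_single hK (by norm_num) hP hQ, deg_single, hdeg] at h1
  rw [← finrank_eq_one_iff_eq_top]
  have : (Module.finrank k⟮x⟯ K : ℤ) = 1 := by rw [← h1]; simp
  exact_mod_cast this

theorem transcendental_of_adjoin_eq_top (hK : FunFld.IsFunctionField k K) {x : K}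
    (hx : k⟮x⟯ = ⊤) : Transcendental k x := by
  rw [ff_transcendental_iff hK]
  rintro ⟨c, rfl⟩
  obtain ⟨y, hy, -⟩ := hK.1
  have hymem : y ∈ k⟮algebraMap k K c⟯ := by rw [hx]; trivial
  have hbot : k⟮algebraMap k K c⟯ = ⊥ := by
    rw [adjoin_simple_eq_bot_iff]
    exact IntermediateField.algebraMap_mem _ c
  rw [hbot, mem_bot] at hymem
  obtain ⟨d, rfl⟩ := hymem
  exact hy (isAlgebraic_algebraMap d)

theorem exists_simple_pole_of_adjoin_eq_top (hK : FunFld.IsFunctionField k K) {x : K}
    (hx : k⟮x⟯ = ⊤) :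
    ∃ P : Place k K, P.deg = 1 ∧ P.ord x = -1 ∧ ∀ Q : Place k K, Q ≠ P → 0 ≤ Q.ord x := by
  classical
  have hxt := transcendental_of_adjoin_eq_top hK hx
  have h1 := deg_poleDiv hK x hxt
  rw [(finrank_eq_one_iff_eq_top).mpr hx] at h1
  obtain ⟨P, hPdeg, hP⟩ := eq_single_of_nonneg_of_deg_eq_one hK (poleDiv_nonneg x)
    (by rw [h1]; simp)
  refine ⟨P, hPdeg, ?_, ?_⟩
  · have := congrArg (fun D : Divisor k K => D P) hP
    simp only [Finsupp.single_eq_same] at this
    rw [poleDiv_apply hK] at this
    omega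
  · intro Q hQ
    have := congrArg (fun D : Divisor k K => D Q) hP
    change poleDiv k x Q = (Finsupp.single P 1 : Divisor k K) Q at this
    rw [poleDiv_apply hK, Finsupp.single_apply, if_neg (Ne.symm hQ)] at this
    omega

/-- If `x` has pole divisor `P` (of degree one), then `ℓ(nP) ≥ n + 1`. -/
theorem ell_single_ge (hK : FunFld.IsFunctionField k K) {x : K} {P : Place k K}
    (hP : P.ord x = -1) (hQ : ∀ Q : Place k K, Q ≠ P → 0 ≤ Q.ord x) (n : ℕ) :
    n + 1 ≤ ell (Finsupp.single P (n : ℤ) : Divisor k K) := by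
  classical
  have hx0 : x ≠ 0 := by
    rintro rfl
    rw [pl_ord_zero] at hP; omega
  induction n with
  | zero =>
    simp only [Nat.cast_zero, Finsupp.single_zero, zero_add]
    rw [show ell (0 : Divisor k K) = 1 from (L_zero_finite hK).2]
  | succ n ih =>
    have hle : (Finsupp.single P (n : ℤ) : Divisor k K) ≤ Finsupp.single P ((n + 1 : ℕ) : ℤ) := by
      intro Q
      by_cases h : Q = P
      · subst h; simp
      · rw [Finsupp.single_apply, Finsupp.single_apply, if_neg (Ne.symm h), if_neg (Ne.symm h)]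
    have hmem : x ^ (n + 1) ∈ L (Finsupp.single P ((n + 1 : ℕ) : ℤ) : Divisor k K) := by
      intro Q
      rw [pl_val_le_exp_iff Q (pow_ne_zero _ hx0), pl_ord_pow]
      by_cases h : Q = P
      · subst h
        rw [Finsupp.single_eq_same, hP]; push_cast; ring_nf; rfl
      · rw [Finsupp.single_apply, if_neg (Ne.symm h)]
        have := hQ Q h
        have h2 : 0 ≤ ((n + 1 : ℕ) : ℤ) * Q.ord x := mul_nonneg (by positivity) this
        omega
    have hnmem : x ^ (n + 1) ∉ L (Finsupp.single P (n : ℤ) : Divisor k K) := by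
      intro h
      have := h P
      rw [pl_val_le_exp_iff P (pow_ne_zero _ hx0), pl_ord_pow, Finsupp.single_eq_same, hP] at this
      push_cast at this
      omega
    have hlt : L (Finsupp.single P (n : ℤ) : Divisor k K) <
        L (Finsupp.single P ((n + 1 : ℕ) : ℤ) : Divisor k K) :=
      lt_of_le_of_ne (L_mono hle) (fun h => hnmem (h ▸ hmem))
    haveI := L_finite hK (Finsupp.single P ((n + 1 : ℕ) : ℤ) : Divisor k K)
    have := Submodule.finrank_lt_finrank_of_lt hlt
    unfold ell at ih ⊢
    omega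

theorem genus_eq_zero_of_adjoin_eq_top (hK : FunFld.IsFunctionField k K) {x : K}
    (hx : k⟮x⟯ = ⊤) : genus k K = 0 := by
  obtain ⟨P, hPdeg, hP, hQ⟩ := exists_simple_pole_of_adjoin_eq_top hK hx
  set n : ℕ := 2 * genus k K with hn
  have h1 := ell_single_ge hK hP hQ n
  have h2 := ell_eq_of_deg_ge hK (Finsupp.single P (n : ℤ) : Divisor k K) (by
    rw [deg_single, hPdeg, hn]; push_cast; omega)
  rw [deg_single, hPdeg] at h2
  have h3 : ((n + 1 : ℕ) : ℤ) ≤ ell (Finsupp.single P (n : ℤ) : Divisor k K) := by exact_mod_cast h1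
  push_cast at h3 h2
  have : (genus k K : ℤ) ≤ 0 := by omega
  have h4 : (0 : ℤ) ≤ genus k K := by positivity
  omega

theorem exists_adjoin_eq_top_of_genus_zero (hK : FunFld.IsFunctionField k K)
    (hg : genus k K = 0) {P : Place k K} (hP : P.deg = 1) : ∃ x : K, k⟮x⟯ = ⊤ := by
  classical
  have h1 := ell_eq_of_deg_ge hK (Finsupp.single P (1 : ℤ) : Divisor k K) (by
    rw [deg_single, hP, hg]; norm_num)
  rw [deg_single, hP, hg] at h1
  have h2 : ell (Finsupp.single P (1 : ℤ) : Divisor k K) = 2 := by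
    have : (ell (Finsupp.single P (1 : ℤ) : Divisor k K) : ℤ) = 2 := by rw [h1]; norm_num
    exact_mod_cast this
  -- find a nonconstant element
  have h0le : (0 : Divisor k K) ≤ Finsupp.single P 1 := by
    intro Q
    by_cases h : Q = P
    · subst h; simp
    · rw [Finsupp.single_apply, if_neg (Ne.symm h)]; rfl
  have hlt : L (0 : Divisor k K) < L (Finsupp.single P (1 : ℤ) : Divisor k K) := by
    refine lt_of_le_of_ne (L_mono h0le) (fun h => ?_)
    have := (L_zero_finite hK).2
    rw [h] at this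
    unfold ell at h2
    omega
  obtain ⟨x, hx, hxn⟩ := SetLike.exists_of_lt hlt
  have hxk : x ∉ Set.range (algebraMap k K) := by
    rintro ⟨c, rfl⟩
    apply hxn
    rw [L_zero_eq hK, Submodule.mem_one]
    exact ⟨c, rfl⟩
  have hxt := (ff_transcendental_iff hK).mpr hxk
  have hx0 : x ≠ 0 := by
    rintro rfl; exact hxt isAlgebraic_zero
  have hQ : ∀ Q : Place k K, Q ≠ P → 0 ≤ Q.ord x := by
    intro Q hQ
    have := hx Q
    rw [pl_val_le_exp_iff Q hx0, Finsupp.single_apply, if_neg (Ne.symm hQ)] at this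
    omega
  have hPx : P.ord x = -1 := by
    have h3 := hx P
    rw [pl_val_le_exp_iff P hx0, Finsupp.single_eq_same] at h3
    obtain ⟨Q, hQp⟩ := exists_pole hK x hxt
    rw [pl_one_lt_val_iff] at hQp
    by_cases hQP : Q = P
    · subst hQP; omega
    · have := hQ Q hQP; omega
  exact ⟨x, adjoin_eq_top_of_simple_pole hK hP hPx hQ⟩

/-- In positive genus, distinct places of degree one are not linearly equivalent. -/
theorem eq_of_single_sub_single_eq_div (hK : FunFld.IsFunctionField k K) (hg : 0 < genus k K)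
    {P P' : Place k K} (hP' : P'.deg = 1) {x : K}
    (h : (Finsupp.single P 1 - Finsupp.single P' 1 : Divisor k K) = FunFld.div k x) : P = P' := by
  classical
  by_contra hne
  have hPx : P'.ord x = -1 := by
    have := congrArg (fun D : Divisor k K => D P') h
    simp only [Finsupp.sub_apply, Finsupp.single_eq_same] at this
    rw [div_apply hK, Finsupp.single_apply, if_neg hne] at this
    omega
  have hQ : ∀ Q : Place k K, Q ≠ P' → 0 ≤ Q.ord x := by
    intro Q hQ
    have := congrArg (fun D : Divisor k K => D Q) h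
    simp only [Finsupp.sub_apply] at this
    rw [div_apply hK, Finsupp.single_apply, Finsupp.single_apply, if_neg (Ne.symm hQ)] at this
    split_ifs at this <;> omega
  have := genus_eq_zero_of_adjoin_eq_top hK (adjoin_eq_top_of_simple_pole hK hP' hPx hQ)
  omega

end Groth.Agent.H55
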