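import Groth.Agent.H55.FFArtin
import Groth.Agent.H55.FFHyper5
import Groth.Agent.H55.FFCons
import Groth.Agent.H55.FFRR
import Mathlib

/-!
The genus of an Artin–Schreier curve `y² + y = f(x)` in characteristic two.
-/

set_option autoImplicit false

namespace Groth.Agent.H55

open FunFld WithZero Polynomial IntermediateField

section RatFuncFF

variable {k : Type*} [Field k]

theorem isFunctionField_ratFunc : FunFld.IsFunctionField k (RatFunc k) := by
  refine ⟨isFF1_ratFunc, ?_⟩
  intro z hz
  have hint : IsIntegral k z := hz.isIntegral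
  have hint' : IsIntegral k[X] z := hint.tower_top
  obtain ⟨p, rfl⟩ := IsIntegrallyClosed.isIntegral_iff.mp hint'
  have hp : IsAlgebraic k p := by
    have hinj : Function.Injective (algebraMap k[X] (RatFunc k)) := RatFunc.algebraMap_injective k
    exact (isAlgebraic_algebraMap_iff hinj).mp hz
  by_cases hd : p.natDegree = 0
  · obtain ⟨c, rfl⟩ := Polynomial.natDegree_eq_zero.mp hd
    exact ⟨c, by rw [← Polynomial.algebraMap_eq, ← IsScalarTower.algebraMap_apply]⟩
  · refine absurd hp (Polynomial.transcendental p hd ?_)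
    rw [mem_nonZeroDivisors_iff_ne_zero]
    intro h0
    rw [Polynomial.leadingCoeff_eq_zero] at h0
    rw [h0] at hd
    exact hd Polynomial.natDegree_zero

theorem genus_ratFunc : genus k (RatFunc k) = 0 :=
  genus_eq_zero_of_adjoin_eq_top isFunctionField_ratFunc RatFunc.adjoin_X

theorem ell_ratFunc (E : Divisor k (RatFunc k)) (h : -1 ≤ E.deg) : (ell E : ℤ) = E.deg + 1 := by
  have := ell_eq_of_deg_ge isFunctionField_ratFunc E (by rw [genus_ratFunc]; simpa using h)
  rw [this, genus_ratFunc]; simp

end RatFuncFF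

section AS

variable {k F K : Type*} [Field k] [Field F] [Field K] [Algebra k F] [Algebra F K] [Algebra k K]
  [IsScalarTower k F K]

theorem quad_decomp (hdeg : Module.finrank F K = 2) (y : K)
    (hy : y ∉ Set.range (algebraMap F K)) (z : K) :
    ∃ a b : F, z = algebraMap F K a + algebraMap F K b * y := by
  haveI : FiniteDimensional F K := Module.finite_of_finrank_pos (by rw [hdeg]; norm_num)
  have hli : LinearIndependent F ![(1 : K), y] := by
    rw [LinearIndependent.pair_iff]
    intro s t hst
    rw [Algebra.smul_def, Algebra.smul_def, mul_one] at hst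
    by_cases ht : t = 0
    · subst ht
      rw [map_zero, zero_mul, add_zero] at hst
      exact ⟨(map_eq_zero_iff _ (algebraMap F K).injective).mp hst, rfl⟩
    · exfalso
      apply hy
      refine ⟨-s / t, ?_⟩
      have ht' : algebraMap F K t ≠ 0 := (map_ne_zero_iff _ (algebraMap F K).injective).mpr ht
      rw [map_div₀, map_neg, div_eq_iff ht']
      linear_combination -hst
  have hspan := hli.span_eq_top_of_card_eq_finrank' (by simp [hdeg])
  have hz : z ∈ Submodule.span F (Set.range ![(1 : K), y]) := by rw [hspan]; trivial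
  rw [Matrix.range_cons_cons_empty, Submodule.mem_span_pair] at hz
  obtain ⟨a, b, hab⟩ := hz
  refine ⟨a, b, ?_⟩
  rw [← hab, Algebra.smul_def, Algebra.smul_def, mul_one]

theorem as_sigma (h2 : (2 : K) = 0) (hdeg : Module.finrank F K = 2) [Algebra.IsSeparable F K]
    (y : K) (hy : y ∉ Set.range (algebraMap F K)) (f : F)
    (heq : y ^ 2 + y = algebraMap F K f) : ∃ σ : K ≃ₐ[F] K, σ y = y + 1 := by
  haveI : Algebra.IsQuadraticExtension F K := { finrank_eq_two' := hdeg }
  haveI : IsGalois F K := inferInstance
  have hcard : Nat.card (K ≃ₐ[F] K) = 2 := by rw [IsGalois.card_aut_eq_finrank, hdeg]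
  obtain ⟨σ, hσ1, -⟩ := (Nat.card_eq_two_iff' (1 : K ≃ₐ[F] K)).mp hcard
  refine ⟨σ, ?_⟩
  have h1 : (σ y) ^ 2 + σ y = y ^ 2 + y := by rw [← map_pow, ← map_add, heq, σ.commutes]
  have hprod : (σ y - y) * (σ y - y - 1) = 0 := by
    linear_combination h1 + (y ^ 2 + y - σ y - σ y * y) * h2
  rcases mul_eq_zero.mp hprod with h | h
  · exfalso
    apply hσ1
    have hfix : σ y = y := sub_eq_zero.mp h
    apply AlgEquiv.ext
    intro z
    obtain ⟨a, b, rfl⟩ := quad_decomp hdeg y hy z
    rw [map_add, map_mul, σ.commutes, σ.commutes, hfix, AlgEquiv.one_apply]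
  · linear_combination h

/-- `y` is integral where `f` is. -/
theorem as_val_y_le_one (y : K) (f : F) (heq : y ^ 2 + y = algebraMap F K f)
    (Q : Place k K) (hQf : Q.1 (algebraMap F K f) ≤ 1) : Q.1 y ≤ 1 := by
  by_contra hlt
  rw [not_le] at hlt
  have hlt2 : Q.1 y < Q.1 (y ^ 2) := by
    rw [map_pow]
    have := pow_lt_pow_right₀ hlt (by norm_num : 1 < 2)
    rwa [pow_one] at this
  have hval : Q.1 (y ^ 2 + y) = Q.1 (y ^ 2) := Q.1.map_add_eq_of_lt_left hlt2
  rw [heq] at hval
  rw [hval, map_pow] at hQf
  exact absurd (one_lt_pow₀ hlt two_ne_zero) (not_lt.mpr hQf)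

/-- At a pole of `f`, `v(y)² = v(f)`. -/
theorem as_val_y_sq (y : K) (f : F) (heq : y ^ 2 + y = algebraMap F K f)
    (Q : Place k K) (hQf : 1 < Q.1 (algebraMap F K f)) : Q.1 y ^ 2 = Q.1 (algebraMap F K f) := by
  have hPy : 1 < Q.1 y := by
    by_contra hle
    rw [not_lt] at hle
    have h3 : Q.1 (y ^ 2 + y) ≤ 1 :=
      (Q.1.map_add _ _).trans (max_le (by rw [map_pow]; exact pow_le_one₀ zero_le' hle) hle)
    rw [heq] at h3
    exact absurd hQf (not_lt.mpr h3)
  have hlt2 : Q.1 y < Q.1 (y ^ 2) := by
    rw [map_pow]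
    have := pow_lt_pow_right₀ hPy (by norm_num : 1 < 2)
    rwa [pow_one] at this
  have hval : Q.1 (y ^ 2 + y) = Q.1 (y ^ 2) := Q.1.map_add_eq_of_lt_left hlt2
  rw [heq] at hval
  rw [hval, map_pow]

theorem exp_nat_mul (e : ℕ) (n : ℤ) :
    (exp ((e : ℤ) * n) : WithZero (Multiplicative ℤ)) = exp n ^ e := by
  rw [← exp_nsmul, nsmul_eq_mul]

theorem as_L_conorm (hF : G.IsFF1 k F) (h2 : (2 : K) = 0)
    (hdeg : Module.finrank F K = 2) [Algebra.IsSeparable F K]
    (y : K) (hy : y ∉ Set.range (algebraMap F K)) (f : F)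
    (heq : y ^ 2 + y = algebraMap F K f)
    (hodd : ∀ P : Place k F, P.ord f < 0 → Odd (P.ord f))
    (D₀ : Divisor k F)
    (hD₀ : ∀ P : Place k F, D₀ P = if P.ord f < 0 then (1 - P.ord f) / 2 else 0)
    (E : Divisor k F) :
    ∃ Φ : (L E × L (E - D₀)) →ₗ[k] K, Function.Injective Φ ∧
      LinearMap.range Φ = L (conorm K E) := by
  classical
  haveI : FiniteDimensional F K := Module.finite_of_finrank_pos (by rw [hdeg]; norm_num)
  have hK : G.IsFF1 k K := isFF1_of_finite hF
  have hfin : ∀ P : Place k F, {Q : Place k K | IsOver Q P}.Finite :=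
    fun P => (G.sum_ramIdx_mul_deg (K' := K) hF P).1
  obtain ⟨σ, hσy⟩ := as_sigma h2 hdeg y hy f heq
  have hy0 : y ≠ 0 := fun h => hy ⟨0, by rw [h, map_zero]⟩
  have hinjFK : Function.Injective (algebraMap F K) := (algebraMap F K).injective
  let Φ : (L E × L (E - D₀)) →ₗ[k] K :=
    ((IsScalarTower.toAlgHom k F K).toLinearMap.comp (L E).subtype).coprod
      (((LinearMap.mulRight k y).comp (IsScalarTower.toAlgHom k F K).toLinearMap).comp
        (L (E - D₀)).subtype)
  have hΦ : ∀ p, Φ p = algebraMap F K (p.1 : F) + algebraMap F K (p.2 : F) * y := fun p => rfl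
  -- ramification data
  have hram : ∀ (Q : Place k K) (P : Place k F) (e : ℕ), IsOverWith Q P e →
      (P.ord f < 0 → e = 2 ∧ Q.ord y = P.ord f) ∧ (0 ≤ P.ord f → e = 1 ∧ Q.1 y ≤ 1) := by
    intro Q P e he
    have hAS := artin_schreier_ram hF h2 hdeg y hy f heq P
    constructor
    · intro hneg
      have h3 := ((hAS.1 ⟨hneg, hodd P hneg⟩).2 Q ⟨e, he⟩).1
      have he2 : e = 2 := (isOverWith_unique he h3).2
      subst he2
      refine ⟨rfl, ?_⟩
      have hPf : 1 < P.1 f := (pl_one_lt_val_iff P f).mpr hneg
      have hQf : 1 < Q.1 (algebraMap F K f) := by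
        rw [he f]; exact one_lt_pow₀ hPf two_ne_zero
      have hsq := as_val_y_sq y f heq Q hQf
      have h4 : Q.ord (y ^ 2) = Q.ord (algebraMap F K f) := by
        unfold Place.ord
        rw [map_pow, hsq]
      rw [pl_ord_pow, ord_eq_of_isOverWith he] at h4
      push_cast at h4
      omega
    · intro hnn
      have h3 := hAS.2 hnn Q ⟨e, he⟩
      have he1 : e = 1 := (isOverWith_unique he h3).2
      refine ⟨he1, ?_⟩
      apply as_val_y_le_one y f heq Q
      rw [he f]
      by_cases hf0 : f = 0
      · rw [hf0, map_zero]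
        exact pow_le_one₀ zero_le' zero_le'
      · exact pow_le_one₀ zero_le' ((pl_val_le_one_iff P hf0).mpr hnn)
  refine ⟨Φ, ?_, ?_⟩
  · rw [injective_iff_map_eq_zero]
    intro p hp
    rw [hΦ] at hp
    have hb : (p.2 : F) = 0 := by
      by_contra hb0
      apply hy
      refine ⟨-(p.1 : F) / (p.2 : F), ?_⟩
      have hb' : algebraMap F K (p.2 : F) ≠ 0 := (map_ne_zero_iff _ hinjFK).mpr hb0
      rw [map_div₀, map_neg, div_eq_iff hb']
      linear_combination -hp
    have ha : (p.1 : F) = 0 := by
      rw [hb, map_zero, zero_mul, add_zero] at hp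
      exact (map_eq_zero_iff _ hinjFK).mp hp
    exact Prod.ext (Subtype.ext ha) (Subtype.ext hb)
  · apply le_antisymm
    · rintro _ ⟨p, rfl⟩
      rw [hΦ]
      intro Q
      obtain ⟨P, e, he⟩ := exists_place_under hF Q
      rw [conorm_apply' hfin E he]
      have ha : P.1 (p.1 : F) ≤ exp (E P) := p.1.2 P
      have hb : P.1 (p.2 : F) ≤ exp ((E - D₀) P) := p.2.2 P
      obtain ⟨hr1, hr2⟩ := hram Q P e he
      refine (Q.1.map_add _ _).trans (max_le ?_ ?_)
      · rw [he, exp_nat_mul]
        exact pow_le_pow_left₀ zero_le' ha e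
      · by_cases hneg : P.ord f < 0
        · obtain ⟨he2, hQy⟩ := hr1 hneg
          subst he2
          by_cases hb0 : (p.2 : F) = 0
          · rw [hb0, map_zero, zero_mul, map_zero]; exact zero_le'
          · have hB0 : algebraMap F K (p.2 : F) ≠ 0 := (map_ne_zero_iff _ hinjFK).mpr hb0
            rw [pl_val_le_exp_iff Q (mul_ne_zero hB0 hy0), pl_ord_mul Q hB0 hy0,
              ord_eq_of_isOverWith he, hQy]
            rw [pl_val_le_exp_iff P hb0, Finsupp.sub_apply, hD₀ P, if_pos hneg] at hb
            obtain ⟨c, hc⟩ := hodd P hneg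
            push_cast
            omega
        · rw [not_lt] at hneg
          obtain ⟨he1, hQy⟩ := hr2 hneg
          subst he1
          rw [Finsupp.sub_apply, hD₀ P, if_neg (not_lt.mpr hneg), sub_zero] at hb
          rw [map_mul, he, pow_one, Nat.cast_one, one_mul]
          calc P.1 (p.2 : F) * Q.1 y ≤ exp (E P) * 1 := mul_le_mul' hb hQy
            _ = exp (E P) := mul_one _
    · intro z hz
      obtain ⟨a, b, rfl⟩ := quad_decomp hdeg y hy z
      have hσz : σ (algebraMap F K a + algebraMap F K b * y) =
          (algebraMap F K a + algebraMap F K b * y) + algebraMap F K b := by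
        rw [map_add, map_mul, σ.commutes, σ.commutes, hσy]; ring
      have key : ∀ P : Place k F, P.1 a ≤ exp (E P) ∧ P.1 b ≤ exp ((E - D₀) P) := by
        intro P
        obtain ⟨Q, e, he⟩ := exists_place_over (K' := K) hF P
        have hQz := hz Q
        rw [conorm_apply' hfin E he] at hQz
        obtain ⟨hr1, hr2⟩ := hram Q P e he
        by_cases hneg : P.ord f < 0
        · obtain ⟨he2, hQy⟩ := hr1 hneg
          subst he2
          obtain ⟨c, hc⟩ := hodd P hneg
          have hboth : Q.1 (algebraMap F K a) ≤ exp (((2 : ℕ) : ℤ) * E P) ∧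
              Q.1 (algebraMap F K b * y) ≤ exp (((2 : ℕ) : ℤ) * E P) := by
            by_cases hne : Q.1 (algebraMap F K a) = Q.1 (algebraMap F K b * y)
            · by_cases ha0 : a = 0
              · rw [← hne, ha0, map_zero, map_zero]
                exact ⟨zero_le', zero_le'⟩
              · by_cases hb0 : b = 0
                · rw [hne, hb0, map_zero, zero_mul, map_zero]
                  exact ⟨zero_le', zero_le'⟩
                · exfalso
                  have hA0 : algebraMap F K a ≠ 0 := (map_ne_zero_iff _ hinjFK).mpr ha0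
                  have hB0 : algebraMap F K b ≠ 0 := (map_ne_zero_iff _ hinjFK).mpr hb0
                  have h5 : Q.ord (algebraMap F K a) = Q.ord (algebraMap F K b * y) := by
                    unfold Place.ord; rw [hne]
                  rw [pl_ord_mul Q hB0 hy0, ord_eq_of_isOverWith he, ord_eq_of_isOverWith he,
                    hQy] at h5
                  push_cast at h5
                  omega
            · have h6 := Valuation.map_add_of_distinct_val Q.1 hne
              rw [h6] at hQz
              exact ⟨(le_max_left _ _).trans hQz, (le_max_right _ _).trans hQz⟩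
          constructor
          · by_cases ha0 : a = 0
            · rw [ha0, map_zero]; exact zero_le'
            · have hA0 : algebraMap F K a ≠ 0 := (map_ne_zero_iff _ hinjFK).mpr ha0
              have h7 := hboth.1
              rw [pl_val_le_exp_iff Q hA0, ord_eq_of_isOverWith he] at h7
              rw [pl_val_le_exp_iff P ha0]
              push_cast at h7
              omega
          · by_cases hb0 : b = 0
            · rw [hb0, map_zero]; exact zero_le'
            · have hB0 : algebraMap F K b ≠ 0 := (map_ne_zero_iff _ hinjFK).mpr hb0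
              have h7 := hboth.2
              rw [pl_val_le_exp_iff Q (mul_ne_zero hB0 hy0), pl_ord_mul Q hB0 hy0,
                ord_eq_of_isOverWith he, hQy] at h7
              rw [pl_val_le_exp_iff P hb0, Finsupp.sub_apply, hD₀ P, if_pos hneg]
              push_cast at h7
              omega
        · rw [not_lt] at hneg
          obtain ⟨he1, hQy⟩ := hr2 hneg
          subst he1
          have hQ'z := hz (comapGal Q σ)
          rw [conorm_apply' hfin E (comapGal_isOverWith he σ), comapGal_apply, hσz] at hQ'z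
          rw [Nat.cast_one, one_mul] at hQz hQ'z
          have hQb : Q.1 (algebraMap F K b) ≤ exp (E P) := by
            have h8 : algebraMap F K b = (algebraMap F K a + algebraMap F K b * y +
                algebraMap F K b) - (algebraMap F K a + algebraMap F K b * y) := by ring
            rw [h8]
            exact (Valuation.map_sub _ _ _).trans (max_le hQ'z hQz)
          have hPb : P.1 b ≤ exp (E P) := by
            have h9 := he b
            rw [pow_one] at h9
            rw [← h9]; exact hQb
          constructor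
          · have h9 := he a
            rw [pow_one] at h9
            rw [← h9]
            have h8 : algebraMap F K a = (algebraMap F K a + algebraMap F K b * y) -
                algebraMap F K b * y := by ring
            rw [h8]
            refine (Valuation.map_sub _ _ _).trans (max_le hQz ?_)
            rw [map_mul]
            calc Q.1 (algebraMap F K b) * Q.1 y ≤ exp (E P) * 1 := mul_le_mul' hQb hQy
              _ = exp (E P) := mul_one _
          · rw [Finsupp.sub_apply, hD₀ P, if_neg (not_lt.mpr hneg), sub_zero]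
            exact hPb
      exact ⟨(⟨a, fun P => (key P).1⟩, ⟨b, fun P => (key P).2⟩), rfl⟩

theorem as_isSeparable (h2 : (2 : K) = 0) (hdeg : Module.finrank F K = 2)
    (y : K) (hy : y ∉ Set.range (algebraMap F K)) (f : F)
    (heq : y ^ 2 + y = algebraMap F K f) : Algebra.IsSeparable F K := by
  haveI : FiniteDimensional F K := Module.finite_of_finrank_pos (by rw [hdeg]; norm_num)
  have h2F : (2 : F) = 0 := by
    apply (algebraMap F K).injective
    rw [map_ofNat, map_zero]; exact h2
  have hyint : IsIntegral F y := Algebra.IsIntegral.isIntegral y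
  have hyF : y ∉ (algebraMap F K).range := fun h => hy h
  have hmin2 : (minpoly F y).natDegree = 2 := by
    have h1 := (minpoly.two_le_natDegree_iff hyint).mpr hyF
    have h3 := minpoly.natDegree_le (A := F) y
    rw [hdeg] at h3
    omega
  have htop : F⟮y⟯ = ⊤ := by
    apply IntermediateField.eq_of_le_of_finrank_eq le_top
    rw [IntermediateField.adjoin.finrank hyint, hmin2, IntermediateField.finrank_top', hdeg]
  have hpsep : (X ^ 2 + X - C f : F[X]).Separable := by
    rw [Polynomial.separable_def]
    have hder : (X ^ 2 + X - C f : F[X]).derivative = 1 := by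
      rw [derivative_sub, derivative_add, derivative_X_pow, derivative_X, derivative_C]
      have : (C ((2 : ℕ) : F) : F[X]) = 0 := by
        rw [Nat.cast_ofNat, h2F, map_zero]
      rw [this]; simp
    rw [hder]
    exact isCoprime_one_right
  have hsep : IsSeparable F y := by
    have hdvd : minpoly F y ∣ (X ^ 2 + X - C f : F[X]) := by
      apply minpoly.dvd
      rw [map_sub, map_add, map_pow, aeval_X, aeval_C, heq, sub_self]
    exact hpsep.of_dvd hdvd
  haveI h3 : Algebra.IsSeparable F F⟮y⟯ :=
    (IntermediateField.isSeparable_adjoin_simple_iff_isSeparable F K).mpr hsep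
  rw [htop] at h3
  exact Algebra.IsSeparable.of_algHom F (⊤ : IntermediateField F K)
    (IntermediateField.topEquiv (F := F) (E := K)).symm.toAlgHom

theorem as_genus (hFF : FunFld.IsFunctionField k F) (hgF : genus k F = 0)
    (hK : FunFld.IsFunctionField k K) (h2 : (2 : K) = 0)
    (hdeg : Module.finrank F K = 2)
    (y : K) (hy : y ∉ Set.range (algebraMap F K)) (f : F)
    (heq : y ^ 2 + y = algebraMap F K f)
    (hodd : ∀ P : Place k F, FunFld.div k f P < 0 → Odd (FunFld.div k f P)) :
    (genus k K : ℤ) = -1 + ∑ P ∈ (FunFld.div k f).support with FunFld.div k f P < 0,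
      (1 - FunFld.div k f P) / 2 * (P.deg : ℤ) := by
  classical
  haveI : FiniteDimensional F K := Module.finite_of_finrank_pos (by rw [hdeg]; norm_num)
  haveI : Algebra.IsSeparable F K := as_isSeparable h2 hdeg y hy f heq
  have hF : G.IsFF1 k F := G.isFF1_of_isFunctionField hFF
  have hdiv : ∀ P : Place k F, FunFld.div k f P = P.ord f := fun P => div_apply hFF f P
  have hodd' : ∀ P : Place k F, P.ord f < 0 → Odd (P.ord f) := by
    intro P hP
    have := hodd P (by rw [hdiv]; exact hP)
    rwa [hdiv] at this
  obtain ⟨S, hS⟩ : ∃ S : Finset (Place k F),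
      S = (FunFld.div k f).support.filter (fun P => FunFld.div k f P < 0) := ⟨_, rfl⟩
  have hmemS : ∀ P : Place k F, P ∈ S ↔ P.ord f < 0 := by
    intro P
    rw [hS, Finset.mem_filter, Finsupp.mem_support_iff, hdiv]
    constructor
    · exact fun h => h.2
    · exact fun h => ⟨ne_of_lt h, h⟩
  obtain ⟨D₀, hD₀def⟩ : ∃ D₀ : Divisor k F,
      D₀ = ∑ P ∈ S, Finsupp.single P ((1 - FunFld.div k f P) / 2) := ⟨_, rfl⟩
  have hD₀ : ∀ P : Place k F, D₀ P = if P.ord f < 0 then (1 - P.ord f) / 2 else 0 := by
    intro P
    rw [hD₀def, Finsupp.finsetSum_apply]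
    simp only [Finsupp.single_apply]
    rw [Finset.sum_ite_eq' S P (fun P' => (1 - FunFld.div k f P') / 2)]
    simp only [hmemS, hdiv]
  have hdegD₀ : D₀.deg = ∑ P ∈ S, (1 - FunFld.div k f P) / 2 * (P.deg : ℤ) := by
    rw [hD₀def, ← degHom_apply, map_sum]
    apply Finset.sum_congr rfl
    intro P _
    rw [degHom_apply, deg_single]
  rw [← hS, ← hdegD₀]
  -- a place of `F`
  obtain ⟨x, hx, -⟩ := id hF
  obtain ⟨P₁, -⟩ := G.exists_zero hF x hx
  have hd₁ : (1 : ℤ) ≤ P₁.deg := by exact_mod_cast G.deg_pos hF P₁
  obtain ⟨N, hN⟩ : ∃ N : ℕ, N = genus k K + D₀.deg.toNat + 1 := ⟨_, rfl⟩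
  obtain ⟨E, hE⟩ : ∃ E : Divisor k F, E = Finsupp.single P₁ (N : ℤ) := ⟨_, rfl⟩
  have hdegE : E.deg = N * P₁.deg := by rw [hE, deg_single]
  have hNE : (N : ℤ) ≤ E.deg := by
    rw [hdegE]
    exact le_mul_of_one_le_right (by positivity) hd₁
  have hNge : D₀.deg ≤ N := by
    have := Int.self_le_toNat D₀.deg
    rw [hN]; push_cast; omega
  obtain ⟨Φ, hΦinj, hΦrange⟩ := as_L_conorm hF h2 hdeg y hy f heq hodd' D₀ hD₀ E
  haveI := G.L_finite hF E
  haveI := G.L_finite hF (E - D₀)
  have hell : ell (conorm K E) = ell E + ell (E - D₀) := by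
    unfold ell
    rw [← hΦrange, LinearMap.finrank_range_of_inj hΦinj, Module.finrank_prod]
  have hdegC : (conorm K E).deg = 2 * E.deg := by
    rw [deg_conorm_G hF E, hdeg]; norm_num
  have hRRK := ell_eq_of_deg_ge hK (conorm K E) (by rw [hdegC, hN] at *; push_cast at *; omega)
  have hRR1 := ell_eq_of_deg_ge hFF E (by rw [hgF]; push_cast; omega)
  have hRR2 := ell_eq_of_deg_ge hFF (E - D₀) (by rw [hgF, deg_sub]; push_cast; omega)
  rw [hell, hdegC] at hRRK
  rw [hgF] at hRR1 hRR2
  rw [deg_sub] at hRR2
  push_cast at hRRK hRR1 hRR2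
  omega

end AS

end Groth.Agent.H55
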