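import Groth.Agent.H55.ASPlaces
import Groth.Agent.H55.FFProj
import Mathlib

/-!
`H¹(X, O)` of an Artin–Schreier curve `y² + y = f(x)` in characteristic two, via repartitions.
-/

set_option autoImplicit false

namespace Groth.Agent.H55

open FunFld WithZero Polynomial IntermediateField

section PartialFractions

variable {k : Type*} [Field k] [IsAlgClosed k]

/-- Principal part of a rational function at `x = α`. -/
theorem ratfunc_principal_part (α : k) (p : Place k (RatFunc k))
    (hp : p.1 ((RatFunc.X : RatFunc k) - RatFunc.C α) < 1) :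
    ∀ (n : ℕ) (g : RatFunc k), p.1 g ≤ exp (n : ℤ) →
      ∃ h : RatFunc k, p.1 (g - h) ≤ 1 ∧
        ∀ q : Place k (RatFunc k), 1 ≤ q.1 ((RatFunc.X : RatFunc k) - RatFunc.C α) → q.1 h ≤ 1 := by
  have hFF : FunFld.IsFunctionField k (RatFunc k) := isFunctionField_ratFunc
  obtain ⟨t, ht⟩ : ∃ t : RatFunc k, t = (RatFunc.X : RatFunc k) - RatFunc.C α := ⟨_, rfl⟩
  rw [← ht] at hp ⊢
  have ht0 : t ≠ 0 := by
    rw [ht, ← ratfunc_X_sub_C_eq]
    exact (map_ne_zero_iff _ (RatFunc.algebraMap_injective k)).mpr (Polynomial.X_sub_C_ne_zero α)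
  have hpt : p.1 t = exp (-1 : ℤ) := by
    have h1 := ratfunc_ord_X_sub_C p α (ht ▸ hp)
    rw [← ht] at h1
    rw [pl_val_eq_exp_neg_ord p ht0, h1]
  intro n
  induction n with
  | zero =>
    intro g hg
    refine ⟨0, ?_, fun q _ => by rw [map_zero]; exact zero_le'⟩
    rw [sub_zero]
    simpa using hg
  | succ n ih =>
    intro g hg
    have hu : p.1 (g * t ^ (n + 1)) ≤ 1 := by
      rw [map_mul, map_pow, hpt, ← exp_nsmul]
      calc p.1 g * exp ((n + 1) • (-1 : ℤ)) ≤ exp ((n + 1 : ℕ) : ℤ) * exp ((n + 1) • (-1 : ℤ)) :=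
            mul_le_mul' hg le_rfl
        _ = 1 := by
            rw [← exp_add, ← exp_zero]
            congr 1
            simp
    obtain ⟨c, hc⟩ := exists_const_sub_lt_one hFF p hu
    rw [zm0_lt_one_iff] at hc
    obtain ⟨g', hg'⟩ : ∃ g' : RatFunc k,
        g' = (g * t ^ (n + 1) - algebraMap k (RatFunc k) c) * (t ^ (n + 1))⁻¹ := ⟨_, rfl⟩
    have hg'val : p.1 g' ≤ exp (n : ℤ) := by
      rw [hg', map_mul, map_inv₀, map_pow, hpt, ← exp_nsmul, ← exp_neg]
      calc p.1 (g * t ^ (n + 1) - algebraMap k (RatFunc k) c) * exp (-((n + 1) • (-1 : ℤ)))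
          ≤ exp (-1 : ℤ) * exp (-((n + 1) • (-1 : ℤ))) := mul_le_mul' hc le_rfl
        _ = exp (n : ℤ) := by
            rw [← exp_add]
            congr 1
            simp
    obtain ⟨h', hh'1, hh'2⟩ := ih g' hg'val
    refine ⟨h' + algebraMap k (RatFunc k) c * (t ^ (n + 1))⁻¹, ?_, ?_⟩
    · have e1 : g - (h' + algebraMap k (RatFunc k) c * (t ^ (n + 1))⁻¹) = g' - h' := by
        rw [hg']
        field_simp
        ring
      rw [e1]; exact hh'1
    · intro q hq
      refine (q.1.map_add _ _).trans (max_le (hh'2 q hq) ?_)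
      rw [map_mul, map_inv₀, map_pow]
      have h1 : (q.1 t ^ (n + 1))⁻¹ ≤ 1 := inv_le_one_of_one_le₀ (one_le_pow₀ hq)
      calc q.1 (algebraMap k (RatFunc k) c) * (q.1 t ^ (n + 1))⁻¹ ≤ 1 * 1 :=
            mul_le_mul' (q.2.1 c) h1
        _ = 1 := one_mul _

end PartialFractions

section W

variable {k K : Type*} [Field k] [IsAlgClosed k] [Field K] [Algebra k K] [Algebra (RatFunc k) K]
  [IsScalarTower k (RatFunc k) K]

variable {y : K} {f : RatFunc k} {B : Finset k} {d : k → ℕ}

theorem exists_exp_bound {F : Type*} [Field F] [Algebra k F] (p : Place k F) (g : F) :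
    ∃ n : ℕ, p.1 g ≤ exp (n : ℤ) := by
  by_cases hg : g = 0
  · exact ⟨0, by rw [hg, map_zero]; exact zero_le'⟩
  · refine ⟨(-p.ord g).toNat, ?_⟩
    rw [pl_val_le_exp_iff p hg]
    have := Int.self_le_toNat (-p.ord g)
    omega

/-- The repartition supported at the place above `x = α` with a component from `k(x)` is
trivial in `H¹`. -/
theorem ASData.single_ratfunc_mem_W [DecidableEq (Place k K)] (D : ASData y f B d)
    (Pα : Place k K) {α : k} (hα : α ∈ B)
    (hPα : Pα.1 (algebraMap (RatFunc k) K RatFunc.X - algebraMap k K α) < 1) (g₀ : RatFunc k) :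
    (Pi.single Pα (algebraMap (RatFunc k) K g₀) : Place k K → K) ∈
      (AD (0 : Divisor k K) ⊔ LinearMap.range (diag k K)) := by
  have hF : G.IsFF1 k (RatFunc k) := isFF1_ratFunc
  haveI : FiniteDimensional (RatFunc k) K :=
    Module.finite_of_finrank_pos (by rw [D.hdeg]; norm_num)
  obtain ⟨-, -, p, he, hp⟩ := D.fin_pole Pα hα hPα
  obtain ⟨n, hn⟩ := exists_exp_bound p g₀
  obtain ⟨h₀, hh1, hh2⟩ := ratfunc_principal_part α p hp n g₀ hn
  have hr : (Pi.single Pα (algebraMap (RatFunc k) K g₀) : Place k K → K) -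
      diag k K (algebraMap (RatFunc k) K h₀) ∈ AD (0 : Divisor k K) := by
    intro P
    rw [Finsupp.coe_zero, Pi.zero_apply, exp_zero]
    by_cases hP : P = Pα
    · subst hP
      rw [Pi.sub_apply, Pi.single_eq_same]
      change P.1 (algebraMap (RatFunc k) K g₀ - algebraMap (RatFunc k) K h₀) ≤ 1
      rw [← map_sub, he]
      exact pow_le_one₀ zero_le' hh1
    · rw [Pi.sub_apply, Pi.single_eq_of_ne hP, zero_sub, Valuation.map_neg]
      change P.1 (algebraMap (RatFunc k) K h₀) ≤ 1
      obtain ⟨q, e, heq'⟩ := exists_place_under hF P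
      rw [heq']
      apply pow_le_one₀ zero_le'
      apply hh2
      by_contra hcon
      rw [not_le] at hcon
      apply hP
      apply D.fin_pole_unique P Pα hα _ hPα
      rw [← algebraMap_X_sub_C, heq']
      exact pow_lt_one₀ zero_le' hcon (isOverWith_pos heq').ne'
  have := Submodule.add_mem_sup hr (LinearMap.mem_range_self (diag k K)
    (algebraMap (RatFunc k) K h₀))
  rwa [sub_add_cancel] at this

end W

end Groth.Agent.H55
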