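import Groth.Agent.H55.ASH1
import Groth.Agent.H55.FFAdele
import Groth.Agent.H55.FFCons2
import Mathlib

/-!
Linear independence of the explicit classes in `H¹(X, O)` of an Artin–Schreier curve.
-/

set_option autoImplicit false

namespace Groth.Agent.H55

open FunFld WithZero Polynomial IntermediateField

section Poly

variable {k F : Type*} [Field k] [Field F] [Algebra k F]

/-- A polynomial of degree `< n` in a uniformizer `t` whose value has order `≥ n` vanishes. -/
theorem poly_eq_zero_of_val_le (p : Place k F) {t : F} (ht : p.1 t = exp (-1 : ℤ)) :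
    ∀ (n : ℕ) (q : k[X]), (∀ m : ℕ, n ≤ m → q.coeff m = 0) →
      p.1 (aeval t q) ≤ exp (-(n : ℤ)) → q = 0 := by
  intro n
  induction n with
  | zero =>
    intro q hq _
    ext m
    rw [hq m (Nat.zero_le m), coeff_zero]
  | succ n ih =>
    intro q hq hv
    by_contra hq0
    have ht1 : p.1 t < 1 := by rw [ht, ← exp_zero, exp_lt_exp]; norm_num
    have hint : ∀ r : k[X], p.1 (aeval t r) ≤ 1 := fun r => val_aeval_le_one p ht1.le r
    have hdecomp : aeval t q = aeval t q.divX * t + algebraMap k F (q.coeff 0) := by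
      conv_lhs => rw [← Polynomial.divX_mul_X_add q]
      rw [map_add, map_mul, aeval_X, aeval_C]
    have hc : q.coeff 0 = 0 := by
      by_contra hc0
      have h1 : p.1 (algebraMap k F (q.coeff 0)) = 1 := pl_val_const p hc0
      have h2 : p.1 (aeval t q.divX * t) < 1 := by
        rw [map_mul]
        calc p.1 (aeval t q.divX) * p.1 t ≤ 1 * p.1 t := mul_le_mul' (hint _) le_rfl
          _ = p.1 t := one_mul _
          _ < 1 := ht1
      have h3 : p.1 (aeval t q) = 1 := by
        rw [hdecomp, Valuation.map_add_eq_of_lt_right _ (by rw [h1]; exact h2), h1]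
      rw [h3, ← exp_zero, exp_le_exp] at hv
      have : (0 : ℤ) ≤ (n : ℤ) := Int.natCast_nonneg n
      push_cast at hv
      omega
    rw [hc, map_zero, add_zero] at hdecomp
    have hdiv : q.divX = 0 := by
      apply ih
      · intro m hm
        rw [Polynomial.coeff_divX]
        exact hq (m + 1) (by omega)
      · rw [hdecomp, map_mul, ht] at hv
        have h5 : p.1 (aeval t q.divX) * exp (-1 : ℤ) ≤ exp (-(n : ℤ)) * exp (-1 : ℤ) := by
          rw [← exp_add]
          have : -(n : ℤ) + -1 = -((n + 1 : ℕ) : ℤ) := by push_cast; ring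
          rw [this]; exact hv
        exact (mul_le_mul_iff_left₀ (by simp : (0 : WithZero (Multiplicative ℤ)) < exp (-1 : ℤ))).mp h5
    apply hq0
    rw [← Polynomial.divX_mul_X_add q, hdiv, hc]
    simp

end Poly

section Indep

variable {k K : Type*} [Field k] [IsAlgClosed k] [Field K] [Algebra k K] [Algebra (RatFunc k) K]
  [IsScalarTower k (RatFunc k) K]

variable {y : K} {f : RatFunc k} {B : Finset k} {d : k → ℕ}

theorem sum_single_apply [DecidableEq (Place k K)] (B : Finset k) (n : k → ℕ)
    (Pl : k → Place k K) (γ : k → ℕ → k) (y : K) (t : k → K) (P : Place k K) :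
    (∑ β ∈ B, ∑ j ∈ Finset.range (n β),
      γ β j • (Pi.single (Pl β) (y * t β ^ j) : Place k K → K)) P =
      ∑ β ∈ B, if P = Pl β then
        (∑ j ∈ Finset.range (n β), algebraMap k K (γ β j) * t β ^ j) * y else 0 := by
  rw [Finset.sum_apply]
  apply Finset.sum_congr rfl
  intro β _
  rw [Finset.sum_apply]
  split_ifs with h
  · subst h
    rw [Finset.sum_mul]
    apply Finset.sum_congr rfl
    intro j _
    rw [Pi.smul_apply, Pi.single_eq_same, Algebra.smul_def]
    ring
  · apply Finset.sum_eq_zero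
    intro j _
    rw [Pi.smul_apply, Pi.single_eq_of_ne h, smul_zero]

theorem Pl_injOn (Pl : k → Place k K)
    (hPl : ∀ β ∈ B, (Pl β).1 (algebraMap (RatFunc k) K RatFunc.X - algebraMap k K β) < 1)
    {β β' : k} (hβ : β ∈ B) (hβ' : β' ∈ B) (h : Pl β = Pl β') : β = β' := by
  by_contra hne
  have h1 := hPl β hβ
  have h2 := hPl β' hβ'
  rw [← h] at h2
  have h3 : (Pl β).1 (algebraMap k K (β - β')) < 1 := by
    have e1 : algebraMap k K (β - β') =
        (algebraMap (RatFunc k) K RatFunc.X - algebraMap k K β') -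
          (algebraMap (RatFunc k) K RatFunc.X - algebraMap k K β) := by
      rw [map_sub]; ring
    rw [e1]
    exact lt_of_le_of_lt (Valuation.map_sub _ _ _) (max_lt h2 h1)
  rw [pl_val_const (Pl β) (sub_ne_zero.mpr hne)] at h3
  exact lt_irrefl _ h3

theorem ASData.indep_core [DecidableEq (Place k K)] (D : ASData y f B d)
    (Pl : k → Place k K)
    (hPl : ∀ β ∈ B, (Pl β).1 (algebraMap (RatFunc k) K RatFunc.X - algebraMap k K β) < 1)
    (γ : k → ℕ → k)
    (hmem : (∑ β ∈ B, ∑ j ∈ Finset.range ((d β + 1) / 2),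
      γ β j • (Pi.single (Pl β)
        (y * (algebraMap (RatFunc k) K RatFunc.X - algebraMap k K β) ^ j) : Place k K → K)) ∈
      AD (0 : Divisor k K) ⊔ LinearMap.range (diag k K)) :
    ∃ b₀ : k, ∀ β ∈ B, ∀ j, j < (d β + 1) / 2 → γ β j = if j = 0 then b₀ else 0 := by
  haveI := D.hsep
  have hF : G.IsFF1 k (RatFunc k) := isFF1_ratFunc
  have hFF : FunFld.IsFunctionField k (RatFunc k) := isFunctionField_ratFunc
  haveI : FiniteDimensional (RatFunc k) K :=
    Module.finite_of_finrank_pos (by rw [D.hdeg]; norm_num)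
  have hy0 : y ≠ 0 := D.y_ne_zero
  have hinjFK : Function.Injective (algebraMap (RatFunc k) K) := (algebraMap (RatFunc k) K).injective
  obtain ⟨r, hr, _, ⟨h, rfl⟩, hsum⟩ := Submodule.mem_sup.mp hmem
  have hrP : ∀ P : Place k K, P.1 (r P) ≤ 1 := by
    intro P
    have := hr P
    rwa [Finsupp.coe_zero, Pi.zero_apply, exp_zero] at this
  -- polynomials
  obtain ⟨q, hq⟩ : ∃ q : k → k[X], q = fun β =>
      ∑ j ∈ Finset.range ((d β + 1) / 2), C (γ β j) * X ^ j := ⟨_, rfl⟩
  have hqcoeff : ∀ β j, (q β).coeff j = if j < (d β + 1) / 2 then γ β j else 0 := by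
    intro β j
    rw [hq]
    simp only [finset_sum_coeff, coeff_C_mul, coeff_X_pow]
    split_ifs with hj
    · rw [Finset.sum_eq_single j]
      · simp
      · intro i _ hij; rw [if_neg (Ne.symm hij), mul_zero]
      · intro hnm; exact absurd (Finset.mem_range.mpr hj) hnm
    · apply Finset.sum_eq_zero
      intro i hi
      rw [Finset.mem_range] at hi
      rw [if_neg (by omega), mul_zero]
  obtain ⟨U, hU⟩ : ∃ U : k → RatFunc k, U = fun β =>
      aeval ((RatFunc.X : RatFunc k) - RatFunc.C β) (q β) := ⟨_, rfl⟩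
  have hUK : ∀ β, algebraMap (RatFunc k) K (U β) =
      ∑ j ∈ Finset.range ((d β + 1) / 2), algebraMap k K (γ β j) *
        (algebraMap (RatFunc k) K RatFunc.X - algebraMap k K β) ^ j := by
    intro β
    rw [hU]
    simp only
    rw [← Polynomial.aeval_algebraMap_apply, algebraMap_X_sub_C, hq]
    simp only [map_sum, map_mul, aeval_C, map_pow, aeval_X]
  -- evaluation of the sum
  have hevalα : ∀ α ∈ B, r (Pl α) = algebraMap (RatFunc k) K (U α) * y - h := by
    intro α hα
    have h1 := congrFun hsum (Pl α)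
    rw [Pi.add_apply, diag_apply, sum_single_apply B (fun β => (d β + 1) / 2) Pl γ y
      (fun β => algebraMap (RatFunc k) K RatFunc.X - algebraMap k K β)] at h1
    rw [Finset.sum_eq_single α] at h1
    · rw [if_pos rfl, ← hUK] at h1
      rw [← h1]; ring
    · intro β hβ hne
      rw [if_neg]
      intro hh
      exact hne (Pl_injOn Pl hPl hβ hα hh.symm)
    · intro hnm; exact absurd hα hnm
  have heval0 : ∀ P : Place k K, (∀ β ∈ B, P ≠ Pl β) → r P = -h := by
    intro P hP
    have h1 := congrFun hsum P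
    rw [Pi.add_apply, diag_apply, sum_single_apply B (fun β => (d β + 1) / 2) Pl γ y
      (fun β => algebraMap (RatFunc k) K RatFunc.X - algebraMap k K β)] at h1
    rw [Finset.sum_eq_zero (fun β hβ => if_neg (hP β hβ))] at h1
    rw [eq_neg_iff_add_eq_zero]; exact h1
  obtain ⟨a, b, hab⟩ := quad_decomp D.hdeg y D.hy h
  obtain ⟨σ, hσy⟩ := as_sigma D.h2 D.hdeg y D.hy f D.heq
  have hσh : σ h = h + algebraMap (RatFunc k) K b := by
    rw [hab, map_add, map_mul, σ.commutes, σ.commutes, hσy]; ring
  -- integrality of `b` away from `B`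
  have claimA : ∀ p : Place k (RatFunc k),
      (∀ β ∈ B, 1 ≤ p.1 ((RatFunc.X : RatFunc k) - RatFunc.C β)) → p.1 b ≤ 1 := by
    intro p hp
    obtain ⟨P, e, he⟩ := exists_place_over (K' := K) hF p
    obtain ⟨he1, -⟩ := D.unram P p e he (D.hint p hp)
    subst he1
    have hne : ∀ (P' : Place k K), IsOverWith P' p 1 → ∀ β ∈ B, P' ≠ Pl β := by
      intro P' he' β hβ hcon
      have h1 := hPl β hβ
      rw [← hcon, ← algebraMap_X_sub_C, he', pow_one] at h1
      exact absurd (hp β hβ) (not_le.mpr h1)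
    have h1 : P.1 h ≤ 1 := by
      have := hrP P
      rwa [heval0 P (hne P he), Valuation.map_neg] at this
    have h2 : P.1 (σ h) ≤ 1 := by
      have := hrP (comapGal P σ)
      rwa [heval0 _ (hne _ (comapGal_isOverWith he σ)), Valuation.map_neg, comapGal_apply] at this
    have h3 : P.1 (algebraMap (RatFunc k) K b) ≤ 1 := by
      have e1 : algebraMap (RatFunc k) K b = σ h - h := by rw [hσh]; ring
      rw [e1]
      exact (Valuation.map_sub _ _ _).trans (max_le h2 h1)
    rw [he, pow_one] at h3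
    exact h3
  -- the places above `B`
  have claimB : ∀ α ∈ B, ∀ p : Place k (RatFunc k), IsOverWith (Pl α) p 2 →
      p.1 ((RatFunc.X : RatFunc k) - RatFunc.C α) < 1 →
      p.1 (U α - b) ≤ exp (-(((d α + 1) / 2 : ℕ) : ℤ)) := by
    intro α hα p he hp
    obtain ⟨hordy, -, -⟩ := D.fin_pole (Pl α) hα (hPl α hα)
    obtain ⟨c, hc⟩ := D.hd α hα
    have h1 := hrP (Pl α)
    have e1 : r (Pl α) = algebraMap (RatFunc k) K (U α - b) * y - algebraMap (RatFunc k) K a := by
      rw [hevalα α hα, hab, map_sub]; ring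
    rw [e1] at h1
    by_cases hUb : U α - b = 0
    · rw [hUb, map_zero]; exact zero_le'
    have hUb' : algebraMap (RatFunc k) K (U α - b) ≠ 0 := (map_ne_zero_iff _ hinjFK).mpr hUb
    have hB : (Pl α).1 (algebraMap (RatFunc k) K (U α - b) * y) ≤ 1 := by
      by_cases hne : (Pl α).1 (algebraMap (RatFunc k) K (U α - b) * y) =
          (Pl α).1 (algebraMap (RatFunc k) K a)
      · exfalso
        have ha0 : a ≠ 0 := by
          rintro rfl
          rw [map_zero, map_zero] at hne
          exact (mul_ne_zero hUb' hy0) ((map_eq_zero _).mp hne)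
        have hA0 : algebraMap (RatFunc k) K a ≠ 0 := (map_ne_zero_iff _ hinjFK).mpr ha0
        have h5 : (Pl α).ord (algebraMap (RatFunc k) K (U α - b) * y) =
            (Pl α).ord (algebraMap (RatFunc k) K a) := by
          unfold Place.ord; rw [hne]
        rw [pl_ord_mul _ hUb' hy0, ord_eq_of_isOverWith he, ord_eq_of_isOverWith he, hordy] at h5
        push_cast at h5
        omega
      · rw [sub_eq_add_neg, Valuation.map_add_of_distinct_val _
          (by rwa [Valuation.map_neg]), Valuation.map_neg] at h1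
        exact (le_max_left _ _).trans h1
    rw [pl_val_le_one_iff _ (mul_ne_zero hUb' hy0), pl_ord_mul _ hUb' hy0,
      ord_eq_of_isOverWith he, hordy] at hB
    rw [pl_val_le_exp_iff p hUb]
    push_cast at hB ⊢
    omega
  -- `b` is a constant
  have hbint : ∀ p : Place k (RatFunc k), p.1 b ≤ 1 := by
    intro p
    by_cases hp : ∀ β ∈ B, 1 ≤ p.1 ((RatFunc.X : RatFunc k) - RatFunc.C β)
    · exact claimA p hp
    · push Not at hp
      obtain ⟨α, hα, hpα⟩ := hp
      obtain ⟨-, -, p', he, hp'⟩ := D.fin_pole (Pl α) hα (hPl α hα)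
      have hpp : p = p' := ratfunc_zero_unique p p' α hpα hp'
      subst hpp
      have h1 := claimB α hα p he hpα
      have h2 : p.1 (U α) ≤ 1 := by
        rw [hU]
        exact val_aeval_le_one p hpα.le _
      have e1 : b = U α - (U α - b) := by ring
      rw [e1]
      refine (Valuation.map_sub _ _ _).trans (max_le h2 (h1.trans ?_))
      rw [← exp_zero, exp_le_exp]
      omega
  have hbL : b ∈ L (0 : Divisor k (RatFunc k)) := by
    intro p
    rw [Finsupp.coe_zero, Pi.zero_apply, exp_zero]
    exact hbint p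
  rw [L_zero_eq hFF, Submodule.mem_one] at hbL
  obtain ⟨b₀, hb₀⟩ := hbL
  refine ⟨b₀, ?_⟩
  intro α hα j hj
  obtain ⟨-, -, p, he, hp⟩ := D.fin_pole (Pl α) hα (hPl α hα)
  have h1 := claimB α hα p he hp
  have hpt : p.1 ((RatFunc.X : RatFunc k) - RatFunc.C α) = exp (-1 : ℤ) := by
    have hne0 : (RatFunc.X : RatFunc k) - RatFunc.C α ≠ 0 := by
      rw [← ratfunc_X_sub_C_eq]
      exact (map_ne_zero_iff _ (RatFunc.algebraMap_injective k)).mpr (Polynomial.X_sub_C_ne_zero α)
    rw [pl_val_eq_exp_neg_ord p hne0, ratfunc_ord_X_sub_C p α hp]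
  have e2 : U α - b = aeval ((RatFunc.X : RatFunc k) - RatFunc.C α) (q α - C b₀) := by
    rw [hU, map_sub, aeval_C, hb₀]
  rw [e2] at h1
  have hzero := poly_eq_zero_of_val_le p hpt ((d α + 1) / 2) (q α - C b₀) (by
    intro m hm
    rw [coeff_sub, hqcoeff, if_neg (by omega), coeff_C, if_neg (by omega), sub_zero]) h1
  have h3 := congrArg (fun Q : k[X] => Q.coeff j) hzero
  simp only [coeff_sub, coeff_zero] at h3
  rw [hqcoeff, if_pos hj, coeff_C] at h3
  rw [sub_eq_zero] at h3
  exact h3

end Indep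

end Groth.Agent.H55
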