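import Groth.Agent.H55.ASH1b
import Mathlib

/-!
The genus of an Artin–Schreier curve with finite poles, and a basis of `H¹(X, O)`.
-/

set_option autoImplicit false

namespace Groth.Agent.H55

open FunFld WithZero Polynomial IntermediateField

section Genus

variable {k K : Type*} [Field k] [IsAlgClosed k] [Field K] [Algebra k K] [Algebra (RatFunc k) K]
  [IsScalarTower k (RatFunc k) K]

variable {y : K} {f : RatFunc k} {B : Finset k} {d : k → ℕ}

theorem ratfunc_transcendental_X_sub_C (β : k) :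
    Transcendental k ((RatFunc.X : RatFunc k) - RatFunc.C β) := by
  intro halg
  apply RatFunc.transcendental_X (K := k)
  have h2 : IsAlgebraic k (RatFunc.C β : RatFunc k) := by
    rw [← RatFunc.algebraMap_eq_C]
    exact isAlgebraic_algebraMap β
  have := halg.add h2
  rwa [sub_add_cancel] at this

theorem ASData.genus_eq (D : ASData y f B d) (hK : FunFld.IsFunctionField k K) :
    (genus k K : ℤ) + 1 = ∑ β ∈ B, (((d β + 1) / 2 : ℕ) : ℤ) := by
  classical
  have hF : G.IsFF1 k (RatFunc k) := isFF1_ratFunc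
  have hFF : FunFld.IsFunctionField k (RatFunc k) := isFunctionField_ratFunc
  have hdiv : ∀ P : Place k (RatFunc k), FunFld.div k f P = P.ord f := fun P => div_apply hFF f P
  have hpoleB : ∀ P : Place k (RatFunc k), P.ord f < 0 →
      ∃ β ∈ B, P.1 ((RatFunc.X : RatFunc k) - RatFunc.C β) < 1 := by
    intro P hP
    by_contra hcon
    push Not at hcon
    have h1 := D.hint P hcon
    exact absurd ((pl_one_lt_val_iff P f).mpr hP) (not_lt.mpr h1)
  have hodd : ∀ P : Place k (RatFunc k), FunFld.div k f P < 0 → Odd (FunFld.div k f P) := by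
    intro P hP
    rw [hdiv] at hP ⊢
    obtain ⟨β, hβ, hPβ⟩ := hpoleB P hP
    rw [D.hpole P β hβ hPβ]
    obtain ⟨c, hc⟩ := D.hd β hβ
    exact ⟨-(c : ℤ) - 1, by rw [hc]; push_cast; ring⟩
  have hg := as_genus hFF genus_ratFunc hK D.h2 D.hdeg y D.hy f D.heq hodd
  choose pl hpl using fun β : k => G.exists_zero hF _ (ratfunc_transcendental_X_sub_C β)
  have hplinj : ∀ β ∈ B, ∀ β' ∈ B, pl β = pl β' → β = β' := by
    intro β _ β' _ h
    by_contra hne
    have h1 := hpl β
    have h2 := hpl β'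
    rw [← h] at h2
    have h3 : (pl β).1 (algebraMap k (RatFunc k) (β - β')) < 1 := by
      have e1 : algebraMap k (RatFunc k) (β - β') =
          ((RatFunc.X : RatFunc k) - RatFunc.C β') - ((RatFunc.X : RatFunc k) - RatFunc.C β) := by
        rw [map_sub, RatFunc.algebraMap_eq_C]; ring
      rw [e1]
      exact lt_of_le_of_lt (Valuation.map_sub _ _ _) (max_lt h2 h1)
    rw [pl_val_const (pl β) (sub_ne_zero.mpr hne)] at h3
    exact lt_irrefl _ h3
  have hS : (FunFld.div k f).support.filter (fun P => FunFld.div k f P < 0) = B.image pl := by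
    ext P
    rw [Finset.mem_filter, Finsupp.mem_support_iff, hdiv, Finset.mem_image]
    constructor
    · rintro ⟨-, hP⟩
      obtain ⟨β, hβ, hPβ⟩ := hpoleB P hP
      exact ⟨β, hβ, ratfunc_zero_unique _ _ β (hpl β) hPβ⟩
    · rintro ⟨β, hβ, rfl⟩
      have h1 := D.hpole (pl β) β hβ (hpl β)
      obtain ⟨c, hc⟩ := D.hd β hβ
      have : (pl β).ord f < 0 := by rw [h1]; omega
      exact ⟨ne_of_lt this, this⟩
  rw [hS, Finset.sum_image hplinj] at hg
  rw [hg]
  have hterm : ∀ β ∈ B, (1 - FunFld.div k f (pl β)) / 2 * ((pl β).deg : ℤ) =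
      (((d β + 1) / 2 : ℕ) : ℤ) := by
    intro β hβ
    rw [hdiv, D.hpole (pl β) β hβ (hpl β), deg_eq_one_of_isAlgClosed hFF (pl β)]
    push_cast
    omega
  rw [Finset.sum_congr rfl hterm]
  ring

end Genus

section Basis

variable {k K : Type*} [Field k] [IsAlgClosed k] [Field K] [Algebra k K] [Algebra (RatFunc k) K]
  [IsScalarTower k (RatFunc k) K]

variable {y : K} {f : RatFunc k} {B : Finset k} {d : k → ℕ}

theorem single_mem_adele [DecidableEq (Place k K)] (P : Place k K) (z : K) :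
    (Pi.single P z : Place k K → K) ∈ adele k K := by
  rw [mem_adele]
  refine (Set.finite_singleton P).subset ?_
  intro Q hQ
  by_contra hne
  apply hQ
  rw [Pi.single_eq_of_ne hne, map_zero]
  exact zero_le'

/-- The uniform index set `{(β, j) : β ∈ B, 2j + 1 ≤ d β} \ {(0, 0)}`. -/
noncomputable def asIdx (B : Finset k) (d : k → ℕ) : Finset (Σ _ : k, ℕ) :=
  open Classical in (B.sigma fun β => Finset.range ((d β + 1) / 2)).erase ⟨0, 0⟩

theorem mem_asIdx {B : Finset k} {d : k → ℕ} {τ : Σ _ : k, ℕ} :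
    τ ∈ asIdx B d ↔ τ ≠ ⟨0, 0⟩ ∧ τ.1 ∈ B ∧ τ.2 < (d τ.1 + 1) / 2 := by
  classical
  unfold asIdx
  rw [Finset.mem_erase, Finset.mem_sigma, Finset.mem_range]

/-- The repartition `y (x - β)^j` at `P_β`. -/
noncomputable def asVec [DecidableEq (Place k K)] (Pl : k → Place k K) (y : K)
    (τ : Σ _ : k, ℕ) : Place k K → K :=
  Pi.single (Pl τ.1) (y * (algebraMap (RatFunc k) K RatFunc.X - algebraMap k K τ.1) ^ τ.2)

theorem ASData.asVec_indep [DecidableEq (Place k K)] (D : ASData y f B d) (h0 : (0 : k) ∈ B)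
    (Pl : k → Place k K)
    (hPl : ∀ β ∈ B, (Pl β).1 (algebraMap (RatFunc k) K RatFunc.X - algebraMap k K β) < 1) :
    LinearIndependent k (fun τ : ↥(asIdx B d) =>
      Submodule.mkQ (AD (0 : Divisor k K) ⊔ LinearMap.range (diag k K)) (asVec Pl y τ.1)) := by
  classical
  rw [Fintype.linearIndependent_iff]
  intro c hc
  obtain ⟨γ, hγ⟩ : ∃ γ : k → ℕ → k, γ = fun β j =>
      if h : (⟨β, j⟩ : Σ _ : k, ℕ) ∈ asIdx B d then c ⟨⟨β, j⟩, h⟩ else 0 := ⟨_, rfl⟩
  have hcγ : ∀ τ : ↥(asIdx B d), c τ = γ τ.1.1 τ.1.2 := by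
    intro τ
    rw [hγ]
    simp only
    rw [dif_pos τ.2]
  have hγ00 : γ 0 0 = 0 := by
    rw [hγ]
    simp only
    rw [dif_neg]
    intro h
    exact (mem_asIdx.mp h).1 rfl
  have hsum : ∑ τ : ↥(asIdx B d), c τ • asVec Pl y τ.1 =
      ∑ β ∈ B, ∑ j ∈ Finset.range ((d β + 1) / 2),
        γ β j • (Pi.single (Pl β)
          (y * (algebraMap (RatFunc k) K RatFunc.X - algebraMap k K β) ^ j) : Place k K → K) := by
    rw [Finset.sum_congr rfl (fun τ _ => by rw [hcγ τ])]
    rw [Finset.sum_coe_sort (asIdx B d) (fun τ => γ τ.1 τ.2 • asVec Pl y τ)]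
    unfold asIdx
    rw [Finset.sum_erase _ (by rw [hγ00, zero_smul]), Finset.sum_sigma]
    rfl
  have hmem : (∑ τ : ↥(asIdx B d), c τ • asVec Pl y τ.1) ∈
      AD (0 : Divisor k K) ⊔ LinearMap.range (diag k K) := by
    rw [← Submodule.Quotient.mk_eq_zero, ← Submodule.mkQ_apply, map_sum]
    rw [← hc]
    apply Finset.sum_congr rfl
    intro τ _
    rw [map_smul]
  rw [hsum] at hmem
  obtain ⟨b₀, hb₀⟩ := D.indep_core Pl hPl γ hmem
  obtain ⟨c0, hc0⟩ := D.hd 0 h0
  have hb₀0 : b₀ = 0 := by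
    have := hb₀ 0 h0 0 (by omega)
    rw [if_pos rfl, hγ00] at this
    exact this.symm
  intro τ
  rw [hcγ τ]
  obtain ⟨-, h1, h2⟩ := mem_asIdx.mp τ.2
  rw [hb₀ τ.1.1 h1 τ.1.2 h2, hb₀0]
  simp

theorem ASData.card_asIdx (D : ASData y f B d) (hK : FunFld.IsFunctionField k K)
    (h0 : (0 : k) ∈ B) : (asIdx B d).card = genus k K := by
  classical
  have hg := D.genus_eq hK
  obtain ⟨c0, hc0⟩ := D.hd 0 h0
  have hmem : (⟨0, 0⟩ : Σ _ : k, ℕ) ∈ B.sigma fun β => Finset.range ((d β + 1) / 2) := by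
    rw [Finset.mem_sigma, Finset.mem_range]
    exact ⟨h0, by show 0 < (d 0 + 1) / 2; omega⟩
  unfold asIdx
  rw [Finset.card_erase_of_mem hmem, Finset.card_sigma]
  simp only [Finset.card_range]
  have h1 : ((∑ β ∈ B, (d β + 1) / 2 : ℕ) : ℤ) = ∑ β ∈ B, (((d β + 1) / 2 : ℕ) : ℤ) := by
    push_cast; rfl
  omega

theorem ASData.asVec_span [DecidableEq (Place k K)] (D : ASData y f B d)
    (hK : FunFld.IsFunctionField k K) (h0 : (0 : k) ∈ B)
    (Pl : k → Place k K)
    (hPl : ∀ β ∈ B, (Pl β).1 (algebraMap (RatFunc k) K RatFunc.X - algebraMap k K β) < 1)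
    (a : Place k K → K) (ha : a ∈ adele k K) :
    a ∈ (AD (0 : Divisor k K) ⊔ LinearMap.range (diag k K)) ⊔
      Submodule.span k (Set.range fun τ : ↥(asIdx B d) => asVec Pl y τ.1) := by
  classical
  obtain ⟨W, hW⟩ : ∃ W : Submodule k (Place k K → K),
      W = AD (0 : Divisor k K) ⊔ LinearMap.range (diag k K) := ⟨_, rfl⟩
  rw [← hW]
  obtain ⟨hfin, hrel⟩ := relfr_adele hK (0 : Divisor k K)
  rw [delta_zero hK, sub_zero] at hrel
  have hW' : AD (0 : Divisor k K) ⊔ Kd k K = W := hW.symm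
  rw [hW'] at hfin hrel
  haveI : Module.Finite k (RelQ W (adele k K)) := hfin
  have hfr : Module.finrank k (RelQ W (adele k K)) = genus k K := by
    unfold relfr at hrel
    exact_mod_cast hrel
  let Φ : RelQ W (adele k K) →ₗ[k] (Place k K → K) ⧸ W :=
    Submodule.mapQ _ W (adele k K).subtype le_rfl
  let v' : ↥(asIdx B d) → RelQ W (adele k K) := fun τ =>
    Submodule.Quotient.mk ⟨asVec Pl y τ.1, single_mem_adele _ _⟩
  have hli : LinearIndependent k v' := by
    apply LinearIndependent.of_comp Φ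
    have := D.asVec_indep h0 Pl hPl
    rw [← hW] at this
    exact this
  have hspan : Submodule.span k (Set.range v') = ⊤ := by
    apply hli.span_eq_top_of_card_eq_finrank'
    rw [Fintype.card_coe, D.card_asIdx hK h0, hfr]
  have hmem : (Submodule.Quotient.mk ⟨a, ha⟩ : RelQ W (adele k K)) ∈
      Submodule.span k (Set.range v') := by rw [hspan]; trivial
  obtain ⟨c, hc⟩ := (Submodule.mem_span_range_iff_exists_fun k).mp hmem
  have h1 : (⟨a, ha⟩ : adele k K) - ∑ τ, c τ • (⟨asVec Pl y τ.1, single_mem_adele _ _⟩ : adele k K)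
      ∈ W.comap (adele k K).subtype := by
    rw [← Submodule.Quotient.mk_eq_zero, Submodule.Quotient.mk_sub, ← hc, sub_eq_zero]
    rw [← Submodule.mkQ_apply, map_sum]
    apply Finset.sum_congr rfl
    intro τ _
    rw [map_smul]
    rfl
  rw [Submodule.mem_comap, map_sub, map_sum] at h1
  have h2 : a = (a - ∑ τ, c τ • asVec Pl y τ.1) + ∑ τ, c τ • asVec Pl y τ.1 := by ring
  rw [h2]
  apply Submodule.add_mem_sup
  · convert h1 using 2
    · rfl
    · apply Finset.sum_congr rfl
      intro τ _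
      rw [map_smul]
      rfl
  · apply Submodule.sum_mem
    intro τ _
    exact Submodule.smul_mem _ _ (Submodule.subset_span ⟨τ, rfl⟩)

end Basis

end Groth.Agent.H55
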