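import Groth.Agent.H55.ASGenus
import Mathlib

/-!
Places of an Artin–Schreier curve `y² + y = f(x)` in characteristic two.
-/

set_option autoImplicit false

namespace Groth.Agent.H55

open FunFld WithZero Polynomial IntermediateField

section General

variable {k K : Type*} [Field k] [Field K] [Algebra k K]

theorem pl_ord_zpow (P : Place k K) (x : K) (j : ℤ) : P.ord (x ^ j) = j * P.ord x := by
  obtain ⟨n, rfl | rfl⟩ := Int.eq_nat_or_neg j
  · rw [zpow_natCast, pl_ord_pow]
  · rw [zpow_neg, zpow_natCast, pl_ord_inv, pl_ord_pow]; ring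

theorem val_sub_const_of_one_lt (P : Place k K) {x : K} (hx : 1 < P.1 x) (c : k) :
    P.1 (x - algebraMap k K c) = P.1 x := by
  apply Valuation.map_sub_eq_of_lt_left
  exact lt_of_le_of_lt (P.2.1 c) hx

end General

section AS

variable {k F K : Type*} [Field k] [Field F] [Field K] [Algebra k F] [Algebra F K] [Algebra k K]
  [IsScalarTower k F K]

theorem as_ram (hF : G.IsFF1 k F) (h2 : (2 : K) = 0)
    (hdeg : Module.finrank F K = 2) [Algebra.IsSeparable F K]
    (y : K) (hy : y ∉ Set.range (algebraMap F K)) (f : F)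
    (heq : y ^ 2 + y = algebraMap F K f)
    (Q : Place k K) (P : Place k F) (e : ℕ) (he : IsOverWith Q P e) :
    (P.ord f < 0 → Odd (P.ord f) → e = 2 ∧ Q.ord y = P.ord f) ∧
      (0 ≤ P.ord f → e = 1 ∧ Q.1 y ≤ 1) := by
  have hAS := artin_schreier_ram hF h2 hdeg y hy f heq P
  constructor
  · intro hneg hodd
    have h3 := ((hAS.1 ⟨hneg, hodd⟩).2 Q ⟨e, he⟩).1
    have he2 : e = 2 := (isOverWith_unique he h3).2
    subst he2
    refine ⟨rfl, ?_⟩
    have hPf : 1 < P.1 f := (pl_one_lt_val_iff P f).mpr hneg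
    have hQf : 1 < Q.1 (algebraMap F K f) := by
      rw [he f]; exact one_lt_pow₀ hPf two_ne_zero
    have hsq := as_val_y_sq y f heq Q hQf
    have h4 : Q.ord (y ^ 2) = Q.ord (algebraMap F K f) := by
      unfold Place.ord
      rw [map_pow, hsq]
    rw [pl_ord_pow, ord_eq_of_isOverWith he] at h4
    push_cast at h4
    omega
  · intro hnn
    have h3 := hAS.2 hnn Q ⟨e, he⟩
    have he1 : e = 1 := (isOverWith_unique he h3).2
    refine ⟨he1, ?_⟩
    apply as_val_y_le_one y f heq Q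
    rw [he f]
    by_cases hf0 : f = 0
    · rw [hf0, map_zero]
      exact pow_le_one₀ zero_le' zero_le'
    · exact pow_le_one₀ zero_le' ((pl_val_le_one_iff P hf0).mpr hnn)

theorem val_lt_one_of_isOverWith {Q : Place k K} {P : Place k F} {e : ℕ} (he : IsOverWith Q P e)
    {z : F} (h : Q.1 (algebraMap F K z) < 1) : P.1 z < 1 := by
  by_contra hcon
  rw [not_lt] at hcon
  rw [he z] at h
  exact absurd (one_le_pow₀ hcon) (not_le.mpr h)

theorem one_lt_val_of_isOverWith {Q : Place k K} {P : Place k F} {e : ℕ} (he : IsOverWith Q P e)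
    {z : F} (h : 1 < Q.1 (algebraMap F K z)) : 1 < P.1 z := by
  by_contra hcon
  rw [not_lt] at hcon
  rw [he z] at h
  exact absurd (pow_le_one₀ zero_le' hcon) (not_le.mpr h)

theorem one_le_val_of_isOverWith {Q : Place k K} {P : Place k F} {e : ℕ} (he : IsOverWith Q P e)
    {z : F} (h : 1 ≤ Q.1 (algebraMap F K z)) : 1 ≤ P.1 z := by
  by_contra hcon
  rw [not_le] at hcon
  rw [he z] at h
  have hepos := isOverWith_pos he
  exact absurd (pow_lt_one₀ zero_le' hcon (by omega)) (not_lt.mpr h)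

end AS

section RatFuncZero

variable {k : Type*} [Field k]

theorem ratfunc_X_sub_C_eq (β : k) :
    algebraMap k[X] (RatFunc k) (X - C β) = RatFunc.X - RatFunc.C β := by
  rw [map_sub, RatFunc.algebraMap_X, RatFunc.algebraMap_C]

theorem ratfunc_ord_X_sub_C (p : Place k (RatFunc k)) (β : k)
    (hp : p.1 ((RatFunc.X : RatFunc k) - RatFunc.C β) < 1) :
    p.ord ((RatFunc.X : RatFunc k) - RatFunc.C β) = 1 := by
  rw [← ratfunc_X_sub_C_eq] at hp ⊢
  have h := ratfunc_val_irreducible p (Polynomial.irreducible_X_sub_C β) hp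
  rw [pl_ord_eq_of_val_eq p h]; norm_num

theorem ratfunc_adjoin_X_sub_C (β : k) :
    k⟮(RatFunc.X : RatFunc k) - RatFunc.C β⟯ = ⊤ := by
  rw [eq_top_iff, ← RatFunc.adjoin_X]
  apply IntermediateField.adjoin_le_iff.mpr
  intro z hz
  rw [Set.mem_singleton_iff] at hz
  subst hz
  have h1 : (RatFunc.X : RatFunc k) - RatFunc.C β ∈ k⟮(RatFunc.X : RatFunc k) - RatFunc.C β⟯ :=
    IntermediateField.mem_adjoin_simple_self k _
  have h2 : (RatFunc.C β : RatFunc k) ∈ k⟮(RatFunc.X : RatFunc k) - RatFunc.C β⟯ := by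
    rw [← RatFunc.algebraMap_eq_C]
    exact IntermediateField.algebraMap_mem _ β
  have := add_mem h1 h2
  rwa [sub_add_cancel] at this

theorem ratfunc_zero_unique (p p' : Place k (RatFunc k)) (β : k)
    (hp : p.1 ((RatFunc.X : RatFunc k) - RatFunc.C β) < 1)
    (hp' : p'.1 ((RatFunc.X : RatFunc k) - RatFunc.C β) < 1) : p = p' := by
  classical
  by_contra hne
  have hF : G.IsFF1 k (RatFunc k) := isFF1_ratFunc
  have hx0 : (RatFunc.X : RatFunc k) - RatFunc.C β ≠ 0 := by
    rw [← ratfunc_X_sub_C_eq]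
    exact (map_ne_zero_iff _ (RatFunc.algebraMap_injective k)).mpr (Polynomial.X_sub_C_ne_zero β)
  have h := G.sum_ord_mul_deg_le hF _ hx0 {p, p'} (by
    intro P hP
    rw [Finset.mem_insert, Finset.mem_singleton] at hP
    rcases hP with rfl | rfl
    · exact hp
    · exact hp')
  rw [Finset.sum_pair hne, ratfunc_ord_X_sub_C p β hp, ratfunc_ord_X_sub_C p' β hp',
    ratfunc_adjoin_X_sub_C, IntermediateField.finrank_top] at h
  have h1 : (1 : ℤ) ≤ p.deg := by exact_mod_cast G.deg_pos hF p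
  have h2 : (1 : ℤ) ≤ p'.deg := by exact_mod_cast G.deg_pos hF p'
  push_cast at h
  omega

theorem ratfunc_exists_inf : ∃ p : Place k (RatFunc k), 1 < p.1 (RatFunc.X : RatFunc k) := by
  have hF : G.IsFF1 k (RatFunc k) := isFF1_ratFunc
  have hX : Transcendental k (RatFunc.X : RatFunc k) := RatFunc.transcendental_X
  have hXinv : Transcendental k (RatFunc.X : RatFunc k)⁻¹ := by
    intro halg
    exact hX (by simpa using halg.inv)
  obtain ⟨p, hp⟩ := G.exists_zero hF _ hXinv
  refine ⟨p, ?_⟩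
  rw [map_inv₀] at hp
  by_contra hcon
  rw [not_lt] at hcon
  have hX0 : p.1 (RatFunc.X : RatFunc k) ≠ 0 := by
    rw [Valuation.ne_zero_iff]
    exact RatFunc.X_ne_zero
  have := one_le_inv₀ (lt_of_le_of_ne zero_le' hX0.symm) |>.mpr hcon
  exact absurd hp (not_lt.mpr this)

end RatFuncZero

section ASData

variable {k K : Type*} [Field k] [Field K] [Algebra k K] [Algebra (RatFunc k) K]
  [IsScalarTower k (RatFunc k) K]

/-- The hypotheses on an Artin–Schreier curve `y² + y = f(x)` whose poles are at the finite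
points `x = β`, `β ∈ B`, of odd orders `d β`. -/
structure ASData (y : K) (f : RatFunc k) (B : Finset k) (d : k → ℕ) : Prop where
  h2 : (2 : K) = 0
  hdeg : Module.finrank (RatFunc k) K = 2
  hsep : Algebra.IsSeparable (RatFunc k) K
  hy : y ∉ Set.range (algebraMap (RatFunc k) K)
  heq : y ^ 2 + y = algebraMap (RatFunc k) K f
  hd : ∀ β ∈ B, Odd (d β)
  hpole : ∀ (p : Place k (RatFunc k)) (β : k), β ∈ B →
    p.1 ((RatFunc.X : RatFunc k) - RatFunc.C β) < 1 → p.ord f = -(d β : ℤ)
  hint : ∀ p : Place k (RatFunc k),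
    (∀ β ∈ B, 1 ≤ p.1 ((RatFunc.X : RatFunc k) - RatFunc.C β)) → p.1 f ≤ 1

theorem algebraMap_X_sub_C (β : k) :
    algebraMap (RatFunc k) K ((RatFunc.X : RatFunc k) - RatFunc.C β) =
      algebraMap (RatFunc k) K RatFunc.X - algebraMap k K β := by
  rw [map_sub, ← RatFunc.algebraMap_eq_C, ← IsScalarTower.algebraMap_apply]

theorem xK_sub_ne_zero (β : k) :
    algebraMap (RatFunc k) K RatFunc.X - algebraMap k K β ≠ 0 := by
  rw [← algebraMap_X_sub_C]
  apply (map_ne_zero_iff _ (algebraMap (RatFunc k) K).injective).mpr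
  rw [← ratfunc_X_sub_C_eq]
  exact (map_ne_zero_iff _ (RatFunc.algebraMap_injective k)).mpr (Polynomial.X_sub_C_ne_zero β)

variable {y : K} {f : RatFunc k} {B : Finset k} {d : k → ℕ}

theorem ASData.y_ne_zero (D : ASData y f B d) : y ≠ 0 :=
  fun h => D.hy ⟨0, by rw [h, map_zero]⟩

/-- A place above `x = β`, `β ∈ B`. -/
theorem ASData.fin_pole (D : ASData y f B d) (P : Place k K) {β : k} (hβ : β ∈ B)
    (hP : P.1 (algebraMap (RatFunc k) K RatFunc.X - algebraMap k K β) < 1) :
    P.ord y = -(d β : ℤ) ∧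
      P.ord (algebraMap (RatFunc k) K RatFunc.X - algebraMap k K β) = 2 ∧
      ∃ p : Place k (RatFunc k), IsOverWith P p 2 ∧
        p.1 ((RatFunc.X : RatFunc k) - RatFunc.C β) < 1 := by
  haveI := D.hsep
  have hF : G.IsFF1 k (RatFunc k) := isFF1_ratFunc
  haveI : FiniteDimensional (RatFunc k) K :=
    Module.finite_of_finrank_pos (by rw [D.hdeg]; norm_num)
  obtain ⟨p, e, he⟩ := exists_place_under hF P
  rw [← algebraMap_X_sub_C] at hP ⊢
  have hp : p.1 ((RatFunc.X : RatFunc k) - RatFunc.C β) < 1 := val_lt_one_of_isOverWith he hP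
  have hordf := D.hpole p β hβ hp
  obtain ⟨c, hc⟩ := D.hd β hβ
  have hneg : p.ord f < 0 := by rw [hordf]; omega
  have hoddf : Odd (p.ord f) := by
    rw [hordf]
    exact ⟨-(c : ℤ) - 1, by rw [hc]; push_cast; ring⟩
  obtain ⟨he2, hQy⟩ := (as_ram hF D.h2 D.hdeg y D.hy f D.heq P p e he).1 hneg hoddf
  subst he2
  refine ⟨by rw [hQy, hordf], ?_, p, he, hp⟩
  rw [ord_eq_of_isOverWith he, ratfunc_ord_X_sub_C p β hp]
  norm_num

/-- Places above `x = β` are unique. -/
theorem ASData.fin_pole_unique (D : ASData y f B d) (P P' : Place k K) {β : k} (hβ : β ∈ B)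
    (hP : P.1 (algebraMap (RatFunc k) K RatFunc.X - algebraMap k K β) < 1)
    (hP' : P'.1 (algebraMap (RatFunc k) K RatFunc.X - algebraMap k K β) < 1) : P = P' := by
  haveI := D.hsep
  have hF : G.IsFF1 k (RatFunc k) := isFF1_ratFunc
  obtain ⟨-, -, p, he, hp⟩ := D.fin_pole P hβ hP
  obtain ⟨-, -, p', he', hp'⟩ := D.fin_pole P' hβ hP'
  have hpp : p = p' := ratfunc_zero_unique p p' β hp hp'
  subst hpp
  have hordf := D.hpole p β hβ hp
  obtain ⟨c, hc⟩ := D.hd β hβ
  have hneg : p.ord f < 0 := by rw [hordf]; omega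
  have hoddf : Odd (p.ord f) := by
    rw [hordf]
    exact ⟨-(c : ℤ) - 1, by rw [hc]; push_cast; ring⟩
  have hAS := (artin_schreier_ram hF D.h2 D.hdeg y D.hy f D.heq p).1 ⟨hneg, hoddf⟩
  exact hAS.1.unique ⟨2, he⟩ ⟨2, he'⟩

/-- A place where `f` is integral. -/
theorem ASData.unram (D : ASData y f B d) (P : Place k K) (p : Place k (RatFunc k)) (e : ℕ)
    (he : IsOverWith P p e) (hpf : p.1 f ≤ 1) : e = 1 ∧ P.1 y ≤ 1 := by
  haveI := D.hsep
  have hF : G.IsFF1 k (RatFunc k) := isFF1_ratFunc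
  have hnn : 0 ≤ p.ord f := by
    by_cases hf0 : f = 0
    · rw [hf0, pl_ord_zero]
    · exact (pl_val_le_one_iff p hf0).mp hpf
  exact (as_ram hF D.h2 D.hdeg y D.hy f D.heq P p e he).2 hnn

/-- A place above `x = ∞`. -/
theorem ASData.inf (D : ASData y f B d) (P : Place k K)
    (hP : 1 < P.1 (algebraMap (RatFunc k) K RatFunc.X)) :
    P.1 y ≤ 1 ∧ P.ord (algebraMap (RatFunc k) K RatFunc.X) = -1 := by
  have hF : G.IsFF1 k (RatFunc k) := isFF1_ratFunc
  haveI : FiniteDimensional (RatFunc k) K :=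
    Module.finite_of_finrank_pos (by rw [D.hdeg]; norm_num)
  obtain ⟨p, e, he⟩ := exists_place_under hF P
  have hp : 1 < p.1 (RatFunc.X : RatFunc k) := one_lt_val_of_isOverWith he hP
  have hpf : p.1 f ≤ 1 := by
    apply D.hint
    intro β _
    rw [← RatFunc.algebraMap_eq_C, val_sub_const_of_one_lt p hp]
    exact hp.le
  obtain ⟨he1, hy⟩ := D.unram P p e he hpf
  subst he1
  refine ⟨hy, ?_⟩
  rw [ord_eq_of_isOverWith he, ratfunc_inf_ord_X p ((pl_one_lt_val_iff p _).mp hp)]
  norm_num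

/-- A finite place not above any `β ∈ B`. -/
theorem ASData.other (D : ASData y f B d) (P : Place k K)
    (hB : ∀ β ∈ B, 1 ≤ P.1 (algebraMap (RatFunc k) K RatFunc.X - algebraMap k K β)) :
    P.1 y ≤ 1 := by
  have hF : G.IsFF1 k (RatFunc k) := isFF1_ratFunc
  haveI : FiniteDimensional (RatFunc k) K :=
    Module.finite_of_finrank_pos (by rw [D.hdeg]; norm_num)
  obtain ⟨p, e, he⟩ := exists_place_under hF P
  have hpf : p.1 f ≤ 1 := by
    apply D.hint
    intro β hβ
    have := hB β hβ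
    rw [← algebraMap_X_sub_C] at this
    exact one_le_val_of_isOverWith he this
  exact (D.unram P p e he hpf).2

end ASData

end Groth.Agent.H55
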