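import Mathlib

/-!
(RES) for helper76's S11093 squad: a totally ramified maximal ideal has trivial residue field
extension.
-/

set_option autoImplicit false
set_option linter.style.haveILetI false
universe u

namespace Groth.Agent.H55.ASRes

theorem exists_sub_mem_of_ramificationIdx_eq_finrank (A : Type u) [CommRing A] [IsDomain A]
    [IsPrincipalIdealRing A] (B : Type u) [CommRing B] [IsDomain B] [Algebra A B]
    [Module.Finite A B] [Module.IsTorsionFree A B] (M : Ideal B) [M.IsMaximal]
    (hram : M.ramificationIdx A = Module.finrank A B) (b : B) :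
    ∃ c : A, b - algebraMap A B c ∈ M := by
  obtain ⟨P, hP⟩ : ∃ P : Ideal A, P = M.under A := ⟨_, rfl⟩
  haveI : M.LiesOver P := ⟨hP⟩
  haveI : Algebra.IsIntegral A B := Algebra.IsIntegral.of_finite A B
  haveI : P.IsMaximal := by
    rw [hP]
    exact Ideal.isMaximal_comap_of_isIntegral_of_isMaximal M
  haveI : Module.Free A B := inferInstance
  haveI : Module.Flat A B := inferInstance
  haveI : Fintype (P.primesOver B) := (Algebra.QuasiFinite.finite_primesOver P).fintype
  have hsum := Ideal.sum_ramification_inertia_eq_finrank P B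
  let Mq : P.primesOver B := ⟨M, inferInstance, inferInstance⟩
  have hle : M.ramificationIdx A * M.inertiaDeg A ≤ Module.finrank A B := by
    rw [← hsum]
    exact Finset.single_le_sum
      (f := fun q : P.primesOver B => q.1.ramificationIdx A * q.1.inertiaDeg A)
      (fun _ _ => Nat.zero_le _) (Finset.mem_univ Mq)
  have hpos : 0 < Module.finrank A B := Module.finrank_pos
  have hf1 : M.inertiaDeg A = 1 := by
    have h1 := Ideal.inertiaDeg_pos M A
    rw [hram] at hle
    nlinarith
  rw [Ideal.inertiaDeg_eq_of_isMaximal P M] at hf1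
  letI : Field (A ⧸ P) := Ideal.Quotient.field P
  letI : Field (B ⧸ M) := Ideal.Quotient.field M
  have hbij := (Algebra.finrank_eq_one_iff_bijective_algebraMap (F := A ⧸ P) (E := B ⧸ M)).mp hf1
  obtain ⟨cbar, hc⟩ := hbij.2 (Ideal.Quotient.mk M b)
  obtain ⟨c, rfl⟩ := Ideal.Quotient.mk_surjective cbar
  refine ⟨c, ?_⟩
  rw [Ideal.Quotient.algebraMap_mk_of_liesOver] at hc
  exact Ideal.Quotient.eq.mp hc.symm

end Groth.Agent.H55.ASRes
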