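import Groth.Agent.H55.FFDeg
import Mathlib

/-!
The degree theorem `deg (x)₀ = [K : k(x)]` for a field `K/k` of transcendence degree one that is
finite over `k(x)`, WITHOUT assuming that `k` is algebraically closed in `K`.
The statements and proofs are those of `FFIndep`--`FFDeg`, with the hypothesis weakened.
-/

set_option autoImplicit false

namespace Groth.Agent.H55.G

open FunFld WithZero Polynomial IntermediateField Groth.Agent.H55

/-- A finitely generated extension of transcendence degree one (no condition on constants). -/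
def IsFF1 (k K : Type*) [Field k] [Field K] [Algebra k K] : Prop :=
  ∃ x : K, Transcendental k x ∧ FiniteDimensional k⟮x⟯ K

variable {k K : Type*} [Field k] [Field K] [Algebra k K]

theorem isFF1_of_isFunctionField (hK : FunFld.IsFunctionField k K) : IsFF1 k K := hK.1

theorem ff_finite (hK : IsFF1 k K) {x : K}
    (hx : Transcendental k x) : FiniteDimensional k⟮x⟯ K := by
  obtain ⟨x₁, hx₁, hfin⟩ := hK
  exact finiteDimensional_adjoin_of_transcendental hx₁ hx

/-- Elements algebraic over the constants lie in every valuation ring containing the constants. -/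
theorem vs_mem_of_isAlgebraic (A : ValuationSubring K) (hkA : ∀ c : k, algebraMap k K c ∈ A)
    {y : K} (hy : IsAlgebraic k y) : y ∈ A := by
  letI := vsAlg A hkA
  haveI : IsScalarTower k A K := IsScalarTower.of_algebraMap_eq (fun c => rfl)
  have h1 : IsIntegral A y := hy.isIntegral.tower_top
  obtain ⟨a, ha⟩ := (IsIntegrallyClosed.isIntegral_iff (R := A) (K := K)).mp h1
  rw [← ha]; exact a.2

theorem val_eq_one_of_isAlgebraic (P : Place k K) {y : K} (hy0 : y ≠ 0) (hy : IsAlgebraic k y) :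
    P.1 y = 1 := by
  have hkA : ∀ c : k, algebraMap k K c ∈ P.O :=
    fun c => (P.1.mem_valuationSubring_iff _).mpr (P.2.1 c)
  have h1 : P.1 y ≤ 1 := (P.1.mem_valuationSubring_iff _).mp (vs_mem_of_isAlgebraic P.O hkA hy)
  have h2 : P.1 y⁻¹ ≤ 1 :=
    (P.1.mem_valuationSubring_iff _).mp (vs_mem_of_isAlgebraic P.O hkA hy.inv)
  rw [map_inv₀] at h2
  have hne : P.1 y ≠ 0 := (P.1.ne_zero_iff).mpr hy0
  have h3 : 1 ≤ P.1 y := (inv_le_one₀ (zero_lt_iff.mpr hne)).mp h2
  exact le_antisymm h1 h3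

theorem transcendental_of_val_ne_one (hK : IsFF1 k K) (P : Place k K) {x : K}
    (hx0 : x ≠ 0) (hx : P.1 x ≠ 1) : Transcendental k x :=
  fun h => hx (val_eq_one_of_isAlgebraic P hx0 h)

theorem transcendental_of_val_lt_one (hK : IsFF1 k K) (P : Place k K) {x : K}
    (hx0 : x ≠ 0) (hx : P.1 x < 1) : Transcendental k x :=
  transcendental_of_val_ne_one hK P hx0 hx.ne


/-- The residue field of a place is finite over `k`, of degree at most `[K : k(x)]` for any
nonzero `x` in the maximal ideal. -/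
theorem residue_finite (hK : IsFF1 k K) (P : Place k K) {x : K}
    (hx0 : x ≠ 0) (hx : P.1 x < 1) :
    FiniteDimensional k (IsLocalRing.ResidueField P.O) ∧
      P.deg ≤ Module.finrank k⟮x⟯ K := by
  haveI := ff_finite hK (transcendental_of_val_lt_one hK P hx0 hx)
  have hxA : ∀ a ∈ ball P 0, x * a ∈ ball P 0 := by
    intro a ha
    rw [mem_ball_zero] at ha ⊢
    rw [map_mul]
    exact (mul_le_mul' hx.le ha).trans_eq (one_mul _)
  refine finite_of_mul_mem x hx0 (ball P 0) hxA (resMap P) (resMap_surjective P) ?_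
  intro a ha
  rw [resMap_eq_zero_iff]
  rw [mem_ball_zero] at ha
  change P.1 (x * a) < 1
  rw [map_mul]
  calc P.1 x * P.1 a ≤ P.1 x * 1 := mul_le_mul' le_rfl ha
    _ = P.1 x := mul_one _
    _ < 1 := hx

theorem residue_finiteDimensional (hK : IsFF1 k K) (P : Place k K) :
    FiniteDimensional k (IsLocalRing.ResidueField P.O) := by
  obtain ⟨t, ht0, ht⟩ := pl_exists_val_eq_exp P (-1)
  exact (residue_finite hK P ht0 ((zm0_lt_one_iff _).mpr ht.le)).1

theorem deg_pos (hK : IsFF1 k K) (P : Place k K) : 0 < P.deg := by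
  haveI := residue_finiteDimensional hK P
  exact Module.finrank_pos

section VS

variable (A : ValuationSubring K) (hkA : ∀ c : k, algebraMap k K c ∈ A)

include hkA

theorem vs_transcendental (hK : IsFF1 k K) (y : K) (hy0 : y ≠ 0)
    (hy : y ∈ A.nonunits) : Transcendental k y := by
  intro halg
  have h1 : A.valuation y⁻¹ ≤ 1 :=
    (A.valuation_le_one_iff _).mpr (vs_mem_of_isAlgebraic A hkA halg.inv)
  rw [ValuationSubring.mem_nonunits_iff] at hy
  rw [map_inv₀] at h1
  have hne : A.valuation y ≠ 0 := (A.valuation.ne_zero_iff).mpr hy0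
  have := (inv_le_one₀ (zero_lt_iff.mpr hne)).mp h1
  exact absurd hy (not_lt.mpr this)


theorem vs_isNoetherian_quot (hK : IsFF1 k K) (y : K) (hy0 : y ≠ 0)
    (hy : y ∈ A.nonunits) :
    IsNoetherian A (A ⧸ Ideal.span {(⟨y, A.nonunits_subset hy⟩ : A)}) := by
  letI := vsAlg A hkA
  set y' : A := ⟨y, A.nonunits_subset hy⟩ with hy'
  set I : Ideal A := Ideal.span {y'} with hI
  haveI := ff_finite hK (vs_transcendental A hkA hK y hy0 hy)
  have hxA : ∀ a ∈ vsSub A hkA, y * a ∈ vsSub A hkA :=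
    fun a ha => A.mul_mem _ _ (A.nonunits_subset hy) ha
  let ι : vsSub A hkA →ₗ[k] A :=
    { toFun := fun a => ⟨a.1, a.2⟩
      map_add' := fun a b => rfl
      map_smul' := fun c a => by
        apply Subtype.ext
        simp only [Submodule.coe_smul, Algebra.smul_def, RingHom.id_apply]
        rfl }
  let π : vsSub A hkA →ₗ[k] (A ⧸ I) := (Ideal.Quotient.mkₐ k I).toLinearMap ∘ₗ ι
  have hπs : Function.Surjective π := by
    intro q
    obtain ⟨a, rfl⟩ := Ideal.Quotient.mk_surjective q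
    exact ⟨⟨a.1, a.2⟩, rfl⟩
  have hπ : ∀ a (ha : a ∈ vsSub A hkA), π ⟨y * a, hxA a ha⟩ = 0 := by
    intro a ha
    change Ideal.Quotient.mk I (⟨y * a, hxA a ha⟩ : A) = 0
    rw [Ideal.Quotient.eq_zero_iff_mem]
    have : (⟨y * a, hxA a ha⟩ : A) = y' * ⟨a, ha⟩ := rfl
    rw [this]
    exact Ideal.mul_mem_right _ _ (Ideal.subset_span rfl)
  obtain ⟨hfin, -⟩ := finite_of_mul_mem y hy0 (vsSub A hkA) hxA π hπs hπ
  have hN : IsNoetherian k (A ⧸ I) := inferInstance
  exact isNoetherian_of_tower k hN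

theorem vs_isNoetherianRing (hK : IsFF1 k K) : IsNoetherianRing A := by
  rw [isNoetherianRing_iff_ideal_fg]
  intro J
  by_cases hJ : J = ⊥
  · rw [hJ]; exact Submodule.fg_bot
  obtain ⟨y, hyJ, hy0⟩ := Submodule.exists_mem_ne_zero_of_ne_bot hJ
  by_cases hu : IsUnit y
  · rw [Ideal.eq_top_of_isUnit_mem J hyJ hu]
    exact ⟨{1}, by rw [Finset.coe_singleton, Ideal.span_singleton_one]⟩
  · have hyn : (y : K) ∈ A.nonunits := by
      rw [ValuationSubring.mem_nonunits_iff]
      rcases A.valuation_lt_one_or_eq_one y with h | h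
      · exact h
      · exact absurd ((A.valuation_eq_one_iff y).mpr h) hu
    have hy0' : (y : K) ≠ 0 := fun h => hy0 (Subtype.ext h)
    haveI := vs_isNoetherian_quot A hkA hK (y : K) hy0' hyn
    set I : Ideal A := Ideal.span {(⟨(y : K), A.nonunits_subset hyn⟩ : A)} with hI
    have hyI : I = Ideal.span {y} := rfl
    refine Submodule.fg_of_fg_map_of_fg_inf_ker (Submodule.mkQ I) ?_ ?_
    · exact IsNoetherian.noetherian _
    · rw [Submodule.ker_mkQ]
      have : J ⊓ I = I := by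
        apply inf_eq_right.mpr
        rw [hyI, Ideal.span_singleton_le_iff_mem]
        exact hyJ
      rw [this]
      exact Submodule.fg_span_singleton _

theorem vs_isDVR (hK : IsFF1 k K) (y : K) (hy0 : y ≠ 0)
    (hy : y ∈ A.nonunits) : IsDiscreteValuationRing A := by
  haveI := vs_isNoetherianRing A hkA hK
  have hnf : ¬ IsField A := by
    rw [IsLocalRing.isField_iff_maximalIdeal_eq]
    intro h
    have h1 : (⟨y, A.nonunits_subset hy⟩ : A) ∈ IsLocalRing.maximalIdeal A := by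
      rw [A.valuation_lt_one_iff]; exact hy
    rw [h] at h1
    exact hy0 (congrArg Subtype.val ((Submodule.mem_bot A).mp h1))
  have hV : ValuationRing A := inferInstance
  exact ((IsDiscreteValuationRing.TFAE A hnf).out 0 1).mpr hV

/-- Every valuation subring of a function field that contains the constants and is not the whole
field is the valuation ring of a place. -/
theorem exists_place_of_valuationSubring (hK : IsFF1 k K) (y : K) (hy0 : y ≠ 0)
    (hy : y ∈ A.nonunits) :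
    ∃ P : Place k K, (∀ z ∈ A, P.1 z ≤ 1) ∧ (∀ z ∈ A.nonunits, P.1 z < 1) := by
  haveI := vs_isDVR A hkA hK y hy0 hy
  let v := (IsDiscreteValuationRing.maximalIdeal A).valuation K
  have hle : ∀ z ∈ A, v z ≤ 1 := fun z hz =>
    (IsDiscreteValuationRing.maximalIdeal A).valuation_le_one (K := K) ⟨z, hz⟩
  have hsurj : Function.Surjective v := by
    obtain ⟨π, hπ⟩ := (IsDiscreteValuationRing.maximalIdeal A).valuation_exists_uniformizer K
    intro g
    by_cases hg : g = 0
    · exact ⟨0, by rw [hg, map_zero]⟩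
    · refine ⟨π ^ (-(log g)), ?_⟩
      rw [map_zpow₀]
      change (v π) ^ (-(log g)) = g
      have : v π = exp (-1 : ℤ) := hπ
      rw [this, ← exp_zsmul]
      simp [exp_log hg]
  refine ⟨⟨v, fun c => hle _ (hkA c), hsurj⟩, hle, ?_⟩
  intro z hz
  have hzA : z ∈ A := A.nonunits_subset hz
  have : (⟨z, hzA⟩ : A) ∈ (IsDiscreteValuationRing.maximalIdeal A).asIdeal := by
    change (⟨z, hzA⟩ : A) ∈ IsLocalRing.maximalIdeal A
    rw [A.valuation_lt_one_iff]; exact hz
  exact ((IsDiscreteValuationRing.maximalIdeal A).valuation_lt_one_iff_mem (K := K) ⟨z, hzA⟩).mpr this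

end VS


/-- A transcendental element has a zero. -/
theorem exists_zero (hK : IsFF1 k K) (x : K) (hx : Transcendental k x) :
    ∃ P : Place k K, P.1 x < 1 := by
  have hx0 : x ≠ 0 := by
    rintro rfl
    exact hx (isAlgebraic_zero)
  set R : Subring K := (Algebra.adjoin k {x}).toSubring with hR
  have hxR : x ∈ R := Algebra.self_mem_adjoin_singleton k x
  set I : Ideal R := Ideal.span {(⟨x, hxR⟩ : R)} with hI
  have hI : I ≠ ⊤ := by
    intro htop
    have h1 : (1 : R) ∈ I := by rw [htop]; trivial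
    rw [Ideal.mem_span_singleton'] at h1
    obtain ⟨q, hq⟩ := h1
    have hq' : (q : K) * x = 1 := congrArg Subtype.val hq
    have hqmem : (q : K) ∈ (aeval x : k[X] →ₐ[k] K).range := by
      rw [← Algebra.adjoin_singleton_eq_range_aeval]; exact q.2
    obtain ⟨p, hp⟩ := hqmem
    change aeval x p = (q : K) at hp
    apply hx
    refine ⟨p * X - 1, ?_, ?_⟩
    · intro h0
      have := congrArg (fun f => coeff f 0) h0
      simp at this
    · rw [map_sub, map_mul, aeval_X, map_one, hp, hq', sub_self]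
  obtain ⟨B, hRB, hIB⟩ := Ideal.image_subset_nonunits_valuationSubring I hI
  have hkB : ∀ c : k, algebraMap k K c ∈ B :=
    fun c => hRB ((Algebra.adjoin k {x}).algebraMap_mem c)
  have hxB : x ∈ B.nonunits := hIB ⟨⟨x, hxR⟩, Ideal.subset_span rfl, rfl⟩
  obtain ⟨P, -, hP⟩ := exists_place_of_valuationSubring B hkB hK x hx0 hxB
  exact ⟨P, hP x hxB⟩

theorem exists_pole (hK : IsFF1 k K) (x : K) (hx : Transcendental k x) :
    ∃ P : Place k K, 1 < P.1 x := by
  have hx0 : x ≠ 0 := by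
    rintro rfl
    exact hx (isAlgebraic_zero)
  have hxi : Transcendental k x⁻¹ := by
    intro h
    apply hx
    have := h.inv
    rwa [inv_inv] at this
  obtain ⟨P, hP⟩ := exists_zero hK x⁻¹ hxi
  refine ⟨P, ?_⟩
  rw [map_inv₀] at hP
  have hne : P.1 x ≠ 0 := (P.1.ne_zero_iff).mpr hx0
  exact (inv_lt_one₀ (zero_lt_iff.mpr hne)).mp hP

theorem relfr_ball_succ (hK : IsFF1 k K) (P : Place k K) (n : ℤ) :
    RelFin (ball P (n - 1)) (ball P n) ∧ relfr (ball P (n - 1)) (ball P n) = P.deg := by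
  obtain ⟨s, hs0, hs⟩ := pl_exists_val_eq_exp P (-n)
  have hmem : ∀ a ∈ ball P n, (LinearMap.mulLeft k s) a ∈ ball P 0 := by
    intro a ha
    rw [mem_ball] at ha ⊢
    rw [LinearMap.mulLeft_apply, map_mul, hs]
    calc exp (-n) * P.1 a ≤ exp (-n) * exp n := mul_le_mul' le_rfl ha
      _ = exp 0 := by rw [← exp_add]; simp
  let f : ball P n →ₗ[k] IsLocalRing.ResidueField P.O :=
    (resMap P) ∘ₗ ((LinearMap.mulLeft k s).restrict hmem)
  have hfs : Function.Surjective f := by
    intro r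
    obtain ⟨b, rfl⟩ := resMap_surjective P r
    have hb : P.1 (b : K) ≤ 1 := (mem_ball_zero P _).mp b.2
    have ha : s⁻¹ * (b : K) ∈ ball P n := by
      rw [mem_ball, map_mul, map_inv₀, hs, exp_neg, inv_inv]
      calc exp n * P.1 (b : K) ≤ exp n * 1 := mul_le_mul' le_rfl hb
        _ = exp n := mul_one _
    refine ⟨⟨s⁻¹ * b, ha⟩, ?_⟩
    change resMap P ⟨s * (s⁻¹ * b), _⟩ = resMap P b
    congr 1
    apply Subtype.ext
    change s * (s⁻¹ * (b : K)) = b
    field_simp
  have hker : ∀ a : ball P n, f a = 0 ↔ (a : K) ∈ ball P (n - 1) := by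
    intro a
    change resMap P ⟨s * a, _⟩ = 0 ↔ _
    rw [resMap_eq_zero_iff, mem_ball, ← zm0_lt_exp_iff]
    change P.1 (s * (a : K)) < 1 ↔ _
    rw [map_mul, hs, exp_neg, inv_mul_lt_iff₀ exp_pos, mul_one]
  haveI := residue_finiteDimensional hK P
  exact ⟨relFin_of_surj _ _ f hfs hker, relfr_eq_of_surj _ _ f hfs hker⟩

theorem relfr_ball_nat (hK : IsFF1 k K) (P : Place k K) (n : ℤ) (d : ℕ) :
    RelFin (ball P n) (ball P (n + d)) ∧ relfr (ball P n) (ball P (n + d)) = d * P.deg := by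
  induction d with
  | zero =>
    simp only [Nat.cast_zero, add_zero, zero_mul]
    exact ⟨relFin_self _, relfr_self _⟩
  | succ d ih =>
    have h1 := relfr_ball_succ hK P (n + ((d + 1 : ℕ) : ℤ))
    have e : n + ((d + 1 : ℕ) : ℤ) - 1 = n + (d : ℤ) := by push_cast; ring
    rw [e] at h1
    obtain ⟨hf, he⟩ := relfr_add (ball_mono P (by omega : n ≤ n + (d : ℤ)))
      (ball_mono P (by push_cast; omega : n + (d : ℤ) ≤ n + ((d + 1 : ℕ) : ℤ))) ih.1 h1.1
    refine ⟨hf, ?_⟩
    rw [he, ih.2, h1.2]; ring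

theorem relfr_ball (hK : IsFF1 k K) (P : Place k K) {n m : ℤ} (h : n ≤ m) :
    RelFin (ball P n) (ball P m) ∧ (relfr (ball P n) (ball P m) : ℤ) = (m - n) * P.deg := by
  obtain ⟨d, hd⟩ : ∃ d : ℕ, m = n + d := ⟨(m - n).toNat, by omega⟩
  subst hd
  obtain ⟨h1, h2⟩ := relfr_ball_nat hK P n d
  refine ⟨h1, ?_⟩
  rw [h2]; push_cast; ring

theorem BQ.finite (hK : IsFF1 k K) (P : Place k K) {n m : ℤ} (h : n ≤ m) :
    Module.Finite k (BQ P n m) ∧ (Module.finrank k (BQ P n m) : ℤ) = (m - n) * P.deg :=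
  relfr_ball hK P h

/-- The fundamental inequality `∑_{P ∈ S} v_P(x) deg P ≤ [K : k(x)]` for a finite set `S` of zeros
of `x`. -/
theorem sum_ord_mul_deg_le (hK : IsFF1 k K) (x : K) (hx0 : x ≠ 0)
    (S : Finset (Place k K)) (hS : ∀ P ∈ S, P.1 x < 1) :
    ∑ P ∈ S, P.ord x * (P.deg : ℤ) ≤ (Module.finrank k⟮x⟯ K : ℤ) := by
  classical
  rcases S.eq_empty_or_nonempty with rfl | ⟨P₀, hP₀⟩
  · simp
  haveI := ff_finite hK (transcendental_of_val_lt_one hK P₀ hx0 (hS P₀ hP₀))
  have hepos : ∀ P ∈ S, 0 < P.ord x := fun P hP => (pl_val_lt_one_iff P hx0).mp (hS P hP)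
  set A : Submodule k K := interBall S (fun _ => 0) with hA
  have hxA : ∀ a ∈ A, x * a ∈ A := by
    intro a ha
    rw [hA, mem_interBall] at ha ⊢
    intro P hP
    rw [map_mul]
    calc P.1 x * P.1 a ≤ 1 * exp 0 := mul_le_mul' (hS P hP).le (ha P hP)
      _ = exp 0 := one_mul _
  let π : A →ₗ[k] (∀ P : S, BQ P.1 (-(P.1.ord x)) 0) := LinearMap.pi (fun P : S =>
    (BQ.mk P.1 (-(P.1.ord x)) 0) ∘ₗ (Submodule.inclusion (interBall_le S (fun _ => 0) P.2)))
  have hπs : Function.Surjective π := by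
    intro w
    have hb : ∀ P : S, ∃ b : ball P.1 0, BQ.mk P.1 (-(P.1.ord x)) 0 b = w P :=
      fun P => BQ.mk_surjective _ _ _ (w P)
    choose b hb using hb
    let x' : Place k K → K := fun Q => if h : Q ∈ S then (b ⟨Q, h⟩ : K) else 0
    obtain ⟨y, hy⟩ := weak_approx_le S x' (fun P => -(P.ord x))
    have hyA : y ∈ A := by
      rw [hA, mem_interBall]
      intro P hP
      have h1 := hy P hP
      have h2 : P.1 (x' P) ≤ exp 0 := by
        simp only [x', dif_pos hP]
        exact (b ⟨P, hP⟩).2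
      have : y = (y - x' P) + x' P := by ring
      rw [this]
      refine le_trans (P.1.map_add _ _) (max_le (h1.trans ?_) h2)
      rw [exp_le_exp]
      have := hepos P hP
      omega
    refine ⟨⟨y, hyA⟩, ?_⟩
    funext P
    rw [← hb P]
    change BQ.mk P.1 (-(P.1.ord x)) 0 (⟨y, _⟩ : ball P.1 0) = BQ.mk P.1 (-(P.1.ord x)) 0 (b P)
    rw [BQ.mk_eq_mk_iff]
    change (y - (b P : K)) ∈ ball P.1 (-(P.1.ord x))
    have h1 := hy P.1 P.2
    simp only [x', dif_pos P.2] at h1
    exact h1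
  have hπ : ∀ a (ha : a ∈ A), π ⟨x * a, hxA a ha⟩ = 0 := by
    intro a ha
    funext P
    change BQ.mk P.1 (-(P.1.ord x)) 0 (⟨x * a, _⟩ : ball P.1 0) = 0
    rw [BQ.mk_eq_zero_iff]
    change x * a ∈ ball P.1 (-(P.1.ord x))
    rw [hA, mem_interBall] at ha
    rw [mem_ball, map_mul, ← pl_val_eq_exp_neg_ord P.1 hx0]
    calc P.1.1 x * P.1.1 a ≤ P.1.1 x * 1 := mul_le_mul' le_rfl (by simpa using ha P.1 P.2)
      _ = P.1.1 x := mul_one _
  obtain ⟨hWfin, hWle⟩ := finite_of_mul_mem (W := (∀ P : S, BQ P.1 (-(P.1.ord x)) 0)) x hx0 A hxA π hπs hπ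
  have hcomp : ∀ P : S, Module.Finite k (BQ P.1 (-(P.1.ord x)) 0) ∧
      (Module.finrank k (BQ P.1 (-(P.1.ord x)) 0) : ℤ) = (0 - -(P.1.ord x)) * P.1.deg :=
    fun P => BQ.finite hK P.1 (by have := hepos P.1 P.2; omega)
  haveI : ∀ P : S, Module.Finite k (BQ P.1 (-(P.1.ord x)) 0) :=
    fun P => (hcomp P).1
  have hW : Module.finrank k (∀ P : S, BQ P.1 (-(P.1.ord x)) 0) = ∑ P : S, Module.finrank k (BQ P.1 (-(P.1.ord x)) 0) :=
    Module.finrank_pi_fintype k
  have hsum : ∑ P ∈ S, P.ord x * (P.deg : ℤ) = (Module.finrank k (∀ P : S, BQ P.1 (-(P.1.ord x)) 0) : ℤ) := by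
    rw [hW, ← Finset.sum_coe_sort S (fun P => P.ord x * (P.deg : ℤ))]
    push_cast
    apply Finset.sum_congr rfl
    intro P _
    rw [(hcomp P).2]; ring
  rw [hsum]
  exact_mod_cast hWle

theorem zeros_finite (hK : IsFF1 k K) (x : K) (hx0 : x ≠ 0) :
    {P : Place k K | P.1 x < 1}.Finite := by
  classical
  by_contra hinf
  obtain ⟨t, ht, htc⟩ := Set.Infinite.exists_subset_card_eq hinf (Module.finrank k⟮x⟯ K + 1)
  have h1 := sum_ord_mul_deg_le hK x hx0 t (fun P hP => ht hP)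
  have h2 : (t.card : ℤ) ≤ ∑ P ∈ t, P.ord x * (P.deg : ℤ) := by
    rw [Finset.card_eq_sum_ones]
    push_cast
    apply Finset.sum_le_sum
    intro P hP
    have h3 : 0 < P.ord x := (pl_val_lt_one_iff P hx0).mp (ht hP)
    have h4 : 0 < (P.deg : ℤ) := by exact_mod_cast deg_pos hK P
    nlinarith
  rw [htc] at h2
  push_cast at h2
  omega

theorem poles_finite (hK : IsFF1 k K) (x : K) :
    {P : Place k K | 1 < P.1 x}.Finite := by
  by_cases hx0 : x = 0
  · subst hx0
    simp
  · refine (zeros_finite hK x⁻¹ (inv_ne_zero hx0)).subset ?_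
    intro P hP
    have hne : P.1 x ≠ 0 := (P.1.ne_zero_iff).mpr hx0
    change P.1 x⁻¹ < 1
    rw [map_inv₀]
    exact (inv_lt_one₀ (zero_lt_iff.mpr hne)).mpr hP

theorem ord_support_finite (hK : IsFF1 k K) (x : K) :
    (Function.support fun P : Place k K => P.ord x).Finite := by
  by_cases hx0 : x = 0
  · subst hx0
    have : (Function.support fun P : Place k K => P.ord (0 : K)) = ∅ := by
      ext P; simp [pl_ord_zero]
    rw [this]; exact Set.finite_empty
  · refine ((zeros_finite hK x hx0).union (poles_finite hK x)).subset ?_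
    intro P hP
    rw [Function.mem_support, pl_ord_ne_zero_iff] at hP
    rcases lt_or_gt_of_ne hP.2 with h | h
    · exact Or.inl h
    · exact Or.inr h

theorem div_apply (hK : IsFF1 k K) (x : K) (P : Place k K) :
    FunFld.div k x P = P.ord x := by
  unfold FunFld.div
  rw [dif_pos (ord_support_finite hK x)]
  rfl

/-- `dim_k A(D₂)/A(D₁) = deg D₂ - deg D₁`. -/
theorem relfr_AD (hK : IsFF1 k K) {D₁ D₂ : Divisor k K} (h : D₁ ≤ D₂) :
    RelFin (AD D₁) (AD D₂) ∧ (relfr (AD D₁) (AD D₂) : ℤ) = D₂.deg - D₁.deg := by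
  classical
  set T : Finset (Place k K) := (D₂ - D₁).support with hT
  have hout : ∀ P : Place k K, P ∉ T → D₁ P = D₂ P := by
    intro P hP
    rw [hT, Finsupp.notMem_support_iff, Finsupp.sub_apply] at hP
    omega
  have hev : ∀ P : T, ∀ a ∈ AD D₂, (LinearMap.proj (R := k) (φ := fun _ : Place k K => K) P.1) a
      ∈ ball P.1 (D₂ P.1) := fun P a ha => ha P.1
  let f : AD D₂ →ₗ[k] (∀ P : T, BQ P.1 (D₁ P.1) (D₂ P.1)) := LinearMap.pi (fun P : T =>
    (BQ.mk P.1 (D₁ P.1) (D₂ P.1)) ∘ₗ ((LinearMap.proj P.1).restrict (hev P)))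
  have hfs : Function.Surjective f := by
    intro w
    have hb : ∀ P : T, ∃ b : ball P.1 (D₂ P.1), BQ.mk P.1 (D₁ P.1) (D₂ P.1) b = w P :=
      fun P => BQ.mk_surjective _ _ _ (w P)
    choose b hb using hb
    let a : Place k K → K := fun Q => if h : Q ∈ T then (b ⟨Q, h⟩ : K) else 0
    have ha : a ∈ AD D₂ := by
      intro Q
      by_cases hQ : Q ∈ T
      · simp only [a, dif_pos hQ]; exact (b ⟨Q, hQ⟩).2
      · simp only [a, dif_neg hQ]; simp
    refine ⟨⟨a, ha⟩, ?_⟩
    funext P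
    rw [← hb P]
    change BQ.mk P.1 (D₁ P.1) (D₂ P.1) ⟨a P.1, _⟩ = BQ.mk P.1 (D₁ P.1) (D₂ P.1) (b P)
    congr 1
    apply Subtype.ext
    change a P.1 = b P
    simp only [a, dif_pos P.2]
  have hker : ∀ a : AD D₂, f a = 0 ↔ (a : Place k K → K) ∈ AD D₁ := by
    intro a
    constructor
    · intro h0 Q
      by_cases hQ : Q ∈ T
      · have := congrFun h0 ⟨Q, hQ⟩
        change BQ.mk Q (D₁ Q) (D₂ Q) ⟨a.1 Q, _⟩ = 0 at this
        rw [BQ.mk_eq_zero_iff] at this
        exact this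
      · rw [hout Q hQ]; exact a.2 Q
    · intro ha
      funext P
      change BQ.mk P.1 (D₁ P.1) (D₂ P.1) ⟨a.1 P.1, _⟩ = 0
      rw [BQ.mk_eq_zero_iff]
      exact ha P.1
  have hcomp : ∀ P : T, Module.Finite k (BQ P.1 (D₁ P.1) (D₂ P.1)) ∧
      (Module.finrank k (BQ P.1 (D₁ P.1) (D₂ P.1)) : ℤ) = (D₂ P.1 - D₁ P.1) * P.1.deg :=
    fun P => BQ.finite hK P.1 (h P.1)
  haveI : ∀ P : T, Module.Finite k (BQ P.1 (D₁ P.1) (D₂ P.1)) := fun P => (hcomp P).1
  refine ⟨relFin_of_surj _ _ f hfs hker, ?_⟩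
  rw [relfr_eq_of_surj _ _ f hfs hker, Module.finrank_pi_fintype k, ← deg_sub]
  rw [deg_eq_sum (D₂ - D₁) T (le_refl _), ← Finset.sum_coe_sort T]
  push_cast
  apply Finset.sum_congr rfl
  intro P _
  rw [(hcomp P).2]
  rfl

theorem relfr_L (hK : IsFF1 k K) {D₁ D₂ : Divisor k K} (h : D₁ ≤ D₂) :
    RelFin (L D₁) (L D₂) ∧ (relfr (L D₁) (L D₂) : ℤ) ≤ D₂.deg - D₁.deg := by
  obtain ⟨h1, h2⟩ := relfr_AD hK h
  obtain ⟨h3, h4⟩ := relfr_le_of_inj (diag k K) (L D₁) (L D₂) (AD D₁) (AD D₂)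
    (fun b hb P => hb P) (fun b _ => Iff.rfl) h1
  refine ⟨h3, ?_⟩
  rw [← h2]
  exact_mod_cast h4

theorem L_zero_finite (hK : IsFF1 k K) : Module.Finite k (L (0 : Divisor k K)) := by
  have hK' := hK
  obtain ⟨x, hx, -⟩ := hK'
  obtain ⟨P, hP⟩ := exists_zero hK x hx
  haveI := residue_finiteDimensional hK P
  have hle : L (0 : Divisor k K) ≤ ball P 0 := fun y hy => by
    rw [mem_ball_zero]
    have := hy P
    simpa only [Finsupp.coe_zero, Pi.zero_apply, exp_zero] using this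
  let f : L (0 : Divisor k K) →ₗ[k] IsLocalRing.ResidueField P.O :=
    (resMap P) ∘ₗ (Submodule.inclusion hle)
  have hinj : Function.Injective f := by
    rw [injective_iff_map_eq_zero]
    intro y hy
    by_contra hy0
    have h1 : P.1 (y : K) < 1 := (resMap_eq_zero_iff P (Submodule.inclusion hle y)).mp hy
    have hyK : (y : K) ≠ 0 := fun h => hy0 (Subtype.ext h)
    have ht := transcendental_of_val_lt_one hK P hyK h1
    obtain ⟨Q, hQ⟩ := exists_pole hK (y : K) ht
    have := y.2 Q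
    simp only [Finsupp.coe_zero, Pi.zero_apply, exp_zero] at this
    exact absurd hQ (not_lt.mpr this)
  exact Module.Finite.of_injective f hinj

theorem L_finite_of_nonneg (hK : IsFF1 k K) {D : Divisor k K} (h : 0 ≤ D) :
    Module.Finite k (L D) ∧ (ell D : ℤ) ≤ D.deg + ell (0 : Divisor k K) := by
  obtain ⟨h1, h2⟩ := relfr_L hK h
  haveI := L_zero_finite hK
  obtain ⟨h3, h4⟩ := finrank_eq_add_relfr (L_mono h) h1
  refine ⟨h3, ?_⟩
  unfold ell
  rw [h4]
  rw [deg_zero] at h2
  push_cast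
  omega

theorem L_finite (hK : IsFF1 k K) (D : Divisor k K) : Module.Finite k (L D) := by
  haveI := (L_finite_of_nonneg hK (le_sup_right : (0 : Divisor k K) ≤ D ⊔ 0)).1
  exact Module.Finite.of_injective (Submodule.inclusion (L_mono (le_sup_left : D ≤ D ⊔ 0)))
    (Submodule.inclusion_injective _)

theorem ell_sub_le (hK : IsFF1 k K) {D₁ D₂ : Divisor k K} (h : D₁ ≤ D₂) :
    (ell D₂ : ℤ) - ell D₁ ≤ D₂.deg - D₁.deg := by
  obtain ⟨h1, h2⟩ := relfr_L hK h
  haveI := L_finite hK D₁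
  obtain ⟨-, h4⟩ := finrank_eq_add_relfr (L_mono h) h1
  unfold ell
  rw [h4]
  push_cast
  omega

theorem ell_mono (hK : IsFF1 k K) {D₁ D₂ : Divisor k K} (h : D₁ ≤ D₂) :
    ell D₁ ≤ ell D₂ := by
  haveI := L_finite hK D₂
  exact Submodule.finrank_mono (L_mono h)

/-- Multiplication by `z ≠ 0` identifies `L(D + (z))` with `L(D)`. -/
theorem mul_mem_L_iff (hK : IsFF1 k K) (D : Divisor k K) {z : K} (hz : z ≠ 0)
    (y : K) : z * y ∈ L D ↔ y ∈ L (D + FunFld.div k z) := by
  by_cases hy : y = 0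
  · subst hy
    simp
  constructor
  · intro h P
    have h1 := h P
    rw [Finsupp.add_apply, div_apply hK, pl_val_le_exp_iff P hy]
    rw [pl_val_le_exp_iff P (mul_ne_zero hz hy), pl_ord_mul P hz hy] at h1
    omega
  · intro h P
    have h1 := h P
    rw [Finsupp.add_apply, div_apply hK, pl_val_le_exp_iff P hy] at h1
    rw [pl_val_le_exp_iff P (mul_ne_zero hz hy), pl_ord_mul P hz hy]
    omega

theorem div_inv (hK : IsFF1 k K) (z : K) :
    FunFld.div k z⁻¹ = -FunFld.div k z := by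
  ext P
  rw [Finsupp.neg_apply, div_apply hK, div_apply hK, pl_ord_inv]

theorem div_mul (hK : IsFF1 k K) {x y : K} (hx : x ≠ 0) (hy : y ≠ 0) :
    FunFld.div k (x * y) = FunFld.div k x + FunFld.div k y := by
  ext P
  rw [Finsupp.add_apply, div_apply hK, div_apply hK, div_apply hK, pl_ord_mul P hx hy]

theorem div_const (hK : IsFF1 k K) (c : k) :
    FunFld.div k (algebraMap k K c) = 0 := by
  ext P
  rw [div_apply hK, pl_ord_const]; rfl

/-- `L(D + (z)) ≃ L(D)`, `y ↦ z y`. -/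
noncomputable def LmulEquiv (hK : IsFF1 k K) (D : Divisor k K) {z : K}
    (hz : z ≠ 0) : L (D + FunFld.div k z) ≃ₗ[k] L D where
  toFun y := ⟨z * y.1, (mul_mem_L_iff hK D hz y.1).mpr y.2⟩
  map_add' a b := by
    apply Subtype.ext
    simp [mul_add]
  map_smul' c a := by
    apply Subtype.ext
    simp
  invFun y := ⟨z⁻¹ * y.1, (mul_mem_L_iff hK D hz _).mp (by
    rw [← mul_assoc, mul_inv_cancel₀ hz, one_mul]; exact y.2)⟩
  left_inv y := by
    apply Subtype.ext
    simp [hz]
  right_inv y := by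
    apply Subtype.ext
    simp [hz]

theorem ell_add_div (hK : IsFF1 k K) (D : Divisor k K) {z : K} (hz : z ≠ 0) :
    ell (D + FunFld.div k z) = ell D :=
  (LmulEquiv hK D hz).finrank_eq

theorem nonneg_of_mem_L (hK : IsFF1 k K) (D : Divisor k K) {z : K} (hz : z ≠ 0)
    (h : z ∈ L D) : 0 ≤ D + FunFld.div k z := by
  intro P
  have h1 := h P
  rw [pl_val_le_exp_iff P hz] at h1
  rw [Finsupp.add_apply, div_apply hK]
  simp only [Finsupp.coe_zero, Pi.zero_apply]
  omega

theorem zeroDiv_apply (hK : IsFF1 k K) (x : K) (P : Place k K) :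
    zeroDiv k x P = max (P.ord x) 0 := by
  unfold zeroDiv
  rw [Finsupp.sup_apply, div_apply hK]; rfl

theorem poleDiv_apply (hK : IsFF1 k K) (x : K) (P : Place k K) :
    poleDiv k x P = max (-(P.ord x)) 0 := by
  unfold poleDiv
  rw [Finsupp.sup_apply, Finsupp.neg_apply, div_apply hK]; rfl

theorem div_eq_zeroDiv_sub_poleDiv (hK : IsFF1 k K) (x : K) :
    FunFld.div k x = zeroDiv k x - poleDiv k x := by
  ext P
  rw [Finsupp.sub_apply, zeroDiv_apply hK, poleDiv_apply hK, div_apply hK]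
  omega

theorem poleDiv_eq_zeroDiv_inv (hK : IsFF1 k K) (x : K) :
    poleDiv k x = zeroDiv k x⁻¹ := by
  unfold poleDiv zeroDiv
  rw [div_inv hK]

theorem mem_L_poleDiv (hK : IsFF1 k K) (u : K) : u ∈ L (poleDiv k u) := by
  intro P
  by_cases hu : u = 0
  · subst hu; simp
  · rw [pl_val_le_exp_iff P hu, poleDiv_apply hK]
    omega

theorem basic_mem (hK : IsFF1 k K) (x : K) (hx0 : x ≠ 0) (C : Divisor k K)
    {l i : ℕ} (hi : i ≤ l) {u : K} (hu : u ∈ L C) :
    (x⁻¹) ^ l * x ^ i * u ∈ L (l • zeroDiv k x + C) := by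
  intro P
  by_cases hu0 : u = 0
  · subst hu0; simp
  have hw : (x⁻¹) ^ l * x ^ i * u ≠ 0 :=
    mul_ne_zero (mul_ne_zero (pow_ne_zero _ (inv_ne_zero hx0)) (pow_ne_zero _ hx0)) hu0
  have h1 := hu P
  rw [pl_val_le_exp_iff P hu0] at h1
  rw [pl_val_le_exp_iff P hw, pl_ord_mul P (mul_ne_zero (pow_ne_zero _ (inv_ne_zero hx0))
    (pow_ne_zero _ hx0)) hu0, pl_ord_mul P (pow_ne_zero _ (inv_ne_zero hx0)) (pow_ne_zero _ hx0),
    pl_ord_pow, pl_ord_pow, pl_ord_inv, Finsupp.add_apply, Finsupp.smul_apply, zeroDiv_apply hK]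
  simp only [nsmul_eq_mul]
  have hil : (i : ℤ) ≤ l := by exact_mod_cast hi
  rcases le_total 0 (P.ord x) with he | he
  · rw [max_eq_left he]
    nlinarith
  · rw [max_eq_right he]
    nlinarith

/-- Key estimate: there is `C ≥ 0` with `ℓ(l (x)₀ + C) ≥ (l+1) [K : k(x)]` for all `l`. -/
theorem exists_C_ell_ge (hK : IsFF1 k K) (x : K) (hx : Transcendental k x) :
    ∃ C : Divisor k K, 0 ≤ C ∧
      ∀ l : ℕ, (l + 1) * Module.finrank k⟮x⟯ K ≤ ell (l • zeroDiv k x + C) := by
  classical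
  haveI := ff_finite hK hx
  have hx0 : x ≠ 0 := by
    rintro rfl; exact hx isAlgebraic_zero
  set n := Module.finrank k⟮x⟯ K with hn
  let b : Module.Basis (Fin n) k⟮x⟯ K := Module.finBasis k⟮x⟯ K
  set C : Divisor k K := ∑ j, poleDiv k (b j) with hC
  have hC0 : 0 ≤ C := Finset.sum_nonneg (fun j _ => poleDiv_nonneg _)
  have hbC : ∀ j, b j ∈ L C := by
    intro j
    refine L_mono ?_ (mem_L_poleDiv hK (b j))
    exact Finset.single_le_sum (f := fun j => poleDiv k (b j)) (fun j _ => poleDiv_nonneg _)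
      (Finset.mem_univ j)
  refine ⟨C, hC0, fun l => ?_⟩
  -- the linear map
  let Φ' : (Fin n → degreeLT k (l + 1)) →ₗ[k] K :=
    ∑ j : Fin n, (LinearMap.mulRight k (b j)) ∘ₗ (LinearMap.mulLeft k ((x⁻¹) ^ l)) ∘ₗ
      (aeval x : k[X] →ₐ[k] K).toLinearMap ∘ₗ (degreeLT k (l + 1)).subtype ∘ₗ (LinearMap.proj j)
  have hΦ' : ∀ p, Φ' p = ∑ j : Fin n, (x⁻¹) ^ l * aeval x (p j : k[X]) * b j := by
    intro p
    simp only [Φ', LinearMap.sum_apply]
    rfl
  have hterm : ∀ (q : degreeLT k (l + 1)) (j : Fin n),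
      (x⁻¹) ^ l * aeval x (q : k[X]) * b j ∈ L (l • zeroDiv k x + C) := by
    intro q j
    have hq : (q : k[X]).natDegree < l + 1 := by
      by_cases hq0 : (q : k[X]) = 0
      · rw [hq0]; simp
      · exact (natDegree_lt_iff_degree_lt hq0).mpr (mem_degreeLT.mp q.2)
    rw [aeval_eq_sum_range' hq, Finset.mul_sum, Finset.sum_mul]
    refine Submodule.sum_mem _ (fun i hi => ?_)
    have : (x⁻¹) ^ l * ((q : k[X]).coeff i • x ^ i) * b j
        = (q : k[X]).coeff i • ((x⁻¹) ^ l * x ^ i * b j) := by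
      simp only [Algebra.smul_def]; ring
    rw [this]
    refine Submodule.smul_mem _ _ (basic_mem hK x hx0 C ?_ (hbC j))
    exact Nat.lt_succ_iff.mp (Finset.mem_range.mp hi)
  have hmem : ∀ p, Φ' p ∈ L (l • zeroDiv k x + C) := by
    intro p
    rw [hΦ']
    exact Submodule.sum_mem _ (fun j _ => hterm (p j) j)
  let Φ : (Fin n → degreeLT k (l + 1)) →ₗ[k] L (l • zeroDiv k x + C) :=
    Φ'.codRestrict _ hmem
  have hinj : Function.Injective Φ := by
    rw [← LinearMap.ker_eq_bot, LinearMap.ker_codRestrict, LinearMap.ker_eq_bot,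
      injective_iff_map_eq_zero]
    intro p hp
    rw [hΦ'] at hp
    have hmemx : ∀ j, aeval x (p j : k[X]) ∈ k⟮x⟯ := fun j =>
      algebra_adjoin_le_adjoin k {x} (aeval_mem_adjoin_singleton k x)
    have hsum : ∑ j : Fin n, (⟨aeval x (p j : k[X]), hmemx j⟩ : k⟮x⟯) • b j = 0 := by
      have h2 : (x⁻¹) ^ l * ∑ j : Fin n, aeval x (p j : k[X]) * b j = 0 := by
        rw [← hp, Finset.mul_sum]
        exact Finset.sum_congr rfl (fun j _ => by ring)
      have h3 := (mul_eq_zero.mp h2).resolve_left (pow_ne_zero _ (inv_ne_zero hx0))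
      rw [← h3]
      exact Finset.sum_congr rfl (fun j _ => rfl)
    have hc := Fintype.linearIndependent_iff.mp b.linearIndependent _ hsum
    funext j
    have h4 : aeval x (p j : k[X]) = 0 := congrArg Subtype.val (hc j)
    have h5 := (transcendental_iff.mp hx) _ h4
    exact Subtype.ext h5
  haveI := L_finite hK (l • zeroDiv k x + C)
  have hle := LinearMap.finrank_le_finrank_of_injective hinj
  have hdim : Module.finrank k (Fin n → degreeLT k (l + 1)) = n * (l + 1) := by
    rw [Module.finrank_pi_fintype]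
    simp only [Finset.sum_const, Finset.card_univ, Fintype.card_fin, smul_eq_mul]
    rw [(degreeLTEquiv k (l + 1)).finrank_eq, Module.finrank_fin_fun]
  rw [hdim] at hle
  unfold ell
  rw [mul_comm]
  exact hle

theorem deg_zeroDiv_eq_sum (hK : IsFF1 k K) (x : K) (hx0 : x ≠ 0) :
    (zeroDiv k x).deg = ∑ P ∈ (zeros_finite hK x hx0).toFinset, P.ord x * (P.deg : ℤ) := by
  classical
  rw [deg_eq_sum (zeroDiv k x) (zeros_finite hK x hx0).toFinset]
  · apply Finset.sum_congr rfl
    intro P hP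
    rw [Set.Finite.mem_toFinset] at hP
    have := (pl_val_lt_one_iff P hx0).mp hP
    rw [zeroDiv_apply hK, max_eq_left this.le]
  · intro P hP
    rw [Finsupp.mem_support_iff, zeroDiv_apply hK] at hP
    rw [Set.Finite.mem_toFinset]
    change P.1 x < 1
    rw [pl_val_lt_one_iff P hx0]
    by_contra hcon
    rw [not_lt] at hcon
    exact hP (max_eq_right hcon)

/-- The degree theorem: `deg (x)₀ = [K : k(x)]`. -/
theorem deg_zeroDiv (hK : IsFF1 k K) (x : K) (hx : Transcendental k x) :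
    (zeroDiv k x).deg = Module.finrank k⟮x⟯ K := by
  haveI := ff_finite hK hx
  have hx0 : x ≠ 0 := by
    rintro rfl; exact hx isAlgebraic_zero
  apply le_antisymm
  · rw [deg_zeroDiv_eq_sum hK x hx0]
    refine sum_ord_mul_deg_le hK x hx0 _ (fun P hP => ?_)
    rw [Set.Finite.mem_toFinset] at hP
    exact hP
  · obtain ⟨C, hC0, hC⟩ := exists_C_ell_ge hK x hx
    by_contra hcon
    rw [not_le] at hcon
    set n : ℕ := Module.finrank k⟮x⟯ K with hn
    have hn1 : 1 ≤ n := Module.finrank_pos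
    set dB := (zeroDiv k x).deg with hdB
    have hdC : 0 ≤ C.deg := deg_nonneg_of_nonneg hC0
    set c : ℕ := ell (0 : Divisor k K) with hc
    set l : ℕ := C.deg.toNat + c with hl
    have h1 := hC l
    have hnn : 0 ≤ l • zeroDiv k x + C :=
      add_nonneg (nsmul_nonneg (zeroDiv_nonneg x) l) hC0
    have h2 := (L_finite_of_nonneg hK hnn).2
    rw [deg_add, deg_nsmul] at h2
    have h3 : ((l + 1) * n : ℤ) ≤ l * dB + C.deg + c := by
      have : (((l + 1) * n : ℕ) : ℤ) ≤ ell (l • zeroDiv k x + C) := by exact_mod_cast h1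
      push_cast at this
      linarith
    have h4 : (l : ℤ) * dB ≤ l * (n - 1) := by
      have : dB ≤ n - 1 := by omega
      exact mul_le_mul_of_nonneg_left this (by positivity)
    have h5 : (l : ℤ) = C.deg + c := by
      rw [hl]; push_cast; rw [Int.toNat_of_nonneg hdC]
    nlinarith

theorem deg_poleDiv (hK : IsFF1 k K) (x : K) (hx : Transcendental k x) :
    (poleDiv k x).deg = Module.finrank k⟮x⟯ K := by
  rw [poleDiv_eq_zeroDiv_inv hK, deg_zeroDiv hK x⁻¹ (transcendental_inv hx), adjoin_inv_eq]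

end Groth.Agent.H55.G
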