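import Mathlib

/-!
# Logarithmic derivatives of power series, in the form `X f' = f S`.
-/

set_option autoImplicit false

open PowerSeries

namespace Groth.Agent.H55.LogDeriv

variable {F : Type*} [Field F]

/-- `X f' = f S`. -/
def LD (f S : F⟦X⟧) : Prop := (X : F⟦X⟧) * d⁄dX F f = f * S

theorem LD.mul {f g S T : F⟦X⟧} (hf : LD f S) (hg : LD g T) : LD (f * g) (S + T) := by
  unfold LD at *
  rw [Derivation.leibniz, smul_eq_mul, smul_eq_mul]
  calc X * (f * d⁄dX F g + g * d⁄dX F f) = f * (X * d⁄dX F g) + g * (X * d⁄dX F f) := by ring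
    _ = f * (g * T) + g * (f * S) := by rw [hf, hg]
    _ = f * g * (S + T) := by ring

theorem LD.one : LD (1 : F⟦X⟧) 0 := by
  unfold LD
  rw [derivative_one, mul_zero, mul_zero]

theorem LD.prod {ι : Type*} (s : Finset ι) (f S : ι → F⟦X⟧) (h : ∀ i ∈ s, LD (f i) (S i)) :
    LD (∏ i ∈ s, f i) (∑ i ∈ s, S i) := by
  classical
  induction s using Finset.induction_on with
  | empty => simpa using LD.one
  | insert a s ha ih =>
    rw [Finset.prod_insert ha, Finset.sum_insert ha]
    exact (h a (Finset.mem_insert_self a s)).mul (ih fun i hi => h i (Finset.mem_insert_of_mem hi))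

/-- `-∑_{r ≥ 1} c^r X^r`. -/
noncomputable def geomS (c : F) : F⟦X⟧ := mk fun r => if r = 0 then 0 else -c ^ r

theorem coeff_geomS (c : F) {r : ℕ} (hr : r ≠ 0) : coeff r (geomS c) = -c ^ r := by
  rw [geomS, coeff_mk, if_neg hr]

theorem LD_linear (c : F) : LD (1 - C c * X) (geomS c) := by
  unfold LD
  have hd : d⁄dX F (1 - C c * X : F⟦X⟧) = -C c := by
    rw [map_sub, derivative_one, Derivation.leibniz, derivative_C, derivative_X]
    simp
  rw [hd, sub_mul, one_mul, mul_assoc]
  ext n
  cases n with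
  | zero =>
    rw [coeff_zero_X_mul, map_sub, coeff_C_mul, coeff_zero_X_mul, geomS, coeff_mk]
    simp
  | succ n =>
    rw [coeff_succ_X_mul, map_sub, coeff_C_mul, coeff_succ_X_mul, map_neg, coeff_C,
      coeff_geomS c (Nat.succ_ne_zero n)]
    by_cases hn : n = 0
    · subst hn
      simp [geomS]
    · rw [coeff_geomS c hn, if_neg hn, pow_succ]
      ring

theorem LD.unique_S {f S T : F⟦X⟧} (hf0 : f ≠ 0) (h1 : LD f S) (h2 : LD f T) : S = T := by
  unfold LD at *
  exact mul_left_cancel₀ hf0 (h1.symm.trans h2)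

theorem LD.coeff_eq {f S : F⟦X⟧} (h : LD f S) (n : ℕ) :
    (n : F) * coeff n f = ∑ p ∈ Finset.HasAntidiagonal.antidiagonal n, coeff p.1 f * coeff p.2 S := by
  unfold LD at h
  rw [← coeff_mul, ← h]
  cases n with
  | zero => rw [coeff_zero_X_mul]; simp
  | succ n => rw [coeff_succ_X_mul, coeff_derivative]; push_cast; ring

theorem LD.unique_f [CharZero F] {f g S : F⟦X⟧} (hS0 : coeff 0 S = 0) (hf : LD f S) (hg : LD g S)
    (h0 : coeff 0 f = coeff 0 g) : f = g := by
  ext n
  induction n using Nat.strong_induction_on with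
  | _ n ih =>
    by_cases hn : n = 0
    · subst hn; exact h0
    · have hnF : (n : F) ≠ 0 := Nat.cast_ne_zero.mpr hn
      apply mul_left_cancel₀ hnF
      rw [hf.coeff_eq n, hg.coeff_eq n]
      refine Finset.sum_congr rfl fun p hp => ?_
      rw [Finset.HasAntidiagonal.mem_antidiagonal] at hp
      by_cases hp1 : p.1 < n
      · rw [ih p.1 hp1]
      · have : p.2 = 0 := by omega
        rw [this, hS0, mul_zero, mul_zero]

/-- The series `∑_{r ≥ 1} N_r X^r`. -/
noncomputable def seqS (N : ℕ → F) : F⟦X⟧ := mk fun r => if r = 0 then 0 else N r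

theorem coeff_seqS (N : ℕ → F) {r : ℕ} (hr : r ≠ 0) : coeff r (seqS N) = N r := by
  rw [seqS, coeff_mk, if_neg hr]

theorem LD_of_recurrence (a N : ℕ → F)
    (h : ∀ n : ℕ, (n : F) * a n = ∑ r ∈ Finset.Icc 1 n, N r * a (n - r)) :
    LD (mk a) (seqS N) := by
  unfold LD
  ext n
  have hl : coeff n ((X : F⟦X⟧) * d⁄dX F (mk a)) = (n : F) * a n := by
    cases n with
    | zero => rw [coeff_zero_X_mul]; simp
    | succ n => rw [coeff_succ_X_mul, coeff_derivative, coeff_mk]; push_cast; ring
  rw [hl, h n, mul_comm (mk a), coeff_mul,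
    Finset.Nat.sum_antidiagonal_eq_sum_range_succ (fun i j => coeff i (seqS N) * coeff j (mk a))]
  have : Finset.Icc 1 n = (Finset.range n.succ).filter (fun r => r ≠ 0) := by
    ext r
    simp only [Finset.mem_Icc, Finset.mem_filter, Finset.mem_range]
    omega
  rw [this, Finset.sum_filter]
  refine Finset.sum_congr rfl fun r _ => ?_
  by_cases hr : r = 0
  · subst hr
    simp [seqS]
  · rw [if_pos hr, coeff_seqS N hr, coeff_mk]

/-- From the factorisation of `(1 - X)(1 - qX) Z` to the values `N_r`. -/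
theorem N_formula (a N : ℕ → F)
    (hrec : ∀ n : ℕ, (n : F) * a n = ∑ r ∈ Finset.Icc 1 n, N r * a (n - r)) (q : F)
    {ι : Type*} [Fintype ι] (α : ι → F)
    (hL : (1 - X) * (1 - C q * X) * mk a = ∏ i, (1 - C (α i) * X : F⟦X⟧))
    (r : ℕ) (hr : r ≠ 0) : N r = 1 + q ^ r - ∑ i, α i ^ r := by
  have h1 : LD ((1 - X) * (1 - C q * X) * mk a) (geomS 1 + geomS q + seqS N) := by
    have h11 : LD (1 - X : F⟦X⟧) (geomS 1) := by
      have := LD_linear (1 : F)
      rwa [map_one, one_mul] at this
    exact (h11.mul (LD_linear q)).mul (LD_of_recurrence a N hrec)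
  have h2 : LD (∏ i, (1 - C (α i) * X : F⟦X⟧)) (∑ i, geomS (α i)) :=
    LD.prod _ _ _ fun i _ => LD_linear (α i)
  rw [hL] at h1
  have hne : (∏ i, (1 - C (α i) * X : F⟦X⟧)) ≠ 0 := by
    intro h0
    have := congrArg constantCoeff h0
    rw [map_prod, map_zero] at this
    simp at this
  have h3 := LD.unique_S hne h1 h2
  have h4 := congrArg (coeff r) h3
  rw [map_add, map_add, map_sum, coeff_geomS 1 hr, coeff_geomS q hr, coeff_seqS N hr, one_pow] at h4
  simp only [coeff_geomS _ hr, Finset.sum_neg_distrib] at h4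
  linear_combination h4

/-- Two series with the same logarithmic derivative data agree. -/
theorem eq_prod_of_N [CharZero F] (a N : ℕ → F) (ha0 : a 0 = 1)
    (hrec : ∀ n : ℕ, (n : F) * a n = ∑ r ∈ Finset.Icc 1 n, N r * a (n - r)) (q : F)
    {ι : Type*} [Fintype ι] (β : ι → F)
    (hN : ∀ r, r ≠ 0 → N r = 1 + q ^ r - ∑ i, β i ^ r) :
    (1 - X) * (1 - C q * X) * mk a = ∏ i, (1 - C (β i) * X : F⟦X⟧) := by
  have h1 : LD ((1 - X) * (1 - C q * X) * mk a) (geomS 1 + geomS q + seqS N) := by
    have h11 : LD (1 - X : F⟦X⟧) (geomS 1) := by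
      have := LD_linear (1 : F)
      rwa [map_one, one_mul] at this
    exact (h11.mul (LD_linear q)).mul (LD_of_recurrence a N hrec)
  have h2 : LD (∏ i, (1 - C (β i) * X : F⟦X⟧)) (∑ i, geomS (β i)) :=
    LD.prod _ _ _ fun i _ => LD_linear (β i)
  have hS : geomS 1 + geomS q + seqS N = ∑ i, geomS (β i) := by
    ext r
    by_cases hr : r = 0
    · subst hr
      rw [map_add, map_add, map_sum]
      simp [geomS, seqS]
    · rw [map_add, map_add, map_sum, coeff_geomS 1 hr, coeff_geomS q hr, coeff_seqS N hr, one_pow,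
        hN r hr]
      simp only [coeff_geomS _ hr, Finset.sum_neg_distrib]
      ring
  rw [hS] at h1
  refine LD.unique_f ?_ h1 h2 ?_
  · rw [map_sum]
    simp [geomS]
  · rw [coeff_zero_eq_constantCoeff_apply, coeff_zero_eq_constantCoeff_apply, map_mul, map_mul,
      map_prod]
    simp [ha0]

end Groth.Agent.H55.LogDeriv
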