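import Groth.Agent.H55.FFConstExt
import Groth.Agent.H55.LogDeriv

/-!
# The numbers `N_r` and the zeta function of a constant field extension.
-/

set_option autoImplicit false

namespace Groth.Agent.H55

open FunFld

section

variable {k K : Type*} [Field k] [Field K] [Algebra k K]

theorem map_numerZ :
    PowerSeries.map (Int.castRingHom ℂ) (numerZ k K) =
      (1 - PowerSeries.X) * (1 - PowerSeries.C (Nat.card k : ℂ) * PowerSeries.X) *
        PowerSeries.mk (fun n => (effDivCount k K n : ℂ)) := by
  unfold numerZ zetaZ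
  rw [map_mul, map_mul, map_sub, map_sub, map_one, map_mul, PowerSeries.map_X, PowerSeries.map_C]
  have h1 : (Int.castRingHom ℂ) (Nat.card k : ℤ) = (Nat.card k : ℂ) := by simp
  have h2 : PowerSeries.map (Int.castRingHom ℂ) (PowerSeries.mk fun n => (effDivCount k K n : ℤ)) =
      PowerSeries.mk (fun n => (effDivCount k K n : ℂ)) := by
    ext n
    simp
  rw [h1, h2]

theorem coe_prod_linear {ι : Type*} [Fintype ι] (α : ι → ℂ) :
    ((∏ i, (1 - Polynomial.C (α i) * Polynomial.X) : Polynomial ℂ) : PowerSeries ℂ) =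
      ∏ i, (1 - PowerSeries.C (α i) * PowerSeries.X) := by
  rw [← Polynomial.coeToPowerSeries.ringHom_apply, map_prod]
  refine Finset.prod_congr rfl fun i _ => ?_
  simp

theorem euler_recurrence_complex [Finite k] (hK : FunFld.IsFunctionField k K) (n : ℕ) :
    (n : ℂ) * (effDivCount k K n : ℂ) =
      ∑ r ∈ Finset.Icc 1 n, (placeSum k K r : ℂ) * (effDivCount k K (n - r) : ℂ) := by
  have := euler_recurrence hK n
  exact_mod_cast this

/-- `N_r = 1 + q^r - ∑ αᵢ^r`. -/
theorem placeSum_formula [Finite k] (hK : FunFld.IsFunctionField k K) {ι : Type*} [Fintype ι]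
    (α : ι → ℂ)
    (hα : PowerSeries.map (Int.castRingHom ℂ) (numerZ k K) =
      ((∏ i, (1 - Polynomial.C (α i) * Polynomial.X) : Polynomial ℂ) : PowerSeries ℂ))
    (r : ℕ) (hr : r ≠ 0) :
    (placeSum k K r : ℂ) = 1 + (Nat.card k : ℂ) ^ r - ∑ i, α i ^ r := by
  rw [map_numerZ, coe_prod_linear] at hα
  exact LogDeriv.N_formula (fun n => (effDivCount k K n : ℂ)) (fun r => (placeSum k K r : ℂ))
    (euler_recurrence_complex hK) _ α hα r hr

theorem placeSum_one [Finite k] (hK : FunFld.IsFunctionField k K) :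
    placeSum k K 1 = Nat.card {P : Place k K // P.deg = 1} := by
  classical
  set s := (places_deg_le_finite hK 1).toFinset with hs
  have hsm : ∀ P, P ∈ s ↔ P.deg ≤ 1 := fun P => by rw [hs, Set.Finite.mem_toFinset]; rfl
  rw [placeSum_eq_sum le_rfl le_rfl s hsm]
  have h1 : ∀ P ∈ s, (if P.deg ∣ 1 then P.deg else 0) = if P.deg = 1 then 1 else 0 := by
    intro P _
    by_cases h : P.deg = 1
    · rw [if_pos h, h, if_pos (dvd_refl 1)]
    · rw [if_neg h, if_neg (by rwa [Nat.dvd_one])]
  rw [Finset.sum_congr rfl h1, Finset.sum_boole, Nat.cast_id]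
  rw [← Fintype.card_coe, ← Nat.card_eq_fintype_card]
  apply Nat.card_congr
  exact
    { toFun := fun P => ⟨P.1, (Finset.mem_filter.mp P.2).2⟩
      invFun := fun P => ⟨P.1, Finset.mem_filter.mpr ⟨(hsm _).mpr P.2.le, P.2⟩⟩
      left_inv := fun P => rfl
      right_inv := fun P => rfl }

end

section ConstExtension

variable {k K k' K' : Type*} [Field k] [Finite k] [Field K] [Algebra k K] [Field k'] [Finite k']
    [Field K'] [Algebra k k'] [Algebra K K'] [Algebra k' K']

theorem placeSum_isConstExt (hK : FunFld.IsFunctionField k K)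
    (hK' : FunFld.IsFunctionField k' K') (hce : FunFld.IsConstExt k K k' K') (r : ℕ)
    (hr : 1 ≤ r) : placeSum k' K' r = placeSum k K (Module.finrank k k' * r) := by
  letI : Algebra k K' := ((algebraMap K K').comp (algebraMap k K)).toAlgebra
  haveI : IsScalarTower k K K' := IsScalarTower.of_algebraMap_eq (fun _ => rfl)
  haveI : IsScalarTower k k' K' := IsScalarTower.of_algebraMap_eq (fun c => hce.1 c)
  exact ConstExt.placeSum_constExt hK hK' hce.2.1 hce.2.2 r hr

theorem card_places_deg_one_isConstExt (hK : FunFld.IsFunctionField k K)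
    (hK' : FunFld.IsFunctionField k' K') (hce : FunFld.IsConstExt k K k' K')
    {ι : Type*} [Fintype ι] (α : ι → ℂ)
    (hα : PowerSeries.map (Int.castRingHom ℂ) (numerZ k K) =
      ((∏ i, (1 - Polynomial.C (α i) * Polynomial.X) : Polynomial ℂ) : PowerSeries ℂ)) :
    (Nat.card {P : FunFld.Place k' K' // P.deg = 1} : ℂ) =
      1 + (Nat.card k : ℂ) ^ Module.finrank k k' - ∑ i, α i ^ Module.finrank k k' := by
  have hn : 0 < Module.finrank k k' := Module.finrank_pos
  rw [← placeSum_one hK', placeSum_isConstExt hK hK' hce 1 le_rfl, mul_one]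
  exact placeSum_formula hK α hα _ hn.ne'

theorem numerZ_isConstExt (hK : FunFld.IsFunctionField k K)
    (hK' : FunFld.IsFunctionField k' K') (hce : FunFld.IsConstExt k K k' K')
    {ι : Type*} [Fintype ι] (α : ι → ℂ)
    (hα : PowerSeries.map (Int.castRingHom ℂ) (numerZ k K) =
      ((∏ i, (1 - Polynomial.C (α i) * Polynomial.X) : Polynomial ℂ) : PowerSeries ℂ)) :
    PowerSeries.map (Int.castRingHom ℂ) (numerZ k' K') =
      ((∏ i, (1 - Polynomial.C (α i ^ Module.finrank k k') * Polynomial.X) : Polynomial ℂ) :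
        PowerSeries ℂ) := by
  have hn : 0 < Module.finrank k k' := Module.finrank_pos
  have hcard : (Nat.card k' : ℂ) = (Nat.card k : ℂ) ^ Module.finrank k k' := by
    have : Nat.card k' = Nat.card k ^ Module.finrank k k' := Module.natCard_eq_pow_finrank
    rw [this]; push_cast; rfl
  rw [map_numerZ, coe_prod_linear]
  apply LogDeriv.eq_prod_of_N (fun n => (effDivCount k' K' n : ℂ))
    (fun r => (placeSum k' K' r : ℂ)) (by simp [effDivCount_zero hK'])
    (euler_recurrence_complex hK')
  intro r hr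
  have hr1 : 1 ≤ r := Nat.one_le_iff_ne_zero.mpr hr
  rw [placeSum_isConstExt hK hK' hce r hr1,
    placeSum_formula hK α hα _ (Nat.mul_pos hn hr1).ne', hcard]
  simp only [pow_mul]

end ConstExtension

end Groth.Agent.H55
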