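import Groth.Agent.H55.FFWeier
import Groth.Agent.H55.FFAut
import Groth.Agent.H55.FFOver2
import Groth.Agent.H55.FFZeta5

/-!
# Bombieri's upper bound for the number of places fixed by a twisted Frobenius.
-/

set_option autoImplicit false

namespace Groth.Agent.H55

open FunFld WithZero

namespace Bombieri

variable {k E : Type*} [Field k] [Field E] [Algebra k E]

/-- `R` is fixed by the `σ`-twisted `N`-power Frobenius: `σ z ≡ z^N mod 𝔪_R` on `O_R`. -/
def Fix (σ : E ≃ₐ[k] E) (N : ℕ) (R : Place k E) : Prop :=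
  ∀ z : E, R.1 z ≤ 1 → R.1 (σ z - z ^ N) < 1

theorem exists_pole_basis (hK : FunFld.IsFunctionField k E) (Q₀ : Place k E) (hQ₀ : Q₀.deg = 1)
    (m : ℕ) : ∃ (I : Finset ℕ) (u : ℕ → E), (∀ i ∈ I, i ≤ m) ∧
      I.card = ell (Finsupp.single Q₀ (m : ℤ) : Divisor k E) ∧
      ∀ i ∈ I, u i ≠ 0 ∧ Q₀.ord (u i) = -(i : ℤ) ∧ ∀ R : Place k E, R ≠ Q₀ → 0 ≤ R.ord (u i) := by
  classical
  have hex : ∀ i : ℕ, ∃ f : E, (¬ IsGap Q₀ (i : ℤ)) →
      (f ≠ 0 ∧ Q₀.ord f = -(i : ℤ) ∧ ∀ R : Place k E, R ≠ Q₀ → 0 ≤ R.ord f) := by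
    intro i
    by_cases h : IsGap Q₀ (i : ℤ)
    · exact ⟨1, fun h' => absurd h h'⟩
    · obtain ⟨f, hf⟩ := exists_of_not_isGap Q₀ h
      exact ⟨f, fun _ => hf⟩
  choose u hu using hex
  refine ⟨insert 0 ((Finset.Icc 1 m).filter (fun i : ℕ => ¬ IsGap Q₀ (i : ℤ))),
    fun i => if i = 0 then 1 else u i, ?_, ?_, ?_⟩
  · intro i hi
    rw [Finset.mem_insert, Finset.mem_filter, Finset.mem_Icc] at hi
    rcases hi with rfl | ⟨⟨-, h⟩, -⟩
    · exact Nat.zero_le _
    · exact h
  · rw [Finset.card_insert_of_notMem, ell_single_eq_card Q₀ hK hQ₀ m, add_comm]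
    intro h
    rw [Finset.mem_filter, Finset.mem_Icc] at h
    omega
  · intro i hi
    rw [Finset.mem_insert, Finset.mem_filter, Finset.mem_Icc] at hi
    by_cases hi0 : i = 0
    · subst hi0
      simp only [if_true]
      refine ⟨one_ne_zero, ?_, fun R _ => ?_⟩
      · simp [Place.ord]
      · simp [Place.ord]
    · simp only [if_neg hi0]
      rcases hi with rfl | ⟨-, h⟩
      · exact absurd rfl hi0
      · exact hu i h

theorem riemann_ineq (hK : FunFld.IsFunctionField k E) (D : Divisor k E) :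
    D.deg + 1 - (genus k E : ℤ) ≤ (ell D : ℤ) := by
  obtain ⟨C, hC⟩ := exists_canonical hK
  have := riemann_roch hK hC D
  have h0 : (0 : ℤ) ≤ (ell (C - D) : ℤ) := Nat.cast_nonneg _
  omega

theorem card_L [Finite k] (hK : FunFld.IsFunctionField k E) (D : Divisor k E) :
    Nat.card (L D) = Nat.card k ^ ell D := by
  haveI := L_finite hK D
  unfold ell
  exact Module.natCard_eq_pow_finrank

/-- The key construction: a nonzero function vanishing at all twisted-fixed places. -/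
theorem exists_vanishing [Finite k] (hK : FunFld.IsFunctionField k E) (σ : E ≃ₐ[k] E)
    (Q₀ : Place k E) (hQ₀ : Q₀.deg = 1) (s : ℕ)
    (hbig : (genus k E + 1) ^ 2 < Nat.card k ^ s) :
    ∃ y : E, y ≠ 0 ∧
      y ∈ L (Finsupp.single Q₀ (((Nat.card k ^ s - 1) + Nat.card k ^ s *
        (2 * genus k E + Nat.card k ^ s) : ℕ) : ℤ) : Divisor k E) ∧
      ∀ R : Place k E, R ≠ Q₀ → Fix σ ((Nat.card k ^ s) ^ 2) R → R.1 y < 1 := by
  classical
  set q := Nat.card k with hq
  set q₀ := q ^ s with hq₀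
  set g := genus k E with hg
  have hq1 : 1 < q := Finite.one_lt_card
  have hq₀1 : 1 ≤ q₀ := Nat.one_le_pow _ _ (by omega)
  obtain ⟨p, hp⟩ := CharP.exists k
  haveI := hp
  haveI : Fact p.Prime := ⟨CharP.char_is_prime k p⟩
  haveI : Fintype k := Fintype.ofFinite k
  obtain ⟨a, -, ha⟩ := FiniteField.card k p
  have hqp : q = p ^ (a : ℕ) := by rw [hq, Nat.card_eq_fintype_card, ha]
  have hq₀p : q₀ = p ^ ((a : ℕ) * s) := by rw [hq₀, hqp, pow_mul]
  haveI : CharP E p := (RingHom.charP_iff (algebraMap k E) (algebraMap k E).injective p).mp hp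
  haveI : ExpChar E p := ExpChar.prime Fact.out
  set m := q₀ - 1 with hm
  set n := 2 * g + q₀ with hn
  have hmZ : (m : ℤ) = (q₀ : ℤ) - 1 := by rw [hm]; push_cast [Nat.cast_sub hq₀1]; ring
  obtain ⟨I, u, hIm, hIcard, hu⟩ := exists_pole_basis hK Q₀ hQ₀ m
  set R₁ := comapEquiv Q₀ σ.symm with hR₁
  set DV : Divisor k E := Finsupp.single Q₀ (n : ℤ) with hDV
  set DW : Divisor k E := Finsupp.single Q₀ ((q₀ * m : ℕ) : ℤ) + Finsupp.single R₁ (n : ℤ)
    with hDW
  haveI := L_finite hK DV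
  haveI := L_finite hK DW
  haveI : Finite (L DV) := Module.finite_of_finite k
  haveI : Finite (L DW) := Module.finite_of_finite k
  -- dimensions
  have hdegV : DV.deg = n := by rw [hDV, deg_single, hQ₀]; simp
  have hellV : (ell DV : ℤ) = (n : ℤ) + 1 - g := by
    have := ell_eq_of_deg_ge hK DV (by rw [hdegV, hn]; push_cast; omega)
    rwa [hdegV] at this
  have hdegW : DW.deg = (q₀ * m : ℕ) + n := by
    rw [hDW, deg_add, deg_single, deg_single, hQ₀, hR₁, deg_comapEquiv, hQ₀]; simp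
  have hellW : (ell DW : ℤ) = ((q₀ * m : ℕ) : ℤ) + n + 1 - g := by
    have h0 : (0 : ℤ) ≤ ((q₀ * m : ℕ) : ℤ) := Nat.cast_nonneg _
    have := ell_eq_of_deg_ge hK DW (by rw [hdegW, hn]; push_cast; push_cast at h0; omega)
    rwa [hdegW] at this
  have hIge : (m : ℤ) + 1 - g ≤ (I.card : ℤ) := by
    rw [hIcard]
    have := riemann_ineq hK (Finsupp.single Q₀ (m : ℤ) : Divisor k E)
    rw [deg_single, hQ₀] at this
    simpa using this
  have hkey : ell DW < ell DV * I.card := by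
    have hbigZ : ((g : ℤ) + 1) ^ 2 < (q₀ : ℤ) := by exact_mod_cast hbig
    have h1 : (ell DW : ℤ) < (ell DV : ℤ) * (I.card : ℤ) := by
      rw [hellW, hellV]
      have hnZ : (n : ℤ) = 2 * g + q₀ := by rw [hn]; push_cast; ring
      have h2 : (0 : ℤ) ≤ (n : ℤ) + 1 - g := by
        have : (0 : ℤ) ≤ (q₀ : ℤ) := Nat.cast_nonneg _
        have : (0 : ℤ) ≤ (g : ℤ) := Nat.cast_nonneg _
        rw [hnZ]; linarith
      have h3 : ((n : ℤ) + 1 - g) * ((m : ℤ) + 1 - g) ≤ ((n : ℤ) + 1 - g) * (I.card : ℤ) :=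
        mul_le_mul_of_nonneg_left hIge h2
      refine lt_of_lt_of_le ?_ h3
      push_cast
      rw [hnZ, hmZ]
      nlinarith
    exact_mod_cast h1
  -- membership lemma
  have hmemW : ∀ i ∈ I, ∀ z : E, z ∈ L DV → (u i) ^ q₀ * σ z ∈ L DW := by
    intro i hi z hz
    obtain ⟨hui0, huiQ, huiR⟩ := hu i hi
    rw [mem_L]
    intro R
    rw [map_mul, hDW, Finsupp.add_apply, exp_add]
    apply mul_le_mul'
    · rw [map_pow]
      by_cases hR : R = Q₀
      · subst hR
        rw [Finsupp.single_eq_same, pl_val_eq_exp_neg_ord _ hui0, huiQ, neg_neg, ← exp_nsmul,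
          exp_le_exp]
        have := hIm i hi
        push_cast
        simp only [nsmul_eq_mul]
        have h1 : (i : ℤ) ≤ m := by exact_mod_cast this
        nlinarith
      · rw [Finsupp.single_eq_of_ne hR, exp_zero]
        exact pow_le_one₀ zero_le' ((pl_val_le_one_iff R hui0).mpr (huiR R hR))
    · have h1 := hz (comapEquiv R σ)
      rw [comapEquiv_apply] at h1
      refine h1.trans (exp_le_exp.mpr ?_)
      rw [hDV, Finsupp.single_apply, Finsupp.single_apply]
      by_cases hR : R₁ = R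
      · rw [if_pos hR]
        split_ifs <;> omega
      · rw [if_neg hR, if_neg]
        intro h2
        apply hR
        rw [hR₁, h2, comapEquiv_symm]
  -- the map Λ
  let Λ : (I → L DV) → L DW := fun z =>
    ⟨∑ i : I, (u i) ^ q₀ * σ (z i : E), Submodule.sum_mem _ fun i _ => hmemW i i.2 _ (z i).2⟩
  have hcardlt : Nat.card (L DW) < Nat.card (I → L DV) := by
    have hI' : Nat.card ↥I = I.card := by rw [Nat.card_eq_fintype_card, Fintype.card_coe]
    rw [Nat.card_fun, card_L hK, card_L hK, ← pow_mul, hI']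
    exact Nat.pow_lt_pow_right hq1 hkey
  have hninj : ¬ Function.Injective Λ := fun hinj =>
    absurd (Nat.card_le_card_of_injective Λ hinj) (not_le.mpr hcardlt)
  rw [Function.Injective] at hninj
  push_neg at hninj
  obtain ⟨z₁, z₂, heq, hne⟩ := hninj
  set w : I → L DV := z₁ - z₂ with hw
  have hw0 : w ≠ 0 := sub_ne_zero.mpr hne
  have hΛw : ∑ i : I, (u i) ^ q₀ * σ (w i : E) = 0 := by
    have h1 := congrArg Subtype.val heq
    simp only [Λ] at h1
    rw [← sub_eq_zero, ← Finset.sum_sub_distrib] at h1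
    rw [← h1]
    refine Finset.sum_congr rfl fun i _ => ?_
    rw [hw, Pi.sub_apply, Submodule.coe_sub, map_sub]
    ring
  obtain ⟨i₀, hi₀⟩ : ∃ i₀ : I, w i₀ ≠ 0 := by
    by_contra hcon
    push_neg at hcon
    exact hw0 (funext hcon)
  -- the function y
  set y : E := ∑ i : I, u i * (w i : E) ^ q₀ with hy
  have hwR : ∀ (i : I) (R : Place k E), R ≠ Q₀ → R.1 (w i : E) ≤ 1 := by
    intro i R hR
    have := (w i).2 R
    have h3 : DV R = 0 := by rw [hDV]; exact Finsupp.single_eq_of_ne hR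
    rwa [h3, exp_zero] at this
  have huR : ∀ (i : I) (R : Place k E), R ≠ Q₀ → R.1 (u i) ≤ 1 := by
    intro i R hR
    obtain ⟨hui0, -, huiR⟩ := hu i i.2
    exact (pl_val_le_one_iff R hui0).mpr (huiR R hR)
  refine ⟨y, ?_, ?_, ?_⟩
  · -- y ≠ 0
    intro hy0
    set J := Finset.univ.filter (fun i : I => (w i : E) ≠ 0) with hJ
    have hsum : ∑ i ∈ J, (1 : k) • (u i * (w i : E) ^ q₀) = 0 := by
      rw [hJ, Finset.sum_filter]
      have e : ∀ i : I, (if (w i : E) ≠ 0 then (1 : k) • (u i * (w i : E) ^ q₀) else 0) =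
          u i * (w i : E) ^ q₀ := by
        intro i
        by_cases hwi : (w i : E) = 0
        · rw [if_neg (not_not.mpr hwi), hwi, zero_pow (by omega), mul_zero]
        · rw [if_pos hwi, one_smul]
      rw [Finset.sum_congr rfl (fun i _ => e i)]
      exact hy0
    have hJne : ∀ i ∈ J, u i * (w i : E) ^ q₀ ≠ 0 := by
      intro i hi
      exact mul_ne_zero (hu i i.2).1 (pow_ne_zero _ (Finset.mem_filter.mp hi).2)
    have hinj : Set.InjOn (fun i : I => Q₀.ord (u i * (w i : E) ^ q₀)) (J : Set I) := by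
      intro i hi j hj hij
      have hwi := (Finset.mem_filter.mp hi).2
      have hwj := (Finset.mem_filter.mp hj).2
      simp only at hij
      rw [pl_ord_mul Q₀ (hu i i.2).1 (pow_ne_zero _ hwi),
        pl_ord_mul Q₀ (hu j j.2).1 (pow_ne_zero _ hwj), pl_ord_pow, pl_ord_pow,
        (hu i i.2).2.1, (hu j j.2).2.1] at hij
      have hdvd : (q₀ : ℤ) ∣ (i : ℤ) - (j : ℤ) :=
        ⟨Q₀.ord (w i : E) - Q₀.ord (w j : E), by linarith⟩
      have hi' : ((i : ℕ) : ℤ) ≤ m := by exact_mod_cast hIm i i.2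
      have hj' : ((j : ℕ) : ℤ) ≤ m := by exact_mod_cast hIm j j.2
      have habs : |((i : ℕ) : ℤ) - ((j : ℕ) : ℤ)| < (q₀ : ℤ) := by
        rw [abs_lt]; constructor <;> omega
      have := Int.eq_zero_of_abs_lt_dvd hdvd habs
      apply Subtype.ext
      omega
    have hall := eq_zero_of_sum_eq_zero_of_ord_injOn Q₀ J (fun _ => (1 : k))
      (fun i => u i * (w i : E) ^ q₀) hJne hinj hsum
    have hi₀J : i₀ ∈ J := Finset.mem_filter.mpr ⟨Finset.mem_univ _, fun h => hi₀ (Subtype.ext h)⟩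
    exact one_ne_zero (hall i₀ hi₀J)
  · -- y ∈ L
    rw [mem_L]
    intro R
    rw [hy]
    apply Valuation.map_sum_le
    intro i _
    rw [map_mul, map_pow]
    by_cases hR : R = Q₀
    · subst hR
      rw [Finsupp.single_eq_same]
      obtain ⟨hui0, huiQ, -⟩ := hu i i.2
      have h1 : R.1 (u i) ≤ exp ((m : ℤ)) := by
        rw [pl_val_eq_exp_neg_ord _ hui0, huiQ, neg_neg, exp_le_exp]
        exact_mod_cast hIm i i.2
      have h2 : R.1 (w i : E) ^ q₀ ≤ exp (((q₀ * n : ℕ) : ℤ)) := by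
        have h3 := (w i).2 R
        have h4 : DV R = n := by rw [hDV]; exact Finsupp.single_eq_same
        rw [h4] at h3
        calc R.1 (w i : E) ^ q₀ ≤ (exp (n : ℤ)) ^ q₀ := pow_le_pow_left' h3 q₀
          _ = exp (((q₀ * n : ℕ) : ℤ)) := by
            rw [← exp_nsmul]
            congr 1
            all_goals first | rfl | simp
      calc R.1 (u i) * R.1 (w i : E) ^ q₀ ≤ exp ((m : ℤ)) * exp (((q₀ * n : ℕ) : ℤ)) :=
            mul_le_mul' h1 h2
        _ = exp (((m + q₀ * n : ℕ) : ℤ)) := by rw [← exp_add]; congr 1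
    · rw [Finsupp.single_eq_of_ne hR, exp_zero]
      exact mul_le_one' (huR i R hR) (pow_le_one₀ zero_le' (hwR i R hR))
  · -- vanishing
    intro R hR hfix
    have hyq : y ^ q₀ = ∑ i : I, (u i) ^ q₀ * ((w i : E) ^ (q₀ ^ 2) - σ (w i : E)) := by
      rw [hy, hq₀p, sum_pow_char_pow]
      have e1 : ∑ i : I, (u i) ^ p ^ ((a : ℕ) * s) *
          ((w i : E) ^ ((p ^ ((a : ℕ) * s)) ^ 2) - σ (w i : E)) =
          ∑ i : I, (u i) ^ p ^ ((a : ℕ) * s) * (w i : E) ^ ((p ^ ((a : ℕ) * s)) ^ 2) -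
            ∑ i : I, (u i) ^ p ^ ((a : ℕ) * s) * σ (w i : E) := by
        rw [← Finset.sum_sub_distrib]
        refine Finset.sum_congr rfl fun i _ => by ring
      rw [e1, ← hq₀p, hΛw, sub_zero]
      refine Finset.sum_congr rfl fun i _ => ?_
      rw [mul_pow, ← pow_mul, sq]
    have h1 : R.1 (y ^ q₀) < 1 := by
      rw [hyq]
      apply Valuation.map_sum_lt _ one_ne_zero
      intro i _
      rw [map_mul, map_pow]
      have h2 : R.1 ((w i : E) ^ (q₀ ^ 2) - σ (w i : E)) < 1 := by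
        rw [Valuation.map_sub_swap]
        exact hfix _ (hwR i R hR)
      exact lt_of_le_of_lt (mul_le_of_le_one_left' (pow_le_one₀ zero_le' (huR i R hR))) h2
    rw [map_pow] at h1
    exact (pow_lt_one_iff_of_nonneg zero_le' (by omega)).mp h1

theorem deg_nonneg_of_mem_L (hK : FunFld.IsFunctionField k E) (D : Divisor k E) {y : E}
    (hy0 : y ≠ 0) (hy : y ∈ L D) : 0 ≤ D.deg := by
  have := deg_nonneg_of_nonneg (nonneg_of_mem_L hK D hy0 hy)
  rwa [deg_add, deg_div hK, add_zero] at this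

open scoped Classical in
theorem sum_single_apply (T : Finset (Place k E)) (R : Place k E) :
    (∑ R' ∈ T, (Finsupp.single R' (1 : ℤ) : Divisor k E)) R = if R ∈ T then 1 else 0 := by
  rw [Finsupp.finset_sum_apply]
  split_ifs with h
  · rw [Finset.sum_eq_single R]
    · exact Finsupp.single_eq_same
    · intro R' _ hne
      exact Finsupp.single_eq_of_ne (Ne.symm hne)
    · intro hn; exact absurd h hn
  · apply Finset.sum_eq_zero
    intro R' hR'
    apply Finsupp.single_eq_of_ne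
    rintro rfl
    exact h hR'

/-- Bombieri's bound for the twisted Frobenius. -/
theorem sum_deg_le [Finite k] (hK : FunFld.IsFunctionField k E) (σ : E ≃ₐ[k] E)
    (Q₀ : Place k E) (hQ₀ : Q₀.deg = 1) (s : ℕ)
    (hbig : (genus k E + 1) ^ 2 < Nat.card k ^ s) (T : Finset (Place k E))
    (hT : ∀ R ∈ T, Fix σ ((Nat.card k ^ s) ^ 2) R) :
    ∑ R ∈ T, R.deg ≤ (Nat.card k ^ s) ^ 2 + (2 * genus k E + 1) * Nat.card k ^ s := by
  classical
  obtain ⟨y, hy0, hyL, hyv⟩ := exists_vanishing hK σ Q₀ hQ₀ s hbig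
  set q₀ := Nat.card k ^ s with hq₀
  have hq₀1 : 1 ≤ q₀ := Nat.one_le_pow _ _ Nat.card_pos
  set M := (q₀ - 1) + q₀ * (2 * genus k E + q₀) with hM
  set T' := T.erase Q₀ with hT'
  set D : Divisor k E := Finsupp.single Q₀ (M : ℤ) - ∑ R ∈ T', (Finsupp.single R (1 : ℤ) :
    Divisor k E) with hD
  have hyD : y ∈ L D := by
    rw [mem_L]
    intro R
    rw [hD, Finsupp.sub_apply, sum_single_apply]
    by_cases hR : R ∈ T'
    · rw [if_pos hR]
      have hRQ : R ≠ Q₀ := Finset.ne_of_mem_erase hR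
      have hRT : R ∈ T := Finset.mem_of_mem_erase hR
      rw [Finsupp.single_eq_of_ne hRQ, zero_sub]
      exact (zm0_lt_one_iff _).mp (hyv R hRQ (hT R hRT))
    · rw [if_neg hR, sub_zero]
      exact hyL R
  have hdeg := deg_nonneg_of_mem_L hK D hy0 hyD
  have hdegD : D.deg = (M : ℤ) - ∑ R ∈ T', (R.deg : ℤ) := by
    rw [hD, deg_sub, deg_single, hQ₀, ← degHom_apply, map_sum]
    simp only [degHom_apply, deg_single]
    simp
  rw [hdegD] at hdeg
  have h1 : ∑ R ∈ T', R.deg ≤ M := by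
    have : ((∑ R ∈ T', R.deg : ℕ) : ℤ) ≤ (M : ℤ) := by push_cast; omega
    exact_mod_cast this
  have h2 : ∑ R ∈ T, R.deg ≤ 1 + ∑ R ∈ T', R.deg := by
    by_cases hQT : Q₀ ∈ T
    · rw [← Finset.add_sum_erase T _ hQT, hQ₀]
    · rw [hT', Finset.erase_eq_of_notMem hQT]; omega
  have h3 : 1 + M = q₀ ^ 2 + (2 * genus k E + 1) * q₀ := by
    rw [hM]
    have : 1 + (q₀ - 1) = q₀ := by omega
    rw [← add_assoc, this]
    ring
  omega

end Bombieri

end Groth.Agent.H55
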