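import Groth.Agent.H58.CDL.Defs
import Groth.Agent.H46.LatMain

/-!
Symbol lemmas (P6), (P8) for helper58's S1853 squad.
-/

set_option autoImplicit false
set_option linter.style.haveILetI false
set_option linter.unusedSectionVars false
set_option linter.deprecated false
universe u v

namespace Groth.Agent.H55.CDLSym

open CycDet IsLocalRing Groth.Agent.H46.CD Groth.Agent.H46.LatDist Groth.Agent.H58.CDL

section P6

variable {S : Type u} [CommRing S] [IsLocalRing S] {V : Type v} [AddCommGroup V] [Module S V]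
  {l : ℕ}

theorem scaleFrom_of_le (k : ℕ) (a : S) (y : Fin l → V) (j : Fin l) (h : k ≤ (j : ℕ)) :
    scaleFrom k a y j = a • y j := by
  unfold scaleFrom; rw [if_pos h]

theorem scaleFrom_of_lt (k : ℕ) (a : S) (y : Fin l → V) (j : Fin l) (h : (j : ℕ) < k) :
    scaleFrom k a y j = y j := by
  unfold scaleFrom; rw [if_neg (by omega)]

theorem spanBefore_scaleFrom_unit (y : Fin l → V) (k : ℕ) (c : Sˣ) (i : ℕ) :
    spanBefore S V (scaleFrom k (c : S) y) i = spanBefore S V y i := by
  apply le_antisymm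
  · apply spanBefore_le
    intro j hj
    by_cases h : k ≤ (j : ℕ)
    · rw [scaleFrom_of_le k _ y j h]
      exact Submodule.smul_mem _ _ (mem_spanBefore y j hj)
    · rw [scaleFrom_of_lt k _ y j (by omega)]
      exact mem_spanBefore y j hj
  · apply spanBefore_le
    intro j hj
    have hmem := mem_spanBefore (R := S) (scaleFrom k (c : S) y) j hj
    by_cases h : k ≤ (j : ℕ)
    · rw [scaleFrom_of_le k _ y j h] at hmem
      have h2 := Submodule.smul_mem _ ((c⁻¹ : Sˣ) : S) hmem
      rwa [smul_smul, Units.inv_mul, one_smul] at h2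
    · rwa [scaleFrom_of_lt k _ y j (by omega)] at hmem

/-- (P6a) -/
theorem isAdmissible_scaleFrom (e : Adm S V l) (k : ℕ) (c : Sˣ) :
    IsAdmissible S V (scaleFrom k (c : S) e.1) := by
  intro i r hr
  rw [spanBefore_scaleFrom_unit]
  by_cases h : k ≤ (i : ℕ)
  · rw [scaleFrom_of_le k _ e.1 i h, smul_comm]
    exact Submodule.smul_mem _ _ (e.2 i r hr)
  · rw [scaleFrom_of_lt k _ e.1 i (by omega)]
    exact e.2 i r hr

theorem cls_scaleFrom_aux (e : Adm S V l) (c : Sˣ) : ∀ (n k : ℕ), k + n = l →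
    ∀ (h' : IsAdmissible S V (scaleFrom k (c : S) e.1)),
    cls ⟨scaleFrom k (c : S) e.1, h'⟩ = (residue S (c : S)) ^ n • cls e := by
  intro n
  induction n with
  | zero =>
    intro k hk h'
    rw [pow_zero, one_smul]
    congr 1
    apply Subtype.ext
    funext j
    exact scaleFrom_of_lt k _ e.1 j (by have := j.2; omega)
  | succ n ih =>
    intro k hk h'
    have hkl : k < l := by omega
    have h'' := isAdmissible_scaleFrom e (k + 1) c
    rw [cls_eq_smul ⟨scaleFrom k (c : S) e.1, h'⟩ ⟨scaleFrom (k + 1) (c : S) e.1, h''⟩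
      ⟨k, hkl⟩ c ?_ ?_, ih (k + 1) (by omega) h'', pow_succ, mul_comm, mul_smul]
    · intro j hj
      have hjk : (j : ℕ) ≠ k := fun h => hj (Fin.ext h)
      show scaleFrom k (c : S) e.1 j = scaleFrom (k + 1) (c : S) e.1 j
      by_cases h : k ≤ (j : ℕ)
      · rw [scaleFrom_of_le k _ e.1 j h, scaleFrom_of_le (k + 1) _ e.1 j (by omega)]
      · rw [scaleFrom_of_lt k _ e.1 j (by omega), scaleFrom_of_lt (k + 1) _ e.1 j (by omega)]
    · show scaleFrom k (c : S) e.1 ⟨k, hkl⟩ - (c : S) • scaleFrom (k + 1) (c : S) e.1 ⟨k, hkl⟩ ∈ _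
      rw [scaleFrom_of_le k _ e.1 ⟨k, hkl⟩ le_rfl,
        scaleFrom_of_lt (k + 1) _ e.1 ⟨k, hkl⟩ (Nat.lt_succ_self k), sub_self]
      exact Submodule.zero_mem _

/-- (P6b) -/
theorem cls_scaleFrom (e : Adm S V l) (k : ℕ) (hk : k ≤ l) (c : Sˣ)
    (h' : IsAdmissible S V (scaleFrom k (c : S) e.1)) :
    cls ⟨scaleFrom k (c : S) e.1, h'⟩ = (residue S (c : S)) ^ (l - k) • cls e :=
  cls_scaleFrom_aux e c (l - k) k (by omega) h'

end P6

section P8

open TensorProduct

variable {S : Type u} [CommRing S] [IsLocalRing S] {V : Type u} [AddCommGroup V] [Module S V]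
  {l : ℕ}

/-- The span of a nonzero vector killed by the maximal ideal is a simple module. -/
theorem isSimpleModule_span_singleton (v : V) (hv0 : v ≠ 0)
    (hm : ∀ r ∈ maximalIdeal S, r • v = 0) : IsSimpleModule S (Submodule.span S {v}) := by
  rw [isSimpleModule_iff_toSpanSingleton_surjective]
  have hvK : v ∈ Submodule.span S {v} := Submodule.mem_span_singleton_self v
  refine ⟨⟨⟨v, hvK⟩, 0, fun h => hv0 (congrArg Subtype.val h)⟩, ?_⟩
  intro x hx z
  obtain ⟨a, ha⟩ := Submodule.mem_span_singleton.mp x.2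
  obtain ⟨b, hb⟩ := Submodule.mem_span_singleton.mp z.2
  have hau : IsUnit a := by
    by_contra hnu
    have : a ∈ maximalIdeal S := (IsLocalRing.mem_maximalIdeal _).mpr hnu
    apply hx
    apply Subtype.ext
    rw [← ha, hm a this]; rfl
  obtain ⟨w, rfl⟩ := hau
  refine ⟨b * ((w⁻¹ : Sˣ) : S), ?_⟩
  apply Subtype.ext
  rw [LinearMap.toSpanSingleton_apply]
  show (b * ((w⁻¹ : Sˣ) : S)) • (x : V) = z
  rw [← ha, ← hb, smul_smul, mul_assoc, Units.inv_mul, mul_one]

theorem cls_quotT_aux (hlen : Module.length S V = ((l + 1 : ℕ) : ℕ∞)) (x y : Adm S V (l + 1))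
    (c : Sˣ) (hxc : x.1 0 = (c : S) • y.1 0) (hy0 : y.1 0 ∉ spanBefore S V y.1 0)
    (K : Submodule S V) (hK : K = Submodule.span S {y.1 0})
    (xb yb : Adm S (V ⧸ K) l)
    (hxb : xb.1 = quotT x.1 K)
    (hyb : yb.1 = quotT y.1 K)
    (f : ResidueField S) (hf : cls x = f • cls y) :
    residue S (c : S) • cls xb = f • cls yb := by
  -- basic facts on `y 0`
  have hsb0 : spanBefore S V y.1 ((0 : Fin (l + 1)) : ℕ) = ⊥ := spanBefore_zero y.1
  have hy00 : y.1 0 ≠ 0 := by
    intro h0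
    apply hy0
    rw [h0]; exact Submodule.zero_mem _
  have hmy : ∀ r ∈ maximalIdeal S, r • y.1 0 = 0 := by
    intro r hr
    have := y.2 0 r hr
    rw [hsb0] at this
    exact (Submodule.mem_bot S).mp this
  have hsimple : IsSimpleModule S K := by
    rw [hK]; exact isSimpleModule_span_singleton (y.1 0) hy00 hmy
  have hyK : y.1 0 ∈ K := by rw [hK]; exact Submodule.mem_span_singleton_self _
  have hxK : x.1 0 ∈ K := by rw [hxc]; exact Submodule.smul_mem _ _ hyK
  have hlK : Module.length S K = ((1 : ℕ) : ℕ∞) := by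
    rw [Nat.cast_one]; exact Module.length_eq_one_iff.mpr hsimple
  have hlQ : Module.length S (V ⧸ K) = (l : ℕ∞) := by
    have h1 := Module.length_eq_add_of_exact K.subtype K.mkQ (Submodule.subtype_injective _)
      (Submodule.mkQ_surjective _) (LinearMap.exact_subtype_mkQ K)
    rw [hlen, hlK] at h1
    have hne : Module.length S (V ⧸ K) ≠ ⊤ := by
      intro htop
      rw [htop, add_top] at h1
      exact ENat.coe_ne_top _ h1
    obtain ⟨n, hn⟩ := ENat.ne_top_iff_exists.mp hne
    rw [← hn] at h1 ⊢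
    have : l + 1 = 1 + n := by exact_mod_cast h1
    have : n = l := by omega
    rw [this]
  have hfg : LinearMap.range K.subtype = LinearMap.ker K.mkQ := by
    rw [Submodule.range_subtype, Submodule.ker_mkQ]
  obtain ⟨γ, hγ⟩ := main' (R := S) (f := K.subtype) (g := K.mkQ) (Submodule.subtype_injective _)
    (Submodule.mkQ_surjective _) hfg hlK hlQ (l + 1) (by omega)
  obtain ⟨lam, hlam⟩ := exists_functional_ne_zero (R := S) 1 K hlK
  -- the one-element tuples in `K`
  have hadmK : ∀ (v : K), (∀ r ∈ maximalIdeal S, r • v = 0) →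
      IsAdmissible S K (fun _ : Fin 1 => v) := by
    intro v hv i r hr
    rw [hv r hr]; exact Submodule.zero_mem _
  have hmyK : ∀ r ∈ maximalIdeal S, r • (⟨y.1 0, hyK⟩ : K) = 0 := by
    intro r hr
    apply Subtype.ext
    exact hmy r hr
  have hmxK : ∀ r ∈ maximalIdeal S, r • (⟨x.1 0, hxK⟩ : K) = 0 := by
    intro r hr
    apply Subtype.ext
    show r • x.1 0 = 0
    rw [hxc, smul_comm, hmy r hr, smul_zero]
  obtain ⟨eK, heK⟩ : ∃ eK : Adm S K 1, eK = ⟨fun _ => ⟨y.1 0, hyK⟩, hadmK _ hmyK⟩ := ⟨_, rfl⟩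
  obtain ⟨eK', heK'⟩ : ∃ eK' : Adm S K 1, eK' = ⟨fun _ => ⟨x.1 0, hxK⟩, hadmK _ hmxK⟩ :=
    ⟨_, rfl⟩
  have heK0 : ∀ i, eK.1 i = ⟨y.1 0, hyK⟩ := by intro i; rw [heK]
  have heK'0 : ∀ i, eK'.1 i = ⟨x.1 0, hxK⟩ := by intro i; rw [heK']
  have hgenK : Submodule.span S (Set.range eK.1) = ⊤ := by
    rw [eq_top_iff]
    intro z _
    obtain ⟨a, ha⟩ := Submodule.mem_span_singleton.mp (hK ▸ z.2 : (z : V) ∈ Submodule.span S {y.1 0})
    have : z = a • eK.1 0 := by
      apply Subtype.ext
      rw [heK0]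
      exact ha.symm
    rw [this]
    exact Submodule.smul_mem _ _ (Submodule.subset_span ⟨0, rfl⟩)
  have hlamK : lam (cls eK) ≠ 0 := hlam eK hgenK
  have hclsK : cls eK ≠ 0 := by
    intro h0
    apply hlamK
    rw [h0, _root_.map_zero]
  have hcK' : cls eK' = residue S (c : S) • cls eK := by
    apply cls_eq_smul eK' eK 0 c
    · intro j hj
      exact absurd (Subsingleton.elim j 0) hj
    · rw [heK0, heK'0]
      have : (⟨x.1 0, hxK⟩ : K) - (c : S) • (⟨y.1 0, hyK⟩ : K) = 0 := by
        apply Subtype.ext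
        show x.1 0 - (c : S) • y.1 0 = 0
        rw [hxc, sub_self]
      rw [this]
      exact Submodule.zero_mem _
  have hres : residue S (c : S) ≠ 0 := by
    intro h0
    have : (c : S) ∈ maximalIdeal S := (IsLocalRing.residue_eq_zero_iff _).mp h0
    exact (IsLocalRing.mem_maximalIdeal _).mp this c.isUnit
  have hclsK' : cls eK' ≠ 0 := by
    rw [hcK']
    exact smul_ne_zero hres hclsK
  have hidx : ∀ j : Fin l, Fin.cast (by omega : 1 + l = l + 1) (Fin.natAdd 1 j) = j.succ := by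
    intro j
    apply Fin.ext
    simp only [Fin.val_cast, Fin.val_natAdd, Fin.val_succ]
    omega
  have hidx0 : ∀ i : Fin 1, Fin.cast (by omega : 1 + l = l + 1) (Fin.castAdd l i) = 0 := by
    intro i
    apply Fin.ext
    simp only [Fin.val_cast, Fin.val_castAdd, Fin.val_zero]
    omega
  have e1 : γ (cls eK ⊗ₜ cls yb) = cls y := by
    apply hγ eK yb y hclsK
    · intro i
      rw [hidx0, heK0]; rfl
    · intro j
      rw [hidx, hyb]; rfl
  have e2 : γ (cls eK' ⊗ₜ cls xb) = cls x := by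
    apply hγ eK' xb x hclsK'
    · intro i
      rw [hidx0, heK'0]; rfl
    · intro j
      rw [hidx, hxb]; rfl
  have e3 : γ (cls eK ⊗ₜ (residue S (c : S) • cls xb)) = γ (cls eK ⊗ₜ (f • cls yb)) := by
    rw [TensorProduct.tmul_smul, TensorProduct.tmul_smul, map_smul, map_smul, e1, ← hf, ← e2,
      hcK', ← TensorProduct.smul_tmul', map_smul]
  have e4 := γ.injective e3
  have e5 := congrArg (fun t => TensorProduct.lid (ResidueField S) _
    (TensorProduct.map lam LinearMap.id t)) e4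
  simp only [TensorProduct.map_tmul, LinearMap.id_apply, TensorProduct.lid_tmul] at e5
  exact smul_right_injective _ hlamK e5

/-- (P8) -/
theorem cls_quotT (hlen : Module.length S V = ((l + 1 : ℕ) : ℕ∞)) (x y : Adm S V (l + 1))
    (c : Sˣ) (hxc : x.1 0 = (c : S) • y.1 0) (hy0 : y.1 0 ∉ spanBefore S V y.1 0)
    (xb yb : Adm S (V ⧸ Submodule.span S {y.1 0}) l)
    (hxb : xb.1 = quotT x.1 (Submodule.span S {y.1 0}))
    (hyb : yb.1 = quotT y.1 (Submodule.span S {y.1 0}))
    (f : ResidueField S) (hf : cls x = f • cls y) :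
    residue S (c : S) • cls xb = f • cls yb :=
  cls_quotT_aux hlen x y c hxc hy0 _ rfl xb yb hxb hyb f hf

end P8

end Groth.Agent.H55.CDLSym
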