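import Groth.Agent.H55.SplitA
import Mathlib

/-!
A model of `N ⊗[k] K` (for `N/k` algebraic, `K/k` geometric) inside an algebraic closure of `K`,
living in the universe of `K`.
-/

set_option autoImplicit false

universe u v

namespace Groth.Agent.H55

open FunFld IntermediateField TensorProduct

section Comp

variable (k : Type u) (K : Type v) (N : Type u) [Field k] [Field K] [Field N] [Algebra k K]
  [Algebra k N] [Algebra.IsAlgebraic k N]

/-- An embedding of `N` into the algebraic closure of `K`. -/
noncomputable def compEmb : N →ₐ[k] AlgebraicClosure K := IsAlgClosed.lift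

/-- The compositum `N K` inside an algebraic closure of `K`. -/
noncomputable def CompField : IntermediateField K (AlgebraicClosure K) :=
  IntermediateField.adjoin K (Set.range (compEmb k K N))

noncomputable instance compAlg : Algebra N (CompField k K N) :=
  RingHom.toAlgebra ((compEmb k K N).toRingHom.codRestrict (CompField k K N)
    (fun c => IntermediateField.subset_adjoin K _ ⟨c, rfl⟩))

instance compTower : IsScalarTower k N (CompField k K N) :=
  IsScalarTower.of_algebraMap_eq (fun c => Subtype.ext (by
    show algebraMap k (AlgebraicClosure K) c = compEmb k K N (algebraMap k _ c)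
    rw [AlgHom.commutes]))

theorem comp_gen (z : CompField k K N) :
    z ∈ Algebra.adjoin K (Set.range (algebraMap N (CompField k K N))) := by
  obtain ⟨z, hz⟩ := z
  have halg : ∀ x ∈ Set.range (compEmb k K N), IsAlgebraic K x := by
    rintro _ ⟨c, rfl⟩
    have h1 : IsAlgebraic k c := Algebra.IsAlgebraic.isAlgebraic c
    have h2 : IsAlgebraic k (compEmb k K N c) := h1.algHom (compEmb k K N)
    exact h2.tower_top K
  have h1 : z ∈ (IntermediateField.adjoin K (Set.range (compEmb k K N))).toSubalgebra := hz
  rw [IntermediateField.adjoin_toSubalgebra_of_isAlgebraic halg] at h1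
  have key : ∀ x ∈ Algebra.adjoin K (Set.range (compEmb k K N)),
      ∃ hx : x ∈ CompField k K N, (⟨x, hx⟩ : CompField k K N) ∈
        Algebra.adjoin K (Set.range (algebraMap N (CompField k K N))) := by
    intro x hx
    induction hx using Algebra.adjoin_induction with
    | mem x hx =>
      obtain ⟨c, rfl⟩ := hx
      exact ⟨IntermediateField.subset_adjoin K _ ⟨c, rfl⟩, Algebra.subset_adjoin ⟨c, rfl⟩⟩
    | algebraMap a =>
      exact ⟨(CompField k K N).algebraMap_mem a, Subalgebra.algebraMap_mem _ a⟩
    | add x y _ _ hx hy =>
      obtain ⟨hx1, hx2⟩ := hx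
      obtain ⟨hy1, hy2⟩ := hy
      exact ⟨add_mem hx1 hy1, add_mem hx2 hy2⟩
    | mul x y _ _ hx hy =>
      obtain ⟨hx1, hx2⟩ := hx
      obtain ⟨hy1, hy2⟩ := hy
      exact ⟨mul_mem hx1 hy1, mul_mem hx2 hy2⟩
  obtain ⟨_, h2⟩ := key z h1
  exact h2

theorem comp_bijective (hF : IsField (N ⊗[k] K)) :
    Function.Bijective (Algebra.TensorProduct.productMap
      (IsScalarTower.toAlgHom k N (CompField k K N))
      (IsScalarTower.toAlgHom k K (CompField k K N))) :=
  productMap_bijective_of_isField hF (comp_gen k K N)

end Comp

end Groth.Agent.H55
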