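import Mathlib

/-!
# Dense extensions of valuation rings and integral closures in `K' ⊗_K L` (S16046)
-/

set_option autoImplicit false
set_option linter.style.haveILetI false
set_option linter.deprecated false

universe u

open TensorProduct Polynomial

namespace Groth.Agent.H55.DenseVal

variable (A K L A' K' : Type u) [CommRing A] [IsDomain A] [ValuationRing A] [Field K] [Algebra A K]
  [IsFractionRing A K] [Field L] [Algebra K L] [Algebra A L] [IsScalarTower A K L]
  [CommRing A'] [IsDomain A'] [ValuationRing A'] [Field K'] [Algebra A' K'] [IsFractionRing A' K']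
  [Algebra A A'] [IsLocalHom (algebraMap A A')]
  [Algebra K K'] [Algebra A K'] [IsScalarTower A A' K'] [IsScalarTower A K K']

/-- `A' ∩ K = A`. -/
theorem exists_of_map_eq (k : K) (a' : A') (h : algebraMap K K' k = algebraMap A' K' a') :
    ∃ a : A, algebraMap A K a = k := by
  obtain ⟨a₁, a₂, ha₂, rfl⟩ := IsFractionRing.div_surjective (A := A) k
  have ha₂0 : (a₂ : A) ≠ 0 := nonZeroDivisors.ne_zero ha₂
  have ha₂K : algebraMap A K a₂ ≠ 0 := by
    intro h0; exact ha₂0 (IsFractionRing.injective A K (by rw [h0, map_zero]))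
  rcases ValuationRing.dvd_total a₂ a₁ with ⟨c, hc⟩ | ⟨c, hc⟩
  · refine ⟨c, ?_⟩
    rw [hc, map_mul]; field_simp
  · by_cases hcu : IsUnit c
    · obtain ⟨u, rfl⟩ := hcu
      refine ⟨↑u⁻¹, ?_⟩
      have ha₁0 : algebraMap A K a₁ ≠ 0 := by
        intro h0; apply ha₂K; rw [hc, map_mul, h0, zero_mul]
      have hu : algebraMap A K (↑u⁻¹ : A) * algebraMap A K (u : A) = 1 := by
        rw [← map_mul]; simp
      have huK : algebraMap A K (u : A) ≠ 0 := by
        intro h0; rw [h0, mul_zero] at hu; exact zero_ne_one hu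
      rw [hc, map_mul, eq_div_iff (mul_ne_zero ha₁0 huK)]
      linear_combination (algebraMap A K a₁) * hu
    · exfalso
      apply hcu
      have ha₁0 : a₁ ≠ 0 := by
        rintro rfl; rw [zero_mul] at hc; exact ha₂0 hc
      have ha₁K : algebraMap A K a₁ ≠ 0 := by
        intro h0; exact ha₁0 (IsFractionRing.injective A K (by rw [h0, map_zero]))
      have hcK : algebraMap A K c ≠ 0 := by
        intro h0; apply ha₂K; rw [hc, map_mul, h0, mul_zero]
      have hk : algebraMap A K c * (algebraMap A K a₁ / algebraMap A K a₂) = 1 := by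
        rw [hc, map_mul]; field_simp
      have h1 : algebraMap A' K' (algebraMap A A' c * a') = 1 := by
        rw [map_mul, ← h, ← IsScalarTower.algebraMap_apply, IsScalarTower.algebraMap_apply A K K',
          ← map_mul, hk, map_one]
      have h2 : algebraMap A A' c * a' = 1 :=
        IsFractionRing.injective A' K' (by rw [h1, map_one])
      exact isUnit_of_map_unit (algebraMap A A') c (IsUnit.of_mul_eq_one a' h2)


/-- `K' = K + A'`. -/
theorem exists_approx
    (hdense : ∀ a' b' : A', b' ≠ 0 → ∃ a : A, b' ∣ a' - algebraMap A A' a) (k' : K') :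
    ∃ (k : K) (α' : A'), k' = algebraMap K K' k + algebraMap A' K' α' := by
  obtain ⟨c', d', hd', rfl⟩ := IsFractionRing.div_surjective (A := A') k'
  have hd'0 : (d' : A') ≠ 0 := nonZeroDivisors.ne_zero hd'
  have hinj' := IsFractionRing.injective A' K'
  have hd'K : algebraMap A' K' d' ≠ 0 := fun h0 => hd'0 (hinj' (by rw [h0, map_zero]))
  rcases ValuationRing.dvd_total d' c' with ⟨e, he⟩ | ⟨m', hm'⟩
  · refine ⟨0, e, ?_⟩
    rw [map_zero, zero_add, he, map_mul]; field_simp
  · have hc'0 : c' ≠ 0 := by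
      rintro rfl; rw [zero_mul] at hm'; exact hd'0 hm'
    have hm'0 : m' ≠ 0 := by
      rintro rfl; rw [mul_zero] at hm'; exact hd'0 hm'
    have hc'K : algebraMap A' K' c' ≠ 0 := fun h0 => hc'0 (hinj' (by rw [h0, map_zero]))
    have hm'K : algebraMap A' K' m' ≠ 0 := fun h0 => hm'0 (hinj' (by rw [h0, map_zero]))
    have hk' : algebraMap A' K' c' / algebraMap A' K' d' = (algebraMap A' K' m')⁻¹ := by
      rw [hm', map_mul]; field_simp
    rw [hk']
    by_cases hmu : IsUnit m'
    · obtain ⟨u, rfl⟩ := hmu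
      refine ⟨0, ↑u⁻¹, ?_⟩
      rw [map_zero, zero_add]
      symm
      apply eq_inv_of_mul_eq_one_left
      rw [← map_mul]; simp
    · obtain ⟨a, z', hz'⟩ := hdense m' (m' * m') (mul_ne_zero hm'0 hm'0)
      have hu : IsUnit (1 - m' * z') := by
        by_contra hnu
        have h1 : 1 - m' * z' ∈ IsLocalRing.maximalIdeal A' := hnu
        have h2 : m' * z' ∈ IsLocalRing.maximalIdeal A' :=
          Ideal.mul_mem_right _ _ hmu
        have : (1 : A') ∈ IsLocalRing.maximalIdeal A' := by
          have := Ideal.add_mem _ h1 h2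
          simpa using this
        exact (Ideal.ne_top_iff_one _).mp (IsLocalRing.maximalIdeal.isMaximal A').ne_top this
      obtain ⟨u', hu'⟩ := hu
      have ha : algebraMap A A' a = m' * u' := by rw [hu']; linear_combination -hz'
      have huK : algebraMap A' K' (u' : A') ≠ 0 :=
        fun h0 => u'.ne_zero (hinj' (by rw [h0, map_zero]))
      have haK : algebraMap K K' (algebraMap A K a) =
          algebraMap A' K' m' * algebraMap A' K' (u' : A') := by
        rw [← IsScalarTower.algebraMap_apply, IsScalarTower.algebraMap_apply A A' K', ha, map_mul]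
      refine ⟨(algebraMap A K a)⁻¹, -z' * ↑u'⁻¹, ?_⟩
      have huinv : algebraMap A' K' (↑u'⁻¹ : A') = (algebraMap A' K' (u' : A'))⁻¹ := by
        apply eq_inv_of_mul_eq_one_left
        rw [← map_mul]; simp
      have hz'K : algebraMap A' K' (u' : A') = 1 - algebraMap A' K' m' * algebraMap A' K' z' := by
        rw [hu', map_sub, map_one, map_mul]
      rw [map_inv₀, haK, map_mul, map_neg, huinv]
      field_simp
      rw [hz'K]; ring


/-- The structure map `A' → (K' ⊗_K L)_red`. -/
noncomputable abbrev ψ : A' →+* (K' ⊗[K] L) ⧸ nilradical (K' ⊗[K] L) :=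
  (Ideal.Quotient.mk (nilradical (K' ⊗[K] L))).comp
    ((Algebra.TensorProduct.includeLeft : K' →ₐ[K] K' ⊗[K] L).toRingHom.comp (algebraMap A' K'))

theorem includeLeft_eq_algebraMap :
    (Algebra.TensorProduct.includeLeft : K' →ₐ[K] K' ⊗[K] L).toRingHom =
      algebraMap K' (K' ⊗[K] L) := by
  ext k'
  simp [Algebra.TensorProduct.algebraMap_apply]

/-- Key lemma: an element of `L` integral over `A'` in `(K' ⊗ L)_red` is integral over `A`. -/
theorem isIntegral_of_mk_isIntegral [FiniteDimensional K L] (y : L)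
    (hy : (ψ K L A' K').IsIntegralElem (Ideal.Quotient.mk _ ((1 : K') ⊗ₜ[K] y))) :
    IsIntegral A y := by
  classical
  obtain ⟨q, hqm, hq⟩ := hy
  set t : K' ⊗[K] L := (1 : K') ⊗ₜ[K] y with ht
  set φ' : A' →+* K' ⊗[K] L :=
    (Algebra.TensorProduct.includeLeft : K' →ₐ[K] K' ⊗[K] L).toRingHom.comp (algebraMap A' K')
    with hφ'
  have h1 : Ideal.Quotient.mk (nilradical (K' ⊗[K] L)) (eval₂ φ' t q) = 0 := by
    rw [Polynomial.hom_eval₂]; exact hq
  rw [Ideal.Quotient.eq_zero_iff_mem, mem_nilradical] at h1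
  obtain ⟨n, hn⟩ := h1
  have hQm : (q ^ n).Monic := hqm.pow n
  have hQ : aeval t ((q ^ n).map (algebraMap A' K')) = 0 := by
    rw [Polynomial.aeval_def, Polynomial.eval₂_map, ← includeLeft_eq_algebraMap,
      Polynomial.eval₂_pow]
    exact hn
  have hyint : IsIntegral K y := IsIntegral.of_finite K y
  set μ := minpoly K y with hμ
  have hμm : μ.Monic := minpoly.monic hyint
  have hμ'm : (μ.map (algebraMap K K')).Monic := hμm.map _
  have hμ't : aeval t (μ.map (algebraMap K K')) = 0 := by
    rw [Polynomial.aeval_map_algebraMap]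
    have : t = (Algebra.TensorProduct.includeRight : L →ₐ[K] K' ⊗[K] L) y := rfl
    rw [this, Polynomial.aeval_algHom_apply, hμ, minpoly.aeval, map_zero]
  set R := ((q ^ n).map (algebraMap A' K')) %ₘ (μ.map (algebraMap K K')) with hR
  have hRt : aeval t R = 0 := by
    rw [hR, Polynomial.aeval_modByMonic_eq_self_of_root hμ't, hQ]
  have hRdeg : R.degree < (μ.natDegree : WithBot ℕ) := by
    calc R.degree < (μ.map (algebraMap K K')).degree := Polynomial.degree_modByMonic_lt _ hμ'm
      _ = (μ.natDegree : WithBot ℕ) := by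
        rw [Polynomial.degree_eq_natDegree hμ'm.ne_zero,
          Polynomial.natDegree_map_eq_of_injective (algebraMap K K').injective]
  have hli : LinearIndependent K' (fun i : Fin μ.natDegree => (1 : K') ⊗ₜ[K] (y ^ (i : ℕ))) :=
    Module.Flat.linearIndependent_one_tmul (S := K') (linearIndependent_pow y)
  have hR0 : R = 0 := by
    by_contra hne
    have hnat : R.natDegree < μ.natDegree := by
      rw [Polynomial.degree_eq_natDegree hne] at hRdeg; exact_mod_cast hRdeg
    have h2 := hRt
    rw [Polynomial.aeval_eq_sum_range' hnat, Finset.sum_range] at h2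
    have h3 : ∀ i : Fin μ.natDegree, R.coeff i = 0 := by
      apply Fintype.linearIndependent_iff.mp hli
      rw [← h2]
      refine Finset.sum_congr rfl fun i _ => ?_
      rw [ht, Algebra.TensorProduct.tmul_pow, one_pow]
    apply hne
    ext i
    by_cases hi : i < μ.natDegree
    · simpa using h3 ⟨i, hi⟩
    · rw [Polynomial.coeff_zero]
      exact Polynomial.coeff_eq_zero_of_natDegree_lt (by omega)
  have hdvd : μ.map (algebraMap K K') ∣ (q ^ n).map (algebraMap A' K') :=
    (Polynomial.modByMonic_eq_zero_iff_dvd hμ'm).mp hR0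
  obtain ⟨g', hg'⟩ := IsIntegrallyClosed.eq_map_mul_C_of_dvd K' hQm hdvd
  rw [hμ'm.leadingCoeff, map_one, mul_one] at hg'
  have hcoeff : ∀ i, ∃ a : A, algebraMap A K a = μ.coeff i := by
    intro i
    apply exists_of_map_eq A K A' K' (μ.coeff i) (g'.coeff i)
    have := congrArg (fun p => p.coeff i) hg'
    simp only [Polynomial.coeff_map] at this
    exact this.symm
  have hlifts : μ ∈ Polynomial.lifts (algebraMap A K) := by
    rw [Polynomial.lifts_iff_coeff_lifts]
    intro i
    obtain ⟨a, ha⟩ := hcoeff i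
    exact ⟨a, ha⟩
  obtain ⟨P, hP, -, hPm⟩ := Polynomial.lifts_and_degree_eq_and_monic hlifts hμm
  refine ⟨P, hPm, ?_⟩
  rw [← Polynomial.aeval_def, ← Polynomial.aeval_map_algebraMap K, hP, hμ, minpoly.aeval]


theorem includeLeft_comp_eq (a : A) :
    (algebraMap A' K' (algebraMap A A' a)) ⊗ₜ[K] (1 : L) = (1 : K') ⊗ₜ[K] (algebraMap A L a) := by
  rw [← IsScalarTower.algebraMap_apply A A' K', IsScalarTower.algebraMap_apply A K K',
    IsScalarTower.algebraMap_apply A K L, Algebra.algebraMap_eq_smul_one (algebraMap A K a),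
    Algebra.algebraMap_eq_smul_one (A := L) (algebraMap A K a), TensorProduct.smul_tmul]

theorem isIntegralElem_mk_one_tmul (e : L) (he : IsIntegral A e) :
    (ψ K L A' K').IsIntegralElem (Ideal.Quotient.mk _ ((1 : K') ⊗ₜ[K] e)) := by
  obtain ⟨p, hpm, hp⟩ := he
  refine ⟨p.map (algebraMap A A'), hpm.map _, ?_⟩
  rw [Polynomial.eval₂_map]
  have hcomp : (ψ K L A' K').comp (algebraMap A A') =
      ((Ideal.Quotient.mk (nilradical (K' ⊗[K] L))).comp
        (Algebra.TensorProduct.includeRight : L →ₐ[K] K' ⊗[K] L).toRingHom).comp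
        (algebraMap A L) := by
    ext a
    simp only [RingHom.comp_apply, AlgHom.toRingHom_eq_coe, RingHom.coe_coe,
      Algebra.TensorProduct.includeLeft_apply, Algebra.TensorProduct.includeRight_apply]
    rw [includeLeft_comp_eq]
  rw [hcomp]
  have : Ideal.Quotient.mk (nilradical (K' ⊗[K] L)) ((1 : K') ⊗ₜ[K] e) =
      ((Ideal.Quotient.mk (nilradical (K' ⊗[K] L))).comp
        (Algebra.TensorProduct.includeRight : L →ₐ[K] K' ⊗[K] L).toRingHom) e := rfl
  rw [this, ← Polynomial.hom_eval₂, hp, map_zero]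

theorem isIntegralElem_mk_tmul (α' : A') (e : L) (he : IsIntegral A e) :
    (ψ K L A' K').IsIntegralElem (Ideal.Quotient.mk _ ((algebraMap A' K' α') ⊗ₜ[K] e)) := by
  have h1 : Ideal.Quotient.mk (nilradical (K' ⊗[K] L)) ((algebraMap A' K' α') ⊗ₜ[K] e) =
      (ψ K L A' K') α' * Ideal.Quotient.mk _ ((1 : K') ⊗ₜ[K] e) := by
    simp only [RingHom.comp_apply, AlgHom.toRingHom_eq_coe, RingHom.coe_coe,
      Algebra.TensorProduct.includeLeft_apply]
    rw [← map_mul, Algebra.TensorProduct.tmul_mul_tmul, mul_one, one_mul]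
  rw [h1]
  exact RingHom.IsIntegralElem.mul _ ((ψ K L A' K').isIntegralElem_map)
    (isIntegralElem_mk_one_tmul A K L A' K' e he)


theorem main [FiniteDimensional K L]
    (hdense : ∀ a' b' : A', b' ≠ 0 → ∃ a : A, b' ∣ a' - algebraMap A A' a)
    (x : (K' ⊗[K] L) ⧸ nilradical (K' ⊗[K] L)) (hx : (ψ K L A' K').IsIntegralElem x) :
    ∃ (n : ℕ) (a : Fin n → A') (l : Fin n → L), (∀ i, IsIntegral A (l i)) ∧
      x = Ideal.Quotient.mk (nilradical (K' ⊗[K] L)) (∑ i, algebraMap A' K' (a i) ⊗ₜ[K] l i) := by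
  classical
  set m := Module.finrank K L with hm
  let b₀ : Module.Basis (Fin m) K L := Module.finBasis K L
  have halg : ∀ j, IsAlgebraic A (b₀ j) := fun j =>
    (IsFractionRing.isAlgebraic_iff A K L).mpr (Algebra.IsAlgebraic.isAlgebraic (b₀ j))
  choose a ha0 haint using fun j => (halg j).exists_integral_multiple
  set e : Fin m → L := fun j => a j • b₀ j with he
  have hιa : ∀ j, algebraMap K K' (algebraMap A K (a j)) ≠ 0 := by
    intro j h0
    have h1 : algebraMap A K (a j) = 0 := (algebraMap K K').injective (by rw [h0, map_zero])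
    exact ha0 j (IsFractionRing.injective A K (by rw [h1, map_zero]))
  obtain ⟨τ, rfl⟩ := Ideal.Quotient.mk_surjective x
  let B : Module.Basis (Fin m) K' (K' ⊗[K] L) := Algebra.TensorProduct.basis K' b₀
  have hτ : τ = ∑ j, (B.repr τ j * (algebraMap K K' (algebraMap A K (a j)))⁻¹) ⊗ₜ[K] e j := by
    conv_lhs => rw [← B.sum_repr τ]
    refine Finset.sum_congr rfl fun j _ => ?_
    rw [Algebra.TensorProduct.basis_apply, TensorProduct.smul_tmul', smul_eq_mul, mul_one, he]
    simp only
    rw [← algebraMap_smul K (a j) (b₀ j), ← TensorProduct.smul_tmul, Algebra.smul_def,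
      mul_comm (algebraMap K K' _), mul_assoc, inv_mul_cancel₀ (hιa j), mul_one]
  choose k α hkα using fun j => exists_approx A K A' K' hdense
    (B.repr τ j * (algebraMap K K' (algebraMap A K (a j)))⁻¹)
  set y : L := ∑ j, k j • e j with hy
  set z : K' ⊗[K] L := ∑ j, (algebraMap A' K' (α j)) ⊗ₜ[K] e j with hz
  have hτ' : τ = (1 : K') ⊗ₜ[K] y + z := by
    rw [hτ, hy, hz, TensorProduct.tmul_sum, ← Finset.sum_add_distrib]
    refine Finset.sum_congr rfl fun j _ => ?_
    rw [hkα j, TensorProduct.add_tmul, Algebra.algebraMap_eq_smul_one (k j),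
      TensorProduct.smul_tmul]
  have heint : ∀ j, IsIntegral A (e j) := haint
  have hzint : (ψ K L A' K').IsIntegralElem (Ideal.Quotient.mk _ z) := by
    rw [hz, map_sum]
    letI : Algebra A' ((K' ⊗[K] L) ⧸ nilradical (K' ⊗[K] L)) := (ψ K L A' K').toAlgebra
    exact IsIntegral.sum _ fun j _ => isIntegralElem_mk_tmul A K L A' K' (α j) (e j) (heint j)
  have hyint : (ψ K L A' K').IsIntegralElem (Ideal.Quotient.mk _ ((1 : K') ⊗ₜ[K] y)) := by
    have : Ideal.Quotient.mk (nilradical (K' ⊗[K] L)) ((1 : K') ⊗ₜ[K] y) =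
        Ideal.Quotient.mk _ τ - Ideal.Quotient.mk _ z := by
      rw [hτ', map_add]; ring
    rw [this]
    exact RingHom.IsIntegralElem.sub _ hx hzint
  have hyA : IsIntegral A y := isIntegral_of_mk_isIntegral A K L A' K' y hyint
  refine ⟨m + 1, Fin.cons 1 α, Fin.cons y e, ?_, ?_⟩
  · intro i
    refine Fin.cases ?_ (fun j => ?_) i
    · simpa using hyA
    · simpa using heint j
  · rw [Fin.sum_univ_succ]
    simp only [Fin.cons_zero, Fin.cons_succ, map_one]
    rw [hτ']

end Groth.Agent.H55.DenseVal
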