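import Mathlib
import Groth.Prelude.Def_LefPen
import Groth.Agent.H55.NoPlane

/-!
# Dimension count for singular members of a linear system of forms (S14373, part 1)

Abstract chart lemma: if the members `G` of a finite-dimensional space `V` of polynomials that are
singular at some point of a `q`-dimensional affine family of points can be written
`G = G' + θ(c(v, G'))` with `θ` an injective linear map from `k^p`, `q < p`, and `c` polynomial in
the point and linear in `G'`, then they lie in a proper hypersurface of `V`.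
-/

set_option autoImplicit false
set_option linter.style.haveILetI false
set_option linter.deprecated false

universe u

open MvPolynomial

namespace Groth.Agent.H55.DimCount

open Groth.Agent.H55.NoPlane

section Functional

/-- a linear functional applied to a specialised universal polynomial is polynomial in the
parameters. -/
theorem exists_poly_of_functional {k : Type*} [Field k] {τ' σ : Type*}
    (l : MvPolynomial τ' k →ₗ[k] k) (ΦU : MvPolynomial τ' (MvPolynomial σ k)) :
    ∃ φ : MvPolynomial σ k, ∀ x : σ → k,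
      l (MvPolynomial.map (MvPolynomial.eval x) ΦU) = MvPolynomial.eval x φ := by
  classical
  refine ⟨∑ μ ∈ ΦU.support, C (l (monomial μ 1)) * coeff μ ΦU, fun x => ?_⟩
  have h1 : MvPolynomial.map (MvPolynomial.eval x) ΦU =
      ∑ μ ∈ ΦU.support, monomial μ (MvPolynomial.eval x (coeff μ ΦU)) := by
    conv_lhs => rw [ΦU.as_sum]
    rw [map_sum]
    exact Finset.sum_congr rfl (fun μ _ => MvPolynomial.map_monomial _ _ _)
  rw [h1, map_sum, map_sum]
  refine Finset.sum_congr rfl (fun μ _ => ?_)
  rw [map_mul, MvPolynomial.eval_C]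
  have : monomial μ (MvPolynomial.eval x (coeff μ ΦU)) =
      (MvPolynomial.eval x (coeff μ ΦU)) • monomial μ (1 : k) := by
    rw [MvPolynomial.smul_monomial, smul_eq_mul, mul_one]
  rw [this, map_smul, smul_eq_mul, mul_comm]

end Functional

section Chart

variable {k : Type u} [Field k] {n : ℕ}

/-- the affine family of points. -/
def vz {q : ℕ} (v₀ : Fin (n + 1) → k) (e : Fin q → Fin (n + 1) → k) (z : Fin q → k) :
    Fin (n + 1) → k := fun i => v₀ i + ∑ b, z b * e b i

/-- the coefficient functionals. -/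
noncomputable def cf {p : ℕ} (α : Fin p → Fin (n + 1) → k) (β : Fin p → k) (s : Fin p)
    (v : Fin (n + 1) → k) (g : MvPolynomial (Fin (n + 1)) k) : k :=
  ∑ i, α s i * MvPolynomial.eval v (pderiv i g) + β s * MvPolynomial.eval v g

/-- `g` is singular at `v`. -/
def Bad (g : MvPolynomial (Fin (n + 1)) k) (v : Fin (n + 1) → k) : Prop :=
  MvPolynomial.eval v g = 0 ∧ ∀ i, MvPolynomial.eval v (pderiv i g) = 0

theorem cf_sum {p : ℕ} (α : Fin p → Fin (n + 1) → k) (β : Fin p → k) (s : Fin p)
    (v : Fin (n + 1) → k) {r : ℕ} (y : Fin r → k) (g : Fin r → MvPolynomial (Fin (n + 1)) k) :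
    cf α β s v (∑ a, y a • g a) = ∑ a, y a * cf α β s v (g a) := by
  unfold cf
  have h1 : ∀ i, MvPolynomial.eval v (pderiv i (∑ a, y a • g a)) =
      ∑ a, y a * MvPolynomial.eval v (pderiv i (g a)) := by
    intro i
    rw [map_sum, map_sum]
    refine Finset.sum_congr rfl (fun a _ => ?_)
    rw [Derivation.map_smul, MvPolynomial.smul_eval]
  have h2 : MvPolynomial.eval v (∑ a, y a • g a) = ∑ a, y a * MvPolynomial.eval v (g a) := by
    rw [map_sum]
    exact Finset.sum_congr rfl (fun a _ => MvPolynomial.smul_eval _ _ _)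
  have h3 : ∀ a, y a * (∑ i, α s i * MvPolynomial.eval v (pderiv i (g a)) +
      β s * MvPolynomial.eval v (g a)) =
      ∑ i, α s i * (y a * MvPolynomial.eval v (pderiv i (g a))) +
        β s * (y a * MvPolynomial.eval v (g a)) := by
    intro a
    rw [mul_add, Finset.mul_sum]
    congr 1
    · exact Finset.sum_congr rfl (fun i _ => by ring)
    · ring
  rw [Finset.sum_congr rfl (fun a _ => h3 a), Finset.sum_add_distrib, Finset.sum_comm]
  simp only [h1, h2, Finset.mul_sum]

variable {q r : ℕ} (v₀ : Fin (n + 1) → k) (e : Fin q → Fin (n + 1) → k)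

/-- the universal point. -/
noncomputable def vU (r : ℕ) : Fin (n + 1) → MvPolynomial (Fin q ⊕ Fin r) k :=
  fun i => C (v₀ i) + ∑ b, X (Sum.inl b) * C (e b i)

theorem eval_vU (x : Fin q ⊕ Fin r → k) (i : Fin (n + 1)) :
    MvPolynomial.eval x (vU v₀ e r i) = vz v₀ e (fun b => x (Sum.inl b)) i := by
  simp [vU, vz]

/-- evaluation at the universal point. -/
noncomputable def evU (r : ℕ) (g : MvPolynomial (Fin (n + 1)) k) :
    MvPolynomial (Fin q ⊕ Fin r) k := MvPolynomial.aeval (vU v₀ e r) g

theorem eval_evU (x : Fin q ⊕ Fin r → k) (g : MvPolynomial (Fin (n + 1)) k) :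
    MvPolynomial.eval x (evU v₀ e r g) =
      MvPolynomial.eval (vz v₀ e (fun b => x (Sum.inl b))) g := by
  rw [evU, eval_aeval_comm]
  have : (fun t => MvPolynomial.eval x (vU v₀ e r t)) = vz v₀ e (fun b => x (Sum.inl b)) :=
    funext (eval_vU v₀ e x)
  rw [this]

variable {p : ℕ} (α : Fin p → Fin (n + 1) → k) (β : Fin p → k)

/-- the universal coefficient. -/
noncomputable def cU (r : ℕ) (s : Fin p) (g : MvPolynomial (Fin (n + 1)) k) :
    MvPolynomial (Fin q ⊕ Fin r) k :=
  ∑ i, C (α s i) * evU v₀ e r (pderiv i g) + C (β s) * evU v₀ e r g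

theorem eval_cU (x : Fin q ⊕ Fin r → k) (s : Fin p) (g : MvPolynomial (Fin (n + 1)) k) :
    MvPolynomial.eval x (cU v₀ e α β r s g) =
      cf α β s (vz v₀ e (fun b => x (Sum.inl b))) g := by
  simp only [cU, cf, map_add, map_sum, map_mul, MvPolynomial.eval_C, eval_evU]

variable {V : Type u} [AddCommGroup V] [Module k V]
  (ι : V →ₗ[k] MvPolynomial (Fin (n + 1)) k) (θ : (Fin p → k) →ₗ[k] V)

/-- the universal family. -/
noncomputable def PhiU2 (w : Fin r → V) :
    MvPolynomial (Fin (n + 1)) (MvPolynomial (Fin q ⊕ Fin r) k) :=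
  ∑ a, C (X (Sum.inr a)) * (MvPolynomial.map C (ι (w a)) +
    ∑ s, C (cU v₀ e α β r s (ι (w a))) * MvPolynomial.map C (ι (θ (Pi.single s 1))))

theorem map_eval_map_C (x : Fin q ⊕ Fin r → k) (g : MvPolynomial (Fin (n + 1)) k) :
    MvPolynomial.map (MvPolynomial.eval x) (MvPolynomial.map C g) = g := by
  rw [MvPolynomial.map_map]
  have : (MvPolynomial.eval x).comp (C : k →+* MvPolynomial (Fin q ⊕ Fin r) k) = RingHom.id k := by
    ext a; simp
  rw [this, MvPolynomial.map_id]

theorem theta_eq_sum (c : Fin p → k) : θ c = ∑ s, c s • θ (Pi.single s 1) := by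
  conv_lhs => rw [pi_eq_sum_univ' c]
  rw [map_sum]
  exact Finset.sum_congr rfl (fun s _ => by rw [map_smul])

theorem map_eval_PhiU2 (w : Fin r → V) (x : Fin q ⊕ Fin r → k) :
    MvPolynomial.map (MvPolynomial.eval x) (PhiU2 v₀ e α β ι θ w) =
      ι ((∑ a, x (Sum.inr a) • w a) +
        θ (fun s => cf α β s (vz v₀ e (fun b => x (Sum.inl b))) (ι (∑ a, x (Sum.inr a) • w a)))) := by
  have h1 : ∀ a, MvPolynomial.map (MvPolynomial.eval x)
      (C (X (Sum.inr a)) * (MvPolynomial.map C (ι (w a)) +
        ∑ s, C (cU v₀ e α β r s (ι (w a))) * MvPolynomial.map C (ι (θ (Pi.single s 1))))) =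
      x (Sum.inr a) • (ι (w a) + ∑ s, cf α β s (vz v₀ e (fun b => x (Sum.inl b))) (ι (w a)) •
        ι (θ (Pi.single s 1))) := by
    intro a
    rw [map_mul, MvPolynomial.map_C, MvPolynomial.eval_X, map_add, map_eval_map_C, map_sum,
      MvPolynomial.smul_eq_C_mul]
    congr 2
    refine Finset.sum_congr rfl (fun s _ => ?_)
    rw [map_mul, MvPolynomial.map_C, eval_cU, map_eval_map_C, MvPolynomial.smul_eq_C_mul]
  rw [PhiU2, map_sum, Finset.sum_congr rfl (fun a _ => h1 a), map_add, theta_eq_sum θ, map_sum,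
    map_sum]
  simp only [map_smul, smul_add, Finset.sum_add_distrib, Finset.smul_sum]
  congr 1
  rw [Finset.sum_comm]
  refine Finset.sum_congr rfl (fun s _ => ?_)
  have := cf_sum α β s (vz v₀ e (fun b => x (Sum.inl b))) (fun a => x (Sum.inr a))
    (fun a => ι (w a))
  rw [this, Finset.sum_smul]
  exact Finset.sum_congr rfl (fun a _ => by rw [smul_smul])

/-- **Chart lemma**: the members singular at a point of the family lie in a hypersurface. -/
theorem chart_lemma [Module.Finite k V] (hι : Function.Injective ι) {N : ℕ}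
    (b : Module.Basis (Fin N) k V) (hqp : q < p) (hθ : Function.Injective θ)
    (H : ∀ (z : Fin q → k) (G' : V) (c : Fin p → k), Bad (ι (G' + θ c)) (vz v₀ e z) →
      ∀ s, c s = cf α β s (vz v₀ e z) (ι G')) :
    ∃ P : MvPolynomial (Fin N) k, P ≠ 0 ∧ ∀ (G : V) (z : Fin q → k), Bad (ι G) (vz v₀ e z) →
      MvPolynomial.eval (fun t => b.repr G t) P = 0 := by
  classical
  obtain ⟨ρ, hρ⟩ := LinearMap.exists_leftInverse_of_injective θ (LinearMap.ker_eq_bot.mpr hθ)
  have hρ' : ∀ c, ρ (θ c) = c := fun c => LinearMap.congr_fun hρ c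
  obtain ⟨r, w, hr, hw⟩ := exists_kernel_family ρ
  have hsurj : LinearMap.range ρ = ⊤ := LinearMap.range_eq_top.mpr (fun c => ⟨θ c, hρ' c⟩)
  have hN : Module.finrank k V = N := by
    rw [Module.finrank_eq_card_basis b, Fintype.card_fin]
  have hp : Module.finrank k (LinearMap.range ρ) = p := by
    rw [hsurj, finrank_top, Module.finrank_fin_fun]
  have hcard : Fintype.card (Fin q ⊕ Fin r) < Fintype.card (Fin N) := by
    rw [Fintype.card_sum, Fintype.card_fin, Fintype.card_fin, Fintype.card_fin]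
    omega
  obtain ⟨ρι, hρι⟩ := LinearMap.exists_leftInverse_of_injective ι (LinearMap.ker_eq_bot.mpr hι)
  have hρι' : ∀ G, ρι (ι G) = G := fun G => LinearMap.congr_fun hρι G
  choose φ hφ using fun t : Fin N =>
    exists_poly_of_functional ((b.coord t).comp ρι) (PhiU2 v₀ e α β ι θ w)
  obtain ⟨P, hP0, hP⟩ := exists_ne_zero_aeval_eq_zero hcard φ
  refine ⟨P, hP0, ?_⟩
  intro G z hbad
  have hG'ker : ρ (G - θ (ρ G)) = 0 := by rw [map_sub, hρ', sub_self]
  obtain ⟨y, hy⟩ := hw (G - θ (ρ G)) hG'ker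
  have hG : G = (G - θ (ρ G)) + θ (ρ G) := by rw [sub_add_cancel]
  have hc := H z (G - θ (ρ G)) (ρ G) (by rw [← hG]; exact hbad)
  have hPhi : MvPolynomial.map (MvPolynomial.eval (Sum.elim z y)) (PhiU2 v₀ e α β ι θ w) = ι G := by
    rw [map_eval_PhiU2]
    change ι ((∑ a, y a • w a) + θ (fun s => cf α β s (vz v₀ e z) (ι (∑ a, y a • w a)))) = ι G
    rw [hy]
    have : (fun s => cf α β s (vz v₀ e z) (ι (G - θ (ρ G)))) = ρ G :=
      funext (fun s => (hc s).symm)
    rw [this, ← hG]
  have h5 : (fun t => b.repr G t) = fun t => MvPolynomial.eval (Sum.elim z y) (φ t) := by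
    funext t
    rw [← hφ t (Sum.elim z y), hPhi, LinearMap.comp_apply, hρι', Module.Basis.coord_apply]
  rw [h5, ← eval_aeval_comm, hP, map_zero]

end Chart

end Groth.Agent.H55.DimCount
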