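import Groth.Agent.H55.FFHyper3
import Groth.Agent.H55.FFInertia
import Groth.Agent.H55.FFOver2
import Groth.Agent.H55.FFUnram
import Mathlib

/-!
Ramification in Artin–Schreier extensions `y² + y = f` in characteristic two.
-/

set_option autoImplicit false

namespace Groth.Agent.H55

open FunFld WithZero Polynomial IntermediateField

section General

variable {k F K : Type*} [Field k] [Field F] [Field K] [Algebra k F] [Algebra F K] [Algebra k K]
  [IsScalarTower k F K]

/-- In a quadratic extension, a place all of whose extensions have even ramification index is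
totally ramified. -/
theorem quadratic_ramified_of_even (hF : G.IsFF1 k F) (hdeg : Module.finrank F K = 2)
    (P₀ : Place k F) (heven : ∀ (P : Place k K) (e : ℕ), IsOverWith P P₀ e → Even e) :
    (∃! P : Place k K, IsOver P P₀) ∧
    ∀ P : Place k K, IsOver P P₀ → IsOverWith P P₀ 2 ∧ P.deg = P₀.deg := by
  classical
  haveI : FiniteDimensional F K := Module.finite_of_finrank_pos (by rw [hdeg]; norm_num)
  have hK : G.IsFF1 k K := isFF1_of_finite hF
  have hdP₀ := G.deg_pos hF P₀
  obtain ⟨hfin, hsum⟩ := G.sum_ramIdx_mul_deg (K' := K) hF P₀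
  have hs := hsum hfin.toFinset (fun Q => by rw [Set.Finite.mem_toFinset]; rfl)
  rw [hdeg] at hs
  have key : ∀ P : Place k K, ∀ e : ℕ, IsOverWith P P₀ e → e = 2 ∧ P.deg = P₀.deg := by
    intro P e he
    obtain ⟨m, hm⟩ := heven P e he
    have hepos := isOverWith_pos he
    haveI := G.residue_finiteDimensional hK P
    have hdle := deg_le_of_isOverWith he
    have hPmem : P ∈ hfin.toFinset := by rw [Set.Finite.mem_toFinset]; exact ⟨e, he⟩
    have hle : ramIdx P P₀ * P.deg ≤ ∑ Q ∈ hfin.toFinset, ramIdx Q P₀ * Q.deg :=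
      Finset.single_le_sum (f := fun Q => ramIdx Q P₀ * Q.deg) (fun _ _ => Nat.zero_le _) hPmem
    rw [ramIdx_eq he, hs] at hle
    have he2 : 2 ≤ e := by omega
    have hdP : 0 < P.deg := lt_of_lt_of_le hdP₀ hdle
    have he_eq : e = 2 := by
      by_contra hne
      have h3 : 3 ≤ e := by omega
      have h4 : 3 * P.deg ≤ e * P.deg := Nat.mul_le_mul_right _ h3
      omega
    refine ⟨he_eq, ?_⟩
    rw [he_eq] at hle
    omega
  have key2 : ∀ P : Place k K, IsOver P P₀ → IsOverWith P P₀ 2 ∧ P.deg = P₀.deg := by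
    rintro P ⟨e, he⟩
    obtain ⟨h1, h2'⟩ := key P e he
    subst h1
    exact ⟨he, h2'⟩
  refine ⟨?_, key2⟩
  obtain ⟨P, hP⟩ := exists_place_over (K' := K) hF P₀
  refine ⟨P, hP, ?_⟩
  intro P' hP'
  by_contra hne
  have hsub : ({P', P} : Finset (Place k K)) ⊆ hfin.toFinset := by
    intro Q hQ
    rw [Finset.mem_insert, Finset.mem_singleton] at hQ
    rw [Set.Finite.mem_toFinset]
    rcases hQ with rfl | rfl
    · exact hP'
    · exact hP
  have hle := Finset.sum_le_sum_of_subset (f := fun Q => ramIdx Q P₀ * Q.deg) hsub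
  rw [Finset.sum_pair hne, hs] at hle
  obtain ⟨h1, h1'⟩ := key2 P hP
  obtain ⟨h3, h3'⟩ := key2 P' hP'
  rw [ramIdx_eq h1, ramIdx_eq h3, h1', h3'] at hle
  omega

/-- In a quadratic extension a ramification index different from one is two, the place above is
unique and has the same degree. -/
theorem ramIdx_two_of_ne_one (hF : G.IsFF1 k F) (hdeg : Module.finrank F K = 2)
    (P₀ : Place k F) (P : Place k K) (e : ℕ) (he : IsOverWith P P₀ e) (he1 : e ≠ 1) :
    e = 2 ∧ P.deg = P₀.deg ∧ ∀ P' : Place k K, IsOver P' P₀ → P' = P := by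
  classical
  haveI : FiniteDimensional F K := Module.finite_of_finrank_pos (by rw [hdeg]; norm_num)
  have hK : G.IsFF1 k K := isFF1_of_finite hF
  have hdP₀ := G.deg_pos hF P₀
  obtain ⟨hfin, hsum⟩ := G.sum_ramIdx_mul_deg (K' := K) hF P₀
  have hs := hsum hfin.toFinset (fun Q => by rw [Set.Finite.mem_toFinset]; rfl)
  rw [hdeg] at hs
  have hepos := isOverWith_pos he
  haveI := G.residue_finiteDimensional hK P
  have hdle := deg_le_of_isOverWith he
  have hPmem : P ∈ hfin.toFinset := by rw [Set.Finite.mem_toFinset]; exact ⟨e, he⟩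
  have hle : ramIdx P P₀ * P.deg ≤ ∑ Q ∈ hfin.toFinset, ramIdx Q P₀ * Q.deg :=
    Finset.single_le_sum (f := fun Q => ramIdx Q P₀ * Q.deg) (fun _ _ => Nat.zero_le _) hPmem
  rw [ramIdx_eq he, hs] at hle
  have he2 : 2 ≤ e := by omega
  have hdP : 0 < P.deg := lt_of_lt_of_le hdP₀ hdle
  have he_eq : e = 2 := by
    by_contra hne
    have h3 : 3 ≤ e := by omega
    have h4 : 3 * P.deg ≤ e * P.deg := Nat.mul_le_mul_right _ h3
    omega
  subst he_eq
  have hdeq : P.deg = P₀.deg := by omega
  refine ⟨rfl, hdeq, ?_⟩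
  rintro P' ⟨e', he'⟩
  by_contra hne
  have hsub : ({P', P} : Finset (Place k K)) ⊆ hfin.toFinset := by
    intro Q hQ
    rw [Finset.mem_insert, Finset.mem_singleton] at hQ
    rw [Set.Finite.mem_toFinset]
    rcases hQ with rfl | rfl
    · exact ⟨e', he'⟩
    · exact ⟨2, he⟩
  have hle2 := Finset.sum_le_sum_of_subset (f := fun Q => ramIdx Q P₀ * Q.deg) hsub
  rw [Finset.sum_pair hne, hs, ramIdx_eq he, ramIdx_eq he', hdeq] at hle2
  haveI := G.residue_finiteDimensional hK P'
  have hdle' := deg_le_of_isOverWith he'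
  have hepos' := isOverWith_pos he'
  have h5 : 1 * P'.deg ≤ e' * P'.deg := Nat.mul_le_mul_right _ hepos'
  omega

theorem artin_schreier_ram (hF : G.IsFF1 k F) (h2 : (2 : K) = 0)
    (hdeg : Module.finrank F K = 2) [Algebra.IsSeparable F K]
    (y : K) (hy : y ∉ Set.range (algebraMap F K)) (f : F)
    (heq : y ^ 2 + y = algebraMap F K f) (P₀ : Place k F) :
    ((P₀.ord f < 0 ∧ Odd (P₀.ord f)) → (∃! P : Place k K, IsOver P P₀) ∧
      ∀ P : Place k K, IsOver P P₀ → IsOverWith P P₀ 2 ∧ P.deg = P₀.deg) ∧
    (0 ≤ P₀.ord f → ∀ P : Place k K, IsOver P P₀ → IsOverWith P P₀ 1) := by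
  classical
  haveI : FiniteDimensional F K := Module.finite_of_finrank_pos (by rw [hdeg]; norm_num)
  have hK : G.IsFF1 k K := isFF1_of_finite hF
  -- a general fact: integrality of `y` where `f` is integral, pole of `y` where `f` has a pole
  have hyle : ∀ P : Place k K, P.1 (algebraMap F K f) ≤ 1 → P.1 y ≤ 1 := by
    intro P hPf
    by_contra hlt
    rw [not_le] at hlt
    have hlt2 : P.1 y < P.1 (y ^ 2) := by
      rw [map_pow]
      have := pow_lt_pow_right₀ hlt (by norm_num : 1 < 2)
      rwa [pow_one] at this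
    have hval : P.1 (y ^ 2 + y) = P.1 (y ^ 2) := P.1.map_add_eq_of_lt_left hlt2
    rw [heq] at hval
    rw [hval, map_pow] at hPf
    exact absurd (one_lt_pow₀ hlt two_ne_zero) (not_lt.mpr hPf)
  constructor
  · rintro ⟨hneg, hodd⟩
    apply quadratic_ramified_of_even hF hdeg P₀
    intro P e he
    have hordf : P.ord (algebraMap F K f) = e * P₀.ord f := ord_eq_of_isOverWith he f
    have hepos := isOverWith_pos he
    have hPf : 1 < P.1 (algebraMap F K f) := by
      rw [pl_one_lt_val_iff, hordf]
      have : (0 : ℤ) < e := by exact_mod_cast hepos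
      nlinarith
    have hPy : 1 < P.1 y := by
      by_contra hle
      rw [not_lt] at hle
      have h3 : P.1 (y ^ 2 + y) ≤ 1 :=
        (P.1.map_add _ _).trans (max_le (by rw [map_pow]; exact pow_le_one₀ zero_le' hle) hle)
      rw [heq] at h3
      exact absurd hPf (not_lt.mpr h3)
    have hlt2 : P.1 y < P.1 (y ^ 2) := by
      rw [map_pow]
      have := pow_lt_pow_right₀ hPy (by norm_num : 1 < 2)
      rwa [pow_one] at this
    have hval : P.1 (y ^ 2 + y) = P.1 (y ^ 2) := P.1.map_add_eq_of_lt_left hlt2
    rw [heq] at hval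
    have hord2 : P.ord (algebraMap F K f) = 2 * P.ord y := by
      unfold Place.ord
      rw [hval]
      have := pl_ord_pow P y 2
      unfold Place.ord at this
      rw [this]
      norm_num
    obtain ⟨c, hc⟩ := hodd
    rw [hordf, hc] at hord2
    exact (Int.even_coe_nat e).mp ⟨P.ord y - e * c, by linarith⟩
  · intro hnn P hP
    obtain ⟨e, he⟩ := hP
    by_contra hne1
    have he1 : e ≠ 1 := by
      rintro rfl
      exact hne1 he
    obtain ⟨he2, hdegP, huniq⟩ := ramIdx_two_of_ne_one hF hdeg P₀ P e he he1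
    subst he2
    haveI : Algebra.IsQuadraticExtension F K := { finrank_eq_two' := hdeg }
    haveI : IsGalois F K := inferInstance
    have hcard : Nat.card (K ≃ₐ[F] K) = 2 := by
      rw [IsGalois.card_aut_eq_finrank, hdeg]
    obtain ⟨σ, hσ1, -⟩ := (Nat.card_eq_two_iff' (1 : K ≃ₐ[F] K)).mp hcard
    have hyint : IsIntegral F y := Algebra.IsIntegral.isIntegral y
    have hyF : y ∉ (algebraMap F K).range := fun h => hy h
    have hmin2 : (minpoly F y).natDegree = 2 := by
      have h1 := (minpoly.two_le_natDegree_iff hyint).mpr hyF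
      have h3 := minpoly.natDegree_le (A := F) y
      rw [hdeg] at h3
      omega
    have htop : F⟮y⟯ = ⊤ := by
      apply IntermediateField.eq_of_le_of_finrank_eq le_top
      rw [IntermediateField.adjoin.finrank hyint, hmin2, IntermediateField.finrank_top', hdeg]
    have hadj : Algebra.adjoin F ({y} : Set K) = ⊤ := by
      rw [← IntermediateField.adjoin_simple_toSubalgebra_of_isAlgebraic hyint.isAlgebraic,
        htop, IntermediateField.top_toSubalgebra]
    have hσy : σ y = y + 1 := by
      have hsq' : (σ y) ^ 2 + σ y = y ^ 2 + y := by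
        rw [← map_pow, ← map_add, heq, σ.commutes]
      have hprod : (σ y - y) * (σ y + y + 1) = 0 := by linear_combination hsq'
      rcases mul_eq_zero.mp hprod with h | h
      · exfalso
        apply hσ1
        have hfix : σ y = y := sub_eq_zero.mp h
        have hhom : (σ : K →ₐ[F] K) = AlgHom.id F K := by
          apply AlgHom.ext_of_adjoin_eq_top hadj
          intro w hw
          rw [Set.mem_singleton_iff] at hw
          subst hw
          exact hfix
        exact AlgEquiv.ext (fun w => DFunLike.congr_fun hhom w)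
      · linear_combination h - (y + 1) * h2
    have hcomap : comapGal P σ = P := huniq _ ⟨2, comapGal_isOverWith he σ⟩
    have hPσ : ∀ z : K, P.1 (σ z) = P.1 z := fun z => by
      have h3 := congrArg (fun Q : Place k K => Q.1 z) hcomap
      simpa [comapGal_apply] using h3
    haveI := G.residue_finiteDimensional hF P₀
    haveI := G.residue_finiteDimensional hK P
    have hsurj : Function.Surjective (resExtAlg he).toLinearMap :=
      (LinearMap.injective_iff_surjective_of_finrank_eq_finrank
        (show Module.finrank k (IsLocalRing.ResidueField P₀.O) =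
          Module.finrank k (IsLocalRing.ResidueField P.O) from hdegP.symm)).mp
        (resExtAlg he).injective
    have hPf : P.1 (algebraMap F K f) ≤ 1 := by
      rw [he f]
      by_cases hf0 : f = 0
      · rw [hf0, map_zero]; simp
      · exact pow_le_one₀ zero_le' ((pl_val_le_one_iff P₀ hf0).mpr hnn)
    have hyO : P.1 y ≤ 1 := hyle P hPf
    obtain ⟨cbar, hcbar⟩ := hsurj (IsLocalRing.residue P.O ⟨y, (P.1.mem_valuationSubring_iff _).mpr hyO⟩)
    obtain ⟨c, rfl⟩ := IsLocalRing.residue_surjective cbar
    have hz : P.1 (y - algebraMap F K (c : F)) < 1 := by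
      have h3 : IsLocalRing.residue P.O
          (⟨y, (P.1.mem_valuationSubring_iff _).mpr hyO⟩ - incO he c) = 0 := by
        rw [map_sub, ← hcbar]
        exact sub_self _
      rw [IsLocalRing.residue_eq_zero_iff, mem_maximalIdeal_iff] at h3
      exact h3
    have hσz : σ (y - algebraMap F K (c : F)) = 1 + (y - algebraMap F K (c : F)) := by
      rw [map_sub, hσy, σ.commutes]; ring
    have h4 : P.1 (1 + (y - algebraMap F K (c : F))) = P.1 (1 : K) :=
      P.1.map_add_eq_of_lt_left (by rw [map_one]; exact hz)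
    rw [← hσz, hPσ, map_one] at h4
    rw [h4] at hz
    exact lt_irrefl _ hz

end General

end Groth.Agent.H55
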