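import Groth.Agent.H55.FFCons2
import Mathlib

/-!
Clifford-type bounds for multiples of a point via Weierstrass gaps.
-/

set_option autoImplicit false

namespace Groth.Agent.H55

open FunFld WithZero Polynomial IntermediateField

variable {k K : Type*} [Field k] [Field K] [Algebra k K]

variable (P : Place k K)

theorem ell_single_add_of_nongaps (hK : FunFld.IsFunctionField k K) (hP : P.deg = 1) (n : ℕ)
    (d : ℕ) (h : ∀ m : ℕ, n < m → m ≤ n + d → ¬ IsGap P (m : ℤ)) :
    ell (Finsupp.single P ((n + d : ℕ) : ℤ) : Divisor k K) =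
      ell (Finsupp.single P (n : ℤ) : Divisor k K) + d := by
  classical
  induction d with
  | zero => simp
  | succ d ih =>
    have hstep := ell_single_step P hK hP ((n + (d + 1) : ℕ) : ℤ)
    have e : ((n + (d + 1) : ℕ) : ℤ) - 1 = ((n + d : ℕ) : ℤ) := by push_cast; ring
    rw [e, ih (fun m h1 h2 => h m h1 (by omega)),
      if_neg (h (n + (d + 1)) (by omega) le_rfl)] at hstep
    rw [hstep]; ring

theorem Icc_pred_eq_Ico (γ : ℕ) (hγ : 1 ≤ γ) : Finset.Icc 1 (γ - 1) = Finset.Ico 1 γ := by
  ext m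
  simp only [Finset.mem_Icc, Finset.mem_Ico]
  omega

/-- Clifford's bound for multiples of a degree-one place: `2 ℓ(nP) ≤ n + 2` for `n ≤ 2g`. -/
theorem two_mul_ell_le (hK : FunFld.IsFunctionField k K) (hP : P.deg = 1) (n : ℕ)
    (hn : (n : ℤ) ≤ 2 * (genus k K : ℤ)) :
    2 * ell (Finsupp.single P (n : ℤ) : Divisor k K) ≤ n + 2 := by
  classical
  by_cases hgap : ∃ γ : ℕ, n < γ ∧ IsGap P (γ : ℤ)
  · set γ := Nat.find hgap with hγ
    obtain ⟨hγn, hγgap⟩ := Nat.find_spec hgap
    have hmin : ∀ m : ℕ, n < m → m < γ → ¬ IsGap P (m : ℤ) := by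
      intro m h1 h2 h3
      exact Nat.find_min hgap h2 ⟨h1, h3⟩
    have hγ1 : 1 ≤ γ := by omega
    obtain ⟨d, hd⟩ : ∃ d : ℕ, γ - 1 = n + d := ⟨γ - 1 - n, by omega⟩
    have h1 := ell_single_add_of_nongaps P hK hP n d (fun m hm1 hm2 => hmin m hm1 (by omega))
    have h2 := ell_single_eq_card P hK hP (n + d)
    have h3 := gap_count P γ hγgap
    rw [← hd, Icc_pred_eq_Ico γ hγ1] at h2
    have h4 : ((Finset.Ico 1 γ).filter (fun m : ℕ => IsGap P (m : ℤ))).card +
        ((Finset.Ico 1 γ).filter (fun m : ℕ => ¬ IsGap P (m : ℤ))).card = γ - 1 := by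
      rw [Finset.card_filter_add_card_filter_not]; simp
    rw [← hd] at h1
    omega
  · have hno : ∀ m : ℕ, n < m → ¬ IsGap P (m : ℤ) := fun m hm h => hgap ⟨m, hm, h⟩
    set d : ℕ := 2 * genus k K with hd
    have h1 := ell_single_add_of_nongaps P hK hP n d (fun m hm1 _ => hno m hm1)
    have h2 := ell_eq_of_deg_ge hK (Finsupp.single P ((n + d : ℕ) : ℤ) : Divisor k K) (by
      rw [deg_single, hP, hd]; push_cast; omega)
    rw [deg_single, hP, h1] at h2
    push_cast at h2
    have : (2 * ell (Finsupp.single P (n : ℤ) : Divisor k K) : ℤ) ≤ n + 2 := by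
      rw [hd] at h2; push_cast at h2; omega
    exact_mod_cast this

open scoped Classical in
theorem gaps_card_ge (hK : FunFld.IsFunctionField k K) (hP : P.deg = 1) (l : ℕ) (hl : 1 ≤ l)
    (hlg : l ≤ genus k K) :
    l ≤ ((Finset.Icc 1 (2 * l - 1)).filter (fun m : ℕ => IsGap P (m : ℤ))).card := by
  classical
  have h1 := two_mul_ell_le P hK hP (2 * l - 1) (by
    have : ((2 * l - 1 : ℕ) : ℤ) = 2 * l - 1 := by
      rw [Nat.cast_sub (by omega)]; push_cast; ring
    rw [this]
    have : (l : ℤ) ≤ genus k K := by exact_mod_cast hlg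
    omega)
  have h2 := ell_single_eq_card P hK hP (2 * l - 1)
  have h4 : ((Finset.Icc 1 (2 * l - 1)).filter (fun m : ℕ => IsGap P (m : ℤ))).card +
      ((Finset.Icc 1 (2 * l - 1)).filter (fun m : ℕ => ¬ IsGap P (m : ℤ))).card = 2 * l - 1 := by
    rw [Finset.card_filter_add_card_filter_not]; simp
  omega

theorem isGap_one_of_genus_pos (hK : FunFld.IsFunctionField k K) (hP : P.deg = 1)
    (hg : 0 < genus k K) : IsGap P 1 := by
  by_contra h
  obtain ⟨f, hf0, hfP, hfQ⟩ := exists_of_not_isGap P h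
  have := genus_eq_zero_of_adjoin_eq_top hK (adjoin_eq_top_of_simple_pole hK hP hfP hfQ)
  omega

theorem ell_single_one_of_genus_pos (hK : FunFld.IsFunctionField k K) (hP : P.deg = 1)
    (hg : 0 < genus k K) : ell (Finsupp.single P 1 : Divisor k K) = 1 := by
  have h := isGap_one_of_genus_pos P hK hP hg
  have e : (Finsupp.single P ((1 : ℤ) - 1) : Divisor k K) = 0 := by
    rw [sub_self, Finsupp.single_zero]
  unfold IsGap at h
  unfold ell
  rw [h, e]
  exact (L_zero_finite hK).2

theorem ell_sub_single_lt (hK : FunFld.IsFunctionField k K) (hP : P.deg = 1)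
    (hg : 0 < genus k K) (D : Divisor k K)
    (hD : 2 * (genus k K : ℤ) ≤ D.deg ∨ IsCanonical k K D) :
    ell (D - Finsupp.single P 1) < ell D := by
  rcases hD with hD | hD
  · have h1 := ell_eq_of_deg_ge hK D (by omega)
    have h2 := ell_eq_of_deg_ge hK (D - Finsupp.single P 1) (by
      rw [deg_sub, deg_single, hP]; push_cast; omega)
    rw [deg_sub, deg_single, hP] at h2
    push_cast at h2
    have : (ell (D - Finsupp.single P 1) : ℤ) < ell D := by omega
    exact_mod_cast this
  · obtain ⟨h1, h2⟩ := ell_canonical hK hD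
    have h3 := riemann_roch hK hD (D - Finsupp.single P 1)
    have e : D - (D - Finsupp.single P 1) = Finsupp.single P 1 := by abel
    rw [e, ell_single_one_of_genus_pos P hK hP hg, deg_sub, deg_single, hP, h2] at h3
    push_cast at h3
    have : (ell (D - Finsupp.single P 1) : ℤ) < ell D := by rw [h1]; omega
    exact_mod_cast this

end Groth.Agent.H55
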