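import Groth.Agent.H55.FFLoc2

/-!
Embedding theorems: complete linear systems that separate points and tangent vectors give
projective maps that are nonsingular at every place.
-/

namespace Groth.Agent.H55

open FunFld WithZero IntermediateField

variable {k K : Type*} [Field k] [Field K] [Algebra k K]

theorem single_one_nonneg (P : Place k K) : (0 : Divisor k K) ≤ Finsupp.single P 1 := by
  have := single_mono P (show (0 : ℤ) ≤ 1 by norm_num)
  rwa [Finsupp.single_zero] at this

theorem coprime_succ_self' (a : ℕ) : Nat.Coprime (a + 1) a := by simp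

theorem exists_mem_L_ord_eq (D : Divisor k K) (P : Place k K)
    (h : ell (D - Finsupp.single P 1) < ell D) : ∃ f ∈ L D, f ≠ 0 ∧ P.ord f = -(D P) := by
  classical
  have hle : D - Finsupp.single P 1 ≤ D := sub_le_self _ (single_one_nonneg P)
  have hlt : L (D - Finsupp.single P 1) < L D := by
    refine lt_of_le_of_ne (L_mono hle) (fun heq => ?_)
    unfold ell at h
    rw [heq] at h
    exact lt_irrefl _ h
  obtain ⟨f, hf, hfn⟩ := SetLike.exists_of_lt hlt
  have hf0 : f ≠ 0 := by
    rintro rfl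
    exact hfn (Submodule.zero_mem _)
  refine ⟨f, hf, hf0, ?_⟩
  by_contra hne
  apply hfn
  intro Q
  by_cases hQ : Q = P
  · subst hQ
    rw [Finsupp.sub_apply, Finsupp.single_eq_same, pl_val_le_exp_iff Q hf0]
    have h1 := hf Q
    rw [pl_val_le_exp_iff Q hf0] at h1
    omega
  · rw [Finsupp.sub_apply, Finsupp.single_apply, if_neg (Ne.symm hQ), sub_zero]
    exact hf Q

theorem ell_sub_single_lt_of_deg_ge [IsAlgClosed k] (hK : FunFld.IsFunctionField k K)
    (D' : Divisor k K) (Q : Place k K) (h : 2 * (genus k K : ℤ) ≤ D'.deg) :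
    ell (D' - Finsupp.single Q 1) < ell D' := by
  have h1 := ell_eq_of_deg_ge hK D' (by omega)
  have hd : (D' - Finsupp.single Q 1).deg = D'.deg - 1 := by
    rw [deg_sub, deg_single, deg_eq_one_of_isAlgClosed hK Q]
    norm_num
  have h2 := ell_eq_of_deg_ge hK (D' - Finsupp.single Q 1) (by rw [hd]; omega)
  rw [hd] at h2
  have h3 : (ell (D' - Finsupp.single Q 1) : ℤ) < ell D' := by
    rw [h1, h2]
    omega
  exact_mod_cast h3

/-- A generic element of `L(D - F)` meets the divisor of `φ₀` exactly in `F`. -/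
theorem exists_generic_ratio [Infinite k] (hK : FunFld.IsFunctionField k K) (D : Divisor k K)
    (φ₀ : K) (hφ₀ : φ₀ ∈ L D) (h0 : φ₀ ≠ 0) (F : Divisor k K)
    (hFE : F ≤ D + FunFld.div k φ₀)
    (hdrop : ∀ Q : Place k K, ell (D - F - Finsupp.single Q 1) < ell (D - F)) :
    ∃ f ∈ L (D - F), f ≠ 0 ∧ poleDiv k (f / φ₀) = D + FunFld.div k φ₀ - F := by
  classical
  haveI := L_finite hK (D - F)
  have hφV : φ₀ ∈ L (D - F) := by
    intro Q
    rw [pl_val_le_exp_iff Q h0, Finsupp.sub_apply]
    have := hFE Q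
    rw [Finsupp.add_apply, div_apply hK] at this
    omega
  let H : Place k K → Submodule k ↥(L (D - F)) := fun Q =>
    (L (D - F - Finsupp.single Q 1)).comap (L (D - F)).subtype
  obtain ⟨T, hT⟩ : ∃ T : Finset (Place k K), T = (D + FunFld.div k φ₀ - F).support := ⟨_, rfl⟩
  have htop : (⊤ : Submodule k ↥(L (D - F))) ∉ insert ⊥ (T.image H) := by
    intro hmem
    rcases Finset.mem_insert.mp hmem with h | h
    · have h1 : (⟨φ₀, hφV⟩ : ↥(L (D - F))) ∈ (⊥ : Submodule k ↥(L (D - F))) := by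
        rw [← h]
        exact Submodule.mem_top
      rw [Submodule.mem_bot] at h1
      exact h0 (congrArg Subtype.val h1)
    · obtain ⟨Q, -, hQ⟩ := Finset.mem_image.mp h
      have hle : L (D - F) ≤ L (D - F - Finsupp.single Q 1) := by
        intro y hy
        have h1 : (⟨y, hy⟩ : ↥(L (D - F))) ∈ H Q := by
          rw [hQ]
          exact Submodule.mem_top
        exact h1
      have heq : L (D - F - Finsupp.single Q 1) = L (D - F) :=
        le_antisymm (L_mono (sub_le_self _ (single_one_nonneg Q))) hle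
      have h2 := hdrop Q
      unfold ell at h2
      rw [heq] at h2
      exact lt_irrefl _ h2
  have hne := Subspace.biUnion_ne_univ_of_top_notMem htop
  obtain ⟨f', hf'⟩ : ∃ f' : ↥(L (D - F)),
      f' ∉ ⋃ p ∈ insert ⊥ (T.image H), (p : Set ↥(L (D - F))) := by
    by_contra hcon
    push_neg at hcon
    exact hne (Set.eq_univ_of_forall hcon)
  have hf0' : f' ≠ 0 := fun h => hf' (Set.mem_iUnion₂.mpr
    ⟨⊥, Finset.mem_insert_self _ _, by rw [h]; exact Submodule.zero_mem _⟩)
  have hf0 : (f' : K) ≠ 0 := fun h => hf0' (Subtype.ext h)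
  have hfT : ∀ Q ∈ T, (f' : K) ∉ L (D - F - Finsupp.single Q 1) := fun Q hQ hmem =>
    hf' (Set.mem_iUnion₂.mpr
      ⟨H Q, Finset.mem_insert_of_mem (Finset.mem_image_of_mem H hQ), hmem⟩)
  refine ⟨f', f'.2, hf0, ?_⟩
  ext Q
  rw [poleDiv_apply hK, pl_ord_div Q hf0 h0, Finsupp.sub_apply, Finsupp.add_apply, div_apply hK]
  have ha := f'.2 Q
  rw [pl_val_le_exp_iff Q hf0, Finsupp.sub_apply] at ha
  have hFQ := hFE Q
  rw [Finsupp.add_apply, div_apply hK] at hFQ
  by_cases hQT : Q ∈ T
  · have hexact : Q.ord (f' : K) = -(D Q - F Q) := by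
      by_contra hne'
      apply hfT Q hQT
      intro Q'
      by_cases hQQ : Q' = Q
      · subst hQQ
        rw [Finsupp.sub_apply, Finsupp.sub_apply, Finsupp.single_eq_same,
          pl_val_le_exp_iff Q' hf0]
        omega
      · rw [Finsupp.sub_apply, Finsupp.single_apply, if_neg (Ne.symm hQQ), sub_zero]
        exact f'.2 Q'
    rw [hexact, max_eq_left (by omega)]
    omega
  · have h0' : (D + FunFld.div k φ₀ - F) Q = 0 := by
      rw [hT] at hQT
      exact Finsupp.notMem_support_iff.mp hQT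
    rw [Finsupp.sub_apply, Finsupp.add_apply, div_apply hK] at h0'
    rw [max_eq_right (by omega)]
    omega

theorem exists_subdivisor [IsAlgClosed k] (hK : FunFld.IsFunctionField k K) (E : Divisor k K)
    (hE : 0 ≤ E) (m : ℕ) (hm : (m : ℤ) ≤ E.deg) :
    ∃ F : Divisor k K, 0 ≤ F ∧ F ≤ E ∧ F.deg = m := by
  classical
  induction m with
  | zero => exact ⟨0, le_rfl, hE, by simp [deg_zero]⟩
  | succ m ih =>
    obtain ⟨F, hF0, hFE, hFd⟩ := ih (by push_cast at hm ⊢; omega)
    have hne : F ≠ E := by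
      rintro rfl
      rw [hFd] at hm
      push_cast at hm
      omega
    obtain ⟨Q, hQ⟩ : ∃ Q, F Q < E Q := by
      by_contra hcon
      push_neg at hcon
      exact hne (le_antisymm hFE (fun Q => hcon Q))
    refine ⟨F + Finsupp.single Q 1, add_nonneg hF0 (single_one_nonneg Q), ?_, ?_⟩
    · intro Q'
      rw [Finsupp.add_apply, Finsupp.single_apply]
      split_ifs with h
      · subst h
        omega
      · rw [add_zero]
        exact hFE Q'
    · rw [deg_add, deg_single, hFd, deg_eq_one_of_isAlgClosed hK Q]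
      push_cast
      ring

/-- Ratios of elements of a complete linear system with prescribed pole degree. -/
theorem exists_ratio_finrank [IsAlgClosed k] (hK : FunFld.IsFunctionField k K) (D : Divisor k K)
    {n : ℕ} (φ : Fin (n + 1) → K) (hspan : Submodule.span k (Set.range φ) = L D)
    (h0 : φ 0 ≠ 0) (m : ℕ) (hm1 : 1 ≤ m) (hm : (m : ℤ) ≤ D.deg)
    (hdrop : ∀ F : Divisor k K, 0 ≤ F → F.deg = D.deg - m → ∀ Q : Place k K,
      ell (D - F - Finsupp.single Q 1) < ell (D - F)) :
    ∃ x ∈ IntermediateField.adjoin k (Set.range fun i => φ i / φ 0),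
      Transcendental k x ∧ Module.finrank k⟮x⟯ K = m := by
  classical
  have hφ0L : φ 0 ∈ L D := by
    rw [← hspan]
    exact Submodule.subset_span ⟨0, rfl⟩
  have hE0 : 0 ≤ D + FunFld.div k (φ 0) := nonneg_of_mem_L hK D h0 hφ0L
  have hdegE : (D + FunFld.div k (φ 0)).deg = D.deg := by rw [deg_add, deg_div hK, add_zero]
  obtain ⟨F, hF0, hFE, hFd⟩ := exists_subdivisor hK (D + FunFld.div k (φ 0)) hE0
    (D.deg - m).toNat (by rw [hdegE]; omega)
  have hFd' : F.deg = D.deg - m := by
    rw [hFd]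
    omega
  obtain ⟨f, hfL, hf0, hpole⟩ :=
    exists_generic_ratio hK D (φ 0) hφ0L h0 F hFE (hdrop F hF0 hFd')
  have hfD : f ∈ L D := L_mono (sub_le_self _ hF0) hfL
  have hfs : f ∈ Submodule.span k (Set.range φ) := by
    rw [hspan]
    exact hfD
  obtain ⟨c, hc⟩ := (Submodule.mem_span_range_iff_exists_fun k).mp hfs
  have hx_mem : f / φ 0 ∈ IntermediateField.adjoin k (Set.range fun i => φ i / φ 0) := by
    have e : f / φ 0 = ∑ i, c i • (φ i / φ 0) := by
      rw [← hc, Finset.sum_div]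
      simp_rw [smul_div_assoc]
    rw [e]
    refine sum_mem (fun i _ => ?_)
    rw [Algebra.smul_def]
    exact mul_mem (IntermediateField.algebraMap_mem _ _)
      (IntermediateField.subset_adjoin _ _ ⟨i, rfl⟩)
  have hdegpole : (poleDiv k (f / φ 0)).deg = m := by
    rw [hpole, deg_sub, hdegE, hFd']
    ring
  have hxt : Transcendental k (f / φ 0) := by
    rw [ff_transcendental_iff hK]
    rintro ⟨c', hc'⟩
    have h1 : poleDiv k (f / φ 0) = 0 := by
      ext Q
      rw [poleDiv_apply hK, ← hc', pl_ord_const]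
      simp
    rw [h1, deg_zero] at hdegpole
    have : (m : ℤ) = 0 := hdegpole.symm
    omega
  refine ⟨f / φ 0, hx_mem, hxt, ?_⟩
  have h2 := deg_poleDiv hK (f / φ 0) hxt
  rw [hdegpole] at h2
  exact_mod_cast h2.symm

theorem adjoin_eq_top_of_coprime (K₀ : IntermediateField k K) {x₁ x₂ : K} (h₁ : x₁ ∈ K₀)
    (h₂ : x₂ ∈ K₀)
    (hcop : Nat.Coprime (Module.finrank k⟮x₁⟯ K) (Module.finrank k⟮x₂⟯ K)) : K₀ = ⊤ := by
  have hle₁ : k⟮x₁⟯ ≤ K₀ := IntermediateField.adjoin_simple_le_iff.mpr h₁
  have hle₂ : k⟮x₂⟯ ≤ K₀ := IntermediateField.adjoin_simple_le_iff.mpr h₂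
  have d₁ : Module.finrank K₀ K ∣ Module.finrank k⟮x₁⟯ K :=
    Dvd.intro_left _ (IntermediateField.relfinrank_mul_finrank_top hle₁)
  have d₂ : Module.finrank K₀ K ∣ Module.finrank k⟮x₂⟯ K :=
    Dvd.intro_left _ (IntermediateField.relfinrank_mul_finrank_top hle₂)
  have h3 := Nat.dvd_gcd d₁ d₂
  rw [hcop.gcd_eq_one] at h3
  exact IntermediateField.finrank_eq_one_iff_eq_top.mp (Nat.dvd_one.mp h3)

/-- A complete, birational linear system that separates points and tangent vectors at `P` is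
nonsingular at `P`. -/
theorem isNonsingularAt_complete [IsAlgClosed k] (hK : FunFld.IsFunctionField k K)
    (D : Divisor k K) {n : ℕ} (φ : Fin (n + 1) → K) (hφ : LinearIndependent k φ)
    (hspan : Submodule.span k (Set.range φ) = L D)
    (hbir : IntermediateField.adjoin k (Set.range fun i => φ i / φ 0) = ⊤)
    (hbpf : ∀ Q : Place k K, ell (D - Finsupp.single Q 1) < ell D) (P : Place k K)
    (h2P : ell (D - Finsupp.single P 1 - Finsupp.single P 1) < ell (D - Finsupp.single P 1))
    (hPQ : ∀ Q : Place k K, Q ≠ P →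
      ell (D - Finsupp.single Q 1 - Finsupp.single P 1) < ell (D - Finsupp.single Q 1)) :
    IsNonsingularAt φ P := by
  classical
  have hφ0 : ∀ i, φ i ≠ 0 := fun i => hφ.ne_zero i
  have hφL : ∀ i, φ i ∈ L D := fun i => by
    rw [← hspan]
    exact Submodule.subset_span ⟨i, rfl⟩
  obtain ⟨j, -, hj⟩ := Finset.exists_max_image Finset.univ (fun i => P.1 (φ i))
    ⟨0, Finset.mem_univ _⟩
  have hj' : ∀ i, P.1 (φ i) ≤ P.1 (φ j) := fun i => hj i (Finset.mem_univ _)
  -- the entry of least order has order exactly `-D`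
  have hval : ∀ Q : Place k K, (∀ i, Q.1 (φ i) ≤ Q.1 (φ j)) → Q.1 (φ j) = exp (D Q) := by
    intro Q hQ
    obtain ⟨f, hfL, hf0, hford⟩ := exists_mem_L_ord_eq D Q (hbpf Q)
    have hfs : f ∈ Submodule.span k (Set.range φ) := by
      rw [hspan]
      exact hfL
    obtain ⟨c, hc⟩ := (Submodule.mem_span_range_iff_exists_fun k).mp hfs
    have h1 : Q.1 f = exp (D Q) := by
      rw [pl_val_eq_exp_neg_ord Q hf0, hford, neg_neg]
    have h2 : Q.1 f ≤ Q.1 (φ j) := by
      rw [← hc]
      exact Q.1.map_sum_le (fun i _ => (pl_val_smul_le Q (c i) (φ i)).trans (hQ i))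
    exact le_antisymm (hφL j Q) (h1 ▸ h2)
  have hPj : P.1 (φ j) = exp (D P) := hval P hj'
  -- elements of `L(D)` divided by `φ j` lie in the coordinate ring
  have hratio : ∀ f ∈ L D, f / φ j ∈ Acoord k (fun i => φ i / φ j) := by
    intro f hf
    have hfs : f ∈ Submodule.span k (Set.range φ) := by
      rw [hspan]
      exact hf
    obtain ⟨c, hc⟩ := (Submodule.mem_span_range_iff_exists_fun k).mp hfs
    have e : f / φ j = ∑ i, c i • (φ i / φ j) := by
      rw [← hc, Finset.sum_div]
      simp_rw [smul_div_assoc]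
    rw [e]
    exact Subalgebra.sum_mem _ (fun i _ => Subalgebra.smul_mem _
      (Algebra.subset_adjoin (Set.mem_range_self (f := fun i => φ i / φ j) i)) _)
  refine isNonsingularAt_of_sep_of_unif hK φ 0 hφ0 hbir P j hj' ?_ ?_
  · intro Q hQP hQfin
    have hQj : ∀ i, Q.1 (φ i) ≤ Q.1 (φ j) := by
      intro i
      have h1 := hQfin i
      change Q.1 (φ i / φ j) ≤ 1 at h1
      rwa [map_div₀, div_le_one₀ (zero_lt_iff.mpr ((Valuation.ne_zero_iff _).mpr (hφ0 j)))] at h1
    have hQval := hval Q hQj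
    obtain ⟨f, hfL, hf0, hford⟩ := exists_mem_L_ord_eq (D - Finsupp.single Q 1) P (hPQ Q hQP)
    have hfD : f ∈ L D := L_mono (sub_le_self _ (single_one_nonneg Q)) hfL
    refine ⟨f / φ j, hratio f hfD, ?_, ?_⟩
    · rw [map_div₀, hPj, pl_val_eq_exp_neg_ord P hf0, hford, Finsupp.sub_apply,
        Finsupp.single_apply, if_neg hQP, sub_zero, neg_neg]
      exact div_self exp_ne_zero
    · rw [map_div₀, hQval]
      have h1 := hfL Q
      rw [Finsupp.sub_apply, Finsupp.single_eq_same] at h1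
      have h2 : Q.1 f / exp (D Q) ≤ exp (D Q - 1) / exp (D Q) :=
        div_le_div_of_nonneg_right h1 zero_le'
      refine lt_of_le_of_lt h2 ?_
      rw [← exp_sub]
      have : (exp (D Q - 1 - D Q) : WithZero (Multiplicative ℤ)) < exp (0 : ℤ) :=
        exp_lt_exp.mpr (by omega)
      simpa using this
  · obtain ⟨f, hfL, hf0, hford⟩ := exists_mem_L_ord_eq (D - Finsupp.single P 1) P h2P
    have hfD : f ∈ L D := L_mono (sub_le_self _ (single_one_nonneg P)) hfL
    refine ⟨f / φ j, hratio f hfD, ?_⟩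
    rw [map_div₀, hPj, pl_val_eq_exp_neg_ord P hf0, hford, Finsupp.sub_apply,
      Finsupp.single_eq_same, neg_neg, ← exp_sub]
    congr 1
    ring

end Groth.Agent.H55
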