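import Groth.Agent.H55.FFIndep
import Mathlib

/-!
Valuation rings of a function field containing the constants are discrete, and come from places.
Existence of zeros and poles.
-/

set_option autoImplicit false

namespace Groth.Agent.H55

open FunFld WithZero Polynomial IntermediateField

variable {k K : Type*} [Field k] [Field K] [Algebra k K]

section VS

variable (A : ValuationSubring K) (hkA : ∀ c : k, algebraMap k K c ∈ A)

/-- A valuation subring containing the constants, as a `k`-subspace. -/
def vsSub : Submodule k K where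
  carrier := A
  add_mem' := A.add_mem _ _
  zero_mem' := A.zero_mem
  smul_mem' c y hy := by
    rw [Algebra.smul_def]; exact A.mul_mem _ _ (hkA c) hy

/-- The `k`-algebra structure on a valuation subring containing the constants. -/
@[reducible] def vsAlg : Algebra k A := ((algebraMap k K).codRestrict A hkA).toAlgebra

include hkA

theorem vs_transcendental (hK : FunFld.IsFunctionField k K) (y : K) (hy0 : y ≠ 0)
    (hy : y ∈ A.nonunits) : Transcendental k y := by
  rw [ff_transcendental_iff hK]
  rintro ⟨c, rfl⟩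
  have hc : c ≠ 0 := by
    rintro rfl; simp at hy0
  have h1 : A.valuation (algebraMap k K c)⁻¹ ≤ 1 := by
    rw [A.valuation_le_one_iff, ← map_inv₀]; exact hkA _
  rw [ValuationSubring.mem_nonunits_iff] at hy
  rw [map_inv₀] at h1
  have hne : A.valuation (algebraMap k K c) ≠ 0 := (A.valuation.ne_zero_iff).mpr hy0
  have := (inv_le_one₀ (zero_lt_iff.mpr hne)).mp h1
  exact absurd hy (not_lt.mpr this)

theorem vs_isNoetherian_quot (hK : FunFld.IsFunctionField k K) (y : K) (hy0 : y ≠ 0)
    (hy : y ∈ A.nonunits) :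
    IsNoetherian A (A ⧸ Ideal.span {(⟨y, A.nonunits_subset hy⟩ : A)}) := by
  letI := vsAlg A hkA
  set y' : A := ⟨y, A.nonunits_subset hy⟩ with hy'
  set I : Ideal A := Ideal.span {y'} with hI
  haveI := ff_finite hK (vs_transcendental A hkA hK y hy0 hy)
  have hxA : ∀ a ∈ vsSub A hkA, y * a ∈ vsSub A hkA :=
    fun a ha => A.mul_mem _ _ (A.nonunits_subset hy) ha
  let ι : vsSub A hkA →ₗ[k] A :=
    { toFun := fun a => ⟨a.1, a.2⟩
      map_add' := fun a b => rfl
      map_smul' := fun c a => by
        apply Subtype.ext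
        simp only [Submodule.coe_smul, Algebra.smul_def, RingHom.id_apply]
        rfl }
  let π : vsSub A hkA →ₗ[k] (A ⧸ I) := (Ideal.Quotient.mkₐ k I).toLinearMap ∘ₗ ι
  have hπs : Function.Surjective π := by
    intro q
    obtain ⟨a, rfl⟩ := Ideal.Quotient.mk_surjective q
    exact ⟨⟨a.1, a.2⟩, rfl⟩
  have hπ : ∀ a (ha : a ∈ vsSub A hkA), π ⟨y * a, hxA a ha⟩ = 0 := by
    intro a ha
    change Ideal.Quotient.mk I (⟨y * a, hxA a ha⟩ : A) = 0
    rw [Ideal.Quotient.eq_zero_iff_mem]
    have : (⟨y * a, hxA a ha⟩ : A) = y' * ⟨a, ha⟩ := rfl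
    rw [this]
    exact Ideal.mul_mem_right _ _ (Ideal.subset_span rfl)
  obtain ⟨hfin, -⟩ := finite_of_mul_mem y hy0 (vsSub A hkA) hxA π hπs hπ
  have hN : IsNoetherian k (A ⧸ I) := inferInstance
  exact isNoetherian_of_tower k hN

theorem vs_isNoetherianRing (hK : FunFld.IsFunctionField k K) : IsNoetherianRing A := by
  rw [isNoetherianRing_iff_ideal_fg]
  intro J
  by_cases hJ : J = ⊥
  · rw [hJ]; exact Submodule.fg_bot
  obtain ⟨y, hyJ, hy0⟩ := Submodule.exists_mem_ne_zero_of_ne_bot hJ
  by_cases hu : IsUnit y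
  · rw [Ideal.eq_top_of_isUnit_mem J hyJ hu]
    exact ⟨{1}, by rw [Finset.coe_singleton, Ideal.span_singleton_one]⟩
  · have hyn : (y : K) ∈ A.nonunits := by
      rw [ValuationSubring.mem_nonunits_iff]
      rcases A.valuation_lt_one_or_eq_one y with h | h
      · exact h
      · exact absurd ((A.valuation_eq_one_iff y).mpr h) hu
    have hy0' : (y : K) ≠ 0 := fun h => hy0 (Subtype.ext h)
    haveI := vs_isNoetherian_quot A hkA hK (y : K) hy0' hyn
    set I : Ideal A := Ideal.span {(⟨(y : K), A.nonunits_subset hyn⟩ : A)} with hI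
    have hyI : I = Ideal.span {y} := rfl
    refine Submodule.fg_of_fg_map_of_fg_inf_ker (Submodule.mkQ I) ?_ ?_
    · exact IsNoetherian.noetherian _
    · rw [Submodule.ker_mkQ]
      have : J ⊓ I = I := by
        apply inf_eq_right.mpr
        rw [hyI, Ideal.span_singleton_le_iff_mem]
        exact hyJ
      rw [this]
      exact Submodule.fg_span_singleton _

theorem vs_isDVR (hK : FunFld.IsFunctionField k K) (y : K) (hy0 : y ≠ 0)
    (hy : y ∈ A.nonunits) : IsDiscreteValuationRing A := by
  haveI := vs_isNoetherianRing A hkA hK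
  have hnf : ¬ IsField A := by
    rw [IsLocalRing.isField_iff_maximalIdeal_eq]
    intro h
    have h1 : (⟨y, A.nonunits_subset hy⟩ : A) ∈ IsLocalRing.maximalIdeal A := by
      rw [A.valuation_lt_one_iff]; exact hy
    rw [h] at h1
    exact hy0 (congrArg Subtype.val ((Submodule.mem_bot A).mp h1))
  have hV : ValuationRing A := inferInstance
  exact ((IsDiscreteValuationRing.TFAE A hnf).out 0 1).mpr hV

/-- Every valuation subring of a function field that contains the constants and is not the whole
field is the valuation ring of a place. -/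
theorem exists_place_of_valuationSubring (hK : FunFld.IsFunctionField k K) (y : K) (hy0 : y ≠ 0)
    (hy : y ∈ A.nonunits) :
    ∃ P : Place k K, (∀ z ∈ A, P.1 z ≤ 1) ∧ (∀ z ∈ A.nonunits, P.1 z < 1) := by
  haveI := vs_isDVR A hkA hK y hy0 hy
  let v := (IsDiscreteValuationRing.maximalIdeal A).valuation K
  have hle : ∀ z ∈ A, v z ≤ 1 := fun z hz =>
    (IsDiscreteValuationRing.maximalIdeal A).valuation_le_one (K := K) ⟨z, hz⟩
  have hsurj : Function.Surjective v := by
    obtain ⟨π, hπ⟩ := (IsDiscreteValuationRing.maximalIdeal A).valuation_exists_uniformizer K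
    intro g
    by_cases hg : g = 0
    · exact ⟨0, by rw [hg, map_zero]⟩
    · refine ⟨π ^ (-(log g)), ?_⟩
      rw [map_zpow₀]
      change (v π) ^ (-(log g)) = g
      have : v π = exp (-1 : ℤ) := hπ
      rw [this, ← exp_zsmul]
      simp [exp_log hg]
  refine ⟨⟨v, fun c => hle _ (hkA c), hsurj⟩, hle, ?_⟩
  intro z hz
  have hzA : z ∈ A := A.nonunits_subset hz
  have : (⟨z, hzA⟩ : A) ∈ (IsDiscreteValuationRing.maximalIdeal A).asIdeal := by
    change (⟨z, hzA⟩ : A) ∈ IsLocalRing.maximalIdeal A
    rw [A.valuation_lt_one_iff]; exact hz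
  exact ((IsDiscreteValuationRing.maximalIdeal A).valuation_lt_one_iff_mem (K := K) ⟨z, hzA⟩).mpr this

end VS

section Exists

/-- A transcendental element has a zero. -/
theorem exists_zero (hK : FunFld.IsFunctionField k K) (x : K) (hx : Transcendental k x) :
    ∃ P : Place k K, P.1 x < 1 := by
  have hx0 : x ≠ 0 := by
    rintro rfl
    exact hx (isAlgebraic_zero)
  set R : Subring K := (Algebra.adjoin k {x}).toSubring with hR
  have hxR : x ∈ R := Algebra.self_mem_adjoin_singleton k x
  set I : Ideal R := Ideal.span {(⟨x, hxR⟩ : R)} with hI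
  have hI : I ≠ ⊤ := by
    intro htop
    have h1 : (1 : R) ∈ I := by rw [htop]; trivial
    rw [Ideal.mem_span_singleton'] at h1
    obtain ⟨q, hq⟩ := h1
    have hq' : (q : K) * x = 1 := congrArg Subtype.val hq
    have hqmem : (q : K) ∈ (aeval x : k[X] →ₐ[k] K).range := by
      rw [← Algebra.adjoin_singleton_eq_range_aeval]; exact q.2
    obtain ⟨p, hp⟩ := hqmem
    change aeval x p = (q : K) at hp
    apply hx
    refine ⟨p * X - 1, ?_, ?_⟩
    · intro h0
      have := congrArg (fun f => coeff f 0) h0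
      simp at this
    · rw [map_sub, map_mul, aeval_X, map_one, hp, hq', sub_self]
  obtain ⟨B, hRB, hIB⟩ := Ideal.image_subset_nonunits_valuationSubring I hI
  have hkB : ∀ c : k, algebraMap k K c ∈ B :=
    fun c => hRB ((Algebra.adjoin k {x}).algebraMap_mem c)
  have hxB : x ∈ B.nonunits := hIB ⟨⟨x, hxR⟩, Ideal.subset_span rfl, rfl⟩
  obtain ⟨P, -, hP⟩ := exists_place_of_valuationSubring B hkB hK x hx0 hxB
  exact ⟨P, hP x hxB⟩

theorem exists_pole (hK : FunFld.IsFunctionField k K) (x : K) (hx : Transcendental k x) :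
    ∃ P : Place k K, 1 < P.1 x := by
  have hx0 : x ≠ 0 := by
    rintro rfl
    exact hx (isAlgebraic_zero)
  have hxi : Transcendental k x⁻¹ := by
    intro h
    apply hx
    have := h.inv
    rwa [inv_inv] at this
  obtain ⟨P, hP⟩ := exists_zero hK x⁻¹ hxi
  refine ⟨P, ?_⟩
  rw [map_inv₀] at hP
  have hne : P.1 x ≠ 0 := (P.1.ne_zero_iff).mpr hx0
  exact (inv_lt_one₀ (zero_lt_iff.mpr hne)).mp hP

end Exists

end Groth.Agent.H55
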