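import Groth.Agent.H55.FFHyper2
import Mathlib

/-!
The infinite place of `k(x)` in a quadratic extension `y² = f(x)`.
-/

set_option autoImplicit false

namespace Groth.Agent.H55

open FunFld WithZero Polynomial IntermediateField

section General

variable {k F K : Type*} [Field k] [Field F] [Field K] [Algebra k F] [Algebra F K] [Algebra k K]
  [IsScalarTower k F K]

/-- In a quadratic extension `y² = u`, a place where `u` has odd order is totally ramified. -/
theorem quadratic_ramified (hF : G.IsFF1 k F) (hdeg : Module.finrank F K = 2) (y : K) (u : F)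
    (heq : y ^ 2 = algebraMap F K u) (P₀ : Place k F) (hodd : Odd (P₀.ord u)) :
    (∃! P : Place k K, IsOver P P₀) ∧
    ∀ P : Place k K, IsOver P P₀ → IsOverWith P P₀ 2 ∧ P.deg = P₀.deg := by
  classical
  haveI : FiniteDimensional F K := Module.finite_of_finrank_pos (by rw [hdeg]; norm_num)
  have hK : G.IsFF1 k K := isFF1_of_finite hF
  have hdP₀ := G.deg_pos hF P₀
  obtain ⟨hfin, hsum⟩ := G.sum_ramIdx_mul_deg (K' := K) hF P₀
  have hs := hsum hfin.toFinset (fun Q => by rw [Set.Finite.mem_toFinset]; rfl)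
  rw [hdeg] at hs
  have key : ∀ P : Place k K, ∀ e : ℕ, IsOverWith P P₀ e → e = 2 ∧ P.deg = P₀.deg := by
    intro P e he
    have hord : 2 * P.ord y = e * P₀.ord u := by
      rw [← ord_eq_of_isOverWith he, ← heq, pl_ord_pow P]
      norm_num
    obtain ⟨c, hc⟩ := hodd
    obtain ⟨m, hm⟩ : ∃ m : ℤ, (e : ℤ) = 2 * m :=
      ⟨P.ord y - e * c, by rw [hc] at hord; linarith⟩
    have hepos := isOverWith_pos he
    haveI := G.residue_finiteDimensional hK P
    have hdle := deg_le_of_isOverWith he
    have hPmem : P ∈ hfin.toFinset := by rw [Set.Finite.mem_toFinset]; exact ⟨e, he⟩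
    have hle : ramIdx P P₀ * P.deg ≤ ∑ Q ∈ hfin.toFinset, ramIdx Q P₀ * Q.deg :=
      Finset.single_le_sum (f := fun Q => ramIdx Q P₀ * Q.deg) (fun _ _ => Nat.zero_le _) hPmem
    rw [ramIdx_eq he, hs] at hle
    have he2 : 2 ≤ e := by omega
    have hdP : 0 < P.deg := lt_of_lt_of_le hdP₀ hdle
    have he_eq : e = 2 := by
      by_contra hne
      have h3 : 3 ≤ e := by omega
      have h4 : 3 * P.deg ≤ e * P.deg := Nat.mul_le_mul_right _ h3
      omega
    refine ⟨he_eq, ?_⟩
    rw [he_eq] at hle
    omega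
  have key2 : ∀ P : Place k K, IsOver P P₀ → IsOverWith P P₀ 2 ∧ P.deg = P₀.deg := by
    rintro P ⟨e, he⟩
    obtain ⟨h1, h2'⟩ := key P e he
    subst h1
    exact ⟨he, h2'⟩
  refine ⟨?_, key2⟩
  obtain ⟨P, hP⟩ := exists_place_over (K' := K) hF P₀
  refine ⟨P, hP, ?_⟩
  intro P' hP'
  by_contra hne
  have hsub : ({P', P} : Finset (Place k K)) ⊆ hfin.toFinset := by
    intro Q hQ
    rw [Finset.mem_insert, Finset.mem_singleton] at hQ
    rw [Set.Finite.mem_toFinset]
    rcases hQ with rfl | rfl
    · exact hP'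
    · exact hP
  have hle := Finset.sum_le_sum_of_subset (f := fun Q => ramIdx Q P₀ * Q.deg) hsub
  rw [Finset.sum_pair hne, hs] at hle
  obtain ⟨h1, h1'⟩ := key2 P hP
  obtain ⟨h3, h3'⟩ := key2 P' hP'
  rw [ramIdx_eq h1, ramIdx_eq h3, h1', h3'] at hle
  omega

theorem conormP_deg_G (hK : G.IsFF1 k F) [FiniteDimensional F K] (P : Place k F)
    (hf : {Q : Place k K | IsOver Q P}.Finite) :
    Divisor.deg (hf.toFinset.sum
      (fun Q => (ramIdx Q P : ℤ) • (Finsupp.single Q 1 : Divisor k K)) : Divisor k K)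
      = Module.finrank F K * P.deg := by
  classical
  rw [← degHom_apply, map_sum]
  have h := (G.sum_ramIdx_mul_deg (K' := K) hK P).2 hf.toFinset
    (fun Q => by rw [Set.Finite.mem_toFinset]; exact Iff.rfl)
  have hterm : ∀ Q ∈ hf.toFinset,
      degHom k K ((ramIdx Q P : ℤ) • (Finsupp.single Q 1 : Divisor k K))
        = ((ramIdx Q P * Q.deg : ℕ) : ℤ) := by
    intro Q _
    rw [map_zsmul, degHom_apply, deg_single, smul_eq_mul, one_mul, Nat.cast_mul]
  rw [Finset.sum_congr rfl hterm, ← Nat.cast_sum, h, Nat.cast_mul]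

/-- `deg N*(D) = [K:F] deg D` (no constant-field hypothesis). -/
theorem deg_conorm_G (hK : G.IsFF1 k F) [FiniteDimensional F K]
    (D : Divisor k F) : (conorm K D).deg = Module.finrank F K * D.deg := by
  classical
  unfold conorm
  rw [← degHom_apply, map_finsuppSum]
  unfold Divisor.deg
  rw [Finsupp.mul_sum]
  apply Finsupp.sum_congr
  intro P _
  have hf := (G.sum_ramIdx_mul_deg (K' := K) hK P).1
  rw [dif_pos hf, map_zsmul, degHom_apply, conormP_deg_G hK P hf, smul_eq_mul]
  ring

end General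

section DegOne

variable {k K : Type*} [Field k] [Field K] [Algebra k K]

theorem deg_eq_one_of_forall_const (P : Place k K)
    (h : ∀ z : K, P.1 z ≤ 1 → ∃ c : k, P.1 (z - algebraMap k K c) < 1) : P.deg = 1 := by
  have hsurj : Function.Surjective
      (@algebraMap k (IsLocalRing.ResidueField P.O) _ _ (Place.algRes P)) := by
    intro r
    obtain ⟨z, rfl⟩ := IsLocalRing.residue_surjective r
    obtain ⟨c, hc⟩ := h z.1 z.2
    refine ⟨c, ?_⟩
    symm
    rw [← sub_eq_zero]
    have e1 : IsLocalRing.residue P.O z -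
        @algebraMap k (IsLocalRing.ResidueField P.O) _ _ (Place.algRes P) c =
        IsLocalRing.residue P.O (z - algebraMap k P.O c) := by
      rw [map_sub]; rfl
    rw [e1, IsLocalRing.residue_eq_zero_iff, mem_maximalIdeal_iff]
    exact hc
  have hbij : Function.Bijective
      (@algebraMap k (IsLocalRing.ResidueField P.O) _ _ (Place.algRes P)) :=
    ⟨(@algebraMap k (IsLocalRing.ResidueField P.O) _ _ (Place.algRes P)).injective, hsurj⟩
  let e : k ≃ₗ[k] IsLocalRing.ResidueField P.O :=
    LinearEquiv.ofBijective (Algebra.linearMap k _) hbij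
  have h1 : Module.finrank k (IsLocalRing.ResidueField P.O) = 1 := by
    rw [← e.finrank_eq, Module.finrank_self]
  exact h1

theorem quadratic_separable {F L : Type*} [Field F] [Field L] [Algebra F L] (h2 : (2 : F) ≠ 0)
    (hdeg : Module.finrank F L = 2) : Algebra.IsSeparable F L := by
  haveI : FiniteDimensional F L := Module.finite_of_finrank_pos (by rw [hdeg]; norm_num)
  refine ⟨fun x => ?_⟩
  have hint : IsIntegral F x := Algebra.IsIntegral.isIntegral x
  have hirr := minpoly.irreducible hint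
  show (minpoly F x).Separable
  rw [Polynomial.separable_iff_derivative_ne_zero hirr]
  intro hder
  have hmon := minpoly.monic hint
  have hle : (minpoly F x).natDegree ≤ 2 := by
    have := minpoly.natDegree_le (A := F) x
    rwa [hdeg] at this
  have hpos : 0 < (minpoly F x).natDegree := minpoly.natDegree_pos hint
  have hc := congrArg (fun p => p.coeff ((minpoly F x).natDegree - 1)) hder
  simp only [Polynomial.coeff_derivative, Polynomial.coeff_zero] at hc
  rw [Nat.sub_add_cancel hpos, hmon.coeff_natDegree, one_mul] at hc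
  have hn : (minpoly F x).natDegree = 1 ∨ (minpoly F x).natDegree = 2 := by omega
  rcases hn with hn | hn
  · rw [hn] at hc
    have e1 : ((1 - 1 : ℕ) : F) + 1 = 1 := by norm_num
    rw [e1] at hc
    exact one_ne_zero hc
  · rw [hn] at hc
    apply h2
    have e1 : ((2 - 1 : ℕ) : F) + 1 = 2 := by norm_num
    rw [← e1]
    exact hc

end DegOne

section Inf

variable {k : Type*} [Field k]

theorem ratfunc_inf_val_poly (Pinf : Place k (RatFunc k)) (hX : 1 < Pinf.1 RatFunc.X)
    {q : k[X]} (hq : q ≠ 0) :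
    Pinf.1 (algebraMap k[X] (RatFunc k) q) = Pinf.1 RatFunc.X ^ q.natDegree := by
  haveI := pl_isTrivialOn Pinf
  exact Polynomial.valuation_eq_valuation_X_pow_natDegree_of_one_lt_valuation_X _ hX hq

theorem ratfunc_inf_ord_poly (Pinf : Place k (RatFunc k)) (hX : 1 < Pinf.1 RatFunc.X)
    {q : k[X]} (hq : q ≠ 0) :
    Pinf.ord (algebraMap k[X] (RatFunc k) q) =
      q.natDegree * Pinf.ord (RatFunc.X : RatFunc k) := by
  have h := ratfunc_inf_val_poly Pinf hX hq
  rw [← map_pow] at h
  rw [← pl_ord_pow Pinf]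
  unfold Place.ord
  rw [h]

theorem ratfunc_inf_ord_X (Pinf : Place k (RatFunc k))
    (hinf : Pinf.ord (RatFunc.X : RatFunc k) < 0) : Pinf.ord (RatFunc.X : RatFunc k) = -1 := by
  have hX : 1 < Pinf.1 RatFunc.X := (pl_one_lt_val_iff Pinf _).mpr hinf
  obtain ⟨z, hz0, hz⟩ := pl_exists_val_eq_exp Pinf (-1)
  obtain ⟨a, b, hb, hab⟩ := IsFractionRing.div_surjective (A := k[X]) z
  have hb0 : b ≠ 0 := nonZeroDivisors.ne_zero hb
  have hB0 : algebraMap k[X] (RatFunc k) b ≠ 0 :=
    (map_ne_zero_iff _ (RatFunc.algebraMap_injective k)).mpr hb0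
  have ha0 : a ≠ 0 := by
    rintro rfl
    rw [map_zero, zero_div] at hab
    exact hz0 hab.symm
  have hA0 : algebraMap k[X] (RatFunc k) a ≠ 0 :=
    (map_ne_zero_iff _ (RatFunc.algebraMap_injective k)).mpr ha0
  have hordz : Pinf.ord z = 1 := by rw [pl_ord_eq_of_val_eq Pinf hz]; norm_num
  rw [← hab, pl_ord_div Pinf hA0 hB0, ratfunc_inf_ord_poly Pinf hX ha0,
    ratfunc_inf_ord_poly Pinf hX hb0] at hordz
  have hdvd : (-Pinf.ord (RatFunc.X : RatFunc k)) ∣ 1 :=
    ⟨(b.natDegree : ℤ) - a.natDegree, by rw [← hordz]; ring⟩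
  have := Int.eq_one_of_dvd_one (by omega) hdvd
  omega

theorem ratfunc_inf_const (Pinf : Place k (RatFunc k))
    (hinf : Pinf.ord (RatFunc.X : RatFunc k) < 0) (z : RatFunc k) (hz : Pinf.1 z ≤ 1) :
    ∃ c : k, Pinf.1 (z - algebraMap k (RatFunc k) c) < 1 := by
  have hX : 1 < Pinf.1 RatFunc.X := (pl_one_lt_val_iff Pinf _).mpr hinf
  have hXo := ratfunc_inf_ord_X Pinf hinf
  have hpoly : ∀ q : k[X], q ≠ 0 →
      Pinf.ord (algebraMap k[X] (RatFunc k) q) = -(q.natDegree : ℤ) := by
    intro q hq
    rw [ratfunc_inf_ord_poly Pinf hX hq, hXo]; ring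
  obtain ⟨a, b, hb, rfl⟩ := IsFractionRing.div_surjective (A := k[X]) z
  have hb0 : b ≠ 0 := nonZeroDivisors.ne_zero hb
  have hB0 : algebraMap k[X] (RatFunc k) b ≠ 0 :=
    (map_ne_zero_iff _ (RatFunc.algebraMap_injective k)).mpr hb0
  by_cases ha0 : a = 0
  · refine ⟨0, ?_⟩
    rw [ha0, map_zero, zero_div, map_zero, sub_zero, map_zero]
    exact zero_lt_one
  have hA0 : algebraMap k[X] (RatFunc k) a ≠ 0 :=
    (map_ne_zero_iff _ (RatFunc.algebraMap_injective k)).mpr ha0
  have hordz : Pinf.ord (algebraMap k[X] (RatFunc k) a / algebraMap k[X] (RatFunc k) b) =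
      (b.natDegree : ℤ) - a.natDegree := by
    rw [pl_ord_div Pinf hA0 hB0, hpoly a ha0, hpoly b hb0]; ring
  have hz0 : algebraMap k[X] (RatFunc k) a / algebraMap k[X] (RatFunc k) b ≠ 0 :=
    div_ne_zero hA0 hB0
  have hle : (a.natDegree : ℤ) ≤ b.natDegree := by
    have := (pl_val_le_one_iff Pinf hz0).mp hz
    rw [hordz] at this
    omega
  rcases lt_or_eq_of_le hle with hlt | heq'
  · refine ⟨0, ?_⟩
    rw [map_zero, sub_zero, pl_val_lt_one_iff Pinf hz0, hordz]
    omega
  · have hdeg : a.natDegree = b.natDegree := by exact_mod_cast heq'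
    have hlb : b.leadingCoeff ≠ 0 := leadingCoeff_ne_zero.mpr hb0
    have hla : a.leadingCoeff ≠ 0 := leadingCoeff_ne_zero.mpr ha0
    obtain ⟨c, hc⟩ : ∃ c : k, c = a.leadingCoeff / b.leadingCoeff := ⟨_, rfl⟩
    have hc0 : c ≠ 0 := by rw [hc]; exact div_ne_zero hla hlb
    refine ⟨c, ?_⟩
    have hC : algebraMap k (RatFunc k) c = algebraMap k[X] (RatFunc k) (C c) := by
      rw [IsScalarTower.algebraMap_apply k k[X] (RatFunc k), ← Polynomial.C_eq_algebraMap]
    have e1 : algebraMap k[X] (RatFunc k) a / algebraMap k[X] (RatFunc k) b -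
        algebraMap k (RatFunc k) c =
        algebraMap k[X] (RatFunc k) (a - C c * b) / algebraMap k[X] (RatFunc k) b := by
      rw [hC, map_sub, map_mul]
      field_simp
    by_cases hr : a - C c * b = 0
    · rw [e1, hr, map_zero, zero_div, map_zero]
      exact zero_lt_one
    · have hR0 : algebraMap k[X] (RatFunc k) (a - C c * b) ≠ 0 :=
        (map_ne_zero_iff _ (RatFunc.algebraMap_injective k)).mpr hr
      have hdlt : (a - C c * b).natDegree < a.natDegree := by
        apply Polynomial.natDegree_lt_natDegree hr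
        apply Polynomial.degree_sub_lt
        · rw [Polynomial.degree_C_mul hc0, Polynomial.degree_eq_natDegree ha0,
            Polynomial.degree_eq_natDegree hb0, hdeg]
        · exact ha0
        · rw [Polynomial.leadingCoeff_mul, Polynomial.leadingCoeff_C, hc,
            div_mul_cancel₀ _ hlb]
      rw [e1, pl_val_lt_one_iff Pinf (div_ne_zero hR0 hB0), pl_ord_div Pinf hR0 hB0,
        hpoly _ hr, hpoly b hb0]
      omega

theorem ratfunc_inf_deg (Pinf : Place k (RatFunc k))
    (hinf : Pinf.ord (RatFunc.X : RatFunc k) < 0) : Pinf.deg = 1 :=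
  deg_eq_one_of_forall_const Pinf (ratfunc_inf_const Pinf hinf)

variable {K : Type*} [Field K] [Algebra k K]
  [Algebra (RatFunc k) K] [IsScalarTower k (RatFunc k) K]

theorem hyperelliptic_y_not_mem (y : K) (f : Polynomial k) (hf : Squarefree f)
    (hd : 1 ≤ f.natDegree)
    (heq : y ^ 2 = algebraMap (RatFunc k) K (algebraMap (Polynomial k) (RatFunc k) f)) :
    y ∉ (algebraMap (RatFunc k) K).range := by
  rintro ⟨z, rfl⟩
  have hz : z ^ 2 = algebraMap k[X] (RatFunc k) f := by
    apply (algebraMap (RatFunc k) K).injective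
    rw [map_pow]; exact heq
  have hint : IsIntegral k[X] z := by
    refine ⟨X ^ 2 - C f, Polynomial.monic_X_pow_sub_C f two_ne_zero, ?_⟩
    rw [eval₂_sub, eval₂_pow, eval₂_X, eval₂_C, hz, sub_self]
  obtain ⟨q, rfl⟩ := IsIntegrallyClosed.isIntegral_iff.mp hint
  have hq : q ^ 2 = f := by
    apply RatFunc.algebraMap_injective k
    rw [map_pow]; exact hz
  have hqu : IsUnit q := hf q ⟨1, by rw [← hq]; ring⟩
  have : f.natDegree = 0 := by
    rw [← hq]
    exact Polynomial.natDegree_eq_zero_of_isUnit (hqu.pow 2)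
  omega

theorem hyperelliptic_infinite (h2 : ringChar k ≠ 2)
    (hdeg : Module.finrank (RatFunc k) K = 2) (y : K) (f : Polynomial k) (hf : Squarefree f)
    (hd : 1 ≤ f.natDegree)
    (heq : y ^ 2 = algebraMap (RatFunc k) K (algebraMap (Polynomial k) (RatFunc k) f))
    (Pinf : Place k (RatFunc k)) (hinf : Pinf.ord (RatFunc.X : RatFunc k) < 0) :
    (Odd f.natDegree → (∃! P : Place k K, IsOver P Pinf) ∧
      ∀ P : Place k K, IsOver P Pinf → IsOverWith P Pinf 2 ∧ P.deg = 1) ∧
    (Even f.natDegree → (conorm K (Finsupp.single Pinf 1)).deg = 2 ∧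
      ∀ P : Place k K, IsOver P Pinf → IsOverWith P Pinf 1) := by
  classical
  haveI : FiniteDimensional (RatFunc k) K :=
    Module.finite_of_finrank_pos (by rw [hdeg]; norm_num)
  have hF : G.IsFF1 k (RatFunc k) := isFF1_ratFunc
  have hX : 1 < Pinf.1 RatFunc.X := (pl_one_lt_val_iff Pinf _).mpr hinf
  have hXo := ratfunc_inf_ord_X Pinf hinf
  have hf0 : f ≠ 0 := hf.ne_zero
  have hordf : Pinf.ord (algebraMap k[X] (RatFunc k) f) = -(f.natDegree : ℤ) := by
    rw [ratfunc_inf_ord_poly Pinf hX hf0, hXo]; ring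
  have hdinf := ratfunc_inf_deg Pinf hinf
  constructor
  · intro hodd
    have hodd' : Odd (Pinf.ord (algebraMap k[X] (RatFunc k) f)) := by
      rw [hordf]
      exact ((Int.odd_coe_nat _).mpr hodd).neg
    obtain ⟨huniq, hall⟩ := quadratic_ramified hF hdeg y _ heq Pinf hodd'
    refine ⟨huniq, fun P hP => ?_⟩
    obtain ⟨h1, h2'⟩ := hall P hP
    exact ⟨h1, by rw [h2', hdinf]⟩
  · intro heven
    constructor
    · rw [deg_conorm_G hF, hdeg, deg_single, hdinf]
      norm_num
    · rintro P ⟨e, he⟩
      have h2F : (2 : RatFunc k) ≠ 0 := by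
        have := (map_ne_zero_iff (algebraMap k (RatFunc k))
          (algebraMap k (RatFunc k)).injective).mpr (Ring.two_ne_zero h2)
        rwa [map_ofNat] at this
      haveI : Algebra.IsQuadraticExtension (RatFunc k) K := { finrank_eq_two' := hdeg }
      haveI : Algebra.IsSeparable (RatFunc k) K := quadratic_separable h2F hdeg
      haveI : IsGalois (RatFunc k) K := inferInstance
      have hle := le_card_inertia hF he
      suffices hI : (P.O).inertiaSubgroup (RatFunc k) = ⊥ by
        rw [hI, Subgroup.card_bot] at hle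
        have hpos := isOverWith_pos he
        have he1 : e = 1 := by omega
        subst he1
        exact he
      rw [Subgroup.eq_bot_iff_forall]
      intro g hg
      by_contra hne
      obtain ⟨σ, hσ⟩ : ∃ σ : K ≃ₐ[RatFunc k] K,
          σ = ((g : (P.O).decompositionSubgroup (RatFunc k)) : K ≃ₐ[RatFunc k] K) := ⟨_, rfl⟩
      have hσI : σ ∈ inertiaGal (RatFunc k) P := ⟨g, hg, hσ.symm⟩
      have hσ1 : σ ≠ 1 := fun h => hne (Subtype.ext (hσ ▸ h))
      have hyF := hyperelliptic_y_not_mem y f hf hd heq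
      have hyint : IsIntegral (RatFunc k) y := Algebra.IsIntegral.isIntegral y
      have hmin2 : (minpoly (RatFunc k) y).natDegree = 2 := by
        have h1 := (minpoly.two_le_natDegree_iff hyint).mpr hyF
        have h2' := minpoly.natDegree_le (A := RatFunc k) y
        rw [hdeg] at h2'
        omega
      have htop : (RatFunc k)⟮y⟯ = ⊤ :=
        (Field.primitive_element_iff_minpoly_natDegree_eq (RatFunc k) y).mpr
          (by rw [hmin2, hdeg])
      have hadj : Algebra.adjoin (RatFunc k) ({y} : Set K) = ⊤ := by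
        rw [← IntermediateField.adjoin_simple_toSubalgebra_of_isAlgebraic hyint.isAlgebraic,
          htop, IntermediateField.top_toSubalgebra]
      have hσy : σ y = -y := by
        have hsq : (σ y) ^ 2 = y ^ 2 := by rw [← map_pow, heq, σ.commutes]
        have hprod : (σ y - y) * (σ y + y) = 0 := by
          have : (σ y - y) * (σ y + y) = (σ y) ^ 2 - y ^ 2 := by ring
          rw [this, hsq, sub_self]
        rcases mul_eq_zero.mp hprod with h | h
        · exfalso
          apply hσ1
          have hfix : σ y = y := sub_eq_zero.mp h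
          have hhom : (σ : K →ₐ[RatFunc k] K) = AlgHom.id (RatFunc k) K := by
            apply AlgHom.ext_of_adjoin_eq_top hadj
            intro x hx
            rw [Set.mem_singleton_iff] at hx
            subst hx
            exact hfix
          exact AlgEquiv.ext (fun x => DFunLike.congr_fun hhom x)
        · exact eq_neg_of_add_eq_zero_left h
      obtain ⟨m, hm⟩ := heven
      have hX'0 : algebraMap (RatFunc k) K RatFunc.X ≠ 0 :=
        (map_ne_zero_iff _ (algebraMap (RatFunc k) K).injective).mpr RatFunc.X_ne_zero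
      have hy0 : y ≠ 0 := by
        rintro rfl
        exact hyF ⟨0, map_zero _⟩
      have hw0 : y / algebraMap (RatFunc k) K RatFunc.X ^ m ≠ 0 :=
        div_ne_zero hy0 (pow_ne_zero m hX'0)
      have hordw : P.ord (y / algebraMap (RatFunc k) K RatFunc.X ^ m) = 0 := by
        have h1 : 2 * P.ord y = e * Pinf.ord (algebraMap k[X] (RatFunc k) f) := by
          rw [← ord_eq_of_isOverWith he, ← heq, pl_ord_pow P]
          norm_num
        have h2' : P.ord (algebraMap (RatFunc k) K RatFunc.X) =
            e * Pinf.ord (RatFunc.X : RatFunc k) := ord_eq_of_isOverWith he _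
        rw [pl_ord_div P hy0 (pow_ne_zero m hX'0), pl_ord_pow P, h2', hXo]
        rw [hordf, hm] at h1
        push_cast at h1
        linarith
      have hw1 : P.1 (y / algebraMap (RatFunc k) K RatFunc.X ^ m) = 1 :=
        (pl_val_eq_one_iff P hw0).mpr hordw
      have hσw : σ (y / algebraMap (RatFunc k) K RatFunc.X ^ m) =
          -(y / algebraMap (RatFunc k) K RatFunc.X ^ m) := by
        rw [map_div₀, map_pow, σ.commutes, hσy, neg_div]
      have hcon := (mem_inertiaGal_iff P σ).mp hσI _ hw1.le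
      rw [hσw] at hcon
      have e2 : -(y / algebraMap (RatFunc k) K RatFunc.X ^ m) -
          y / algebraMap (RatFunc k) K RatFunc.X ^ m =
          -(algebraMap k K 2 * (y / algebraMap (RatFunc k) K RatFunc.X ^ m)) := by
        rw [map_ofNat]; ring
      rw [e2, Valuation.map_neg, map_mul, pl_val_const P (Ring.two_ne_zero h2), one_mul,
        hw1] at hcon
      exact lt_irrefl _ hcon

end Inf

end Groth.Agent.H55
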