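import Groth.Agent.H55.FFRR
import Groth.Agent.H55.FFHyper5
import Groth.Prelude.Def_W4bk4goldsch45
import Mathlib

/-!
Counting effective divisors over a finite constant field: places of bounded degree are finite,
effective divisors of given degree are finite, a linear system `|D₀|` has
`(q^{ℓ(D₀)} - 1)/(q - 1)` elements, the class group is finite, and
`(q - 1) a(n) = h (q^{n+1-g} - 1)` for `n ≥ 2g - 1`.
-/

set_option autoImplicit false

namespace Groth.Agent.H55

open FunFld WithZero Polynomial IntermediateField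

variable {k K : Type*} [Field k] [Field K] [Algebra k K]

section Prin

theorem div_zero_eq (hK : FunFld.IsFunctionField k K) : FunFld.div k (0 : K) = 0 := by
  ext P
  rw [div_apply hK, pl_ord_zero]; rfl

theorem div_one_eq (hK : FunFld.IsFunctionField k K) : FunFld.div k (1 : K) = 0 := by
  have := div_const hK (1 : k)
  rwa [map_one] at this

theorem mem_prinDivs_iff (hK : FunFld.IsFunctionField k K) (D : Divisor k K) :
    D ∈ prinDivs k K ↔ ∃ z : K, z ≠ 0 ∧ D = FunFld.div k z := by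
  constructor
  · intro h
    unfold prinDivs at h
    induction h using AddSubgroup.closure_induction with
    | mem x hx =>
      obtain ⟨y, rfl⟩ := hx
      by_cases hy : y = 0
      · exact ⟨1, one_ne_zero, by rw [hy, div_zero_eq hK, div_one_eq hK]⟩
      · exact ⟨y, hy, rfl⟩
    | zero => exact ⟨1, one_ne_zero, (div_one_eq hK).symm⟩
    | add x y _ _ hx hy =>
      obtain ⟨a, ha, rfl⟩ := hx
      obtain ⟨b, hb, rfl⟩ := hy
      exact ⟨a * b, mul_ne_zero ha hb, (div_mul hK ha hb).symm⟩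
    | neg x _ hx =>
      obtain ⟨a, ha, rfl⟩ := hx
      exact ⟨a⁻¹, inv_ne_zero ha, (div_inv hK a).symm⟩
  · rintro ⟨z, _, rfl⟩
    exact AddSubgroup.subset_closure ⟨z, rfl⟩

end Prin

section BoundedDegree

theorem exists_poly_val_lt_one (hK : FunFld.IsFunctionField k K) (P : Place k K) {x : K}
    (hx : P.1 x ≤ 1) :
    ∃ q : k[X], q.Monic ∧ q.natDegree ≤ P.deg ∧ P.1 (aeval x q) < 1 := by
  have hfd : @Module.Finite k (IsLocalRing.ResidueField P.O) _ _ (Place.algRes P).toModule :=
    residue_finiteDimensional hK P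
  let a : P.O := ⟨x, (P.1.mem_valuationSubring_iff x).mpr hx⟩
  let r : IsLocalRing.ResidueField P.O := IsLocalRing.residue P.O a
  have hint : IsIntegral k r := @IsIntegral.of_finite k _ _ _ (Place.algRes P) hfd r
  have hd : (minpoly k r).natDegree ≤ P.deg :=
    @minpoly.natDegree_le k _ _ _ (Place.algRes P) hfd r _
  refine ⟨minpoly k r, minpoly.monic hint, hd, ?_⟩
  haveI : IsScalarTower k P.O K := IsScalarTower.of_algebraMap_eq (fun c => rfl)
  have h1 : IsLocalRing.residue P.O (aeval a (minpoly k r)) = 0 := by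
    have h2 : IsLocalRing.residue P.O (aeval a (minpoly k r)) = aeval r (minpoly k r) := by
      rw [aeval_def, aeval_def, Polynomial.hom_eval₂]
      rfl
    rw [h2, minpoly.aeval]
  have h3 : aeval a (minpoly k r) ∈ IsLocalRing.maximalIdeal P.O :=
    (IsLocalRing.residue_eq_zero_iff _).mp h1
  rw [mem_maximalIdeal_iff] at h3
  have h4 : ((aeval a (minpoly k r) : P.O) : K) = aeval x (minpoly k r) := by
    have := Polynomial.aeval_algebraMap_apply K a (minpoly k r)
    exact this.symm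
  rwa [h4] at h3

theorem polys_natDegree_le_finite [Finite k] (n : ℕ) : {q : k[X] | q.natDegree ≤ n}.Finite := by
  haveI : Finite (degreeLT k (n + 1)) :=
    Finite.of_equiv _ (degreeLTEquiv k (n + 1)).symm.toEquiv
  have h : ((degreeLT k (n + 1) : Submodule k k[X]) : Set k[X]).Finite := Set.toFinite _
  exact h.subset (fun q hq => mem_degreeLT_of_natDegree_le hq)

theorem places_deg_le_finite [Finite k] (hK : FunFld.IsFunctionField k K) (n : ℕ) :
    {P : Place k K | P.deg ≤ n}.Finite := by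
  obtain ⟨x, hx, -⟩ := hK.1
  have hT : {q : k[X] | q.natDegree ≤ n ∧ q ≠ 0}.Finite :=
    (polys_natDegree_le_finite n).subset (fun q hq => hq.1)
  have hfin : ({P : Place k K | 1 < P.1 x} ∪
      ⋃ q ∈ {q : k[X] | q.natDegree ≤ n ∧ q ≠ 0}, {P : Place k K | P.1 (aeval x q) < 1}).Finite := by
    refine (poles_finite hK x).union (Set.Finite.biUnion hT ?_)
    intro q hq
    apply zeros_finite hK
    intro h0
    exact hq.2 (by
      by_contra hne
      exact hx ⟨q, hne, h0⟩)
  refine hfin.subset ?_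
  intro P hP
  by_cases h1 : 1 < P.1 x
  · exact Or.inl h1
  · right
    obtain ⟨q, hqm, hqd, hq⟩ := exists_poly_val_lt_one hK P (not_lt.mp h1)
    simp only [Set.mem_iUnion, Set.mem_setOf_eq]
    exact ⟨q, ⟨hqd.trans hP, hqm.ne_zero⟩, hq⟩

theorem effDiv_finite [Finite k] (hK : FunFld.IsFunctionField k K) (n : ℕ) :
    {D : Divisor k K | 0 ≤ D ∧ D.deg = n}.Finite := by
  classical
  let s := (places_deg_le_finite hK n).toFinset
  refine (Finset.finite_toSet (s.finsupp (fun _ => Finset.Icc (0 : ℤ) n))).subset ?_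
  rintro D ⟨h0, hd⟩
  have key : ∀ P : Place k K, D P * (P.deg : ℤ) ≤ n := by
    intro P
    have h1 := deg_mono (single_le_of_nonneg h0 P)
    rw [deg_single, hd] at h1
    exact h1
  rw [Finset.mem_coe, Finset.mem_finsupp_iff]
  constructor
  · intro P hP
    rw [Finsupp.mem_support_iff] at hP
    have h2 : 0 < D P := lt_of_le_of_ne (h0 P) (Ne.symm hP)
    have h3 := key P
    have h4 : (0 : ℤ) < P.deg := by exact_mod_cast deg_pos hK P
    rw [Set.Finite.mem_toFinset, Set.mem_setOf_eq]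
    have : (P.deg : ℤ) ≤ n := by nlinarith
    exact_mod_cast this
  · intro P _
    rw [Finset.mem_Icc]
    refine ⟨h0 P, ?_⟩
    have h3 := key P
    have h4 : (0 : ℤ) < P.deg := by exact_mod_cast deg_pos hK P
    have h5 := h0 P
    simp only [Finsupp.coe_zero, Pi.zero_apply] at h5
    nlinarith

end BoundedDegree

section LinSys

theorem mem_L_of_nonneg (hK : FunFld.IsFunctionField k K) (D₀ : Divisor k K) {z : K}
    (h : 0 ≤ D₀ + FunFld.div k z) : z ∈ L D₀ := by
  by_cases hz : z = 0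
  · rw [hz]; exact zero_mem _
  intro P
  have h1 := h P
  rw [Finsupp.add_apply, div_apply hK] at h1
  simp only [Finsupp.coe_zero, Pi.zero_apply] at h1
  rw [pl_val_le_exp_iff P hz]
  omega

theorem div_eq_zero_iff (hK : FunFld.IsFunctionField k K) {w : K} (hw : w ≠ 0) :
    FunFld.div k w = 0 ↔ ∃ c : k, c ≠ 0 ∧ w = algebraMap k K c := by
  constructor
  · intro h
    have h1 : w ∈ L (0 : Divisor k K) := mem_L_of_nonneg hK 0 (by rw [h, add_zero])
    rw [L_zero_eq hK, Submodule.mem_one] at h1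
    obtain ⟨c, hc⟩ := h1
    refine ⟨c, ?_, hc.symm⟩
    rintro rfl
    rw [map_zero] at hc
    exact hw hc.symm
  · rintro ⟨c, -, rfl⟩
    exact div_const hK c

theorem div_smul (hK : FunFld.IsFunctionField k K) {c : k} (hc : c ≠ 0) {z : K} (hz : z ≠ 0) :
    FunFld.div k (c • z) = FunFld.div k z := by
  have hc' : algebraMap k K c ≠ 0 := by
    rwa [Ne, map_eq_zero]
  rw [Algebra.smul_def, div_mul hK hc' hz, div_const hK, zero_add]

theorem card_linSys [Finite k] (hK : FunFld.IsFunctionField k K) (D₀ : Divisor k K) :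
    Finite {D : Divisor k K // 0 ≤ D ∧ ∃ z : K, z ≠ 0 ∧ D = D₀ + FunFld.div k z} ∧
    Nat.card {D : Divisor k K // 0 ≤ D ∧ ∃ z : K, z ≠ 0 ∧ D = D₀ + FunFld.div k z} * Nat.card kˣ + 1
      = Nat.card k ^ ell D₀ := by
  classical
  haveI := L_finite hK D₀
  haveI : Finite (L D₀) := Module.finite_of_finite k
  have hch : ∀ D : {D : Divisor k K // 0 ≤ D ∧ ∃ z : K, z ≠ 0 ∧ D = D₀ + FunFld.div k z},
      ∃ z : K, z ≠ 0 ∧ D.1 = D₀ + FunFld.div k z := fun D => D.2.2
  choose zf hzf0 hzf using hch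
  have hzL : ∀ D, zf D ∈ L D₀ := fun D =>
    mem_L_of_nonneg hK D₀ (by rw [← hzf D]; exact D.2.1)
  have hzinj : Function.Injective (fun D => (⟨zf D, hzL D⟩ : L D₀)) := by
    intro D D' h
    have h1 : zf D = zf D' := congrArg Subtype.val h
    apply Subtype.ext
    rw [hzf D, hzf D', h1]
  haveI hEfin : Finite {D : Divisor k K // 0 ≤ D ∧ ∃ z : K, z ≠ 0 ∧ D = D₀ + FunFld.div k z} :=
    Finite.of_injective _ hzinj
  refine ⟨hEfin, ?_⟩
  let f : Option ({D : Divisor k K // 0 ≤ D ∧ ∃ z : K, z ≠ 0 ∧ D = D₀ + FunFld.div k z} × kˣ) →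
      L D₀ := fun o => match o with
    | none => 0
    | some p => ⟨(p.2 : k) • zf p.1, (L D₀).smul_mem _ (hzL p.1)⟩
  have hne : ∀ p : {D : Divisor k K // 0 ≤ D ∧ ∃ z : K, z ≠ 0 ∧ D = D₀ + FunFld.div k z} × kˣ,
      (p.2 : k) • zf p.1 ≠ 0 := fun p => smul_ne_zero (Units.ne_zero p.2) (hzf0 p.1)
  have hbij : Function.Bijective f := by
    constructor
    · intro o₁ o₂ h
      rcases o₁ with _ | p <;> rcases o₂ with _ | p'
      · rfl
      · exact absurd (congrArg Subtype.val h).symm (hne p')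
      · exact absurd (congrArg Subtype.val h) (hne p)
      · have h1 : (p.2 : k) • zf p.1 = (p'.2 : k) • zf p'.1 := congrArg Subtype.val h
        have h2 : p.1 = p'.1 := by
          apply Subtype.ext
          rw [hzf p.1, hzf p'.1, ← div_smul hK (Units.ne_zero p.2) (hzf0 p.1),
            ← div_smul hK (Units.ne_zero p'.2) (hzf0 p'.1), h1]
        have h3 : (p.2 : k) = p'.2 := by
          rw [h2] at h1
          exact smul_left_injective k (hzf0 p'.1) h1
        congr 1
        exact Prod.ext h2 (Units.ext h3)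
    · intro y
      by_cases hy : (y : K) = 0
      · exact ⟨none, Subtype.ext hy.symm⟩
      · let D : {D : Divisor k K // 0 ≤ D ∧ ∃ z : K, z ≠ 0 ∧ D = D₀ + FunFld.div k z} :=
          ⟨D₀ + FunFld.div k (y : K), nonneg_of_mem_L hK D₀ hy y.2, y, hy, rfl⟩
        have h1 : FunFld.div k (y : K) = FunFld.div k (zf D) := add_left_cancel (hzf D)
        have h2 : FunFld.div k ((y : K) * (zf D)⁻¹) = 0 := by
          rw [div_mul hK hy (inv_ne_zero (hzf0 D)), div_inv hK, h1, add_neg_cancel]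
        obtain ⟨c, hc, hc2⟩ := (div_eq_zero_iff hK (mul_ne_zero hy (inv_ne_zero (hzf0 D)))).mp h2
        refine ⟨some (D, Units.mk0 c hc), Subtype.ext ?_⟩
        change c • zf D = y
        rw [Algebra.smul_def, ← hc2, mul_assoc, inv_mul_cancel₀ (hzf0 D), mul_one]
  rw [ell, ← Module.natCard_eq_pow_finrank, ← Nat.card_prod, ← Finite.card_option,
    Nat.card_congr (Equiv.ofBijective f hbij)]

end LinSys

section ClassCount

theorem class_count [Finite k] (hK : FunFld.IsFunctionField k K) (n : ℕ)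
    (hn : 2 * genus k K ≤ n + 1) (D₁ : Divisor k K) (hD₁ : D₁.deg = n) :
    Finite ((degHom k K).ker ⧸ (prinDivs k K).addSubgroupOf (degHom k K).ker) ∧
    Nat.card {D : Divisor k K // 0 ≤ D ∧ D.deg = n} * Nat.card kˣ +
        Nat.card ((degHom k K).ker ⧸ (prinDivs k K).addSubgroupOf (degHom k K).ker)
      = Nat.card ((degHom k K).ker ⧸ (prinDivs k K).addSubgroupOf (degHom k K).ker) *
        Nat.card k ^ (n + 1 - genus k K) := by
  classical
  haveI hSfin : Finite {D : Divisor k K // 0 ≤ D ∧ D.deg = n} := (effDiv_finite hK n).to_subtype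
  have hker : ∀ D : {D : Divisor k K // 0 ≤ D ∧ D.deg = n}, D.1 - D₁ ∈ (degHom k K).ker := by
    intro D
    rw [AddMonoidHom.mem_ker, degHom_apply, deg_sub, D.2.2, hD₁, sub_self]
  let π : {D : Divisor k K // 0 ≤ D ∧ D.deg = n} →
      (degHom k K).ker ⧸ (prinDivs k K).addSubgroupOf (degHom k K).ker :=
    fun D => QuotientAddGroup.mk ⟨D.1 - D₁, hker D⟩
  have hCdeg : ∀ C : (degHom k K).ker, (C.1 : Divisor k K).deg = 0 := by
    intro C
    rw [← degHom_apply]
    exact AddMonoidHom.mem_ker.mp C.2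
  have hell : ∀ C : (degHom k K).ker, ell (D₁ + C.1) = n + 1 - genus k K := by
    intro C
    have hdeg : (D₁ + C.1).deg = n := by
      rw [deg_add, hD₁, hCdeg C, add_zero]
    have h1 := ell_eq_of_deg_ge hK (D₁ + C.1) (by rw [hdeg]; omega)
    rw [hdeg] at h1
    omega
  have hfibdeg : ∀ (C : (degHom k K).ker) (D : Divisor k K),
      (∃ z : K, z ≠ 0 ∧ D = (D₁ + C.1) + FunFld.div k z) → D.deg = n := by
    rintro C D ⟨z, -, rfl⟩
    rw [deg_add, deg_add, hD₁, hCdeg C, deg_div hK, add_zero, add_zero]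
  have hfib : ∀ (C : (degHom k K).ker) (D : {D : Divisor k K // 0 ≤ D ∧ D.deg = n}),
      π D = QuotientAddGroup.mk C ↔ ∃ z : K, z ≠ 0 ∧ D.1 = (D₁ + C.1) + FunFld.div k z := by
    intro C D
    change (QuotientAddGroup.mk (⟨D.1 - D₁, hker D⟩ : (degHom k K).ker) :
      (degHom k K).ker ⧸ (prinDivs k K).addSubgroupOf (degHom k K).ker) = QuotientAddGroup.mk C ↔ _
    rw [QuotientAddGroup.eq, AddSubgroup.mem_addSubgroupOf, mem_prinDivs_iff hK]
    have hco : (((-(⟨D.1 - D₁, hker D⟩ : (degHom k K).ker) + C : (degHom k K).ker)) : Divisor k K)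
        = -(D.1 - D₁) + C.1 := rfl
    rw [hco]
    constructor
    · rintro ⟨z, hz, h⟩
      refine ⟨z⁻¹, inv_ne_zero hz, ?_⟩
      rw [div_inv hK, ← h]
      abel
    · rintro ⟨z, hz, h⟩
      refine ⟨z⁻¹, inv_ne_zero hz, ?_⟩
      rw [div_inv hK, h]
      abel
  -- surjectivity of π, hence finiteness of the class group
  have hsurj : Function.Surjective π := by
    intro c
    obtain ⟨C, rfl⟩ := QuotientAddGroup.mk_surjective c
    have hpos : 0 < ell (D₁ + C.1) := by rw [hell C]; omega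
    obtain ⟨z, hz, hzL⟩ := exists_ne_zero_of_ell_pos _ hpos
    have h0 := nonneg_of_mem_L hK _ hz hzL
    refine ⟨⟨(D₁ + C.1) + FunFld.div k z, h0, hfibdeg C _ ⟨z, hz, rfl⟩⟩, ?_⟩
    exact (hfib C _).mpr ⟨z, hz, rfl⟩
  haveI hClfin : Finite ((degHom k K).ker ⧸ (prinDivs k K).addSubgroupOf (degHom k K).ker) :=
    Finite.of_surjective π hsurj
  refine ⟨hClfin, ?_⟩
  haveI : Fintype ((degHom k K).ker ⧸ (prinDivs k K).addSubgroupOf (degHom k K).ker) :=
    Fintype.ofFinite _
  have hcard : ∀ c : (degHom k K).ker ⧸ (prinDivs k K).addSubgroupOf (degHom k K).ker,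
      Nat.card {D : {D : Divisor k K // 0 ≤ D ∧ D.deg = n} // π D = c} * Nat.card kˣ + 1
        = Nat.card k ^ (n + 1 - genus k K) := by
    intro c
    obtain ⟨C, rfl⟩ := QuotientAddGroup.mk_surjective c
    obtain ⟨-, hc⟩ := card_linSys hK (D₁ + C.1)
    rw [hell C] at hc
    let e : {D : {D : Divisor k K // 0 ≤ D ∧ D.deg = n} // π D = QuotientAddGroup.mk C} ≃
        {D : Divisor k K // 0 ≤ D ∧ ∃ z : K, z ≠ 0 ∧ D = (D₁ + C.1) + FunFld.div k z} :=
      { toFun := fun D => ⟨D.1.1, D.1.2.1, (hfib C D.1).mp D.2⟩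
        invFun := fun D => ⟨⟨D.1, D.2.1, hfibdeg C D.1 D.2.2⟩, (hfib C _).mpr D.2.2⟩
        left_inv := fun D => rfl
        right_inv := fun D => rfl }
    rw [Nat.card_congr e]
    exact hc
  have h1 : Nat.card {D : Divisor k K // 0 ≤ D ∧ D.deg = n} =
      ∑ c : (degHom k K).ker ⧸ (prinDivs k K).addSubgroupOf (degHom k K).ker,
        Nat.card {D : {D : Divisor k K // 0 ≤ D ∧ D.deg = n} // π D = c} := by
    rw [← Nat.card_sigma]
    exact Nat.card_congr (Equiv.sigmaFiberEquiv π).symm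
  have h2 : ∑ c : (degHom k K).ker ⧸ (prinDivs k K).addSubgroupOf (degHom k K).ker,
      (Nat.card {D : {D : Divisor k K // 0 ≤ D ∧ D.deg = n} // π D = c} * Nat.card kˣ + 1)
      = ∑ _c : (degHom k K).ker ⧸ (prinDivs k K).addSubgroupOf (degHom k K).ker,
        Nat.card k ^ (n + 1 - genus k K) := Finset.sum_congr rfl (fun c _ => hcard c)
  rw [Finset.sum_add_distrib, Finset.sum_const, Finset.sum_const, Finset.card_univ, smul_eq_mul,
    smul_eq_mul, mul_one, ← Finset.sum_mul, ← h1, ← Nat.card_eq_fintype_card] at h2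
  exact h2

end ClassCount

end Groth.Agent.H55
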