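import Groth.Agent.H55.FFSchmidt
import Groth.Agent.H55.FFHyper3
import Groth.Agent.H55.FFZeta

/-!
# Places of `k̄ ⊗ K` fixed by the Frobenius are those defined over `k`.
-/

set_option autoImplicit false

open FunFld WithZero Polynomial

namespace Groth.Agent.H55

namespace FrobPlace

variable {k K kb Kb : Type*} [Field k] [Field K] [Algebra k K] [Field kb] [Algebra k kb]
    [Field Kb] [Algebra K Kb] [Algebra kb Kb]

theorem val_const (Q : Place kb Kb) {c : kb} (hc0 : c ≠ 0) : Q.1 (algebraMap kb Kb c) = 1 := by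
  have h1 := Q.2.1 c
  have h2 := Q.2.1 c⁻¹
  rw [map_inv₀, map_inv₀] at h2
  have hne : Q.1 (algebraMap kb Kb c) ≠ 0 :=
    (Q.1.ne_zero_iff).mpr ((_root_.map_ne_zero _).mpr hc0)
  exact le_antisymm h1 ((inv_le_one₀ (zero_lt_iff.mpr hne)).mp h2)

theorem lt_iff_of_le_iff {Q : Place kb Kb} {P : Place k K}
    (hQP : ∀ x : K, Q.1 (algebraMap K Kb x) ≤ 1 ↔ P.1 x ≤ 1) (x : K) :
    Q.1 (algebraMap K Kb x) < 1 ↔ P.1 x < 1 := by
  by_cases hx : x = 0
  · subst hx; simp
  have hne : Q.1 (algebraMap K Kb x) ≠ 0 :=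
    (Q.1.ne_zero_iff).mpr ((_root_.map_ne_zero _).mpr hx)
  have hne' : P.1 x ≠ 0 := (P.1.ne_zero_iff).mpr hx
  have h := hQP x⁻¹
  rw [map_inv₀, map_inv₀, map_inv₀, inv_le_one₀ (zero_lt_iff.mpr hne),
    inv_le_one₀ (zero_lt_iff.mpr hne')] at h
  rw [← not_le, ← not_le, h]

theorem exists_const_of_deg_one {P : Place k K} (hdeg : P.deg = 1) {z : K} (hz : P.1 z ≤ 1) :
    ∃ c : k, P.1 (z - algebraMap k K c) < 1 := by
  let zO : P.O := ⟨z, (Valuation.mem_valuationSubring_iff P.1 z).mpr hz⟩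
  have h1 : ∀ w : IsLocalRing.ResidueField P.O, ∃ c : k, c • (1 : IsLocalRing.ResidueField P.O) = w :=
    (finrank_eq_one_iff_of_nonzero' (1 : IsLocalRing.ResidueField P.O) one_ne_zero).mp hdeg
  obtain ⟨c, hc⟩ := h1 (IsLocalRing.residue P.O zO)
  refine ⟨c, ?_⟩
  have h2 : IsLocalRing.residue P.O (zO - algebraMap k P.O c) = 0 := by
    rw [map_sub, ← hc, Algebra.smul_def, mul_one]
    exact sub_self _
  rw [IsLocalRing.residue_eq_zero_iff, mem_maximalIdeal_iff] at h2
  exact h2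

/-- Key lemma: for a degree-one place `P` below `Q` and `k`-linearly independent `B i ∈ k̄`,
`∑ B i x i ∈ 𝔪_Q` iff all `x i ∈ 𝔪_P`. -/
theorem val_sum_lt_one_iff
    (hc : ∀ c : k, algebraMap K Kb (algebraMap k K c) = algebraMap kb Kb (algebraMap k kb c))
    {ι : Type*} (B : ι → kb) (hB : LinearIndependent k B) {Q : Place kb Kb} {P : Place k K}
    (hdeg : P.deg = 1) (hQP : ∀ x : K, Q.1 (algebraMap K Kb x) ≤ 1 ↔ P.1 x ≤ 1)
    (s : Finset ι) (x : ι → K) :
    Q.1 (∑ i ∈ s, algebraMap kb Kb (B i) * algebraMap K Kb (x i)) < 1 ↔ ∀ i ∈ s, P.1 (x i) < 1 := by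
  classical
  have hback : ∀ (x : ι → K), (∀ i ∈ s, P.1 (x i) < 1) →
      Q.1 (∑ i ∈ s, algebraMap kb Kb (B i) * algebraMap K Kb (x i)) < 1 := by
    intro x hx
    apply Valuation.map_sum_lt _ one_ne_zero
    intro i hi
    rw [map_mul]
    have h1 : Q.1 (algebraMap K Kb (x i)) < 1 := (lt_iff_of_le_iff hQP _).mpr (hx i hi)
    exact lt_of_le_of_lt (mul_le_of_le_one_left' (Q.2.1 _)) h1
  refine ⟨fun hlt => ?_, hback x⟩
  by_contra hcon
  push_neg at hcon
  obtain ⟨i₁, hi₁, hi₁v⟩ := hcon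
  obtain ⟨i₀, hi₀, hmax⟩ := Finset.exists_max_image s (fun i => P.1 (x i)) ⟨i₁, hi₁⟩
  have hi₀v : 1 ≤ P.1 (x i₀) := hi₁v.trans (hmax i₁ hi₁)
  have hx0 : x i₀ ≠ 0 := by
    intro h0
    rw [h0, map_zero] at hi₀v
    exact absurd hi₀v (by simp)
  have hne : P.1 (x i₀) ≠ 0 := (P.1.ne_zero_iff).mpr hx0
  set y : K := (x i₀)⁻¹ with hy
  have hyv : P.1 y ≤ 1 := by
    rw [hy, map_inv₀]; exact (inv_le_one₀ (zero_lt_iff.mpr hne)).mpr hi₀v
  have hyx : ∀ i ∈ s, P.1 (y * x i) ≤ 1 := by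
    intro i hi
    rw [map_mul, hy, map_inv₀, inv_mul_le_iff₀ (zero_lt_iff.mpr hne), mul_one]
    exact hmax i hi
  have hex : ∀ i, ∃ c : k, i ∈ s → P.1 (y * x i - algebraMap k K c) < 1 := by
    intro i
    by_cases hi : i ∈ s
    · obtain ⟨c, hc⟩ := exists_const_of_deg_one hdeg (hyx i hi)
      exact ⟨c, fun _ => hc⟩
    · exact ⟨0, fun h => absurd h hi⟩
  choose a ha using hex
  have ha0 : a i₀ ≠ 0 := by
    intro h0
    have := ha i₀ hi₀
    rw [h0, map_zero, sub_zero, hy, inv_mul_cancel₀ hx0, map_one] at this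
    exact lt_irrefl _ this
  have hQy : Q.1 (algebraMap K Kb y) ≤ 1 := (hQP y).mpr hyv
  have h1 : Q.1 (algebraMap K Kb y * ∑ i ∈ s, algebraMap kb Kb (B i) * algebraMap K Kb (x i)) < 1 := by
    rw [map_mul]
    exact lt_of_le_of_lt (mul_le_of_le_one_left' hQy) hlt
  have h2 := hback (fun i => y * x i - algebraMap k K (a i)) (fun i hi => ha i hi)
  have h3 : algebraMap kb Kb (∑ i ∈ s, a i • B i) =
      algebraMap K Kb y * ∑ i ∈ s, algebraMap kb Kb (B i) * algebraMap K Kb (x i) -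
        ∑ i ∈ s, algebraMap kb Kb (B i) * algebraMap K Kb (y * x i - algebraMap k K (a i)) := by
    rw [Finset.mul_sum, ← Finset.sum_sub_distrib, map_sum]
    refine Finset.sum_congr rfl fun i _ => ?_
    rw [map_sub, map_mul, hc, Algebra.smul_def, map_mul]
    ring
  have h4 : Q.1 (algebraMap kb Kb (∑ i ∈ s, a i • B i)) < 1 := by
    rw [h3]
    exact lt_of_le_of_lt (Valuation.map_sub _ _ _) (max_lt h1 h2)
  have h5 : ∑ i ∈ s, a i • B i = 0 := by
    by_contra hne0
    rw [val_const Q hne0] at h4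
    exact lt_irrefl _ h4
  exact ha0 (linearIndependent_iff'.mp hB s a h5 i₀ hi₀)

/-- Every element of `K̄ = K[k̄]` is a `K`-combination of a `k`-basis of `k̄`. -/
theorem exists_repr
    (hc : ∀ c : k, algebraMap K Kb (algebraMap k K c) = algebraMap kb Kb (algebraMap k kb c))
    (hgen : Algebra.adjoin K (Set.range (algebraMap kb Kb)) = ⊤)
    {ι : Type*} (B : Module.Basis ι k kb) (z : Kb) :
    ∃ (s : Finset ι) (x : ι → K), z = ∑ i ∈ s, algebraMap kb Kb (B i) * algebraMap K Kb (x i) := by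
  classical
  let Φ : (ι →₀ K) →ₗ[K] Kb := Finsupp.linearCombination K (fun i => algebraMap kb Kb (B i))
  have hΦ : ∀ f : ι →₀ K, Φ f = ∑ i ∈ f.support, algebraMap kb Kb (B i) * algebraMap K Kb (f i) := by
    intro f
    rw [Finsupp.linearCombination_apply, Finsupp.sum]
    refine Finset.sum_congr rfl fun i _ => ?_
    rw [Algebra.smul_def, mul_comm]
  suffices h : z ∈ LinearMap.range Φ by
    obtain ⟨f, rfl⟩ := h
    exact ⟨f.support, f, hΦ f⟩
  have hconst : ∀ c : kb, algebraMap kb Kb c ∈ LinearMap.range Φ := by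
    intro c
    refine ⟨(B.repr c).mapRange (algebraMap k K) (map_zero _), ?_⟩
    rw [Finsupp.linearCombination_apply, Finsupp.sum_mapRange_index (by intro i; simp)]
    conv_rhs => rw [← B.linearCombination_repr c, Finsupp.linearCombination_apply, Finsupp.sum]
    rw [Finsupp.sum, map_sum]
    refine Finset.sum_congr rfl fun i _ => ?_
    rw [Algebra.smul_def, hc, Algebra.smul_def, map_mul]
  have hz : z ∈ Algebra.adjoin K (Set.range (algebraMap kb Kb)) := by rw [hgen]; trivial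
  induction hz using Algebra.adjoin_induction with
  | mem x hx =>
    obtain ⟨c, rfl⟩ := hx
    exact hconst c
  | algebraMap r =>
    have h1 := hconst 1
    rw [map_one] at h1
    have h2 := (LinearMap.range Φ).smul_mem r h1
    rwa [Algebra.smul_def, mul_one] at h2
  | add x y _ _ hx hy => exact add_mem hx hy
  | mul x y _ _ hx hy =>
    obtain ⟨f, rfl⟩ := hx
    obtain ⟨g, rfl⟩ := hy
    rw [Finsupp.linearCombination_apply, Finsupp.linearCombination_apply, Finsupp.sum, Finsupp.sum,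
      Finset.sum_mul_sum]
    refine Submodule.sum_mem _ fun i _ => Submodule.sum_mem _ fun j _ => ?_
    have h1 := (LinearMap.range Φ).smul_mem (f i * g j) (hconst (B i * B j))
    have e : f i • algebraMap kb Kb (B i) * g j • algebraMap kb Kb (B j) =
        (f i * g j) • algebraMap kb Kb (B i * B j) := by
      rw [map_mul, Algebra.smul_def, Algebra.smul_def, Algebra.smul_def, map_mul]; ring
    rw [e]
    exact h1

/-- `⇐`: a degree-one place below `Q` forces `Q^F = Q`. -/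
theorem frob_fix_of_deg_one [Finite k]
    (hc : ∀ c : k, algebraMap K Kb (algebraMap k K c) = algebraMap kb Kb (algebraMap k kb c))
    (hgen : Algebra.adjoin K (Set.range (algebraMap kb Kb)) = ⊤)
    (F : Kb →+* Kb) (hF1 : ∀ c : kb, F (algebraMap kb Kb c) = algebraMap kb Kb c)
    (hF2 : ∀ x : K, F (algebraMap K Kb x) = algebraMap K Kb x ^ Nat.card k)
    (Q : Place kb Kb) (P : Place k K)
    (hQP : ∀ x : K, Q.1 (algebraMap K Kb x) ≤ 1 ↔ P.1 x ≤ 1) (hdeg : P.deg = 1) (z : Kb) :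
    Q.1 (F z) < 1 ↔ Q.1 z < 1 := by
  classical
  have hq0 : Nat.card k ≠ 0 := Nat.card_pos.ne'
  let B := Module.Basis.ofVectorSpace k kb
  obtain ⟨s, x, rfl⟩ := exists_repr hc hgen B z
  have hFz : F (∑ i ∈ s, algebraMap kb Kb (B i) * algebraMap K Kb (x i)) =
      ∑ i ∈ s, algebraMap kb Kb (B i) * algebraMap K Kb (x i ^ Nat.card k) := by
    rw [map_sum]
    refine Finset.sum_congr rfl fun i _ => ?_
    rw [map_mul, hF1, hF2, map_pow]
  rw [hFz, val_sum_lt_one_iff hc B B.linearIndependent hdeg hQP,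
    val_sum_lt_one_iff hc B B.linearIndependent hdeg hQP]
  refine forall₂_congr fun i _ => ?_
  rw [map_pow, pow_lt_one_iff_of_nonneg zero_le' hq0]

/-- `⇒`: if `Q^F = Q` then the place below `Q` has degree one. -/
theorem exists_deg_one_of_frob_fix [Finite k] [IsAlgClosure k kb]
    (hK : FunFld.IsFunctionField k K)
    (hc : ∀ c : k, algebraMap K Kb (algebraMap k K c) = algebraMap kb Kb (algebraMap k kb c))
    (hgen : Algebra.adjoin K (Set.range (algebraMap kb Kb)) = ⊤)
    (F : Kb →+* Kb) (hF1 : ∀ c : kb, F (algebraMap kb Kb c) = algebraMap kb Kb c)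
    (hF2 : ∀ x : K, F (algebraMap K Kb x) = algebraMap K Kb x ^ Nat.card k)
    (Q : Place kb Kb) (hfix : ∀ z : Kb, Q.1 (F z) < 1 ↔ Q.1 z < 1) :
    ∃ P : Place k K, (∀ x : K, Q.1 (algebraMap K Kb x) ≤ 1 ↔ P.1 x ≤ 1) ∧ P.deg = 1 := by
  classical
  have hK1 : G.IsFF1 k K := G.isFF1_of_isFunctionField hK
  set w : Valuation K (WithZero (Multiplicative ℤ)) := Q.1.comap (algebraMap K Kb) with hw
  have hwv : ∀ y : K, w y = Q.1 (algebraMap K Kb y) := fun y => rfl
  have hnt : ∃ y₀ : K, y₀ ≠ 0 ∧ w y₀ < 1 := by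
    by_contra hcon
    push_neg at hcon
    have hKO : ∀ y : K, Q.1 (algebraMap K Kb y) ≤ 1 := by
      intro y
      by_cases hy : y = 0
      · subst hy; simp
      · have h1 := hcon y⁻¹ (inv_ne_zero hy)
        rw [hwv, map_inv₀, map_inv₀] at h1
        have hne : Q.1 (algebraMap K Kb y) ≠ 0 :=
          (Q.1.ne_zero_iff).mpr ((_root_.map_ne_zero _).mpr hy)
        exact (one_le_inv₀ (zero_lt_iff.mpr hne)).mp h1
    obtain ⟨z, hz⟩ := Q.2.2 (exp (1 : ℤ))
    have hall : ∀ z : Kb, z ∈ Algebra.adjoin K (Set.range (algebraMap kb Kb)) → Q.1 z ≤ 1 := by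
      intro z hzmem
      induction hzmem using Algebra.adjoin_induction with
      | mem x hx => obtain ⟨c, rfl⟩ := hx; exact Q.2.1 c
      | algebraMap r => exact hKO r
      | add x y _ _ hx hy => exact (Q.1.map_add _ _).trans (max_le hx hy)
      | mul x y _ _ hx hy => rw [map_mul]; exact mul_le_one' hx hy
    have hzle : Q.1 z ≤ 1 := hall z (by rw [hgen]; trivial)
    rw [hz, ← exp_zero, exp_le_exp] at hzle
    omega
  obtain ⟨y₀, hy₀, hy₀w⟩ := hnt
  set A : ValuationSubring K := w.valuationSubring with hA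
  have hkA : ∀ c : k, algebraMap k K c ∈ A := by
    intro c
    rw [hA, Valuation.mem_valuationSubring_iff, hwv, hc]
    exact Q.2.1 _
  have hAle : ∀ z : K, z ∈ A ↔ w z ≤ 1 := fun z => Valuation.mem_valuationSubring_iff _ _
  have hAnon : ∀ z : K, z ∈ A.nonunits ↔ w z < 1 := by
    intro z
    rw [ValuationSubring.mem_nonunits_iff]
    exact ((Valuation.isEquiv_valuation_valuationSubring w).lt_one_iff_lt_one).symm
  obtain ⟨P, hP1, hP2⟩ :=
    G.exists_place_of_valuationSubring A hkA hK1 y₀ hy₀ ((hAnon y₀).mpr hy₀w)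
  have hle : ∀ z : K, w z ≤ 1 → P.1 z ≤ 1 := fun z hz => hP1 z ((hAle z).mpr hz)
  have hlt : ∀ z : K, w z < 1 → P.1 z < 1 := fun z hz => hP2 z ((hAnon z).mpr hz)
  have hQP : ∀ x : K, Q.1 (algebraMap K Kb x) ≤ 1 ↔ P.1 x ≤ 1 := by
    intro x
    refine ⟨hle x, fun hx => ?_⟩
    by_contra hcon
    rw [not_le] at hcon
    have hx0 : x ≠ 0 := by
      rintro rfl
      rw [map_zero, map_zero] at hcon
      exact absurd hcon (by simp)
    have hne : Q.1 (algebraMap K Kb x) ≠ 0 :=
      (Q.1.ne_zero_iff).mpr ((_root_.map_ne_zero _).mpr hx0)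
    have h1 : w x⁻¹ < 1 := by
      rw [hwv, map_inv₀, map_inv₀]; exact (inv_lt_one₀ (zero_lt_iff.mpr hne)).mpr hcon
    have h2 := hlt _ h1
    rw [map_inv₀] at h2
    have hne' : P.1 x ≠ 0 := (P.1.ne_zero_iff).mpr hx0
    rw [inv_lt_one₀ (zero_lt_iff.mpr hne')] at h2
    exact absurd hx (not_le.mpr h2)
  refine ⟨P, hQP, ?_⟩
  -- degree one
  obtain ⟨p, hp⟩ := CharP.exists k
  haveI := hp
  haveI : Fact p.Prime := ⟨CharP.char_is_prime k p⟩
  haveI : Fintype k := Fintype.ofFinite k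
  obtain ⟨n, -, hn⟩ := FiniteField.card k p
  have hcard : Nat.card k = p ^ (n : ℕ) := by rw [Nat.card_eq_fintype_card, hn]
  haveI : CharP Kb p := by
    have : CharP K p := (RingHom.charP_iff (algebraMap k K) (algebraMap k K).injective p).mp hp
    exact (RingHom.charP_iff (algebraMap K Kb) (algebraMap K Kb).injective p).mp this
  haveI : ExpChar Kb p := ExpChar.prime (Fact.out)
  apply deg_eq_one_of_forall_const
  intro z hz
  obtain ⟨g, hgm, -, hgv⟩ := exists_poly_val_lt_one hK P hz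
  haveI : IsAlgClosed kb := IsAlgClosure.isAlgClosed k
  have hsplit : (g.map (algebraMap k kb)).Splits := IsAlgClosed.splits _
  have hgm' : (g.map (algebraMap k kb)).Monic := hgm.map _
  have hprod := hsplit.eq_prod_roots_of_monic hgm'
  -- evaluate at `z`
  have heval : algebraMap K Kb (aeval z g) =
      ((g.map (algebraMap k kb)).roots.map
        (fun c => algebraMap K Kb z - algebraMap kb Kb c)).prod := by
    have h1 : algebraMap K Kb (aeval z g) =
        eval₂ (algebraMap kb Kb) (algebraMap K Kb z) (g.map (algebraMap k kb)) := by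
      rw [eval₂_map, aeval_def, hom_eval₂]
      congr 1
      ext c
      exact hc c
    rw [h1]
    conv_lhs => rw [hprod]
    rw [eval₂_multiset_prod, Multiset.map_map]
    congr 1
    refine Multiset.map_congr rfl fun c _ => ?_
    simp [eval₂_sub]
  have hQg : Q.1 (algebraMap K Kb (aeval z g)) < 1 := (lt_iff_of_le_iff hQP _).mpr hgv
  rw [heval] at hQg
  have hQz : Q.1 (algebraMap K Kb z) ≤ 1 := (hQP z).mpr hz
  have hex : ∃ c ∈ (g.map (algebraMap k kb)).roots,
      Q.1 (algebraMap K Kb z - algebraMap kb Kb c) < 1 := by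
    by_contra hcon
    push_neg at hcon
    have hall : ∀ c ∈ (g.map (algebraMap k kb)).roots,
        Q.1 (algebraMap K Kb z - algebraMap kb Kb c) = 1 := by
      intro c hcr
      exact le_antisymm ((Valuation.map_sub _ _ _).trans (max_le hQz (Q.2.1 c))) (hcon c hcr)
    rw [map_multiset_prod, Multiset.map_map] at hQg
    have : ((g.map (algebraMap k kb)).roots.map
        (Q.1 ∘ fun c => algebraMap K Kb z - algebraMap kb Kb c)).prod = 1 := by
      apply Multiset.prod_eq_one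
      intro v hv
      obtain ⟨c, hcr, rfl⟩ := Multiset.mem_map.mp hv
      exact hall c hcr
    rw [this] at hQg
    exact lt_irrefl _ hQg
  obtain ⟨c, -, hcu⟩ := hex
  -- apply Frobenius
  have hFu : Q.1 (F (algebraMap K Kb z - algebraMap kb Kb c)) < 1 := (hfix _).mpr hcu
  rw [map_sub, hF1, hF2] at hFu
  have hupow : Q.1 ((algebraMap K Kb z - algebraMap kb Kb c) ^ Nat.card k) < 1 := by
    rw [map_pow]
    exact (pow_lt_one_iff_of_nonneg zero_le' Nat.card_pos.ne').mpr hcu
  rw [hcard, sub_pow_expChar_pow, ← hcard] at hupow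
  have hdiff : Q.1 (algebraMap kb Kb (c ^ Nat.card k - c)) < 1 := by
    have e : algebraMap kb Kb (c ^ Nat.card k - c) =
        (algebraMap K Kb z ^ Nat.card k - algebraMap kb Kb c) -
          (algebraMap K Kb z ^ Nat.card k - algebraMap kb Kb c ^ Nat.card k) := by
      rw [map_sub, map_pow]; ring
    rw [e]
    exact lt_of_le_of_lt (Valuation.map_sub _ _ _) (max_lt hFu hupow)
  have hcq : c ^ Nat.card k = c := by
    by_contra hne
    rw [val_const Q (sub_ne_zero.mpr hne)] at hdiff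
    exact lt_irrefl _ hdiff
  obtain ⟨c₀, rfl⟩ := mem_range_of_pow_card (algebraMap k kb) hcq
  refine ⟨c₀, ?_⟩
  rw [← lt_iff_of_le_iff hQP, map_sub, hc]
  exact hcu

end FrobPlace

end Groth.Agent.H55
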