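import Groth.Agent.H55.FFCons2
import Groth.Prelude.Def_AdFn
import Mathlib

/-!
`K / (O_{P} + O_P)` has dimension `g`.
-/

set_option autoImplicit false

namespace Groth.Agent.H55

open FunFld WithZero

section Gaps

variable {k K : Type*} [Field k] [Field K] [Algebra k K]

open Classical in
/-- The adele with component `z` at `P` and `0` elsewhere. -/
noncomputable def iotaP (P : Place k K) : K →ₗ[k] (Place k K → K) :=
  LinearMap.single k (fun _ : Place k K => K) P

theorem iotaP_same (P : Place k K) (z : K) : iotaP P z P = z := by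
  classical
  simp [iotaP]

theorem iotaP_ne (P : Place k K) (z : K) {Q : Place k K} (h : Q ≠ P) : iotaP P z Q = 0 := by
  classical
  simp [iotaP, Pi.single_apply, h]

theorem iotaP_mem_adele (P : Place k K) (z : K) : iotaP P z ∈ adele k K := by
  rw [mem_adele]
  refine (Set.finite_singleton P).subset ?_
  intro Q hQ
  by_contra hne
  apply hQ
  rw [iotaP_ne P z hne, map_zero]
  exact zero_le'

theorem gaps_aux (hK : FunFld.IsFunctionField k K) (P : Place k K) (U : Submodule k K)
    (hU : ∀ z : K, z ∈ U ↔ ∃ w : K, (∀ Q : Place k K, Q ≠ P → Q.1 w ≤ 1) ∧ P.1 (z - w) ≤ 1) :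
    FiniteDimensional k (K ⧸ U) ∧ Module.finrank k (K ⧸ U) = genus k K := by
  classical
  obtain ⟨hfin, hrel⟩ := relfr_adele hK (0 : Divisor k K)
  rw [delta_zero hK, sub_zero] at hrel
  let f : K →ₗ[k] RelQ (AD (0 : Divisor k K) ⊔ Kd k K) (adele k K) :=
    ((AD (0 : Divisor k K) ⊔ Kd k K).comap (adele k K).subtype).mkQ ∘ₗ
      (iotaP P).codRestrict (adele k K) (iotaP_mem_adele P)
  have hAD0 : ∀ b : Place k K → K, b ∈ AD (0 : Divisor k K) ↔
      ∀ Q : Place k K, Q.1 (b Q) ≤ 1 := by
    intro b
    constructor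
    · intro hb Q
      have := hb Q
      rwa [Finsupp.zero_apply, exp_zero] at this
    · intro hb Q
      rw [Finsupp.zero_apply, exp_zero]
      exact hb Q
  have hfker : ∀ z : K, f z = 0 ↔ z ∈ U := by
    intro z
    change ((AD (0 : Divisor k K) ⊔ Kd k K).comap (adele k K).subtype).mkQ _ = 0 ↔ _
    rw [Submodule.mkQ_apply, Submodule.Quotient.mk_eq_zero, Submodule.mem_comap, hU]
    change iotaP P z ∈ AD (0 : Divisor k K) ⊔ Kd k K ↔ _
    rw [Submodule.mem_sup]
    constructor
    · rintro ⟨b, hb, _, ⟨w, rfl⟩, hbw⟩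
      rw [hAD0] at hb
      refine ⟨w, ?_, ?_⟩
      · intro Q hQ
        have h1 := congrFun hbw Q
        rw [Pi.add_apply, diag_apply, iotaP_ne P z hQ] at h1
        have h2 : w = -b Q := by rw [eq_neg_iff_add_eq_zero, add_comm]; exact h1
        rw [h2, Valuation.map_neg]
        exact hb Q
      · have h1 := congrFun hbw P
        rw [Pi.add_apply, diag_apply, iotaP_same] at h1
        have h2 : z - w = b P := by rw [← h1]; ring
        rw [h2]
        exact hb P
    · rintro ⟨w, hw1, hw2⟩
      refine ⟨iotaP P z - diag k K w, ?_, diag k K w, ⟨w, rfl⟩, by simp⟩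
      rw [hAD0]
      intro Q
      rw [Pi.sub_apply, diag_apply]
      by_cases hQ : Q = P
      · rw [hQ, iotaP_same]
        exact hw2
      · rw [iotaP_ne P z hQ, zero_sub, Valuation.map_neg]
        exact hw1 Q hQ
  have hfsurj : Function.Surjective f := by
    intro q
    obtain ⟨⟨a, ha⟩, rfl⟩ := Submodule.Quotient.mk_surjective _ q
    have hafin := (mem_adele a).mp ha
    obtain ⟨S, hS⟩ : ∃ S : Finset (Place k K), S = hafin.toFinset.erase P := ⟨_, rfl⟩
    have hPS : P ∉ S := by rw [hS]; exact Finset.notMem_erase _ _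
    obtain ⟨z, hz1, hz2⟩ := strong_approx_le hK P S hPS a (fun _ => 0)
    have hint : ∀ Q : Place k K, Q ≠ P → Q.1 (a Q - z) ≤ 1 := by
      intro Q hQ
      by_cases hQS : Q ∈ S
      · have := hz1 Q hQS
        rw [exp_zero, Valuation.map_sub_swap] at this
        exact this
      · have h1 : Q.1 (a Q) ≤ 1 := by
          by_contra hcon
          apply hQS
          rw [hS, Finset.mem_erase, Set.Finite.mem_toFinset]
          exact ⟨hQ, hcon⟩
        exact (Valuation.map_sub _ _ _).trans (max_le h1 (hz2 Q hQ hQS))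
    refine ⟨a P - z, ?_⟩
    change ((AD (0 : Divisor k K) ⊔ Kd k K).comap (adele k K).subtype).mkQ _ =
      ((AD (0 : Divisor k K) ⊔ Kd k K).comap (adele k K).subtype).mkQ _
    rw [Submodule.mkQ_apply, Submodule.mkQ_apply, Submodule.Quotient.eq, Submodule.mem_comap]
    change iotaP P (a P - z) - a ∈ AD (0 : Divisor k K) ⊔ Kd k K
    rw [Submodule.mem_sup]
    refine ⟨iotaP P (a P - z) - a + diag k K z, ?_, diag k K (-z), ⟨-z, rfl⟩, ?_⟩
    · rw [hAD0]
      intro Q
      rw [Pi.add_apply, Pi.sub_apply, diag_apply]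
      by_cases hQ : Q = P
      · rw [hQ, iotaP_same]
        have : a P - z - a P + z = 0 := by ring
        rw [this, map_zero]
        exact zero_le'
      · rw [iotaP_ne P _ hQ]
        have : (0 : K) - a Q + z = -(a Q - z) := by ring
        rw [this, Valuation.map_neg]
        exact hint Q hQ
    · rw [map_neg]
      abel
  have hker : LinearMap.ker f = U := by
    ext z
    rw [LinearMap.mem_ker, hfker]
  let e : (K ⧸ U) ≃ₗ[k] RelQ (AD (0 : Divisor k K) ⊔ Kd k K) (adele k K) :=
    (Submodule.quotEquivOfEq _ _ hker.symm).trans (f.quotKerEquivOfSurjective hfsurj)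
  haveI : Module.Finite k (RelQ (AD (0 : Divisor k K) ⊔ Kd k K) (adele k K)) := hfin
  refine ⟨Module.Finite.equiv e.symm, ?_⟩
  rw [e.finrank_eq]
  exact_mod_cast hrel

end Gaps

end Groth.Agent.H55
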