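import Groth.Agent.H55.FFGaps
import Mathlib

/-!
`K_P / (O_{P} + Ô_P)` has dimension `g`.
-/

set_option autoImplicit false

universe u

namespace Groth.Agent.H55

open FunFld WithZero

section Gaps2

variable {k K : Type u} [Field k] [Field K] [Algebra k K]

theorem denseRange_toKv (P : Place k K) : DenseRange (AdFn.toKv P) := by
  have h1 : Set.range (AdFn.toKv P) =
      Set.range ((↑) : WithVal P.1 → P.1.Completion) := by
    ext y
    constructor
    · rintro ⟨x, rfl⟩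
      exact ⟨WithVal.toVal P.1 x, rfl⟩
    · rintro ⟨x, rfl⟩
      exact ⟨WithVal.ofVal x, rfl⟩
  unfold DenseRange
  rw [h1]
  exact UniformSpace.Completion.denseRange_coe

theorem gaps_completion (hK : FunFld.IsFunctionField k K) (P : Place k K) :
    FiniteDimensional k (AdFn.Kv P ⧸
        (Subalgebra.toSubmodule ((AdFn.SInt ({P} : Set (FunFld.Place k K))).map
            (IsScalarTower.toAlgHom k K (AdFn.Kv P))) ⊔
          Submodule.span k (AdFn.Ov P : Set (AdFn.Kv P)))) ∧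
    Module.finrank k (AdFn.Kv P ⧸
        (Subalgebra.toSubmodule ((AdFn.SInt ({P} : Set (FunFld.Place k K))).map
            (IsScalarTower.toAlgHom k K (AdFn.Kv P))) ⊔
          Submodule.span k (AdFn.Ov P : Set (AdFn.Kv P)))) = FunFld.genus k K := by
  classical
  obtain ⟨W, hW⟩ : ∃ W : Submodule k (AdFn.Kv P), W =
      Subalgebra.toSubmodule ((AdFn.SInt ({P} : Set (FunFld.Place k K))).map
            (IsScalarTower.toAlgHom k K (AdFn.Kv P))) ⊔
          Submodule.span k (AdFn.Ov P : Set (AdFn.Kv P)) := ⟨_, rfl⟩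
  rw [← hW]
  -- `span_k Ô_P = Ô_P`
  have hspan : ∀ u : AdFn.Kv P, u ∈ Submodule.span k (AdFn.Ov P : Set (AdFn.Kv P)) ↔
      u ∈ AdFn.Ov P := by
    intro u
    constructor
    · intro hu
      induction hu using Submodule.span_induction with
      | mem x hx => exact hx
      | zero => exact (AdFn.Ov P).zero_mem
      | add x y _ _ hx hy => exact (AdFn.Ov P).add_mem _ _ hx hy
      | smul c x _ hx =>
        rw [Algebra.smul_def]
        refine (AdFn.Ov P).mul_mem _ _ ?_ hx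
        rw [IsScalarTower.algebraMap_apply k K (AdFn.Kv P)]
        exact (AdFn.toKv_mem_Ov P _).mpr (P.2.1 c)
    · intro hu
      exact Submodule.subset_span hu
  have hWmem : ∀ y : AdFn.Kv P, y ∈ W ↔ ∃ w : K, (∀ Q : Place k K, Q ≠ P → Q.1 w ≤ 1) ∧
      y - AdFn.toKv P w ∈ AdFn.Ov P := by
    intro y
    rw [hW, Submodule.mem_sup]
    constructor
    · rintro ⟨_, ⟨w, hw, rfl⟩, u, hu, rfl⟩
      refine ⟨w, fun Q hQ => hw Q (by simpa using hQ), ?_⟩
      rw [hspan] at hu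
      have h1 : AdFn.toKv P w + u - AdFn.toKv P w = u := by ring
      have h2 : AdFn.toKv P w + u - AdFn.toKv P w ∈ AdFn.Ov P := by rw [h1]; exact hu
      exact h2
    · rintro ⟨w, hw1, hw2⟩
      refine ⟨AdFn.toKv P w, ⟨w, fun Q hQ => hw1 Q (by simpa using hQ), rfl⟩,
        y - AdFn.toKv P w, (hspan _).mpr hw2, by ring⟩
  obtain ⟨U, hU⟩ : ∃ U : Submodule k K, ∀ z : K, z ∈ U ↔
      ∃ w : K, (∀ Q : Place k K, Q ≠ P → Q.1 w ≤ 1) ∧ P.1 (z - w) ≤ 1 := by
    refine ⟨W.comap (IsScalarTower.toAlgHom k K (AdFn.Kv P)).toLinearMap, fun z => ?_⟩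
    rw [Submodule.mem_comap]
    change AdFn.toKv P z ∈ W ↔ _
    rw [hWmem]
    constructor
    · rintro ⟨w, hw1, hw2⟩
      refine ⟨w, hw1, ?_⟩
      rw [← map_sub, AdFn.toKv_mem_Ov] at hw2
      exact hw2
    · rintro ⟨w, hw1, hw2⟩
      refine ⟨w, hw1, ?_⟩
      rw [← map_sub, AdFn.toKv_mem_Ov]
      exact hw2
  obtain ⟨hfin, hrank⟩ := gaps_aux hK P U hU
  let f : K →ₗ[k] (AdFn.Kv P ⧸ W) := W.mkQ ∘ₗ (IsScalarTower.toAlgHom k K (AdFn.Kv P)).toLinearMap
  have hfker : LinearMap.ker f = U := by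
    ext z
    rw [LinearMap.mem_ker, hU]
    change W.mkQ (AdFn.toKv P z) = 0 ↔ _
    rw [Submodule.mkQ_apply, Submodule.Quotient.mk_eq_zero, hWmem]
    constructor
    · rintro ⟨w, hw1, hw2⟩
      refine ⟨w, hw1, ?_⟩
      rw [← map_sub, AdFn.toKv_mem_Ov] at hw2
      exact hw2
    · rintro ⟨w, hw1, hw2⟩
      refine ⟨w, hw1, ?_⟩
      rw [← map_sub, AdFn.toKv_mem_Ov]
      exact hw2
  have hfsurj : Function.Surjective f := by
    intro q
    obtain ⟨y, rfl⟩ := Submodule.Quotient.mk_surjective _ q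
    have hopen : IsOpen {x : AdFn.Kv P | y - x ∈ AdFn.Ov P} :=
      (AdFn.isOpen_Ov P).preimage (continuous_const.sub continuous_id)
    obtain ⟨z, hz⟩ := (denseRange_toKv P).exists_mem_open hopen
      ⟨y, by simp only [Set.mem_setOf_eq, sub_self]; exact (AdFn.Ov P).zero_mem⟩
    refine ⟨z, ?_⟩
    change W.mkQ (AdFn.toKv P z) = W.mkQ y
    rw [Submodule.mkQ_apply, Submodule.mkQ_apply, Submodule.Quotient.eq, hWmem]
    refine ⟨0, fun Q _ => by rw [map_zero]; exact zero_le', ?_⟩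
    rw [map_zero, sub_zero]
    have h1 : AdFn.toKv P z - y = -(y - AdFn.toKv P z) := by ring
    rw [h1]
    exact (AdFn.Ov P).neg_mem _ hz
  let e : (K ⧸ U) ≃ₗ[k] (AdFn.Kv P ⧸ W) :=
    (Submodule.quotEquivOfEq _ _ hfker.symm).trans (f.quotKerEquivOfSurjective hfsurj)
  haveI := hfin
  refine ⟨Module.Finite.equiv e, ?_⟩
  rw [← e.finrank_eq]
  exact hrank

end Gaps2

end Groth.Agent.H55
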