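import Groth.Agent.H55.FFGeom3
import Groth.Agent.H55.FFInertia
import Mathlib

/-!
A local parameter at a place with separable residue field is a separating variable.
-/

set_option autoImplicit false

universe u v

namespace Groth.Agent.H55

open FunFld Polynomial IntermediateField TensorProduct

section Descend

variable {k K K' : Type*} [Field k] [Field K] [Field K'] [Algebra k K] [Algebra K K']
  [Algebra k K'] [IsScalarTower k K K']

theorem isFF1_of_finite_top [FiniteDimensional K K'] (hK' : G.IsFF1 k K') : G.IsFF1 k K := by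
  have hex : ∃ x : K, Transcendental k x := by
    by_contra hcon
    push_neg at hcon
    obtain ⟨x', hx', -⟩ := hK'
    haveI : Algebra.IsAlgebraic k K :=
      ⟨fun x => by have h0 := hcon x; rwa [Transcendental, not_not] at h0⟩
    haveI : Algebra.IsAlgebraic K K' := Algebra.IsAlgebraic.of_finite K K'
    exact hx' ((Algebra.IsAlgebraic.trans k K K').isAlgebraic x')
  obtain ⟨x, hx⟩ := hex
  refine ⟨x, hx, ?_⟩
  have hx't : Transcendental k (algebraMap K K' x) :=
    (transcendental_algebraMap_iff (algebraMap K K').injective).mpr hx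
  have hfin' : FiniteDimensional k⟮algebraMap K K' x⟯ K' := G.ff_finite hK' hx't
  set f : K →ₐ[k] K' := IsScalarTower.toAlgHom k K K' with hf
  have hmap : (k⟮x⟯).map f = k⟮algebraMap K K' x⟯ := by
    rw [IntermediateField.adjoin_map, Set.image_singleton]
    rfl
  haveI h2 : FiniteDimensional ((k⟮x⟯).map f) K' := by rw [hmap]; exact hfin'
  have hrank : Module.finrank k⟮x⟯ K' = Module.finrank ((k⟮x⟯).map f) K' :=
    Algebra.finrank_eq_of_equiv_equiv (IntermediateField.equivMap k⟮x⟯ f).toRingEquiv
      (RingEquiv.refl K') (by ext a; rfl)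
  haveI : FiniteDimensional k⟮x⟯ K' :=
    Module.finite_of_finrank_pos (by rw [hrank]; exact Module.finrank_pos)
  exact Module.Finite.of_injective ((IsScalarTower.toAlgHom k⟮x⟯ K K').toLinearMap)
    (algebraMap K K').injective

end Descend

section

variable {k : Type u} {K : Type v} [Field k] [Field K] [Algebra k K]

theorem dt_ne_zero_of_separable_place (hK : FunFld.IsFunctionField k K)
    (hg : FunFld.IsGeometric k K) (P : FunFld.Place k K)
    [Algebra.IsSeparable k (IsLocalRing.ResidueField P.O)] (t : K)
    (ht : P.1 t = WithZero.exp (-1)) :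
    KaehlerDifferential.D k K t ≠ 0 := by
  have ht0 : t ≠ 0 := by
    rintro rfl
    rw [map_zero] at ht
    exact WithZero.exp_ne_zero ht.symm
  have htt : Transcendental k t :=
    G.transcendental_of_val_ne_one hK.1 P ht0 (fun h1 => by
      have h2 := (pl_val_eq_one_iff P ht0).mp h1
      rw [pl_ord_eq_of_val_eq P ht] at h2
      norm_num at h2)
  obtain hz | ⟨p, hp, hpk⟩ := CharP.exists' k
  · haveI := ff_finite hK htt
    haveI : CharZero k⟮t⟯ := charZero_of_injective_algebraMap (algebraMap k k⟮t⟯).injective
    haveI : Algebra.IsSeparable k⟮t⟯ K := Algebra.IsAlgebraic.isSeparable_of_perfectField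
    obtain ⟨e, he⟩ := kaehler_equiv_of_separating t htt
    intro h0
    rw [h0, map_zero] at he
    exact zero_ne_one he
  · haveI := hp
    haveI : CharP K p :=
      (RingHom.charP_iff (algebraMap k K) (algebraMap k K).injective p).mp hpk
    intro h0
    have htM := (mem_adjoin_pow_iff hK hg p t).1.mpr h0
    obtain ⟨hfr, -⟩ := finrank_adjoin_pow hK hg p
    obtain ⟨M, hM⟩ : ∃ M : IntermediateField k K,
        M = adjoin k (Set.range fun y : K => y ^ p) := ⟨_, rfl⟩
    rw [← hM] at htM hfr
    have hpow : ∀ y : K, y ^ p ∈ M := fun y => by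
      rw [hM]; exact subset_adjoin _ _ ⟨y, rfl⟩
    haveI : FiniteDimensional M K :=
      Module.finite_of_finrank_pos (by rw [hfr]; exact hp.out.pos)
    have hM1 : G.IsFF1 k M := isFF1_of_finite_top (K := M) (K' := K) hK.1
    have hsurj : Function.Surjective (P.1.comap (algebraMap M K)) := by
      intro g
      by_cases hg0 : g = 0
      · exact ⟨0, by rw [hg0, map_zero]⟩
      · refine ⟨(⟨t, htM⟩ : M) ^ (-(WithZero.log g)), ?_⟩
        rw [map_zpow₀]
        have h3 : (P.1.comap (algebraMap M K)) ⟨t, htM⟩ = WithZero.exp (-1 : ℤ) := ht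
        rw [h3, ← WithZero.exp_zsmul]
        simp [WithZero.exp_log hg0]
    let PM : Place k M := ⟨P.1.comap (algebraMap M K), ⟨fun c => P.2.1 c, hsurj⟩⟩
    have hover : IsOverWith P PM 1 := fun x => (pow_one _).symm
    obtain ⟨hfin, hsum⟩ := G.sum_ramIdx_mul_deg (K' := K) hM1 PM
    have huniq : ∀ Q : Place k K, IsOver Q PM → Q = P := by
      rintro Q ⟨e, he⟩
      symm
      apply pl_eq_of_le
      intro y hy
      have h4 : Q.1 (y ^ p) = P.1 (y ^ p) ^ e := he ⟨y ^ p, hpow y⟩
      rw [map_pow, map_pow] at h4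
      have h5 : Q.1 y ^ p ≤ 1 := by
        rw [h4]
        exact pow_le_one₀ zero_le' (pow_le_one₀ zero_le' hy)
      by_contra hcon
      rw [not_le] at hcon
      exact absurd h5 (not_le.mpr (one_lt_pow₀ hcon hp.out.pos.ne'))
    have h1 := hsum {P} (fun Q => by
      rw [Finset.mem_singleton]
      exact ⟨fun h => h ▸ ⟨1, hover⟩, huniq Q⟩)
    rw [Finset.sum_singleton, ramIdx_eq hover, one_mul, hfr] at h1
    have hcond : ∀ z : IsLocalRing.ResidueField P.O,
        ∃ (g : (IsLocalRing.ResidueField PM.O)[X]) (m : ℕ),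
          0 < m ∧ g.map (resExt hover) = (X - C z) ^ m := by
      intro z
      obtain ⟨y, rfl⟩ := IsLocalRing.residue_surjective z
      have hy1 : PM.1 (⟨(y : K) ^ p, hpow y⟩ : M) ≤ 1 := by
        show P.1 ((y : K) ^ p) ≤ 1
        rw [map_pow]
        exact pow_le_one₀ zero_le' ((P.1.mem_valuationSubring_iff _).mp y.2)
      let a : PM.O := ⟨⟨(y : K) ^ p, hpow y⟩, (PM.1.mem_valuationSubring_iff _).mpr hy1⟩
      refine ⟨X ^ p - C (IsLocalRing.residue PM.O a), p, hp.out.pos, ?_⟩
      haveI : CharP (IsLocalRing.ResidueField P.O) p :=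
        (RingHom.charP_iff (algebraMap k (IsLocalRing.ResidueField P.O))
          (algebraMap k (IsLocalRing.ResidueField P.O)).injective p).mp hpk
      have h6 : IsLocalRing.residue P.O (incO hover a) = (IsLocalRing.residue P.O y) ^ p := by
        rw [← map_pow]
        congr 1
      rw [Polynomial.map_sub, Polynomial.map_pow, Polynomial.map_X, Polynomial.map_C,
        resExt_residue, h6, sub_pow_char, ← C_pow]
    have hdeg : P.deg = PM.deg :=
      deg_eq_of_resExt_surjective hover (resExt_surjective_of_pow hover hcond)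
    have hpos := deg_pos hK P
    have h2le := hp.out.two_le
    rw [hdeg] at h1 hpos
    nlinarith

end

end Groth.Agent.H55
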