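import Groth.Agent.H55.FFHyper
import Mathlib

/-!
Zeros of `y` in `y² = f(x)`.
-/

set_option autoImplicit false

namespace Groth.Agent.H55

open FunFld WithZero Polynomial IntermediateField

section

variable {k : Type*} [Field k]

/-- A polynomial in the maximal ideal of a place of `k(x)` has an irreducible factor there. -/
theorem ratfunc_exists_irreducible_factor (P₀ : Place k (RatFunc k)) :
    ∀ (n : ℕ) (f : k[X]), f.natDegree = n → f ≠ 0 →
      P₀.1 (algebraMap k[X] (RatFunc k) f) < 1 →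
      ∃ p : k[X], Irreducible p ∧ p ∣ f ∧ P₀.1 (algebraMap k[X] (RatFunc k) p) < 1 := by
  intro n
  induction n using Nat.strong_induction_on with
  | _ n ih =>
    intro f hn hf0 hlt
    have hX := ratfunc_val_X_le_one P₀ hf0 hlt
    have hnu : ¬ IsUnit f := by
      intro hu
      obtain ⟨v, hv⟩ := hu.exists_right_inv
      have h1 : P₀.1 (algebraMap k[X] (RatFunc k) f) * P₀.1 (algebraMap k[X] (RatFunc k) v) = 1 := by
        rw [← map_mul, ← map_mul, hv, map_one, map_one]
      have h2 : (1 : WithZero (Multiplicative ℤ)) ≤ P₀.1 (algebraMap k[X] (RatFunc k) f) := by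
        calc (1 : WithZero (Multiplicative ℤ))
            = P₀.1 (algebraMap k[X] (RatFunc k) f) * P₀.1 (algebraMap k[X] (RatFunc k) v) :=
              h1.symm
          _ ≤ P₀.1 (algebraMap k[X] (RatFunc k) f) * 1 :=
              mul_le_mul' le_rfl (ratfunc_val_poly_le_one P₀ hX v)
          _ = P₀.1 (algebraMap k[X] (RatFunc k) f) := mul_one _
      exact absurd hlt (not_lt.mpr h2)
    obtain ⟨i, hi, g, rfl⟩ := WfDvdMonoid.exists_irreducible_factor hnu hf0
    by_cases hiv : P₀.1 (algebraMap k[X] (RatFunc k) i) < 1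
    · exact ⟨i, hi, dvd_mul_right i g, hiv⟩
    · have hi1 : P₀.1 (algebraMap k[X] (RatFunc k) i) = 1 :=
        le_antisymm (ratfunc_val_poly_le_one P₀ hX i) (not_lt.mp hiv)
      have hg0 : g ≠ 0 := right_ne_zero_of_mul hf0
      have hglt : P₀.1 (algebraMap k[X] (RatFunc k) g) < 1 := by
        rw [map_mul, map_mul, hi1, one_mul] at hlt
        exact hlt
      have hdeg : g.natDegree < n := by
        rw [← hn, Polynomial.natDegree_mul hi.ne_zero hg0]
        have := hi.natDegree_pos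
        omega
      obtain ⟨p, hp, hpg, hpv⟩ := ih g.natDegree hdeg g rfl hg0 hglt
      exact ⟨p, hp, hpg.mul_left i, hpv⟩

theorem ratfunc_val_squarefree (P₀ : Place k (RatFunc k)) {f p : k[X]} (hf : Squarefree f)
    (hp : Irreducible p) (hpf : p ∣ f) (hP₀ : P₀.1 (algebraMap k[X] (RatFunc k) p) < 1) :
    P₀.1 (algebraMap k[X] (RatFunc k) f) = exp (-1) := by
  obtain ⟨g, rfl⟩ := hpf
  have hcop : IsCoprime p g := by
    rw [hp.coprime_iff_not_dvd]
    intro hpg
    obtain ⟨g', rfl⟩ := hpg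
    have : p * p ∣ p * (p * g') := ⟨g', by ring⟩
    exact hp.not_isUnit (hf p this)
  rw [map_mul, map_mul, ratfunc_val_irreducible P₀ hp hP₀,
    ratfunc_val_coprime P₀ hp.ne_zero hP₀ hcop, mul_one]

variable {K : Type*} [Field K] [Algebra k K]
  [Algebra (RatFunc k) K] [IsScalarTower k (RatFunc k) K]

theorem hyperelliptic_ord_y
    (hdeg : Module.finrank (RatFunc k) K = 2) (y : K) (f : Polynomial k) (hf : Squarefree f)
    (heq : y ^ 2 = algebraMap (RatFunc k) K (algebraMap (Polynomial k) (RatFunc k) f))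
    (P : Place k K) :
    (0 < P.ord y → P.ord y = 1) ∧
    (0 < P.ord y ↔ ∃ P₀ : Place k (RatFunc k), IsOver P P₀ ∧
      0 ≤ P₀.ord (RatFunc.X : RatFunc k) ∧
      0 < P₀.ord (algebraMap (Polynomial k) (RatFunc k) f)) := by
  classical
  haveI : FiniteDimensional (RatFunc k) K :=
    Module.finite_of_finrank_pos (by rw [hdeg]; norm_num)
  have hF : G.IsFF1 k (RatFunc k) := isFF1_ratFunc
  have hf0 : f ≠ 0 := hf.ne_zero
  have hf'0 : algebraMap k[X] (RatFunc k) f ≠ 0 :=
    (map_ne_zero_iff _ (RatFunc.algebraMap_injective k)).mpr hf0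
  have hrel : ∀ (P₀ : Place k (RatFunc k)) (e : ℕ), IsOverWith P P₀ e →
      2 * P.ord y = e * P₀.ord (algebraMap k[X] (RatFunc k) f) := by
    intro P₀ e he
    rw [← ord_eq_of_isOverWith he, ← heq, pl_ord_pow P]
    norm_num
  have hA : 0 < P.ord y → P.ord y = 1 ∧ ∃ P₀ : Place k (RatFunc k), IsOver P P₀ ∧
      0 ≤ P₀.ord (RatFunc.X : RatFunc k) ∧
      0 < P₀.ord (algebraMap (Polynomial k) (RatFunc k) f) := by
    intro hpos
    obtain ⟨P₀, e, he⟩ := exists_place_under hF P
    have hepos := isOverWith_pos he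
    have h1 := hrel P₀ e he
    have hford : 0 < P₀.ord (algebraMap k[X] (RatFunc k) f) := by
      by_contra hle
      rw [not_lt] at hle
      have : (e : ℤ) * P₀.ord (algebraMap k[X] (RatFunc k) f) ≤ 0 :=
        mul_nonpos_of_nonneg_of_nonpos (Int.natCast_nonneg e) hle
      omega
    have hlt : P₀.1 (algebraMap k[X] (RatFunc k) f) < 1 := (pl_val_lt_one_iff P₀ hf'0).mpr hford
    have hX := ratfunc_val_X_le_one P₀ hf0 hlt
    have hXord : 0 ≤ P₀.ord (RatFunc.X : RatFunc k) :=
      (pl_val_le_one_iff P₀ RatFunc.X_ne_zero).mp hX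
    obtain ⟨p, hp, hpf, hpv⟩ := ratfunc_exists_irreducible_factor P₀ _ f rfl hf0 hlt
    obtain ⟨-, hall⟩ := hyperelliptic_ramified hdeg y f hf heq p hp hpf P₀ hpv
    obtain ⟨h2, -⟩ := hall P ⟨e, he⟩
    obtain ⟨-, he2⟩ := isOverWith_unique he h2
    have hvf := ratfunc_val_squarefree P₀ hf hp hpf hpv
    have hordf : P₀.ord (algebraMap k[X] (RatFunc k) f) = 1 := by
      rw [pl_ord_eq_of_val_eq P₀ hvf]; norm_num
    rw [hordf, he2] at h1
    refine ⟨by push_cast at h1; omega, P₀, ⟨e, he⟩, hXord, hford⟩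
  refine ⟨fun h => (hA h).1, fun h => (hA h).2, ?_⟩
  rintro ⟨P₀, ⟨e, he⟩, -, hford⟩
  have hepos := isOverWith_pos he
  have h1 := hrel P₀ e he
  have : 0 < (e : ℤ) * P₀.ord (algebraMap k[X] (RatFunc k) f) :=
    mul_pos (by exact_mod_cast hepos) hford
  omega

end

end Groth.Agent.H55
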