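import Groth.Agent.H55.FFHyper3
import Mathlib

/-!
`k(x, y)`, `y² = f(x)`, is a function field of one variable with constant field `k`.
-/

set_option autoImplicit false

namespace Groth.Agent.H55

open FunFld WithZero Polynomial IntermediateField

section

variable {k : Type*} [Field k]

/-- A nonconstant squarefree polynomial is not a constant times a square in `k(x)`. -/
theorem ratfunc_sq_mul_ne_const {f : k[X]} (hf : Squarefree f) (hd : 1 ≤ f.natDegree)
    (b : RatFunc k) (c : k)
    (h : b ^ 2 * algebraMap k[X] (RatFunc k) f = algebraMap k (RatFunc k) c) : b = 0 := by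
  by_contra hb
  have hf0 : f ≠ 0 := hf.ne_zero
  have hf'0 : algebraMap k[X] (RatFunc k) f ≠ 0 :=
    (map_ne_zero_iff _ (RatFunc.algebraMap_injective k)).mpr hf0
  have hnu : ¬ IsUnit f := fun hu => by
    have := Polynomial.natDegree_eq_zero_of_isUnit hu
    omega
  obtain ⟨p, hp, hpf⟩ := WfDvdMonoid.exists_irreducible_factor hnu hf0
  have hptr : Transcendental k (algebraMap k[X] (RatFunc k) p) := by
    apply RatFunc.transcendental_of_ne_C
    rintro ⟨c', hc'⟩
    have h1 : algebraMap k[X] (RatFunc k) p = algebraMap k[X] (RatFunc k) (C c') := by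
      rw [hc', RatFunc.algebraMap_C]
    have hpc : p = C c' := RatFunc.algebraMap_injective k h1
    have h3 := hp.natDegree_pos
    rw [hpc, natDegree_C] at h3
    exact lt_irrefl _ h3
  obtain ⟨P₀, hP₀⟩ := G.exists_zero isFF1_ratFunc _ hptr
  have hvf := ratfunc_val_squarefree P₀ hf hp hpf hP₀
  have hordf : P₀.ord (algebraMap k[X] (RatFunc k) f) = 1 := by
    rw [pl_ord_eq_of_val_eq P₀ hvf]; norm_num
  have hc0 : c ≠ 0 := by
    rintro rfl
    rw [map_zero] at h
    rcases mul_eq_zero.mp h with h' | h'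
    · exact hb ((pow_eq_zero_iff two_ne_zero).mp h')
    · exact hf'0 h'
  have h1 := congrArg P₀.ord h
  rw [pl_ord_mul P₀ (pow_ne_zero 2 hb) hf'0, pl_ord_pow P₀, hordf, pl_ord_const P₀] at h1
  push_cast at h1
  omega

variable {K : Type*} [Field K] [Algebra k K]

theorem isFunctionField_hyperelliptic (h2 : ringChar k ≠ 2) (x y : K) (hx : Transcendental k x)
    (hxy : IntermediateField.adjoin k ({x, y} : Set K) = ⊤)
    (f : Polynomial k) (hf : Squarefree f) (hd : 1 ≤ f.natDegree)
    (heq : y ^ 2 = Polynomial.aeval x f) : FunFld.IsFunctionField k K := by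
  classical
  have hgxK : algebraMap k⟮x⟯ K (AdjoinSimple.gen k x) = x := AdjoinSimple.algebraMap_gen k x
  obtain ⟨fF, hfF⟩ : ∃ fF : k⟮x⟯, fF = aeval (AdjoinSimple.gen k x) f := ⟨_, rfl⟩
  have hfFK : algebraMap k⟮x⟯ K fF = aeval x f := by
    rw [hfF, ← Polynomial.aeval_algebraMap_apply, hgxK]
  have heq' : y ^ 2 = algebraMap k⟮x⟯ K fF := by rw [hfFK]; exact heq
  have hyint : IsIntegral k⟮x⟯ y := by
    refine ⟨X ^ 2 - C fF, Polynomial.monic_X_pow_sub_C fF two_ne_zero, ?_⟩
    rw [eval₂_sub, eval₂_pow, eval₂_X, eval₂_C, heq', sub_self]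
  have htop : k⟮x⟯⟮y⟯ = ⊤ := by
    rw [← IntermediateField.restrictScalars_eq_top_iff (K := k), adjoin_simple_adjoin_simple]
    exact hxy
  haveI hfinFy : FiniteDimensional k⟮x⟯ k⟮x⟯⟮y⟯ := adjoin.finiteDimensional hyint
  have eTop : k⟮x⟯⟮y⟯ ≃ₐ[k⟮x⟯] K :=
    (IntermediateField.equivOfEq htop).trans IntermediateField.topEquiv
  haveI hfin : FiniteDimensional k⟮x⟯ K := Module.Finite.equiv eTop.toLinearEquiv
  refine ⟨⟨x, hx, hfin⟩, ?_⟩
  obtain ⟨φ, hφ⟩ : ∃ φ : RatFunc k ≃ₐ[k] k⟮x⟯, φ = RatFunc.algEquivOfTranscendental x hx :=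
    ⟨_, rfl⟩
  have hφf : φ.symm fF = algebraMap k[X] (RatFunc k) f := by
    rw [hφ, hfF]
    exact RatFunc.algEquivOfTranscendental_symm_aeval x hx f
  have hconstF : ∀ a : k⟮x⟯, IsAlgebraic k a → ∃ c : k, a = algebraMap k k⟮x⟯ c := by
    intro a ha
    have ha' : IsAlgebraic k (φ.symm a) := ha.algHom (φ.symm : k⟮x⟯ →ₐ[k] RatFunc k)
    by_contra hne
    apply RatFunc.transcendental_of_ne_C (φ.symm a) _ ha'
    rintro ⟨c, hc⟩
    apply hne
    refine ⟨c, ?_⟩
    have h1 : a = φ (RatFunc.C c) := by rw [← hc, AlgEquiv.apply_symm_apply]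
    rw [h1, ← RatFunc.algebraMap_eq_C, φ.commutes]
  have hsq : ∀ (b : k⟮x⟯) (c : k), b ^ 2 * fF = algebraMap k k⟮x⟯ c → b = 0 := by
    intro b c h
    have h' := congrArg φ.symm h
    rw [map_mul, map_pow, hφf, φ.symm.commutes] at h'
    have h3 := ratfunc_sq_mul_ne_const hf hd (φ.symm b) c h'
    exact (map_eq_zero_iff φ.symm φ.symm.injective).mp h3
  have hfF0 : fF ≠ 0 := by
    intro h0
    have h1 := congrArg φ.symm h0
    rw [hφf, map_zero] at h1
    exact hf.ne_zero (RatFunc.algebraMap_injective k (by rw [h1, map_zero]))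
  intro z hz
  by_cases hyF : y ∈ (algebraMap k⟮x⟯ K).range
  · exfalso
    obtain ⟨b, hb⟩ := hyF
    have hb2 : b ^ 2 = fF := by
      apply (algebraMap k⟮x⟯ K).injective
      rw [map_pow, hb]; exact heq'
    have hb0 : b ≠ 0 := by
      rintro rfl
      rw [zero_pow two_ne_zero] at hb2
      exact hfF0 hb2.symm
    have h3 := hsq b⁻¹ 1 (by rw [map_one, inv_pow, ← hb2, inv_mul_cancel₀ (pow_ne_zero 2 hb0)])
    exact inv_ne_zero hb0 h3
  · have hmin2 : (minpoly k⟮x⟯ y).natDegree = 2 := by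
      have h1 := (minpoly.two_le_natDegree_iff hyint).mpr hyF
      have h2' : (minpoly k⟮x⟯ y).natDegree ≤ 2 := by
        have hdvd : minpoly k⟮x⟯ y ∣ X ^ 2 - C fF :=
          minpoly.dvd _ _ (by rw [aeval_def, eval₂_sub, eval₂_pow, eval₂_X, eval₂_C, heq',
            sub_self])
        have h3 := Polynomial.natDegree_le_of_dvd hdvd (Polynomial.X_pow_sub_C_ne_zero two_pos fF)
        rwa [Polynomial.natDegree_X_pow_sub_C] at h3
      omega
    have hdeg : Module.finrank k⟮x⟯ K = 2 := by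
      rw [← eTop.toLinearEquiv.finrank_eq, IntermediateField.adjoin.finrank hyint, hmin2]
    have h2F : (2 : k⟮x⟯) ≠ 0 := by
      have h3 := (map_ne_zero_iff (algebraMap k k⟮x⟯)
        (algebraMap k k⟮x⟯).injective).mpr (Ring.two_ne_zero h2)
      rwa [map_ofNat] at h3
    have h2K : (2 : K) ≠ 0 := by
      have h3 := (map_ne_zero_iff (algebraMap k K)
        (algebraMap k K).injective).mpr (Ring.two_ne_zero h2)
      rwa [map_ofNat] at h3
    have h2k : (2 : k) ≠ 0 := Ring.two_ne_zero h2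
    haveI : Algebra.IsQuadraticExtension k⟮x⟯ K := { finrank_eq_two' := hdeg }
    haveI : Algebra.IsSeparable k⟮x⟯ K := quadratic_separable h2F hdeg
    haveI : IsGalois k⟮x⟯ K := inferInstance
    have hcard : Nat.card (K ≃ₐ[k⟮x⟯] K) = 2 := by
      rw [IsGalois.card_aut_eq_finrank, hdeg]
    obtain ⟨σ, hσ1, hσuniq⟩ := (Nat.card_eq_two_iff' (1 : K ≃ₐ[k⟮x⟯] K)).mp hcard
    have hadj : Algebra.adjoin k⟮x⟯ ({y} : Set K) = ⊤ := by
      rw [← IntermediateField.adjoin_simple_toSubalgebra_of_isAlgebraic hyint.isAlgebraic,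
        htop, IntermediateField.top_toSubalgebra]
    have hσy : σ y = -y := by
      have hsq' : (σ y) ^ 2 = y ^ 2 := by rw [← map_pow, heq', σ.commutes]
      have hprod : (σ y - y) * (σ y + y) = 0 := by
        have h3 : (σ y - y) * (σ y + y) = (σ y) ^ 2 - y ^ 2 := by ring
        rw [h3, hsq', sub_self]
      rcases mul_eq_zero.mp hprod with h | h
      · exfalso
        apply hσ1
        have hfix : σ y = y := sub_eq_zero.mp h
        have hhom : (σ : K →ₐ[k⟮x⟯] K) = AlgHom.id k⟮x⟯ K := by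
          apply AlgHom.ext_of_adjoin_eq_top hadj
          intro w hw
          rw [Set.mem_singleton_iff] at hw
          subst hw
          exact hfix
        exact AlgEquiv.ext (fun w => DFunLike.congr_fun hhom w)
      · exact eq_neg_of_add_eq_zero_left h
    have hsq1 : σ * σ = 1 := by
      by_contra hne
      have h3 := hσuniq (σ * σ) hne
      exact hσ1 (mul_left_cancel (h3.trans (mul_one σ).symm))
    have hσσ : ∀ w : K, σ (σ w) = w := by
      intro w
      rw [← AlgEquiv.mul_apply, hsq1, AlgEquiv.one_apply]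
    have hall : ∀ τ : K ≃ₐ[k⟮x⟯] K, τ = 1 ∨ τ = σ := fun τ => by
      by_cases h : τ = 1
      · exact Or.inl h
      · exact Or.inr (hσuniq τ h)
    have hfixed : ∀ w : K, σ w = w → ∃ a : k⟮x⟯, algebraMap k⟮x⟯ K a = w := by
      intro w hw
      exact (IsGalois.mem_range_algebraMap_iff_fixed (F := k⟮x⟯) w).mpr (fun τ => by
        rcases hall τ with rfl | rfl
        · rfl
        · exact hw)
    have hσz : IsAlgebraic k (σ z) := hz.algHom ((σ.restrictScalars k).toAlgHom)
    obtain ⟨t, ht⟩ := hfixed (z + σ z) (by rw [map_add, hσσ, add_comm])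
    obtain ⟨n, hn⟩ := hfixed (z * σ z) (by rw [map_mul, hσσ, mul_comm])
    have htalg : IsAlgebraic k t := by
      rw [← isAlgebraic_algebraMap_iff (A := K) (algebraMap k⟮x⟯ K).injective, ht]
      exact hz.add hσz
    have hnalg : IsAlgebraic k n := by
      rw [← isAlgebraic_algebraMap_iff (A := K) (algebraMap k⟮x⟯ K).injective, hn]
      exact hz.mul hσz
    obtain ⟨tc, rfl⟩ := hconstF t htalg
    obtain ⟨nc, rfl⟩ := hconstF n hnalg
    have ht' : z + σ z = algebraMap k K tc := by
      rw [← ht, ← IsScalarTower.algebraMap_apply]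
    have hn' : z * σ z = algebraMap k K nc := by
      rw [← hn, ← IsScalarTower.algebraMap_apply]
    have h2c : algebraMap k K tc = 2 * algebraMap k K (tc / 2) := by
      rw [← map_ofNat (algebraMap k K) 2, ← map_mul]
      congr 1
      field_simp
    have hσz' : σ z = 2 * algebraMap k K (tc / 2) - z := by
      rw [← h2c, ← ht']; ring
    have hσc : σ (algebraMap k K (tc / 2)) = algebraMap k K (tc / 2) := by
      rw [IsScalarTower.algebraMap_apply k k⟮x⟯ K, σ.commutes]
    have hσz₀ : σ (z - algebraMap k K (tc / 2)) = -(z - algebraMap k K (tc / 2)) := by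
      rw [map_sub, hσc, hσz']; ring
    have hy0 : y ≠ 0 := by
      rintro rfl
      exact hyF ⟨0, map_zero _⟩
    obtain ⟨b, hb⟩ := hfixed ((z - algebraMap k K (tc / 2)) / y)
      (by rw [map_div₀, hσz₀, hσy, neg_div_neg_eq])
    have hz₀b : z - algebraMap k K (tc / 2) = algebraMap k⟮x⟯ K b * y := by
      rw [hb]; field_simp
    have hz₀sq : (z - algebraMap k K (tc / 2)) ^ 2 = algebraMap k K ((tc / 2) ^ 2 - nc) := by
      rw [hσz'] at hn'
      rw [map_sub, map_pow]
      linear_combination (-1 : K) * hn'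
    have hbsq : b ^ 2 * fF = algebraMap k k⟮x⟯ ((tc / 2) ^ 2 - nc) := by
      apply (algebraMap k⟮x⟯ K).injective
      rw [map_mul, map_pow, ← heq', ← mul_pow, ← hz₀b, hz₀sq, ← IsScalarTower.algebraMap_apply]
    have hb0 := hsq b _ hbsq
    rw [hb0, map_zero, zero_mul] at hz₀b
    exact ⟨tc / 2, (sub_eq_zero.mp hz₀b).symm⟩

end

end Groth.Agent.H55
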