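import Groth.Agent.H55.FFHyper5
import Mathlib

/-!
Uniqueness of the rational subfield of index two in genus at least two.
-/

set_option autoImplicit false

namespace Groth.Agent.H55

open FunFld WithZero Polynomial IntermediateField

section

variable {k K : Type*} [Field k] [Field K] [Algebra k K]

theorem transcendental_of_finite_adjoin (hK : FunFld.IsFunctionField k K) (t : K)
    (ht : FiniteDimensional k⟮t⟯ K) : Transcendental k t := by
  intro halg
  obtain ⟨⟨x₀, hx₀, -⟩, -⟩ := hK
  haveI := ht
  haveI : Algebra.IsIntegral k k⟮t⟯ :=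
    (IntermediateField.isAlgebraic_adjoin_simple halg.isIntegral).isIntegral
  have h2 : IsIntegral k x₀ :=
    isIntegral_trans (R := k) (A := k⟮t⟯) x₀ (Algebra.IsIntegral.isIntegral x₀)
  exact hx₀ h2.isAlgebraic

theorem rational_subfield_unique (hK : FunFld.IsFunctionField k K) (hg : 2 ≤ FunFld.genus k K)
    (x x' : K) (hx : Module.finrank k⟮x⟯ K = 2) (hx' : Module.finrank k⟮x'⟯ K = 2) :
    k⟮x⟯ = k⟮x'⟯ := by
  classical
  haveI hfin : FiniteDimensional k⟮x⟯ K := Module.finite_of_finrank_pos (by rw [hx]; norm_num)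
  haveI hfin' : FiniteDimensional k⟮x'⟯ K := Module.finite_of_finrank_pos (by rw [hx']; norm_num)
  have hxt := transcendental_of_finite_adjoin hK x hfin
  have hxt' := transcendental_of_finite_adjoin hK x' hfin'
  suffices hmem : x' ∈ k⟮x⟯ by
    have hle : k⟮x'⟯ ≤ k⟮x⟯ := IntermediateField.adjoin_simple_le_iff.mpr hmem
    exact (IntermediateField.eq_of_le_of_finrank_eq' hle (by rw [hx, hx'])).symm
  by_contra hnot
  have hinj := transcendental_iff_injective.mp hxt
  obtain ⟨n, hn⟩ : ∃ n : ℕ, n = FunFld.genus k K := ⟨_, rfl⟩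
  let Φ : (degreeLT k (n + 1) × degreeLT k (n + 1)) →ₗ[k] K :=
    ((Polynomial.aeval x).toLinearMap.comp (degreeLT k (n + 1)).subtype).coprod
      (((LinearMap.mulRight k x').comp (Polynomial.aeval x).toLinearMap).comp
        (degreeLT k (n + 1)).subtype)
  have hΦ : ∀ p, Φ p = aeval x (p.1 : k[X]) + aeval x (p.2 : k[X]) * x' := fun p => rfl
  have hΦinj : Function.Injective Φ := by
    rw [injective_iff_map_eq_zero]
    intro p hp
    rw [hΦ] at hp
    have hV : aeval x (p.2 : k[X]) = 0 := by
      by_contra hne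
      apply hnot
      have h3 : x' = -(aeval x (p.1 : k[X])) / aeval x (p.2 : k[X]) := by
        rw [eq_div_iff hne]
        linear_combination hp
      rw [h3]
      exact k⟮x⟯.div_mem (k⟮x⟯.neg_mem (aeval_mem_adjoin_simple x _))
        (aeval_mem_adjoin_simple x _)
    have hU : aeval x (p.1 : k[X]) = 0 := by
      rw [hV, zero_mul, add_zero] at hp
      exact hp
    have h1 : (p.1 : k[X]) = 0 := hinj (hU.trans (map_zero _).symm)
    have h2' : (p.2 : k[X]) = 0 := hinj (hV.trans (map_zero _).symm)
    exact Prod.ext (Subtype.ext h1) (Subtype.ext h2')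
  have hΦrange : ∀ p, Φ p ∈ L (n • poleDiv k x + poleDiv k x') := by
    intro p
    rw [hΦ]
    apply Submodule.add_mem
    · exact L_mono (le_add_of_nonneg_right (poleDiv_nonneg (k := k) x'))
        (aeval_mem_L hK x n _ (natDegree_le_of_mem_degreeLT p.1.2))
    · rw [mem_L]
      intro P
      rw [Finsupp.add_apply, exp_add, map_mul]
      exact mul_le_mul'
        ((mem_L _ _).mp (aeval_mem_L hK x n _ (natDegree_le_of_mem_degreeLT p.2.2)) P)
        ((mem_L _ _).mp (mem_L_poleDiv hK x') P)
  have hge : 2 * (n + 1) ≤ ell (n • poleDiv k x + poleDiv k x') := by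
    unfold ell
    haveI := L_finite hK (n • poleDiv k x + poleDiv k x')
    have h1 := LinearMap.finrank_le_finrank_of_injective
      (f := Φ.codRestrict (L (n • poleDiv k x + poleDiv k x')) hΦrange)
      (fun a b hab => hΦinj (congrArg Subtype.val hab))
    rwa [Module.finrank_prod, (degreeLTEquiv k (n + 1)).finrank_eq, Module.finrank_fin_fun,
      ← two_mul] at h1
  have hdegD : (n • poleDiv k x + poleDiv k x').deg = 2 * n + 2 := by
    rw [deg_add, deg_nsmul, deg_poleDiv hK x hxt, deg_poleDiv hK x' hxt', hx, hx']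
    push_cast
    ring
  have hRR := ell_eq_of_deg_ge hK (n • poleDiv k x + poleDiv k x') (by rw [hdegD, hn]; omega)
  rw [hdegD] at hRR
  omega

end

end Groth.Agent.H55
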