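import Groth.Agent.H55.FFInertia
import Mathlib

/-!
The order of the inertia group is the ramification index.
-/

set_option autoImplicit false

namespace Groth.Agent.H55

open FunFld WithZero Polynomial IntermediateField IsLocalRing

open scoped Pointwise

section CardInertia

variable {k K K' : Type*} [Field k] [Field K] [Field K'] [Algebra k K] [Algebra K K']
  [Algebra k K'] [IsScalarTower k K K']

theorem card_decomp_le [FiniteDimensional K K'] [IsGalois K K'] (hK : G.IsFF1 k K)
    {Q : Place k K'} {P : Place k K} {e : ℕ} (he : IsOverWith Q P e) :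
    Nat.card ((Q.O).decompositionSubgroup K) * P.deg ≤
      Nat.card ((Q.O).inertiaSubgroup K) * Q.deg := by
  classical
  have hK' : G.IsFF1 k K' := isFF1_of_finite hK
  have hfin : FiniteDimensional k (ResidueField Q.O) := G.residue_finiteDimensional hK' Q
  letI : Algebra (ResidueField P.O) (ResidueField Q.O) := (resExt he).toAlgebra
  have htower : IsScalarTower k (ResidueField P.O) (ResidueField Q.O) :=
    IsScalarTower.of_algebraMap_eq (fun c => (resExt_algebraMap he c).symm)
  haveI hfin2 : FiniteDimensional (ResidueField P.O) (ResidueField Q.O) :=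
    @Module.Finite.right k (ResidueField P.O) (ResidueField Q.O) _ _ _ _ _ _ htower hfin
  have hmul : Q.deg = P.deg * Module.finrank (ResidueField P.O) (ResidueField Q.O) :=
    (@Module.finrank_mul_finrank k (ResidueField P.O) (ResidueField Q.O) _ _ _ _ _ _ htower
      _ _ _ _).symm
  obtain ⟨ρ, hρ⟩ : ∃ ρ : (Q.O).decompositionSubgroup K →* RingAut (ResidueField Q.O),
      ρ = MulSemiringAction.toRingAut ((Q.O).decompositionSubgroup K) (ResidueField Q.O) :=
    ⟨_, rfl⟩
  have hker : (Q.O).inertiaSubgroup K = ρ.ker := by rw [hρ]; rfl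
  have h1 : Nat.card ((Q.O).decompositionSubgroup K) = Nat.card ρ.range * Nat.card ρ.ker := by
    rw [Subgroup.card_eq_card_quotient_mul_card_subgroup ρ.ker]
    congr 1
    exact Nat.card_congr (QuotientGroup.quotientKerEquivRange ρ).toEquiv
  have hfixP : ∀ (g : (Q.O).decompositionSubgroup K) (a : ResidueField P.O),
      ρ g (algebraMap (ResidueField P.O) (ResidueField Q.O) a)
        = algebraMap (ResidueField P.O) (ResidueField Q.O) a := by
    intro g a
    obtain ⟨a₀, rfl⟩ := residue_surjective a
    rw [hρ]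
    show g • residue Q.O (incO he a₀) = residue Q.O (incO he a₀)
    rw [← ResidueField.residue_smul]
    congr 1
    apply Subtype.ext
    show (g : K' ≃ₐ[K] K') (algebraMap K K' a₀) = algebraMap K K' a₀
    exact (g : K' ≃ₐ[K] K').commutes a₀
  have h2 : Nat.card ρ.range ≤ Module.finrank (ResidueField P.O) (ResidueField Q.O) := by
    let Ψ : ρ.range → ((ResidueField Q.O) ≃ₐ[ResidueField P.O] (ResidueField Q.O)) := fun r =>
      AlgEquiv.ofRingEquiv (f := (r.1 : ResidueField Q.O ≃+* ResidueField Q.O)) (by
        obtain ⟨g, hg⟩ := r.2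
        intro a
        rw [← hg]
        exact hfixP g a)
    have hΨ : Function.Injective Ψ := by
      intro r r' h
      apply Subtype.ext
      ext z
      exact congrArg (fun f : (ResidueField Q.O) ≃ₐ[ResidueField P.O] (ResidueField Q.O) => f z) h
    calc Nat.card ρ.range
        ≤ Nat.card ((ResidueField Q.O) ≃ₐ[ResidueField P.O] (ResidueField Q.O)) :=
          Nat.card_le_card_of_injective Ψ hΨ
      _ = Fintype.card ((ResidueField Q.O) ≃ₐ[ResidueField P.O] (ResidueField Q.O)) :=
          Nat.card_eq_fintype_card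
      _ ≤ Module.finrank (ResidueField P.O) (ResidueField Q.O) := AlgEquiv.card_le
  rw [h1, hker, hmul]
  calc Nat.card ρ.range * Nat.card ρ.ker * P.deg
      ≤ Module.finrank (ResidueField P.O) (ResidueField Q.O) * Nat.card ρ.ker * P.deg := by
        gcongr
    _ = Nat.card ρ.ker * (P.deg * Module.finrank (ResidueField P.O) (ResidueField Q.O)) := by
        ring

/-- The inertia group has order `e(Q|P)` when the residue field of `Q` is separable over `k`. -/
theorem card_inertia_eq [FiniteDimensional K K'] [IsGalois K K'] (hK : G.IsFF1 k K)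
    (Q : Place k K') (P : Place k K) (e : ℕ) (he : IsOverWith Q P e)
    [Algebra.IsSeparable k (ResidueField Q.O)] :
    Nat.card ((Q.O).inertiaSubgroup K) = e := by
  have hK' : G.IsFF1 k K' := isFF1_of_finite hK
  have hdp := G.deg_pos hK' Q
  have h1 := G.card_decomposition_mul_deg hK Q P e he
  have h2 := card_decomp_le hK he
  have hge : e ≤ Nat.card ((Q.O).inertiaSubgroup K) := by
    rw [h1] at h2
    exact Nat.le_of_mul_le_mul_right h2 hdp
  obtain ⟨Q₁, hQ₁, -⟩ := totally_ramified_over_inertiaField hK Q
  have hcardI : Nat.card ((Q.O).inertiaSubgroup K) = Module.finrank (inertiaField K Q) K' := by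
    rw [IntermediateField.finrank_fixedField_eq_card]
    exact (Subgroup.card_map_of_injective (Subgroup.subtype_injective _)).symm
  haveI : IsScalarTower k (inertiaField K Q) K' := IsScalarTower.of_algebraMap_eq (fun c => rfl)
  obtain ⟨P₁, e₂, h₂⟩ := exists_place_under (K' := inertiaField K Q) hK Q₁
  have h3 := isOverWith_trans hQ₁ h₂
  obtain ⟨-, he'⟩ := isOverWith_unique he h3
  have he₂ := isOverWith_pos h₂
  apply le_antisymm _ hge
  rw [hcardI, he']
  exact Nat.le_mul_of_pos_left _ he₂

theorem range_comap_eq {F : Type*} [Field F] [Algebra k F] [Algebra F K'] {Q : Place k K'}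
    {P : Place k F} {e : ℕ} (he : IsOverWith Q P e) :
    Set.range (Q.1.comap (algebraMap F K')) =
      Set.range (fun δ : WithZero (Multiplicative ℤ) => δ ^ e) := by
  ext γ
  constructor
  · rintro ⟨x, rfl⟩
    exact ⟨P.1 x, (he x).symm⟩
  · rintro ⟨δ, rfl⟩
    obtain ⟨x, rfl⟩ := P.2.2 δ
    exact ⟨x, he x⟩

theorem pow_range_eq_iff {a b : ℕ} (ha : 0 < a) (hb : 0 < b) :
    Set.range (fun δ : WithZero (Multiplicative ℤ) => δ ^ a) = Set.range (fun δ => δ ^ b) ↔
      a = b := by
  constructor
  · intro h
    have h1 : ∀ {a b : ℕ}, 0 < b →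
        Set.range (fun δ : WithZero (Multiplicative ℤ) => δ ^ a) ⊆ Set.range (fun δ => δ ^ b) →
        b ∣ a := by
      intro a b hb hsub
      obtain ⟨δ, hδ⟩ := hsub ⟨exp (-1 : ℤ), rfl⟩
      change δ ^ b = exp (-1 : ℤ) ^ a at hδ
      have hδ0 : δ ≠ 0 := by
        rintro rfl
        rw [zero_pow hb.ne'] at hδ
        exact (pow_ne_zero a WithZero.exp_ne_zero) hδ.symm
      have hδe : δ = exp (log δ) := (exp_log hδ0).symm
      rw [hδe, ← exp_nsmul, ← exp_nsmul, exp_inj] at hδ
      simp only [nsmul_eq_mul] at hδ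
      exact Int.natCast_dvd_natCast.mp ⟨-(log δ), by linear_combination hδ⟩
    exact Nat.dvd_antisymm (h1 ha h.ge) (h1 hb h.le)
  · rintro rfl
    rfl

/-- An intermediate field is unramified at `Q` over `K` iff it lies in the inertia field. -/
theorem unramified_iff_le_inertiaField [FiniteDimensional K K'] [IsGalois K K']
    (hK : G.IsFF1 k K) (Q : Place k K') [Algebra.IsSeparable k (ResidueField Q.O)]
    (E : IntermediateField K K') :
    Set.range (Q.1.comap (algebraMap E K')) = Set.range (Q.1.comap (algebraMap K K')) ↔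
      E ≤ inertiaField K Q := by
  classical
  haveI : IsScalarTower k E K' := IsScalarTower.of_algebraMap_eq (fun c => rfl)
  have hE : G.IsFF1 k E := isFF1_of_finite hK
  obtain ⟨P, e, he⟩ := exists_place_under hK Q
  obtain ⟨QE, eE, heE⟩ := exists_place_under hE Q
  rw [range_comap_eq he, range_comap_eq heE,
    pow_range_eq_iff (isOverWith_pos heE) (isOverWith_pos he)]
  have h1 : Nat.card (inertiaGal K Q) = e := by
    rw [Subgroup.card_map_of_injective (Subgroup.subtype_injective _)]
    exact card_inertia_eq hK Q P e he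
  have h2 : Nat.card (inertiaGal E Q) = eE := by
    rw [Subgroup.card_map_of_injective (Subgroup.subtype_injective _)]
    exact card_inertia_eq hE Q QE eE heE
  have h3 : Nat.card (inertiaGal E Q) = Nat.card ↥(inertiaGal K Q ⊓ E.fixingSubgroup) := by
    refine Nat.card_congr (Equiv.ofBijective
      (fun τ => ⟨(τ : K' ≃ₐ[E] K').restrictScalars K, ?_, ?_⟩) ⟨?_, ?_⟩)
    · show _ ∈ inertiaGal K Q
      rw [mem_inertiaGal_iff]
      exact (mem_inertiaGal_iff Q (τ : K' ≃ₐ[E] K')).mp τ.2
    · show _ ∈ E.fixingSubgroup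
      rw [IntermediateField.mem_fixingSubgroup_iff]
      intro x hx
      exact (τ : K' ≃ₐ[E] K').commutes ⟨x, hx⟩
    · intro τ τ' h
      apply Subtype.ext
      ext x
      exact congrArg (fun σ : ↥(inertiaGal K Q ⊓ E.fixingSubgroup) =>
        (σ : K' ≃ₐ[K] K') x) h
    · rintro ⟨σ, hσI, hσE⟩
      refine ⟨⟨IntermediateField.fixingSubgroupEquiv E ⟨σ, hσE⟩, ?_⟩, ?_⟩
      · rw [mem_inertiaGal_iff]
        exact (mem_inertiaGal_iff Q σ).mp hσI
      · apply Subtype.ext
        ext x
        rfl
  rw [← h1, ← h2, h3, IntermediateField.le_iff_le]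
  constructor
  · intro hc
    have h4 : inertiaGal K Q ⊓ E.fixingSubgroup = inertiaGal K Q :=
      Subgroup.eq_of_le_of_card_ge inf_le_left hc.ge
    rw [← h4]
    exact inf_le_right
  · intro hle
    rw [inf_eq_left.mpr hle]

end CardInertia

end Groth.Agent.H55
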