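import Groth.Agent.H55.FFGeom3
import Mathlib

/-!
Constant field extension `K' = k' ⊗[k] K` of a geometric function field.
-/

set_option autoImplicit false

universe u v

namespace Groth.Agent.H55

open FunFld Polynomial IntermediateField TensorProduct

section ScalarExt

variable {k k' : Type u} {K K' : Type v} [Field k] [Field k'] [Field K] [Field K']
    [Algebra k k'] [Algebra k K] [Algebra K K'] [Algebra k' K'] [Algebra k K']
    [IsScalarTower k k' K'] [IsScalarTower k K K']

/-- The product map as a `k'`-algebra equivalence. -/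
noncomputable def scalarExtEquiv (h : Function.Bijective (Algebra.TensorProduct.productMap
      (IsScalarTower.toAlgHom k k' K') (IsScalarTower.toAlgHom k K K'))) :
    k' ⊗[k] K ≃ₐ[k'] K' :=
  AlgEquiv.ofBijective
    ({ (Algebra.TensorProduct.productMap (IsScalarTower.toAlgHom k k' K')
          (IsScalarTower.toAlgHom k K K')).toRingHom with
       commutes' := fun c => by
         show Algebra.TensorProduct.productMap (IsScalarTower.toAlgHom k k' K')
          (IsScalarTower.toAlgHom k K K') (algebraMap k' (k' ⊗[k] K) c) = _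
         rw [Algebra.TensorProduct.algebraMap_apply,
           Algebra.TensorProduct.productMap_apply_tmul]
         simp } : k' ⊗[k] K →ₐ[k'] K') h

theorem isField_tensor_scalarExt [FiniteDimensional k k']
    (h : Function.Bijective (Algebra.TensorProduct.productMap
      (IsScalarTower.toAlgHom k k' K') (IsScalarTower.toAlgHom k K K')))
    (hg : FunFld.IsGeometric k K) (k'' : Type u) [Field k''] [Algebra k' k'']
    [FiniteDimensional k' k''] : IsField (k'' ⊗[k'] K') := by
  letI : Algebra k k'' := ((algebraMap k' k'').comp (algebraMap k k')).toAlgebra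
  haveI : IsScalarTower k k' k'' := IsScalarTower.of_algebraMap_eq (fun _ => rfl)
  haveI : FiniteDimensional k k'' := FiniteDimensional.trans k k' k''
  have hF : IsField (k'' ⊗[k] K) := hg k'' inferInstance
  let e₁ : k'' ⊗[k'] K' ≃ₐ[k'] k'' ⊗[k'] (k' ⊗[k] K) :=
    Algebra.TensorProduct.congr AlgEquiv.refl (scalarExtEquiv h).symm
  let e₂ : k'' ⊗[k'] (k' ⊗[k] K) ≃ₐ[k'] k'' ⊗[k] K :=
    Algebra.TensorProduct.cancelBaseChange k k' k' k'' K
  exact (e₁.trans e₂).toMulEquiv.isField hF

theorem algClosed_scalarExt [FiniteDimensional k k']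
    (h : Function.Bijective (Algebra.TensorProduct.productMap
      (IsScalarTower.toAlgHom k k' K') (IsScalarTower.toAlgHom k K K')))
    (hg : FunFld.IsGeometric k K) (α : K') (hα : IsAlgebraic k' α) :
    α ∈ Set.range (algebraMap k' K') := by
  have hint : IsIntegral k' α := hα.isIntegral
  obtain ⟨f, hf⟩ : ∃ f : k'[X], f = minpoly k' α := ⟨_, rfl⟩
  have hirr : Irreducible f := hf ▸ minpoly.irreducible hint
  haveI : Fact (Irreducible f) := ⟨hirr⟩
  haveI : FiniteDimensional k' (AdjoinRoot f) := (AdjoinRoot.powerBasis hirr.ne_zero).finite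
  have hF := isField_tensor_scalarExt h hg (AdjoinRoot f)
  have hF' : IsField (K' ⊗[k'] AdjoinRoot f) :=
    (Algebra.TensorProduct.comm k' K' (AdjoinRoot f)).toMulEquiv.isField hF
  let g : AdjoinRoot f →ₐ[k'] K' := AdjoinRoot.liftAlgHom f (Algebra.ofId k' K') α (by
    rw [show ((Algebra.ofId k' K' : k' →ₐ[k'] K') : k' →+* K') = algebraMap k' K' from rfl,
      ← aeval_def, hf]
    exact minpoly.aeval k' α)
  let ψ : K' ⊗[k'] AdjoinRoot f →ₐ[K'] K' :=
    Algebra.TensorProduct.lift (AlgHom.id K' K') g (fun _ _ => Commute.all _ _)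
  have hinj : Function.Injective ψ := by
    rw [injective_iff_map_eq_zero]
    intro z hz
    by_contra hne
    obtain ⟨w, hw⟩ := hF'.mul_inv_cancel hne
    have h0 := congrArg ψ hw
    rw [map_mul, hz, zero_mul, map_one] at h0
    exact zero_ne_one h0
  have hsurj : Function.Surjective ψ := fun y => ⟨y ⊗ₜ 1, by simp [ψ]⟩
  let e : (K' ⊗[k'] AdjoinRoot f) ≃ₗ[K'] K' :=
    LinearEquiv.ofBijective ψ.toLinearMap ⟨hinj, hsurj⟩
  have h1 : Module.finrank K' (K' ⊗[k'] AdjoinRoot f) = 1 := by
    rw [e.finrank_eq, Module.finrank_self]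
  rw [Module.finrank_baseChange, (AdjoinRoot.powerBasis hirr.ne_zero).finrank,
    AdjoinRoot.powerBasis_dim, hf] at h1
  exact minpoly.natDegree_eq_one_iff.mp h1

theorem isFF1_scalarExt [FiniteDimensional k k']
    (h : Function.Bijective (Algebra.TensorProduct.productMap
      (IsScalarTower.toAlgHom k k' K') (IsScalarTower.toAlgHom k K K')))
    (hK : FunFld.IsFunctionField k K) :
    ∃ x' : K', Transcendental k' x' ∧ FiniteDimensional k'⟮x'⟯ K' := by
  classical
  obtain ⟨⟨x, hx, hfin⟩, -⟩ := hK
  haveI := hfin
  refine ⟨algebraMap K K' x, ?_, ?_⟩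
  · intro halg
    have h1 : IsAlgebraic k (algebraMap K K' x) := by
      haveI : Algebra.IsAlgebraic k k' := Algebra.IsAlgebraic.of_finite k k'
      exact halg.restrictScalars k
    exact hx ((isAlgebraic_algebraMap_iff (algebraMap K K').injective).mp h1)
  · obtain ⟨A, hA⟩ : ∃ A : IntermediateField k' K', A = k'⟮algebraMap K K' x⟯ := ⟨_, rfl⟩
    rw [← hA]
    have hmemk : ∀ r : K, r ∈ k⟮x⟯ → algebraMap K K' r ∈ A := by
      let M : Subfield K := A.toSubfield.comap (algebraMap K K')
      have hk : ∀ c : k, algebraMap k K c ∈ M := fun c => by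
        show algebraMap K K' (algebraMap k K c) ∈ A
        rw [← IsScalarTower.algebraMap_apply k K K', IsScalarTower.algebraMap_apply k k' K']
        exact A.algebraMap_mem _
      have h1 : k⟮x⟯ ≤ M.toIntermediateField hk := by
        rw [IntermediateField.adjoin_simple_le_iff]
        show algebraMap K K' x ∈ A
        rw [hA]
        exact IntermediateField.mem_adjoin_simple_self k' _
      exact fun r hr => h1 hr
    obtain ⟨s, hs⟩ := (Module.finite_def.mp hfin)
    refine ⟨⟨s.image (algebraMap K K'), ?_⟩⟩
    rw [eq_top_iff]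
    rintro z -
    obtain ⟨w, rfl⟩ := h.2 z
    induction w using TensorProduct.induction_on with
    | zero => rw [map_zero]; exact Submodule.zero_mem _
    | tmul c y =>
      rw [Algebra.TensorProduct.productMap_apply_tmul]
      have hy : y ∈ Submodule.span k⟮x⟯ (s : Set K) := by rw [hs]; trivial
      have hy' : algebraMap K K' y ∈
          Submodule.span A ((s.image (algebraMap K K') : Finset K') : Set K') := by
        induction hy using Submodule.span_induction with
        | mem b hb =>
          exact Submodule.subset_span (by rw [Finset.coe_image]; exact ⟨b, hb, rfl⟩)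
        | zero => rw [map_zero]; exact Submodule.zero_mem _
        | add a b _ _ ha hb => rw [map_add]; exact Submodule.add_mem _ ha hb
        | smul r a _ ha =>
          rw [Algebra.smul_def, map_mul]
          have h2 : algebraMap K K' (algebraMap k⟮x⟯ K r) * algebraMap K K' a =
              (⟨_, hmemk r.1 r.2⟩ : A) • algebraMap K K' a := by
            rw [Algebra.smul_def]; rfl
          rw [h2]
          exact Submodule.smul_mem _ _ ha
      have hc : (IsScalarTower.toAlgHom k k' K') c * (IsScalarTower.toAlgHom k K K') y =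
          (⟨algebraMap k' K' c, A.algebraMap_mem c⟩ : A) • algebraMap K K' y := by
        rw [Algebra.smul_def]; rfl
      rw [hc]
      exact Submodule.smul_mem _ _ hy'
    | add a b ha hb => rw [map_add]; exact Submodule.add_mem _ ha hb

theorem scalarExt_isFunctionField_isGeometric [FiniteDimensional k k']
    (h : Function.Bijective (Algebra.TensorProduct.productMap
      (IsScalarTower.toAlgHom k k' K') (IsScalarTower.toAlgHom k K K')))
    (hK : FunFld.IsFunctionField k K) (hg : FunFld.IsGeometric k K) :
    FunFld.IsFunctionField k' K' ∧ FunFld.IsGeometric k' K' :=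
  ⟨⟨isFF1_scalarExt h hK, fun y hy => algClosed_scalarExt h hg y hy⟩,
    fun k'' _ _ hfin => by haveI := hfin; exact isField_tensor_scalarExt h hg k''⟩

end ScalarExt

end Groth.Agent.H55
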