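import Groth.Agent.H10.FFConstPlace
import Groth.Agent.H55.FFUnram
import Groth.Agent.H55.FFScalar

/-!
# Uniqueness of the place above `P` in a constant extension when `k'/k` or `F_P/k` is purely
inseparable.
-/

set_option autoImplicit false

open FunFld WithZero TensorProduct
open Groth.Agent.H10.FFConst Groth.Agent.H10.FFConstPlace

namespace Groth.Agent.H55

namespace InsepPlace

section UnitLemma

/-- For `ks/k` finite separable and either `ks/k` or `κ/k` purely inseparable, every nonzero element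
of `ks ⊗ κ` is a unit. -/
theorem isUnit_tensor (k ks κ : Type*) [Field k] [Field ks] [Field κ] [Algebra k ks]
    [Algebra k κ] [Module.Finite k ks] [Algebra.IsSeparable k ks]
    (hpi : IsPurelyInseparable k ks ∨ IsPurelyInseparable k κ) (x : ks ⊗[k] κ) (hx : x ≠ 0) :
    IsUnit x := by
  haveI := isReduced_tensor_of_isSeparable_left k ks κ
  rcases hpi with hpi | hpi
  · haveI := hpi
    -- swap
    let e := Algebra.TensorProduct.comm k ks κ
    obtain ⟨n, hn, c, hc⟩ := IsPurelyInseparable.exists_pow_mem_range_tensorProduct (R := κ)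
      (k := k) (K := ks) (e x)
    have hc0 : c ≠ 0 := by
      rintro rfl
      rw [map_zero] at hc
      have h1 : (e x) ^ n = 0 := hc.symm
      rw [← map_pow] at h1
      have h2 : x ^ n = 0 := e.injective (h1.trans (map_zero e).symm)
      exact hx (IsReduced.eq_zero _ ⟨n, h2⟩)
    have hu : IsUnit ((e x) ^ n) := by
      rw [← hc]
      exact (IsUnit.mk0 c hc0).map _
    have hu2 : IsUnit (e x) := (isUnit_pow_iff hn.ne').mp hu
    have := hu2.map e.symm
    simpa using this
  · haveI := hpi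
    obtain ⟨n, hn, c, hc⟩ := IsPurelyInseparable.exists_pow_mem_range_tensorProduct (R := ks)
      (k := k) (K := κ) x
    have hc0 : c ≠ 0 := by
      rintro rfl
      rw [map_zero] at hc
      exact hx (IsReduced.eq_zero _ ⟨n, hc.symm⟩)
    have hu : IsUnit (x ^ n) := by
      rw [← hc]
      exact (IsUnit.mk0 c hc0).map _
    exact (isUnit_pow_iff hn.ne').mp hu

end UnitLemma

section Main

universe u v

variable {k k' : Type u} {K K' : Type v} [Field k] [Field k'] [Field K] [Field K']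
    [Algebra k k'] [Algebra k K] [Algebra K K'] [Algebra k' K'] [Algebra k K']
    [IsScalarTower k k' K'] [IsScalarTower k K K']
    (ks : Type u) [Field ks] [Algebra k ks] [Algebra ks k'] [IsScalarTower k ks k']

variable (k k' K') in
/-- `ks → K'` -/
noncomputable def iS : ks →ₐ[k] K' :=
  (IsScalarTower.toAlgHom k k' K').comp (IsScalarTower.toAlgHom k ks k')

variable (K') in
/-- `O_P → K'` -/
noncomputable def jO (P : Place k K) : P.O →ₐ[k] K' :=
  (IsScalarTower.toAlgHom k K K').comp (IsScalarTower.toAlgHom k P.O K)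

variable (k k' K') in
/-- `ks ⊗ O_P → K'` -/
noncomputable def psiS (P : Place k K) : ks ⊗[k] P.O →ₐ[k] K' :=
  Algebra.TensorProduct.productMap (iS k k' K' ks) (jO K' P)

variable (k k' K') in
/-- `ks ⊗ K → K'` -/
noncomputable def psiK : ks ⊗[k] K →ₐ[k] K' :=
  Algebra.TensorProduct.productMap (iS k k' K' ks) (IsScalarTower.toAlgHom k K K')

omit [Algebra k k'] [Algebra k' K'] [IsScalarTower k k' K'] in
theorem jO_apply (P : Place k K) (a : P.O) : jO K' P a = algebraMap K K' (a : K) := rfl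

theorem val_jO {P : Place k K} {Q : Place k K'} {e : ℕ} (he : IsOverWith Q P e) (a : P.O) :
    Q.1 (jO K' P a) = P.1 (a : K) ^ e := he _

theorem val_iS_le [FiniteDimensional k k'] (Q : Place k K') (c : ks) :
    Q.1 (iS k k' K' ks c) ≤ 1 := val_algebraMap_le_one (k := k) Q (algebraMap ks k' c)

theorem val_psiS_le [FiniteDimensional k k'] {P : Place k K}
    {Q : Place k K'} {e : ℕ} (he : IsOverWith Q P e) (t : ks ⊗[k] P.O) :
    Q.1 (psiS k k' K' ks P t) ≤ 1 := by
  induction t using TensorProduct.induction_on with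
  | zero => simp
  | tmul c a =>
    rw [psiS, Algebra.TensorProduct.productMap_apply_tmul, map_mul]
    refine mul_le_one' (val_iS_le ks Q c) ?_
    rw [val_jO he]
    exact pow_le_one' ((Valuation.mem_valuationSubring_iff _ _).mp a.2) e
  | add x y hx hy =>
    rw [map_add]
    exact (Q.1.map_add _ _).trans (max_le hx hy)

/-- Elements of `ψ(ks ⊗ O_P)` not killed by `ρ` are units at every place above `P`. -/
theorem val_psiS_eq_one [FiniteDimensional k k'] [Module.Finite k ks]
    [Algebra.IsSeparable k ks] {P : Place k K}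
    (hpi : IsPurelyInseparable k ks ∨ IsPurelyInseparable k (IsLocalRing.ResidueField P.O))
    (π : P.O) (hπv : P.1 (π : K) = exp (-1 : ℤ))
    (hker : RingHom.ker (resAlg P) = Ideal.span {π})
    {Q : Place k K'} {e : ℕ} (he : IsOverWith Q P e)
    (t : ks ⊗[k] P.O) (ht : rho ks (resAlg P) t ≠ 0) : Q.1 (psiS k k' K' ks P t) = 1 := by
  have he0 := isOverWith_pos he
  obtain ⟨y, hy⟩ := (isUnit_tensor k ks (IsLocalRing.ResidueField P.O) hpi _ ht).exists_right_inv
  obtain ⟨t', rfl⟩ := rho_surjective (k' := ks) (resAlg P) (resAlg_surjective P) y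
  have h0 : rho ks (resAlg P) (t * t' - 1) = 0 := by
    rw [map_sub, map_mul, hy, map_one, sub_self]
  obtain ⟨t'', ht''⟩ := (rho_eq_zero_iff (resAlg P) (resAlg_surjective P) π hker _).mp h0
  have h1 : psiS k k' K' ks P t * psiS k k' K' ks P t' = 1 + jO K' P π * psiS k k' K' ks P t'' := by
    have h2 : t * t' = 1 + (1 ⊗ₜ π) * t'' := by rw [← ht'']; ring
    have h5 : psiS k k' K' ks P (1 ⊗ₜ π) = jO K' P π := by
      rw [psiS, Algebra.TensorProduct.productMap_apply_tmul, map_one (iS k k' K' ks), one_mul]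
    rw [← map_mul, h2, map_add, map_one (psiS k k' K' ks P), map_mul, h5]
  have hπ : Q.1 (jO K' P π) < 1 := by
    rw [val_jO he, hπv, ← exp_nsmul, ← exp_zero, exp_lt_exp]
    simp only [nsmul_eq_mul]
    have : (0 : ℤ) < e := by exact_mod_cast he0
    nlinarith
  have h3 : Q.1 (jO K' P π * psiS k k' K' ks P t'') < 1 := by
    rw [map_mul]
    exact lt_of_le_of_lt (mul_le_of_le_one_right' (val_psiS_le ks he t'')) hπ
  have h4 : Q.1 (1 + jO K' P π * psiS k k' K' ks P t'') = 1 := by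
    have := Valuation.map_add_eq_of_lt_left Q.1 (x := (1 : K')) (y := jO K' P π * psiS k k' K' ks P t'')
      (by rw [map_one]; exact h3)
    rw [this, map_one]
  rw [← h1, map_mul] at h4
  have ha := val_psiS_le (k' := k') (K' := K') ks he t
  have hb := val_psiS_le (k' := k') (K' := K') ks he t'
  by_contra hne
  have hlt : Q.1 (psiS k k' K' ks P t) < 1 := lt_of_le_of_ne ha hne
  have : Q.1 (psiS k k' K' ks P t) * Q.1 (psiS k k' K' ks P t') < 1 :=
    lt_of_le_of_lt (mul_le_of_le_one_right' hb) hlt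
  rw [h4] at this
  exact lt_irrefl _ this

theorem val_jO_pi {P : Place k K} (π : P.O) (hπv : P.1 (π : K) = exp (-1 : ℤ))
    {Q : Place k K'} {e : ℕ} (he : IsOverWith Q P e) :
    Q.1 (jO K' P π) = exp (-(e : ℤ)) := by
  rw [val_jO he, hπv, ← exp_nsmul]
  congr 1
  simp

theorem psiS_pi_mul {P : Place k K} (π : P.O) (t : ks ⊗[k] P.O) :
    psiS k k' K' ks P ((1 ⊗ₜ π) * t) = jO K' P π * psiS k k' K' ks P t := by
  rw [map_mul]
  congr 1
  rw [psiS, Algebra.TensorProduct.productMap_apply_tmul, map_one (iS k k' K' ks), one_mul]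

/-- Values on `ψ(ks ⊗ O_P)` are powers of the value of `π`, with an exponent not depending on the
place above `P`. -/
theorem exists_pow_val [FiniteDimensional k k'] [Module.Finite k ks]
    [Algebra.IsSeparable k ks] {P : Place k K}
    (hpi : IsPurelyInseparable k ks ∨ IsPurelyInseparable k (IsLocalRing.ResidueField P.O))
    (π : P.O) (hπv : P.1 (π : K) = exp (-1 : ℤ))
    (hker : RingHom.ker (resAlg P) = Ideal.span {π})
    {Q₁ : Place k K'} {e₁ : ℕ} (he₁ : IsOverWith Q₁ P e₁) :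
    ∀ (N : ℕ) (t : ks ⊗[k] P.O), psiS k k' K' ks P t ≠ 0 →
      exp (-(N : ℤ)) ≤ Q₁.1 (psiS k k' K' ks P t) →
      ∃ j : ℕ, ∀ (Q : Place k K') (e : ℕ), IsOverWith Q P e →
        Q.1 (psiS k k' K' ks P t) = Q.1 (jO K' P π) ^ j := by
  have he₁0 := isOverWith_pos he₁
  intro N
  induction N with
  | zero =>
    intro t ht0 hN
    by_cases hρ : rho ks (resAlg P) t = 0
    · exfalso
      obtain ⟨t₁, rfl⟩ := (rho_eq_zero_iff (resAlg P) (resAlg_surjective P) π hker _).mp hρ
      rw [psiS_pi_mul, map_mul, val_jO_pi π hπv he₁] at hN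
      have h1 := val_psiS_le (k' := k') (K' := K') ks he₁ t₁
      have h2 : exp (-(e₁ : ℤ)) * Q₁.1 (psiS k k' K' ks P t₁) ≤ exp (-(e₁ : ℤ)) :=
        mul_le_of_le_one_right' h1
      have h3 := hN.trans h2
      rw [exp_le_exp] at h3
      have : (0 : ℤ) < e₁ := by exact_mod_cast he₁0
      simp at h3
      omega
    · exact ⟨0, fun Q e he => by
        rw [pow_zero]; exact val_psiS_eq_one ks hpi π hπv hker he t hρ⟩
  | succ N ih =>
    intro t ht0 hN
    by_cases hρ : rho ks (resAlg P) t = 0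
    · obtain ⟨t₁, rfl⟩ := (rho_eq_zero_iff (resAlg P) (resAlg_surjective P) π hker _).mp hρ
      have ht₁0 : psiS k k' K' ks P t₁ ≠ 0 := by
        intro h0
        apply ht0
        rw [psiS_pi_mul, h0, mul_zero]
      have hne : Q₁.1 (psiS k k' K' ks P t₁) ≠ 0 := (Q₁.1.ne_zero_iff).mpr ht₁0
      have hN' : exp (-(N : ℤ)) ≤ Q₁.1 (psiS k k' K' ks P t₁) := by
        rw [psiS_pi_mul, map_mul, val_jO_pi π hπv he₁, ← exp_log hne, ← exp_add,
          exp_le_exp] at hN
        rw [← exp_log hne, exp_le_exp]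
        have : (0 : ℤ) < e₁ := by exact_mod_cast he₁0
        push_cast at hN
        omega
      obtain ⟨j, hj⟩ := ih t₁ ht₁0 hN'
      refine ⟨j + 1, fun Q e he => ?_⟩
      rw [psiS_pi_mul, map_mul, hj Q e he, pow_succ, mul_comm]
    · exact ⟨0, fun Q e he => by
        rw [pow_zero]; exact val_psiS_eq_one ks hpi π hπv hker he t hρ⟩

theorem exists_psiS_eq_pow_mul {P : Place k K} (π : P.O)
    (hloc : ∀ a : K, ∃ (m : ℕ) (b : P.O), algebraMap P.O K b = algebraMap P.O K π ^ m * a)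
    (s : ks ⊗[k] K) : ∃ (m : ℕ) (t : ks ⊗[k] P.O),
      psiS k k' K' ks P t = jO K' P π ^ m * psiK k k' K' ks s := by
  induction s using TensorProduct.induction_on with
  | zero => exact ⟨0, 0, by simp⟩
  | tmul c a =>
    obtain ⟨m, b, hb⟩ := hloc a
    refine ⟨m, c ⊗ₜ b, ?_⟩
    rw [psiS, psiK, Algebra.TensorProduct.productMap_apply_tmul,
      Algebra.TensorProduct.productMap_apply_tmul, jO_apply, jO_apply]
    have hb' : (b : K) = (π : K) ^ m * a := hb
    rw [hb', map_mul, map_pow]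
    simp only [IsScalarTower.coe_toAlgHom']
    ring
  | add x y hx hy =>
    obtain ⟨m₁, t₁, h₁⟩ := hx
    obtain ⟨m₂, t₂, h₂⟩ := hy
    refine ⟨m₁ + m₂, (1 ⊗ₜ (π ^ m₂)) * t₁ + (1 ⊗ₜ (π ^ m₁)) * t₂, ?_⟩
    have e1 : ∀ (m : ℕ), psiS k k' K' ks P (1 ⊗ₜ (π ^ m)) = jO K' P π ^ m := by
      intro m
      rw [psiS, Algebra.TensorProduct.productMap_apply_tmul, map_one (iS k k' K' ks), one_mul,
        map_pow]
    rw [map_add, map_mul, map_mul, h₁, h₂, e1, e1, map_add]
    ring

theorem exists_pow_mem_range_psiK (p : ℕ) [ExpChar k p] [IsPurelyInseparable ks k']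
    (h : Function.Surjective (Algebra.TensorProduct.productMap
      (IsScalarTower.toAlgHom k k' K') (IsScalarTower.toAlgHom k K K')))
    (z : K') : ∃ (n : ℕ) (s : ks ⊗[k] K), psiK k k' K' ks s = z ^ p ^ n := by
  haveI : ExpChar K' p := expChar_of_injective_algebraMap (algebraMap k K').injective p
  haveI : ExpChar ks p := expChar_of_injective_algebraMap (algebraMap k ks).injective p
  obtain ⟨s', rfl⟩ := h z
  induction s' using TensorProduct.induction_on with
  | zero => exact ⟨0, 0, by simp⟩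
  | tmul c a =>
    obtain ⟨n, c', hc'⟩ := IsPurelyInseparable.pow_mem ks p c
    refine ⟨n, c' ⊗ₜ (a ^ p ^ n), ?_⟩
    rw [psiK, Algebra.TensorProduct.productMap_apply_tmul,
      Algebra.TensorProduct.productMap_apply_tmul, mul_pow, map_pow]
    congr 1
    show algebraMap k' K' (algebraMap ks k' c') = (algebraMap k' K' c) ^ p ^ n
    rw [hc', map_pow]
  | add x y hx hy =>
    obtain ⟨n₁, s₁, h₁⟩ := hx
    obtain ⟨n₂, s₂, h₂⟩ := hy
    refine ⟨n₁ + n₂, s₁ ^ p ^ n₂ + s₂ ^ p ^ n₁, ?_⟩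
    rw [map_add, map_pow, map_pow, h₁, h₂, map_add, add_pow_expChar_pow, ← pow_mul, ← pow_mul,
      ← pow_add, ← pow_add, add_comm n₂ n₁]

/-- Uniqueness of the place above `P`. -/
theorem unique_place_over [FiniteDimensional k k'] [Module.Finite k ks]
    [Algebra.IsSeparable k ks] [IsPurelyInseparable ks k']
    (h : Function.Surjective (Algebra.TensorProduct.productMap
      (IsScalarTower.toAlgHom k k' K') (IsScalarTower.toAlgHom k K K')))
    (P : Place k K)
    (hpi : IsPurelyInseparable k ks ∨ IsPurelyInseparable k (IsLocalRing.ResidueField P.O))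
    (Q₁ Q₂ : Place k K') (h₁ : IsOver Q₁ P) (h₂ : IsOver Q₂ P) : Q₁ = Q₂ := by
  obtain ⟨e₁, he₁⟩ := h₁
  obtain ⟨e₂, he₂⟩ := h₂
  have he₁0 := isOverWith_pos he₁
  have he₂0 := isOverWith_pos he₂
  obtain ⟨π, hπ0, hπv, hker, hloc⟩ := exists_uniformizer P
  obtain ⟨p, hp⟩ := ExpChar.exists k
  haveI := hp
  have hp0 : 0 < p := expChar_pos k p
  apply pl_eq_of_le
  intro z hz
  by_cases hz0 : z = 0
  · rw [hz0, map_zero]; exact zero_le'
  obtain ⟨n, s, hs⟩ := exists_pow_mem_range_psiK ks p h z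
  obtain ⟨m, t, ht⟩ := exists_psiS_eq_pow_mul (k' := k') (K' := K') ks π hloc s
  have hπ1 : Q₁.1 (jO K' P π) = exp (-(e₁ : ℤ)) := val_jO_pi π hπv he₁
  have hπ2 : Q₂.1 (jO K' P π) = exp (-(e₂ : ℤ)) := val_jO_pi π hπv he₂
  have hπK0 : jO K' P π ≠ 0 := by
    intro h0
    rw [h0, map_zero] at hπ1
    exact exp_ne_zero hπ1.symm
  have ht0 : psiS k k' K' ks P t ≠ 0 := by
    rw [ht, hs]
    exact mul_ne_zero (pow_ne_zero _ hπK0) (pow_ne_zero _ hz0)
  have hne : Q₁.1 (psiS k k' K' ks P t) ≠ 0 := (Q₁.1.ne_zero_iff).mpr ht0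
  have hle1 := val_psiS_le (k' := k') (K' := K') ks he₁ t
  have hlog0 : log (Q₁.1 (psiS k k' K' ks P t)) ≤ 0 := by
    have h7 : exp (log (Q₁.1 (psiS k k' K' ks P t))) ≤ exp 0 := by
      rw [exp_log hne, exp_zero]; exact hle1
    exact exp_le_exp.mp h7
  obtain ⟨j, hj⟩ := exists_pow_val ks hpi π hπv hker he₁
    (log (Q₁.1 (psiS k k' K' ks P t))).natAbs t ht0 (by
      conv_rhs => rw [← exp_log hne]
      rw [exp_le_exp]; omega)
  have hj1 := hj Q₁ e₁ he₁
  have hj2 := hj Q₂ e₂ he₂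
  rw [ht, hs, map_mul, map_pow, map_pow] at hj1 hj2
  -- from `Q₁ z ≤ 1`: `m ≤ j`
  have hmj : m ≤ j := by
    by_contra hcon
    push_neg at hcon
    have h3 : Q₁.1 (jO K' P π) ^ m * Q₁.1 z ^ p ^ n ≤ Q₁.1 (jO K' P π) ^ m :=
      mul_le_of_le_one_right' (pow_le_one' hz _)
    rw [hj1, hπ1, ← exp_nsmul, ← exp_nsmul, exp_le_exp] at h3
    simp only [nsmul_eq_mul] at h3
    have : (0 : ℤ) < e₁ := by exact_mod_cast he₁0
    have h4 : (j : ℤ) < m := by exact_mod_cast hcon
    nlinarith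
  -- hence `Q₂ z ≤ 1`
  by_contra hcon
  push_neg at hcon
  have h5 : 1 < Q₂.1 z ^ p ^ n := one_lt_pow₀ hcon (pow_pos hp0 n).ne'
  have h6 : Q₂.1 (jO K' P π) ^ m < Q₂.1 (jO K' P π) ^ m * Q₂.1 z ^ p ^ n := by
    have hpos : 0 < Q₂.1 (jO K' P π) ^ m := by
      rw [hπ2, ← exp_nsmul]; exact exp_pos
    exact lt_mul_of_one_lt_right hpos h5
  rw [hj2, hπ2, ← exp_nsmul, ← exp_nsmul, exp_lt_exp] at h6
  simp only [nsmul_eq_mul] at h6
  have : (0 : ℤ) < e₂ := by exact_mod_cast he₂0
  have h4 : (m : ℤ) ≤ j := by exact_mod_cast hmj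
  nlinarith

end Main

end InsepPlace

end Groth.Agent.H55
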