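import Groth.Agent.H55.GFF2
import Groth.Agent.H55.FFZeta
import Mathlib

/-!
Counting effective divisors over a finite field `k` for a field `K` that is only assumed finite
over some `k(x)` (`G.IsFF1`; the constant field may be larger than `k`): finiteness of the class
group and the bound `#{D ≥ 0 | deg D = N} ≤ C q^N`.
-/

set_option autoImplicit false

namespace Groth.Agent.H55.G

open FunFld WithZero Polynomial IntermediateField Groth.Agent.H55

variable {k K : Type*} [Field k] [Field K] [Algebra k K]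

theorem div_zero_eq (hK : IsFF1 k K) : FunFld.div k (0 : K) = 0 := by
  ext P
  rw [div_apply hK, pl_ord_zero]; rfl

theorem div_one_eq (hK : IsFF1 k K) : FunFld.div k (1 : K) = 0 := by
  have := div_const hK (1 : k)
  rwa [map_one] at this

theorem mem_prinDivs_iff (hK : IsFF1 k K) (D : Divisor k K) :
    D ∈ prinDivs k K ↔ ∃ z : K, z ≠ 0 ∧ D = FunFld.div k z := by
  constructor
  · intro h
    unfold prinDivs at h
    induction h using AddSubgroup.closure_induction with
    | mem x hx =>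
      obtain ⟨y, rfl⟩ := hx
      by_cases hy : y = 0
      · exact ⟨1, one_ne_zero, by rw [hy, div_zero_eq hK, div_one_eq hK]⟩
      · exact ⟨y, hy, rfl⟩
    | zero => exact ⟨1, one_ne_zero, (div_one_eq hK).symm⟩
    | add x y _ _ hx hy =>
      obtain ⟨a, ha, rfl⟩ := hx
      obtain ⟨b, hb, rfl⟩ := hy
      exact ⟨a * b, mul_ne_zero ha hb, (div_mul hK ha hb).symm⟩
    | neg x _ hx =>
      obtain ⟨a, ha, rfl⟩ := hx
      exact ⟨a⁻¹, inv_ne_zero ha, (div_inv hK a).symm⟩
  · rintro ⟨z, _, rfl⟩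
    exact AddSubgroup.subset_closure ⟨z, rfl⟩

theorem exists_poly_val_lt_one (hK : IsFF1 k K) (P : Place k K) {x : K}
    (hx : P.1 x ≤ 1) :
    ∃ q : k[X], q.Monic ∧ q.natDegree ≤ P.deg ∧ P.1 (aeval x q) < 1 := by
  have hfd : @Module.Finite k (IsLocalRing.ResidueField P.O) _ _ (Place.algRes P).toModule :=
    residue_finiteDimensional hK P
  let a : P.O := ⟨x, (P.1.mem_valuationSubring_iff x).mpr hx⟩
  let r : IsLocalRing.ResidueField P.O := IsLocalRing.residue P.O a
  have hint : IsIntegral k r := @IsIntegral.of_finite k _ _ _ (Place.algRes P) hfd r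
  have hd : (minpoly k r).natDegree ≤ P.deg :=
    @minpoly.natDegree_le k _ _ _ (Place.algRes P) hfd r _
  refine ⟨minpoly k r, minpoly.monic hint, hd, ?_⟩
  haveI : IsScalarTower k P.O K := IsScalarTower.of_algebraMap_eq (fun c => rfl)
  have h1 : IsLocalRing.residue P.O (aeval a (minpoly k r)) = 0 := by
    have h2 : IsLocalRing.residue P.O (aeval a (minpoly k r)) = aeval r (minpoly k r) := by
      rw [aeval_def, aeval_def, Polynomial.hom_eval₂]
      rfl
    rw [h2, minpoly.aeval]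
  have h3 : aeval a (minpoly k r) ∈ IsLocalRing.maximalIdeal P.O :=
    (IsLocalRing.residue_eq_zero_iff _).mp h1
  rw [mem_maximalIdeal_iff] at h3
  have h4 : ((aeval a (minpoly k r) : P.O) : K) = aeval x (minpoly k r) := by
    have := Polynomial.aeval_algebraMap_apply K a (minpoly k r)
    exact this.symm
  rwa [h4] at h3

theorem places_deg_le_finite [Finite k] (hK : IsFF1 k K) (n : ℕ) :
    {P : Place k K | P.deg ≤ n}.Finite := by
  have hK' : ∃ x : K, Transcendental k x ∧ FiniteDimensional k⟮x⟯ K := hK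
  obtain ⟨x, hx, -⟩ := hK'
  have hT : {q : k[X] | q.natDegree ≤ n ∧ q ≠ 0}.Finite :=
    (polys_natDegree_le_finite n).subset (fun q hq => hq.1)
  have hfin : ({P : Place k K | 1 < P.1 x} ∪
      ⋃ q ∈ {q : k[X] | q.natDegree ≤ n ∧ q ≠ 0}, {P : Place k K | P.1 (aeval x q) < 1}).Finite := by
    refine (poles_finite hK x).union (Set.Finite.biUnion hT ?_)
    intro q hq
    apply zeros_finite hK
    intro h0
    exact hq.2 (by
      by_contra hne
      exact hx ⟨q, hne, h0⟩)
  refine hfin.subset ?_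
  intro P hP
  by_cases h1 : 1 < P.1 x
  · exact Or.inl h1
  · right
    obtain ⟨q, hqm, hqd, hq⟩ := exists_poly_val_lt_one hK P (not_lt.mp h1)
    simp only [Set.mem_iUnion, Set.mem_setOf_eq]
    exact ⟨q, ⟨hqd.trans hP, hqm.ne_zero⟩, hq⟩

theorem effDiv_finite [Finite k] (hK : IsFF1 k K) (n : ℕ) :
    {D : Divisor k K | 0 ≤ D ∧ D.deg = n}.Finite := by
  classical
  let s := (places_deg_le_finite hK n).toFinset
  refine (Finset.finite_toSet (s.finsupp (fun _ => Finset.Icc (0 : ℤ) n))).subset ?_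
  rintro D ⟨h0, hd⟩
  have key : ∀ P : Place k K, D P * (P.deg : ℤ) ≤ n := by
    intro P
    have h1 := deg_mono (single_le_of_nonneg h0 P)
    rw [deg_single, hd] at h1
    exact h1
  rw [Finset.mem_coe, Finset.mem_finsupp_iff]
  constructor
  · intro P hP
    rw [Finsupp.mem_support_iff] at hP
    have h2 : 0 < D P := lt_of_le_of_ne (h0 P) (Ne.symm hP)
    have h3 := key P
    have h4 : (0 : ℤ) < P.deg := by exact_mod_cast deg_pos hK P
    rw [Set.Finite.mem_toFinset, Set.mem_setOf_eq]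
    have : (P.deg : ℤ) ≤ n := by nlinarith
    exact_mod_cast this
  · intro P _
    rw [Finset.mem_Icc]
    refine ⟨h0 P, ?_⟩
    have h3 := key P
    have h4 : (0 : ℤ) < P.deg := by exact_mod_cast deg_pos hK P
    have h5 := h0 P
    simp only [Finsupp.coe_zero, Pi.zero_apply] at h5
    nlinarith

theorem mem_L_of_nonneg (hK : IsFF1 k K) (D₀ : Divisor k K) {z : K}
    (h : 0 ≤ D₀ + FunFld.div k z) : z ∈ L D₀ := by
  by_cases hz : z = 0
  · rw [hz]; exact zero_mem _
  intro P
  have h1 := h P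
  rw [Finsupp.add_apply, div_apply hK] at h1
  simp only [Finsupp.coe_zero, Pi.zero_apply] at h1
  rw [pl_val_le_exp_iff P hz]
  omega

/-- The class map `D ↦ [D - D₁]` on effective divisors of degree `n = deg D₁`, with its fibres. -/
theorem exists_classMap (hK : IsFF1 k K) (n : ℕ) (D₁ : Divisor k K) (hD₁ : D₁.deg = n) :
    ∃ π : {D : Divisor k K // 0 ≤ D ∧ D.deg = n} →
      (degHom k K).ker ⧸ (prinDivs k K).addSubgroupOf (degHom k K).ker,
      ∀ (C : (degHom k K).ker) (D : {D : Divisor k K // 0 ≤ D ∧ D.deg = n}),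
        π D = QuotientAddGroup.mk C ↔ ∃ z : K, z ≠ 0 ∧ D.1 = (D₁ + C.1) + FunFld.div k z := by
  have hker : ∀ D : {D : Divisor k K // 0 ≤ D ∧ D.deg = n}, D.1 - D₁ ∈ (degHom k K).ker := by
    intro D
    rw [AddMonoidHom.mem_ker, degHom_apply, deg_sub, D.2.2, hD₁, sub_self]
  refine ⟨fun D => QuotientAddGroup.mk ⟨D.1 - D₁, hker D⟩, ?_⟩
  intro C D
  change (QuotientAddGroup.mk (⟨D.1 - D₁, hker D⟩ : (degHom k K).ker) :
    (degHom k K).ker ⧸ (prinDivs k K).addSubgroupOf (degHom k K).ker) = QuotientAddGroup.mk C ↔ _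
  rw [QuotientAddGroup.eq, AddSubgroup.mem_addSubgroupOf, mem_prinDivs_iff hK]
  have hco : (((-(⟨D.1 - D₁, hker D⟩ : (degHom k K).ker) + C : (degHom k K).ker)) : Divisor k K)
      = -(D.1 - D₁) + C.1 := rfl
  rw [hco]
  constructor
  · rintro ⟨z, hz, h⟩
    refine ⟨z⁻¹, inv_ne_zero hz, ?_⟩
    rw [div_inv hK, ← h]
    abel
  · rintro ⟨z, hz, h⟩
    refine ⟨z⁻¹, inv_ne_zero hz, ?_⟩
    rw [div_inv hK, h]
    abel

theorem ker_deg (C : (degHom k K).ker) : (C.1 : Divisor k K).deg = 0 := by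
  rw [← degHom_apply]
  exact AddMonoidHom.mem_ker.mp C.2

theorem classGroup_finite [Finite k] (hK : IsFF1 k K) :
    Finite ((degHom k K).ker ⧸ (prinDivs k K).addSubgroupOf (degHom k K).ker) := by
  classical
  obtain ⟨γ, hγ⟩ := exists_delta_bound hK
  have hK' : ∃ x : K, Transcendental k x ∧ FiniteDimensional k⟮x⟯ K := hK
  obtain ⟨x, hx, -⟩ := hK'
  obtain ⟨P, -⟩ := exists_pole hK x hx
  have hdP := deg_pos hK P
  set m : ℕ := γ.toNat with hm
  set n : ℕ := m * P.deg with hn
  have hD₁ : Divisor.deg ((m • (Finsupp.single P 1 : Divisor k K)) : Divisor k K) = n := by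
    rw [deg_nsmul, deg_single, hn]; push_cast; ring
  obtain ⟨π, hπ⟩ := exists_classMap hK n _ hD₁
  haveI : Finite {D : Divisor k K // 0 ≤ D ∧ D.deg = n} := (effDiv_finite hK n).to_subtype
  apply Finite.of_surjective π
  intro c
  obtain ⟨C, rfl⟩ := QuotientAddGroup.mk_surjective c
  have hdeg : Divisor.deg (m • (Finsupp.single P 1 : Divisor k K) + C.1) = n := by
    rw [deg_add, hD₁, ker_deg C, add_zero]
  have hpos : 0 < ell (m • (Finsupp.single P 1 : Divisor k K) + C.1) := by
    have h1 := hγ (m • (Finsupp.single P 1 : Divisor k K) + C.1)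
    unfold delta at h1
    rw [hdeg] at h1
    have h2 : (m : ℤ) ≤ n := by
      rw [hn]; push_cast
      have : (1 : ℤ) ≤ P.deg := by exact_mod_cast hdP
      nlinarith
    have h3 : γ ≤ m := by rw [hm]; exact Int.self_le_toNat γ
    omega
  obtain ⟨z, hz, hzL⟩ := exists_ne_zero_of_ell_pos _ hpos
  have h0 := nonneg_of_mem_L hK _ hz hzL
  refine ⟨⟨_, h0, ?_⟩, (hπ C _).mpr ⟨z, hz, rfl⟩⟩
  rw [deg_add, hdeg, deg_div hK, add_zero]

theorem effDiv_card_le [Finite k] (hK : IsFF1 k K) :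
    ∃ C : ℕ, ∀ N : ℕ, Nat.card {D : Divisor k K // 0 ≤ D ∧ D.deg = N} ≤ C * Nat.card k ^ N := by
  classical
  haveI := classGroup_finite hK
  haveI : Fintype ((degHom k K).ker ⧸ (prinDivs k K).addSubgroupOf (degHom k K).ker) :=
    Fintype.ofFinite _
  refine ⟨Nat.card ((degHom k K).ker ⧸ (prinDivs k K).addSubgroupOf (degHom k K).ker) *
    Nat.card k ^ ell (0 : Divisor k K), fun N => ?_⟩
  haveI hSfin : Finite {D : Divisor k K // 0 ≤ D ∧ D.deg = N} := (effDiv_finite hK N).to_subtype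
  by_cases hne : Nonempty {D : Divisor k K // 0 ≤ D ∧ D.deg = N}
  swap
  · rw [not_nonempty_iff] at hne
    rw [Nat.card_of_isEmpty]
    exact Nat.zero_le _
  obtain ⟨D₁⟩ := hne
  obtain ⟨π, hπ⟩ := exists_classMap hK N D₁.1 D₁.2.2
  have hq : 0 < Nat.card k := Nat.card_pos
  have hfib : ∀ c, Nat.card {D : {D : Divisor k K // 0 ≤ D ∧ D.deg = N} // π D = c} ≤
      Nat.card k ^ (N + ell (0 : Divisor k K)) := by
    intro c
    by_cases hne : Nonempty {D : {D : Divisor k K // 0 ≤ D ∧ D.deg = N} // π D = c}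
    swap
    · rw [not_nonempty_iff] at hne
      rw [Nat.card_of_isEmpty]
      exact Nat.zero_le _
    obtain ⟨D₀⟩ := hne
    obtain ⟨C, rfl⟩ := QuotientAddGroup.mk_surjective c
    have hch : ∀ D : {D : {D : Divisor k K // 0 ≤ D ∧ D.deg = N} // π D = QuotientAddGroup.mk C},
        ∃ z : K, z ≠ 0 ∧ D.1.1 = (D₁.1 + C.1) + FunFld.div k z := fun D => (hπ C D.1).mp D.2
    choose zf hzf0 hzf using hch
    have hzL : ∀ D, zf D ∈ L (D₁.1 + C.1) := fun D =>
      mem_L_of_nonneg hK _ (by rw [← hzf D]; exact D.1.2.1)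
    haveI := L_finite hK (D₁.1 + C.1)
    haveI : Finite (L (D₁.1 + C.1)) := Module.finite_of_finite k
    have hzinj : Function.Injective (fun D => (⟨zf D, hzL D⟩ : L (D₁.1 + C.1))) := by
      intro D D' h
      have h1 : zf D = zf D' := congrArg Subtype.val h
      apply Subtype.ext
      apply Subtype.ext
      rw [hzf D, hzf D', h1]
    have h1 := Nat.card_le_card_of_injective _ hzinj
    rw [Module.natCard_eq_pow_finrank (K := k) (V := L (D₁.1 + C.1))] at h1
    refine h1.trans (Nat.pow_le_pow_right hq ?_)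
    -- ell (D₁ + C) = ell D₀ ≤ N + ell 0
    have h2 : ell (D₁.1 + C.1) = ell D₀.1.1 := by
      rw [hzf D₀, ell_add_div hK _ (hzf0 D₀)]
    have h3 := ell_sub_le hK D₀.1.2.1
    rw [D₀.1.2.2, deg_zero] at h3
    change ell (D₁.1 + C.1) ≤ _
    rw [h2]
    omega
  have h1 : Nat.card {D : Divisor k K // 0 ≤ D ∧ D.deg = N} =
      ∑ c : (degHom k K).ker ⧸ (prinDivs k K).addSubgroupOf (degHom k K).ker,
        Nat.card {D : {D : Divisor k K // 0 ≤ D ∧ D.deg = N} // π D = c} := by
    rw [← Nat.card_sigma]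
    exact Nat.card_congr (Equiv.sigmaFiberEquiv π).symm
  rw [h1]
  calc ∑ c, Nat.card {D : {D : Divisor k K // 0 ≤ D ∧ D.deg = N} // π D = c}
      ≤ ∑ _c : (degHom k K).ker ⧸ (prinDivs k K).addSubgroupOf (degHom k K).ker,
          Nat.card k ^ (N + ell (0 : Divisor k K)) := Finset.sum_le_sum (fun c _ => hfib c)
    _ = _ := by
        rw [Finset.sum_const, Finset.card_univ, smul_eq_mul, ← Nat.card_eq_fintype_card, pow_add]
        ring

end Groth.Agent.H55.G
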