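import Groth.Agent.H55.FFOver2
import Mathlib

/-!
Riemann's inequality, functions with a single zero, the fundamental equality and the Galois action
on places for a base field `K/k` that is only assumed to be finite over some `k(x)` (`G.IsFF1`):
the constant field of `K` may be larger than `k`.
-/

set_option autoImplicit false

namespace Groth.Agent.H55.G

open FunFld WithZero Polynomial IntermediateField Groth.Agent.H55

section Riemann

variable {k K : Type*} [Field k] [Field K] [Algebra k K]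

theorem div_eq_zero_of_isAlgebraic (hK : IsFF1 k K) {x : K} (hx : IsAlgebraic k x) :
    FunFld.div k x = 0 := by
  ext P
  rw [div_apply hK, Finsupp.coe_zero, Pi.zero_apply]
  by_cases hx0 : x = 0
  · subst hx0; exact pl_ord_zero P
  · exact (pl_val_eq_one_iff P hx0).mp (val_eq_one_of_isAlgebraic P hx0 hx)

theorem deg_div (hK : IsFF1 k K) (x : K) : (FunFld.div k x).deg = 0 := by
  by_cases hx : IsAlgebraic k x
  · rw [div_eq_zero_of_isAlgebraic hK hx, deg_zero]
  · have hxt : Transcendental k x := hx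
    rw [div_eq_zeroDiv_sub_poleDiv hK, deg_sub, deg_zeroDiv hK x hxt, deg_poleDiv hK x hxt,
      sub_self]


theorem delta_mono (hK : IsFF1 k K) {D₁ D₂ : Divisor k K} (h : D₁ ≤ D₂) :
    delta D₁ ≤ delta D₂ := by
  have := ell_sub_le hK h
  unfold delta
  omega

theorem delta_add_div (hK : IsFF1 k K) (D : Divisor k K) {z : K} (hz : z ≠ 0) :
    delta (D + FunFld.div k z) = delta D := by
  unfold delta
  rw [deg_add, deg_div hK, ell_add_div hK D hz, add_zero]

theorem delta_sub_div (hK : IsFF1 k K) (D : Divisor k K) {z : K} (hz : z ≠ 0) :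
    delta (D - FunFld.div k z) = delta D := by
  have := delta_add_div hK D (inv_ne_zero hz)
  rw [div_inv hK, ← sub_eq_add_neg] at this
  exact this

theorem exists_delta_bound (hK : IsFF1 k K) :
    ∃ γ : ℤ, ∀ D : Divisor k K, delta D ≤ γ := by
  have hK' : ∃ x : K, Transcendental k x ∧ FiniteDimensional k⟮x⟯ K := hK
  obtain ⟨x, hx, hfin⟩ := hK'
  haveI := hfin
  set n : ℕ := Module.finrank k⟮x⟯ K with hn
  have hn1 : 1 ≤ n := Module.finrank_pos
  set B : Divisor k K := zeroDiv k x with hB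
  have hBdeg : B.deg = n := deg_zeroDiv hK x hx
  obtain ⟨C, hC0, hC⟩ := exists_C_ell_ge hK x hx
  set γ₀ : ℤ := C.deg - n + 1 with hγ₀
  have hA : ∀ l : ℕ, delta (l • B) ≤ γ₀ := by
    intro l
    have h1 := hC l
    have h2 := ell_sub_le hK (show l • B ≤ l • B + C from le_add_of_nonneg_right hC0)
    rw [deg_add] at h2
    have h3 : (((l + 1) * n : ℕ) : ℤ) ≤ ell (l • B + C) := by exact_mod_cast h1
    push_cast at h3
    unfold delta
    rw [deg_nsmul, hBdeg]
    linarith
  refine ⟨γ₀, fun D => ?_⟩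
  set Dp : Divisor k K := D ⊔ 0 with hDp
  have hDp0 : 0 ≤ Dp := le_sup_right
  have hd : 0 ≤ Dp.deg := deg_nonneg_of_nonneg hDp0
  refine (delta_mono hK (le_sup_left : D ≤ Dp)).trans ?_
  set l : ℕ := (γ₀ + Dp.deg).toNat + 1 with hl
  have h1 := hA l
  have h2 := ell_sub_le hK (show l • B - Dp ≤ l • B from sub_le_self _ hDp0)
  rw [deg_sub] at h2
  have hpos : 0 < ell (l • B - Dp) := by
    unfold delta at h1
    rw [deg_nsmul, hBdeg] at h1 h2
    have hl' : γ₀ + Dp.deg < l := by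
      rw [hl]; push_cast
      have := Int.self_le_toNat (γ₀ + Dp.deg)
      omega
    have hln : (l : ℤ) ≤ l * n := by
      have : (1 : ℤ) ≤ n := by exact_mod_cast hn1
      nlinarith
    have : (0 : ℤ) < ell (l • B - Dp) := by linarith
    exact_mod_cast this
  obtain ⟨z, hz0, hz⟩ := exists_ne_zero_of_ell_pos _ hpos
  have h3 := nonneg_of_mem_L hK _ hz0 hz
  have h4 : Dp - FunFld.div k z ≤ l • B := by
    have : l • B - Dp + FunFld.div k z = l • B - (Dp - FunFld.div k z) := by abel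
    rw [this] at h3
    exact sub_nonneg.mp h3
  rw [← delta_sub_div hK Dp hz0]
  exact (delta_mono hK h4).trans h1

/-- A function with a zero only at `P`. -/
theorem exists_only_zero (hK : IsFF1 k K) (P : Place k K) :
    ∃ x : K, Transcendental k x ∧ P.1 x < 1 ∧ ∀ P' : Place k K, P'.1 x < 1 → P' = P := by
  classical
  obtain ⟨γ, hγ⟩ := exists_delta_bound hK
  obtain ⟨c, hc⟩ : ∃ c : ℕ, c = ell (0 : Divisor k K) := ⟨_, rfl⟩
  obtain ⟨m, hm⟩ : ∃ m : ℕ, m = γ.toNat + c := ⟨_, rfl⟩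
  set D : Divisor k K := Finsupp.single P (m : ℤ) with hD
  have hD0 : 0 ≤ D := by
    rw [hD, Finsupp.single_nonneg]
    positivity
  have hdeg : D.deg = (m : ℤ) * P.deg := deg_single P _
  have hdp := deg_pos hK P
  have h1 := hγ D
  unfold delta at h1
  have h2 : c < ell D := by
    have h3 : (m : ℤ) * 1 ≤ (m : ℤ) * P.deg := by
      apply mul_le_mul_of_nonneg_left _ (by positivity)
      exact_mod_cast hdp
    rw [hdeg] at h1
    have h4 := Int.self_le_toNat γ
    have h5 : (m : ℤ) = γ.toNat + c := by rw [hm]; push_cast; rfl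
    have : (c : ℤ) < ell D := by linarith
    exact_mod_cast this
  have hlt : L (0 : Divisor k K) < L D := by
    refine lt_of_le_of_ne (L_mono hD0) (fun heq => ?_)
    have h5 : ell (0 : Divisor k K) = ell D := by unfold ell; rw [heq]
    omega
  obtain ⟨z, hzL, hz0⟩ := SetLike.exists_of_lt hlt
  have hother : ∀ P' : Place k K, P' ≠ P → P'.1 z ≤ 1 := by
    intro P' hP'
    have := (mem_L D z).mp hzL P'
    rw [hD, Finsupp.single_apply, if_neg (Ne.symm hP'), exp_zero] at this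
    exact this
  have hpole : ∃ P₀ : Place k K, 1 < P₀.1 z := by
    by_contra hcon
    push_neg at hcon
    apply hz0
    intro P'
    simpa only [Finsupp.coe_zero, Pi.zero_apply, exp_zero] using hcon P'
  obtain ⟨P₀, hP₀⟩ := hpole
  have hP₀P : P₀ = P := by
    by_contra hne
    exact absurd hP₀ (not_lt.mpr (hother P₀ hne))
  rw [hP₀P] at hP₀
  have hz0' : z ≠ 0 := by
    rintro rfl
    simp at hP₀
  have hzt : Transcendental k z := transcendental_of_val_ne_one hK P hz0' hP₀.ne'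
  refine ⟨z⁻¹, transcendental_inv hzt, ?_, ?_⟩
  · rw [map_inv₀]
    exact (inv_lt_one₀ (lt_trans zero_lt_one hP₀)).mpr hP₀
  · intro P' hP'
    by_contra hne
    rw [map_inv₀] at hP'
    have h0 : 0 < P'.1 z := zero_lt_iff.mpr ((P'.1.ne_zero_iff).mpr hz0')
    have := (inv_lt_one₀ h0).mp hP'
    exact absurd this (not_lt.mpr (hother P' hne))

end Riemann

section Over

variable {k K K' : Type*} [Field k] [Field K] [Field K'] [Algebra k K] [Algebra K K']
  [Algebra k K'] [IsScalarTower k K K']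


/-- The fundamental equality `∑_{Q | P} e(Q|P) deg Q = [K' : K] deg P`. -/
theorem sum_ramIdx_mul_deg (hK : IsFF1 k K) [FiniteDimensional K K']
    (P : Place k K) :
    {Q : Place k K' | IsOver Q P}.Finite ∧
    ∀ (Qs : Finset (Place k K')), (∀ Q, Q ∈ Qs ↔ IsOver Q P) →
      (∑ Q ∈ Qs, ramIdx Q P * Q.deg) = Module.finrank K K' * P.deg := by
  classical
  obtain ⟨x, hxt, hxP, hxo⟩ := exists_only_zero hK P
  have hx0 : x ≠ 0 := by rintro rfl; exact hxt isAlgebraic_zero
  have hx'0 : algebraMap K K' x ≠ 0 := (_root_.map_ne_zero _).mpr hx0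
  have hx't : Transcendental k (algebraMap K K' x) :=
    (transcendental_algebraMap_iff (algebraMap K K').injective).mpr hxt
  haveI hfin := ff_finite hK hxt
  obtain ⟨hfin', hrank⟩ := finiteDimensional_adjoin_map (K' := K') hfin
  have hK' : IsFF1 k K' := ⟨algebraMap K K' x, hx't, hfin'⟩
  have hiff : ∀ Q : Place k K', Q.1 (algebraMap K K' x) < 1 ↔ IsOver Q P :=
    val_lt_one_iff_isOver hK P hxP hxo
  have hzf := zeros_finite hK' (algebraMap K K' x) hx'0
  have hset : {Q : Place k K' | IsOver Q P} = {Q | Q.1 (algebraMap K K' x) < 1} := by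
    ext Q; exact (hiff Q).symm
  refine ⟨by rw [hset]; exact hzf, fun Qs hQs => ?_⟩
  have hQs' : Qs = (zeros_finite hK' (algebraMap K K' x) hx'0).toFinset := by
    ext Q; rw [hQs, Set.Finite.mem_toFinset]; exact (hiff Q).symm
  have h1 := deg_zeroDiv hK' (algebraMap K K' x) hx't
  rw [deg_zeroDiv_eq_sum hK' (algebraMap K K' x) hx'0, ← hQs', hrank] at h1
  have h2 := deg_zeroDiv hK x hxt
  have hzK : (zeros_finite hK x hx0).toFinset = {P} := by
    ext P'
    rw [Set.Finite.mem_toFinset, Finset.mem_singleton, Set.mem_setOf_eq]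
    exact ⟨fun h => hxo P' h, fun h => by rw [h]; exact hxP⟩
  rw [deg_zeroDiv_eq_sum hK x hx0, hzK, Finset.sum_singleton] at h2
  have hr : 0 < P.ord x := (pl_val_lt_one_iff P hx0).mp hxP
  have hord : ∀ Q ∈ Qs, Q.ord (algebraMap K K' x) = (ramIdx Q P : ℤ) * P.ord x := by
    intro Q hQ
    obtain ⟨e, h⟩ := (hQs Q).mp hQ
    rw [ramIdx_eq h]
    exact ord_eq_of_isOverWith h x
  have h3 : ∑ Q ∈ Qs, Q.ord (algebraMap K K' x) * (Q.deg : ℤ)
      = P.ord x * ∑ Q ∈ Qs, ((ramIdx Q P * Q.deg : ℕ) : ℤ) := by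
    rw [Finset.mul_sum]
    apply Finset.sum_congr rfl
    intro Q hQ
    rw [hord Q hQ]; push_cast; ring
  rw [h3] at h1
  have h4 : P.ord x * ∑ Q ∈ Qs, ((ramIdx Q P * Q.deg : ℕ) : ℤ)
      = P.ord x * ((Module.finrank K K' * P.deg : ℕ) : ℤ) := by
    rw [h1]; push_cast; rw [← h2]; ring
  have h5 := mul_left_cancel₀ hr.ne' h4
  exact_mod_cast h5

/-- The Galois group acts transitively on the places with equivalent restrictions to `K`. -/
theorem gal_transitive [FiniteDimensional K K'] [IsGalois K K']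
    (Q₁ Q₂ : FunFld.Place k K')
    (h : (Q₁.1.comap (algebraMap K K')).IsEquiv (Q₂.1.comap (algebraMap K K'))) :
    ∃ σ : K' ≃ₐ[K] K', Q₁.1.comap (σ : K' →+* K') = Q₂.1 := by
  classical
  by_contra hcon
  push_neg at hcon
  have hk : ∀ (σ : K' ≃ₐ[K] K') (c : k), σ (algebraMap k K' c) = algebraMap k K' c := by
    intro σ c
    rw [IsScalarTower.algebraMap_apply k K K', σ.commutes]
  let R : FunFld.Place k K' → (K' ≃ₐ[K] K') → FunFld.Place k K' := fun Q σ =>
    ⟨Q.1.comap (σ : K' →+* K'), ⟨fun c => by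
        show Q.1 (σ (algebraMap k K' c)) ≤ 1
        rw [hk]
        exact Q.2.1 c,
      fun γ => by
        obtain ⟨y, hy⟩ := Q.2.2 γ
        refine ⟨σ.symm y, ?_⟩
        show Q.1 (σ (σ.symm y)) = γ
        rw [σ.apply_symm_apply]
        exact hy⟩⟩
  have hR : ∀ (Q : FunFld.Place k K') (σ : K' ≃ₐ[K] K') (x : K'), (R Q σ).1 x = Q.1 (σ x) :=
    fun _ _ _ => rfl
  obtain ⟨S₁, hS₁⟩ : ∃ S₁ : Finset (FunFld.Place k K'), S₁ = Finset.univ.image (R Q₁) := ⟨_, rfl⟩
  obtain ⟨S₂, hS₂⟩ : ∃ S₂ : Finset (FunFld.Place k K'), S₂ = Finset.univ.image (R Q₂) := ⟨_, rfl⟩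
  have hmem₁ : ∀ σ, R Q₁ σ ∈ S₁ := fun σ => by
    rw [hS₁]
    exact Finset.mem_image_of_mem _ (Finset.mem_univ σ)
  have hmem₂ : ∀ σ, R Q₂ σ ∈ S₂ := fun σ => by
    rw [hS₂]
    exact Finset.mem_image_of_mem _ (Finset.mem_univ σ)
  have hdisj : ∀ σ, R Q₂ σ ∉ S₁ := by
    intro σ hmem
    rw [hS₁] at hmem
    obtain ⟨σ', -, hσ'⟩ := Finset.mem_image.mp hmem
    apply hcon (σ.symm.trans σ')
    ext x
    have h1 : (R Q₁ σ').1 (σ.symm x) = (R Q₂ σ).1 (σ.symm x) := by rw [hσ']
    rw [hR, hR, σ.apply_symm_apply] at h1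
    exact h1
  obtain ⟨y, hy⟩ := weak_approx (S₁ ∪ S₂) (fun T => if T ∈ S₁ then (1 : K') else 0)
    (fun _ => -1)
  have hy1 : ∀ σ : K' ≃ₐ[K] K', Q₁.1 (σ y) = 1 := by
    intro σ
    have h1 := hy (R Q₁ σ) (Finset.mem_union_left _ (hmem₁ σ))
    rw [if_pos (hmem₁ σ)] at h1
    have h2 : (R Q₁ σ).1 (y - algebraMap k K' 1) < 1 := by
      rw [map_one, h1]
      exact (zm0_lt_one_iff _).mpr le_rfl
    have h3 := val_eq_one_of_sub_const (R Q₁ σ) h2 one_ne_zero
    rw [hR] at h3
    exact h3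
  have hy2 : ∀ σ : K' ≃ₐ[K] K', Q₂.1 (σ y) = WithZero.exp (-1 : ℤ) := by
    intro σ
    have h1 := hy (R Q₂ σ) (Finset.mem_union_right _ (hmem₂ σ))
    rw [if_neg (hdisj σ), sub_zero, hR] at h1
    exact h1
  have hnorm := Algebra.norm_eq_prod_automorphisms K y
  have hN1 : Q₁.1 (algebraMap K K' (Algebra.norm K y)) = 1 := by
    rw [hnorm, map_prod]
    exact Finset.prod_eq_one (fun σ _ => hy1 σ)
  have hN2 : Q₂.1 (algebraMap K K' (Algebra.norm K y)) < 1 := by
    rw [hnorm, map_prod, Finset.prod_congr rfl (fun σ _ => hy2 σ), Finset.prod_const,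
      exp_neg_one_pow, zm0_lt_one_iff, WithZero.exp_le_exp]
    have hpos : 0 < (Finset.univ : Finset (K' ≃ₐ[K] K')).card :=
      Finset.card_pos.mpr ⟨1, Finset.mem_univ _⟩
    omega
  have h3 := (h 1 (Algebra.norm K y)).mp (by
    rw [Valuation.comap_apply, Valuation.comap_apply, map_one, map_one, hN1])
  rw [Valuation.comap_apply, Valuation.comap_apply, map_one, map_one] at h3
  exact absurd (lt_of_le_of_lt h3 hN2) (lt_irrefl _)

end Over

section Galois

open scoped Pointwise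

variable {k K K' : Type*} [Field k] [Field K] [Field K'] [Algebra k K] [Algebra K K']
  [Algebra k K'] [IsScalarTower k K K']


/-- Galois action on the places above `P`: orbit-stabilizer and constancy of `e`, `f`. -/
theorem galois_places [FiniteDimensional K K'] (hK : IsFF1 k K) [IsGalois K K'] (Q : Place k K') (P : Place k K) (e : ℕ)
    (he : IsOverWith Q P e) :
    Nat.card {Q' : Place k K' // IsOver Q' P} *
        Nat.card ((Q.O).decompositionSubgroup K) = Module.finrank K K' ∧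
    ∀ Q' : Place k K', IsOver Q' P → IsOverWith Q' P e ∧ Q'.deg = Q.deg := by
  classical
  have he0 := isOverWith_pos he
  have htrans : ∀ Q' : Place k K', IsOver Q' P → ∃ σ : K' ≃ₐ[K] K', Q' = comapGal Q σ := by
    rintro Q' ⟨e', he'⟩
    have he'0 := isOverWith_pos he'
    have hequiv : (Q.1.comap (algebraMap K K')).IsEquiv (Q'.1.comap (algebraMap K K')) := by
      intro x y
      show Q.1 (algebraMap K K' x) ≤ Q.1 (algebraMap K K' y) ↔
        Q'.1 (algebraMap K K' x) ≤ Q'.1 (algebraMap K K' y)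
      rw [he x, he y, he' x, he' y, pow_le_pow_iff_left₀ zero_le' zero_le' he0.ne',
        pow_le_pow_iff_left₀ zero_le' zero_le' he'0.ne']
    obtain ⟨σ, hσ⟩ := gal_transitive Q Q' hequiv
    refine ⟨σ, ?_⟩
    apply pl_ext
    intro x
    rw [comapGal_apply, ← hσ]; rfl
  have h2 : ∀ Q' : Place k K', IsOver Q' P → IsOverWith Q' P e ∧ Q'.deg = Q.deg := by
    intro Q' hQ'
    obtain ⟨σ, rfl⟩ := htrans Q' hQ'
    exact ⟨comapGal_isOverWith he σ, comapGal_deg Q σ⟩
  refine ⟨?_, h2⟩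
  rw [← IsGalois.card_aut_eq_finrank K K',
    ← Subgroup.card_mul_index (ValuationSubring.decompositionSubgroup K Q.O), mul_comm]
  congr 1
  rw [MulAction.index_stabilizer, ← Nat.card_coe_set_eq]
  refine Nat.card_congr (Equiv.ofBijective (fun Q' => ⟨Q'.1.O, ?_⟩) ⟨?_, ?_⟩)
  · obtain ⟨σ, hσ⟩ := htrans Q'.1 Q'.2
    rw [hσ, comapGal_O]; exact MulAction.mem_orbit _ _
  · intro Q₁ Q₂ h
    have h' : Q₁.1.O = Q₂.1.O := congrArg Subtype.val h
    apply Subtype.ext
    apply pl_eq_of_le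
    intro x hx
    have h3 : x ∈ Q₁.1.O := hx
    rw [h'] at h3; exact h3
  · rintro ⟨A, hA⟩
    obtain ⟨σ, rfl⟩ := MulAction.mem_orbit_iff.mp hA
    refine ⟨⟨comapGal Q σ⁻¹, ⟨e, comapGal_isOverWith he σ⁻¹⟩⟩, ?_⟩
    apply Subtype.ext
    show (comapGal Q σ⁻¹).O = σ • Q.O
    rw [comapGal_O, inv_inv]

/-- `|G₀| deg P = e deg Q`. -/
theorem card_decomposition_mul_deg [FiniteDimensional K K'] (hK : IsFF1 k K) [IsGalois K K'] (Q : Place k K') (P : Place k K) (e : ℕ)
    (he : IsOverWith Q P e) :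
    Nat.card ((Q.O).decompositionSubgroup K) * P.deg = e * Q.deg := by
  classical
  obtain ⟨h1, h2⟩ := galois_places hK Q P e he
  obtain ⟨hfin, hsum⟩ := sum_ramIdx_mul_deg (K' := K') hK P
  have hs := hsum hfin.toFinset (fun Q' => by rw [Set.Finite.mem_toFinset]; exact Iff.rfl)
  have hterm : ∀ Q' ∈ hfin.toFinset, ramIdx Q' P * Q'.deg = e * Q.deg := by
    intro Q' hQ'
    have hQ'' : IsOver Q' P := (Set.Finite.mem_toFinset hfin).mp hQ'
    obtain ⟨h3, h4⟩ := h2 Q' hQ''
    rw [ramIdx_eq h3, h4]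
  rw [Finset.sum_congr rfl hterm, Finset.sum_const, smul_eq_mul] at hs
  have hcard : hfin.toFinset.card = Nat.card {Q' : Place k K' // IsOver Q' P} := by
    rw [← Set.ncard_eq_toFinset_card _ hfin, ← Nat.card_coe_set_eq]; rfl
  rw [hcard, ← h1] at hs
  have hr : 0 < Nat.card {Q' : Place k K' // IsOver Q' P} := by
    haveI : Finite {Q' : Place k K' // IsOver Q' P} := hfin.to_subtype
    haveI : Nonempty {Q' : Place k K' // IsOver Q' P} := ⟨⟨Q, e, he⟩⟩
    exact Nat.card_pos
  have h5 : Nat.card {Q' : Place k K' // IsOver Q' P} * (e * Q.deg)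
      = Nat.card {Q' : Place k K' // IsOver Q' P} *
        (Nat.card ((Q.O).decompositionSubgroup K) * P.deg) := by
    rw [hs]; ring
  exact (Nat.eq_of_mul_eq_mul_left hr h5).symm

end Galois

end Groth.Agent.H55.G
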