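import Groth.Agent.H73.PolyN2
import Groth.Agent.H55.GFF2
import Groth.Agent.H55.FFUnram
import Groth.Agent.H55.FFZetaG
import Mathlib

/-!
Finiteness of integral closures in (possibly inseparable) finite extensions of function fields,
via the N-2 property of `k[X]`.
-/

set_option autoImplicit false

universe u v

namespace Groth.Agent.H55

open Polynomial IntermediateField

section N2

theorem isN2_field (k : Type u) [Field k] : CAlg.IsN2 k := by
  intro L _ _ _ _ hfd
  haveI := hfd
  haveI : Module.Finite k (FractionRing k) :=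
    Module.Finite.equiv (FractionRing.algEquiv k k).symm.toLinearEquiv
  haveI : Module.Finite k L := Module.Finite.trans (FractionRing k) L
  exact Module.Finite.of_injective (integralClosure k L).val.toLinearMap Subtype.val_injective

open Groth.Agent.H11.N2Insep in
/-- `k[X]` is N-2, with the extension field in an arbitrary universe. -/
theorem finite_integralClosure_polynomial (k : Type u) [Field k] (L : Type v) [Field L]
    [Algebra k[X] L] [Algebra (FractionRing k[X]) L]
    [IsScalarTower k[X] (FractionRing k[X]) L] (hL : FiniteDimensional (FractionRing k[X]) L) :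
    Module.Finite k[X] (integralClosure k[X] L) := by
  have : IsAlgClosure (FractionRing k[X]) (AlgebraicClosure L) :=
    IsAlgClosure.ofAlgebraic (FractionRing k[X]) L (AlgebraicClosure L)
  let N : IntermediateField (FractionRing k[X]) (AlgebraicClosure L) :=
    IntermediateField.normalClosure (FractionRing k[X]) L (AlgebraicClosure L)
  have : Normal (FractionRing k[X]) N :=
    normalClosure.normal (FractionRing k[X]) L (AlgebraicClosure L)
  have : FiniteDimensional (FractionRing k[X]) N :=
    normalClosure.is_finiteDimensional (FractionRing k[X]) L (AlgebraicClosure L)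
  let P : IntermediateField (FractionRing k[X]) N :=
    IntermediateField.fixedField (⊤ : Subgroup (N ≃ₐ[FractionRing k[X]] N))
  have hPi : IsPurelyInseparable (FractionRing k[X]) P := isPurelyInseparable_fixedField
  have hPs : Algebra.IsSeparable P N := isSeparable_over_fixedField
  have hPf : FiniteDimensional (FractionRing k[X]) P := inferInstance
  have hNf : FiniteDimensional P N := inferInstance
  have hBf : Module.Finite k[X] (integralClosure k[X] P) :=
    Groth.Agent.H73.PolyN2.finite_integralClosure_of_purelyInseparable k (isN2_field k) P hPf hPi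
  have : IsScalarTower k[X] (integralClosure k[X] P) N :=
    IsScalarTower.of_algebraMap_eq fun _ => rfl
  have hN : Module.Finite k[X] (integralClosure k[X] N) :=
    finite_integralClosure_of_tower k[X] (integralClosure k[X] P) (FractionRing k[X]) P N
  have : IsNoetherian k[X] (integralClosure k[X] N) :=
    isNoetherian_of_isNoetherianRing_of_finite k[X] _
  let ι₀ : L →ₐ[FractionRing k[X]] AlgebraicClosure L :=
    IsScalarTower.toAlgHom (FractionRing k[X]) L (AlgebraicClosure L)
  let ι : L →ₐ[FractionRing k[X]] N :=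
    ι₀.codRestrict N.toSubalgebra fun x => ι₀.fieldRange_le_normalClosure ⟨x, rfl⟩
  let ιA : L →ₐ[k[X]] N := ι.restrictScalars k[X]
  let f : integralClosure k[X] L →ₗ[k[X]] integralClosure k[X] N :=
    { toFun := fun x => ⟨ιA x.1, x.2.map ιA⟩
      map_add' := fun x y => Subtype.ext (map_add ιA x.1 y.1)
      map_smul' := fun a x => Subtype.ext (map_smul ιA a x.1) }
  refine Module.Finite.of_injective f (fun x y h => ?_)
  have h' : ιA x.1 = ιA y.1 := congrArg Subtype.val h
  exact Subtype.ext (ιA.toRingHom.injective h')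

end N2

section Gen

variable {k : Type u} {K' : Type v} [Field k] [Field K'] [Algebra k K']

/-- Elements integral over the subring generated by `k` and a transcendental `x'` (with `K'` finite
over `k(x')`) are `k[x']`-combinations of finitely many integral elements. -/
theorem exists_integral_generators (x' : K') (hx' : Transcendental k x')
    [FiniteDimensional k⟮x'⟯ K'] :
    ∃ (n : ℕ) (w : Fin n → K'),
      (∀ j, ∃ p : k[X][X], p.Monic ∧
        eval₂ ((aeval x' : k[X] →ₐ[k] K').toRingHom) (w j) p = 0) ∧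
      ∀ z ∈ integralClosure (Subring.closure (Set.range (algebraMap k K') ∪ {x'})) K',
        ∃ h : Fin n → k[X], z = ∑ j, aeval x' (h j) * w j := by
  classical
  letI alg : Algebra k[X] K' := (aeval x' : k[X] →ₐ[k] K').toRingHom.toAlgebra
  have halg : ∀ f : k[X], algebraMap k[X] K' f = aeval x' f := fun f => rfl
  have hinj : Function.Injective (algebraMap k[X] K') := by
    rw [injective_iff_map_eq_zero]
    intro f hf
    by_contra hne
    exact hx' ⟨f, hne, hf⟩
  letI algF : Algebra (FractionRing k[X]) K' := (IsFractionRing.lift hinj).toAlgebra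
  have halgF : ∀ f : k[X], algebraMap (FractionRing k[X]) K' (algebraMap k[X] (FractionRing k[X]) f)
      = aeval x' f := fun f => IsFractionRing.lift_algebraMap hinj f
  haveI : IsScalarTower k[X] (FractionRing k[X]) K' :=
    IsScalarTower.of_algebraMap_eq (fun f => (halgF f).symm)
  -- `k(x')` lies in the range of the fraction field
  have hrange : ∀ c : k⟮x'⟯, ∃ f : FractionRing k[X], algebraMap (FractionRing k[X]) K' f = c := by
    let E : IntermediateField k K' :=
      (algebraMap (FractionRing k[X]) K').fieldRange.toIntermediateField (fun c =>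
        ⟨algebraMap k[X] (FractionRing k[X]) (C c), by rw [halgF, aeval_C]⟩)
    have hxE : x' ∈ E := ⟨algebraMap k[X] (FractionRing k[X]) X, by rw [halgF, aeval_X]⟩
    have hle : k⟮x'⟯ ≤ E := adjoin_simple_le_iff.mpr hxE
    intro c
    exact hle c.2
  have hfd : FiniteDimensional (FractionRing k[X]) K' := by
    obtain ⟨m, b, hb⟩ := Module.Finite.exists_fin (R := k⟮x'⟯) (M := K')
    refine ⟨⟨Finset.univ.image b, ?_⟩⟩
    rw [eq_top_iff]
    intro z _
    have hz : z ∈ Submodule.span k⟮x'⟯ (Set.range b) := by rw [hb]; trivial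
    rw [Submodule.mem_span_range_iff_exists_fun] at hz
    obtain ⟨c, rfl⟩ := hz
    apply Submodule.sum_mem
    intro j _
    obtain ⟨f, hf⟩ := hrange (c j)
    have e1 : c j • b j = f • b j := by
      rw [Algebra.smul_def f, hf]; rfl
    rw [e1]
    apply Submodule.smul_mem
    apply Submodule.subset_span
    simp
  have hfin := finite_integralClosure_polynomial k K' hfd
  obtain ⟨n, s, hs⟩ := Module.Finite.exists_fin (R := k[X]) (M := integralClosure k[X] K')
  -- the subring generated by `k` and `x'` is the range of `aeval x'`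
  have hS : Subring.closure (Set.range (algebraMap k K') ∪ {x'})
      = (algebraMap k[X] K').range := by
    have h1 := Algebra.adjoin_eq_ring_closure (R := k) ({x'} : Set K')
    have h2 := Algebra.adjoin_singleton_eq_range_aeval k x'
    rw [← h1, h2]
    rfl
  -- integrality transfers in both directions
  have hint_eq : ∀ (T T' : Subring K'), T = T' → ∀ z : K', IsIntegral T z → IsIntegral T' z := by
    rintro T T' rfl z hz
    exact hz
  have hconv1 : ∀ z : K', z ∈ integralClosure (Subring.closure (Set.range (algebraMap k K') ∪ {x'})) K'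
      → IsIntegral k[X] z := by
    intro z hz
    obtain ⟨p, hpm, hp⟩ := hint_eq _ _ hS z hz
    have hsurj : Function.Surjective ((algebraMap k[X] K').rangeRestrict) :=
      (algebraMap k[X] K').rangeRestrict_surjective
    have hlift : p ∈ Polynomial.lifts ((algebraMap k[X] K').rangeRestrict) := by
      rw [Polynomial.mem_lifts]
      exact Polynomial.map_surjective _ hsurj p
    obtain ⟨q, hq, -, hqm⟩ := Polynomial.lifts_and_degree_eq_and_monic hlift hpm
    refine ⟨q, hqm, ?_⟩
    rw [← hq, Polynomial.eval₂_map] at hp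
    exact hp
  have hconv2 : ∀ z : K', IsIntegral k[X] z →
      z ∈ integralClosure (Subring.closure (Set.range (algebraMap k K') ∪ {x'})) K' := by
    intro z hz
    obtain ⟨q, hqm, hq⟩ := hz
    refine hint_eq _ _ hS.symm z ?_
    refine ⟨q.map (algebraMap k[X] K').rangeRestrict, hqm.map _, ?_⟩
    rw [Polynomial.eval₂_map]
    exact hq
  refine ⟨n, fun j => (s j : K'), fun j => (s j).2, ?_⟩
  intro z hz
  have hzi : IsIntegral k[X] z := hconv1 z hz
  have hmem : (⟨z, hzi⟩ : integralClosure k[X] K') ∈ Submodule.span k[X] (Set.range s) := by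
    rw [hs]; trivial
  rw [Submodule.mem_span_range_iff_exists_fun] at hmem
  obtain ⟨h, hh⟩ := hmem
  refine ⟨h, ?_⟩
  have := congrArg (Subtype.val) hh
  simp only [AddSubmonoidClass.coe_finset_sum] at this
  rw [← this]
  apply Finset.sum_congr rfl
  intro j _
  rfl

end Gen

section Places

open FunFld WithZero

variable {k : Type*} {K' : Type*} [Field k] [Field K'] [Algebra k K']

theorem mem_integralClosure_of_no_finite_poles (hK' : G.IsFF1 k K') (x' z : K')
    (h : ∀ Q' : Place k K', Q'.1 x' ≤ 1 → Q'.1 z ≤ 1) :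
    z ∈ integralClosure (Subring.closure (Set.range (algebraMap k K') ∪ {x'})) K' := by
  rw [← Subalgebra.mem_toSubring, ← iInf_valuationSubring_superset, Subring.mem_iInf]
  rintro ⟨V, hV⟩
  change z ∈ V
  by_cases hall : ∀ y : K', y ∈ V
  · exact hall z
  push_neg at hall
  obtain ⟨y, hy⟩ := hall
  have hy0 : y ≠ 0 := by
    rintro rfl
    exact hy V.zero_mem
  have hyn : y⁻¹ ∈ V.nonunits := V.inv_mem_nonunits_iff.mpr (Or.inr hy)
  have hkV : ∀ c : k, algebraMap k K' c ∈ V := fun c => hV (Or.inl ⟨c, rfl⟩)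
  obtain ⟨Q', hQ1, hQ2⟩ := G.exists_place_of_valuationSubring V hkV hK' y⁻¹ (inv_ne_zero hy0) hyn
  have hx'V : x' ∈ V := hV (Or.inr rfl)
  have hz := h Q' (hQ1 x' hx'V)
  by_contra hzV
  have hz0 : z ≠ 0 := by
    rintro rfl
    exact hzV V.zero_mem
  have h1 := hQ2 z⁻¹ (V.inv_mem_nonunits_iff.mpr (Or.inr hzV))
  rw [map_inv₀] at h1
  have hzpos : 0 < Q'.1 z := zero_lt_iff.mpr ((Q'.1.ne_zero_iff).mpr hz0)
  have h2 := (inv_lt_one₀ hzpos).mp h1
  exact absurd hz (not_le.mpr h2)

theorem exists_poly_val_lt_one' (hK' : G.IsFF1 k K') (Q' : Place k K') {x' : K'}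
    (hx : Q'.1 x' = 1) :
    ∃ q : k[X], q.Monic ∧ q.coeff 0 ≠ 0 ∧ Q'.1 (aeval x' q) < 1 := by
  have hfd : @Module.Finite k (IsLocalRing.ResidueField Q'.O) _ _ (Place.algRes Q').toModule :=
    G.residue_finiteDimensional hK' Q'
  let a : Q'.O := ⟨x', (Q'.1.mem_valuationSubring_iff x').mpr hx.le⟩
  let r : IsLocalRing.ResidueField Q'.O := IsLocalRing.residue Q'.O a
  have hint : IsIntegral k r := @IsIntegral.of_finite k _ _ _ (Place.algRes Q') hfd r
  have hr0 : r ≠ 0 := by
    intro h0
    have h1 : a ∈ IsLocalRing.maximalIdeal Q'.O := (IsLocalRing.residue_eq_zero_iff _).mp h0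
    rw [mem_maximalIdeal_iff] at h1
    change Q'.1 x' < 1 at h1
    rw [hx] at h1
    exact lt_irrefl _ h1
  refine ⟨minpoly k r, minpoly.monic hint, minpoly.coeff_zero_ne_zero hint hr0, ?_⟩
  haveI : IsScalarTower k Q'.O K' := IsScalarTower.of_algebraMap_eq (fun c => rfl)
  have h1 : IsLocalRing.residue Q'.O (aeval a (minpoly k r)) = 0 := by
    have h2 : IsLocalRing.residue Q'.O (aeval a (minpoly k r)) = aeval r (minpoly k r) := by
      rw [aeval_def, aeval_def, Polynomial.hom_eval₂]
      rfl
    rw [h2, minpoly.aeval]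
  have h3 : aeval a (minpoly k r) ∈ IsLocalRing.maximalIdeal Q'.O :=
    (IsLocalRing.residue_eq_zero_iff _).mp h1
  rw [mem_maximalIdeal_iff] at h3
  have h4 : ((aeval a (minpoly k r) : Q'.O) : K') = aeval x' (minpoly k r) := by
    have := Polynomial.aeval_algebraMap_apply K' a (minpoly k r)
    exact this.symm
  rwa [h4] at h3

theorem val_aeval_eq_one (P : Place k K') {x : K'} (hx : P.1 x < 1) {q : k[X]}
    (h0 : q.coeff 0 ≠ 0) : P.1 (aeval x q) = 1 := by
  have h1 : q = q.divX * X + C (q.coeff 0) := (divX_mul_X_add q).symm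
  have h2 : aeval x q = aeval x q.divX * x + algebraMap k K' (q.coeff 0) := by
    conv_lhs => rw [h1]
    simp
  have h3 : P.1 (aeval x q.divX * x) < 1 := by
    rw [map_mul]
    calc P.1 (aeval x q.divX) * P.1 x ≤ 1 * P.1 x := mul_le_mul' (val_aeval_le_one P hx.le _) le_rfl
      _ = P.1 x := one_mul _
      _ < 1 := hx
  have h4 : P.1 (algebraMap k K' (q.coeff 0)) = 1 := pl_val_const P h0
  rw [h2, Valuation.map_add_eq_of_lt_right _ (by rw [h4]; exact h3), h4]

theorem val_le_one_of_isIntegral {R : Type*} [CommRing R] [Algebra R K'] (Q : Place k K')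
    (hR : ∀ a : R, Q.1 (algebraMap R K' a) ≤ 1) {b : K'} (hb : IsIntegral R b) : Q.1 b ≤ 1 := by
  by_contra hcon
  push_neg at hcon
  obtain ⟨p, hpm, hp⟩ := hb
  have hdeg : 0 < p.natDegree := by
    by_contra h0
    have h1 : p.natDegree = 0 := by omega
    have h2 : p = 1 := hpm.natDegree_eq_zero.mp h1
    rw [h2, eval₂_one] at hp
    exact one_ne_zero hp
  have h1 : eval₂ (algebraMap R K') b p =
      b ^ p.natDegree + ∑ i ∈ Finset.range p.natDegree, algebraMap R K' (p.coeff i) * b ^ i := by
    rw [eval₂_eq_sum_range, Finset.sum_range_succ, hpm.coeff_natDegree, map_one, one_mul, add_comm]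
  rw [h1] at hp
  have h2 : Q.1 (∑ i ∈ Finset.range p.natDegree, algebraMap R K' (p.coeff i) * b ^ i)
      < Q.1 (b ^ p.natDegree) := by
    apply Valuation.map_sum_lt
    · rw [map_pow]
      exact (pow_pos (lt_trans zero_lt_one hcon) _).ne'
    · intro i hi
      rw [Finset.mem_range] at hi
      rw [map_mul, map_pow, map_pow]
      calc Q.1 (algebraMap R K' (p.coeff i)) * Q.1 b ^ i ≤ 1 * Q.1 b ^ i :=
            mul_le_mul' (hR _) le_rfl
        _ = Q.1 b ^ i := one_mul _
        _ < Q.1 b ^ p.natDegree := pow_lt_pow_right₀ hcon hi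
  have h3 : Q.1 (b ^ p.natDegree + ∑ i ∈ Finset.range p.natDegree,
      algebraMap R K' (p.coeff i) * b ^ i) = Q.1 (b ^ p.natDegree) :=
    Valuation.map_add_eq_of_lt_left _ h2
  rw [hp, map_zero, map_pow] at h3
  exact (pow_pos (lt_trans zero_lt_one hcon) _).ne' h3.symm

end Places

section Main

open FunFld WithZero

variable {k : Type*} {K : Type*} [Field k] [Field K] [Algebra k K]

theorem integralClosure_finite (hK : G.IsFF1 k K) (P : Place k K) (K' : Type*) [Field K']
    [Algebra K K'] [FiniteDimensional K K'] [Algebra P.O K'] [IsScalarTower P.O K K'] :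
    Module.Finite P.O (integralClosure P.O K') := by
  classical
  letI : Algebra k K' := ((algebraMap K K').comp (algebraMap k K)).toAlgebra
  haveI : IsScalarTower k K K' := IsScalarTower.of_algebraMap_eq (fun _ => rfl)
  have hK' : G.IsFF1 k K' := isFF1_of_finite hK
  obtain ⟨x, hxt, hxP, hxo⟩ := G.exists_only_zero hK P
  obtain ⟨x', hx'⟩ : ∃ x', x' = algebraMap K K' x := ⟨_, rfl⟩
  have hx't : Transcendental k x' := by
    intro halg
    rw [hx'] at halg
    exact hxt ((isAlgebraic_algebraMap_iff (algebraMap K K').injective).mp halg)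
  haveI : FiniteDimensional k⟮x'⟯ K' := G.ff_finite hK' hx't
  obtain ⟨n, w, hw, hgen⟩ := exists_integral_generators x' hx't
  have hOP : ∀ a : P.O, algebraMap P.O K' a = algebraMap K K' (a : K) := fun a => by
    rw [IsScalarTower.algebraMap_apply P.O K K']; rfl
  have haev : ∀ f : k[X], aeval x' f = algebraMap K K' (aeval x f) := fun f => by
    rw [hx', aeval_algebraMap_apply]
  have hxO : ∀ f : k[X], P.1 (aeval x f) ≤ 1 := fun f => val_aeval_le_one P hxP.le f
  let φ : k[X] →+* P.O :=
    { toFun := fun f => ⟨aeval x f, (P.1.mem_valuationSubring_iff _).mpr (hxO f)⟩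
      map_one' := Subtype.ext (map_one _)
      map_mul' := fun a b => Subtype.ext (map_mul _ a b)
      map_zero' := Subtype.ext (map_zero _)
      map_add' := fun a b => Subtype.ext (map_add _ a b) }
  have hφ : (algebraMap P.O K').comp φ = (aeval x' : k[X] →ₐ[k] K').toRingHom := by
    apply RingHom.ext
    intro f
    change algebraMap P.O K' (φ f) = aeval x' f
    rw [hOP, haev]
    rfl
  have hwint : ∀ j, IsIntegral P.O (w j) := by
    intro j
    obtain ⟨p, hpm, hp⟩ := hw j
    refine ⟨p.map φ, hpm.map φ, ?_⟩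
    rw [eval₂_map, hφ]
    exact hp
  have hspan : ∀ b : K', IsIntegral P.O b → b ∈ Submodule.span P.O (Set.range w) := by
    intro b hb
    by_cases hb0 : b = 0
    · rw [hb0]; exact zero_mem _
    have hT := G.poles_finite hK' b
    obtain ⟨T₁, hT₁⟩ : ∃ T₁ : Finset (Place k K'), T₁ = hT.toFinset.filter (fun Q' => Q'.1 x' ≤ 1) :=
      ⟨_, rfl⟩
    have hmemT : ∀ Q' : Place k K', Q' ∈ T₁ ↔ 1 < Q'.1 b ∧ Q'.1 x' ≤ 1 := by
      intro Q'
      rw [hT₁, Finset.mem_filter, Set.Finite.mem_toFinset]
      rfl
    have hone : ∀ Q' ∈ T₁, Q'.1 x' = 1 := by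
      intro Q' hQ'
      obtain ⟨hpole, hle⟩ := (hmemT Q').mp hQ'
      by_contra hne
      have hlt : Q'.1 x' < 1 := lt_of_le_of_ne hle hne
      obtain ⟨P'', e, he⟩ := exists_place_under hK Q'
      have h1 : P''.1 x < 1 := by
        by_contra hcon
        push_neg at hcon
        have h2 := he x
        rw [← hx'] at h2
        rw [h2] at hlt
        exact absurd hlt (not_lt.mpr (one_le_pow₀ hcon))
      have hPP := hxo P'' h1
      subst hPP
      have h2 : Q'.1 b ≤ 1 := val_le_one_of_isIntegral Q' (fun a => by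
        rw [hOP, he]
        exact pow_le_one₀ zero_le' ((P''.1.mem_valuationSubring_iff _).mp a.2)) hb
      exact absurd hpole (not_lt.mpr h2)
    have hq : ∀ Q' : Place k K', ∃ q : k[X], Q' ∈ T₁ →
        (q.Monic ∧ q.coeff 0 ≠ 0 ∧ Q'.1 (aeval x' q) < 1) := by
      intro Q'
      by_cases hQ' : Q' ∈ T₁
      · obtain ⟨q, h1, h2, h3⟩ := exists_poly_val_lt_one' hK' Q' (hone Q' hQ')
        exact ⟨q, fun _ => ⟨h1, h2, h3⟩⟩
      · exact ⟨1, fun h => absurd h hQ'⟩
    choose qf hqf using hq
    obtain ⟨N, hN⟩ : ∃ N : ℕ, N = T₁.sup (fun Q' => (-(Q'.ord b)).toNat) := ⟨_, rfl⟩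
    obtain ⟨g, hg⟩ : ∃ g : k[X], g = (∏ Q' ∈ T₁, qf Q') ^ N := ⟨_, rfl⟩
    have hgP : P.1 (aeval x g) = 1 := by
      rw [hg, map_pow, map_prod, map_pow, map_prod,
        Finset.prod_eq_one (fun Q' hQ' => val_aeval_eq_one P hxP (hqf Q' hQ').2.1), one_pow]
    have hnopole : ∀ Q'' : Place k K', Q''.1 x' ≤ 1 → Q''.1 (aeval x' g * b) ≤ 1 := by
      intro Q'' hQ''
      rw [map_mul]
      by_cases hpole : 1 < Q''.1 b
      · have hmem : Q'' ∈ T₁ := (hmemT Q'').mpr ⟨hpole, hQ''⟩
        have h1 : Q''.1 (aeval x' g) ≤ exp (-(N : ℤ)) := by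
          rw [hg, map_pow, map_pow, map_prod, map_prod]
          have h2 : ∏ Q' ∈ T₁, Q''.1 (aeval x' (qf Q')) ≤ exp (-1 : ℤ) := by
            rw [← Finset.mul_prod_erase T₁ _ hmem]
            calc Q''.1 (aeval x' (qf Q'')) * ∏ Q' ∈ T₁.erase Q'', Q''.1 (aeval x' (qf Q'))
                ≤ exp (-1 : ℤ) * 1 :=
                  mul_le_mul' ((zm0_lt_one_iff _).mp (hqf Q'' hmem).2.2)
                    (Finset.prod_le_one' (fun Q' _ => val_aeval_le_one Q'' hQ'' _))
              _ = exp (-1 : ℤ) := mul_one _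
          calc (∏ Q' ∈ T₁, Q''.1 (aeval x' (qf Q'))) ^ N ≤ (exp (-1 : ℤ)) ^ N :=
                pow_le_pow_left₀ zero_le' h2 N
            _ = exp (-(N : ℤ)) := by rw [← exp_nsmul]; simp
        have h3 : Q''.1 b ≤ exp (N : ℤ) := by
          rw [pl_val_eq_exp_neg_ord Q'' hb0, exp_le_exp]
          have h4 : (-(Q''.ord b)).toNat ≤ N := by
            rw [hN]
            exact Finset.le_sup (f := fun Q' : Place k K' => (-(Q'.ord b)).toNat) hmem
          have h5 := Int.self_le_toNat (-(Q''.ord b))
          omega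
        calc Q''.1 (aeval x' g) * Q''.1 b ≤ exp (-(N : ℤ)) * exp (N : ℤ) := mul_le_mul' h1 h3
          _ = 1 := by rw [← exp_add]; simp
      · push_neg at hpole
        exact mul_le_one' (val_aeval_le_one Q'' hQ'' g) hpole
    have hy := mem_integralClosure_of_no_finite_poles hK' x' (aeval x' g * b) hnopole
    obtain ⟨h, hh⟩ := hgen _ hy
    have hg0 : aeval x g ≠ 0 := by
      intro h0
      rw [h0, map_zero] at hgP
      exact zero_ne_one hgP
    have hg'0 : aeval x' g ≠ 0 := by
      rw [haev]; exact (_root_.map_ne_zero _).mpr hg0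
    have hcoef : ∀ j, P.1 (aeval x (h j) / aeval x g) ≤ 1 := fun j => by
      rw [map_div₀, hgP, div_one]; exact hxO _
    have hb_eq : b = ∑ j, (⟨aeval x (h j) / aeval x g,
        (P.1.mem_valuationSubring_iff _).mpr (hcoef j)⟩ : P.O) • w j := by
      have e1 : b = (aeval x' g)⁻¹ * (aeval x' g * b) := by
        rw [← mul_assoc, inv_mul_cancel₀ hg'0, one_mul]
      rw [e1, hh, Finset.mul_sum]
      apply Finset.sum_congr rfl
      intro j _
      rw [Algebra.smul_def, hOP]
      simp only [map_div₀, haev]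
      field_simp
    rw [hb_eq]
    exact Submodule.sum_mem _ (fun j _ => Submodule.smul_mem _ _ (Submodule.subset_span ⟨j, rfl⟩))
  have hEq : Subalgebra.toSubmodule (integralClosure P.O K') = Submodule.span P.O (Set.range w) := by
    apply le_antisymm
    · intro b hb
      exact hspan b hb
    · rw [Submodule.span_le]
      rintro _ ⟨j, rfl⟩
      exact hwint j
  have hfg : (Subalgebra.toSubmodule (integralClosure P.O K')).FG := by
    rw [hEq]
    exact Submodule.fg_span (Set.finite_range w)
  exact Module.Finite.iff_fg.mpr hfg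

end Main

end Groth.Agent.H55
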