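import Groth.Agent.H55.FFDim
import Mathlib

/-!
`A(D₂)/A(D₁)`, `L(0) = k`, finite-dimensionality of `L(D)` and `ℓ(D₂) - ℓ(D₁) ≤ deg D₂ - deg D₁`.
-/

set_option autoImplicit false

namespace Groth.Agent.H55

open FunFld WithZero Polynomial IntermediateField

variable {k K : Type*} [Field k] [Field K] [Algebra k K]

section AD

theorem mem_AD (D : Divisor k K) (a : Place k K → K) :
    a ∈ AD D ↔ ∀ P : Place k K, P.1 (a P) ≤ exp (D P) := Iff.rfl

theorem mem_L (D : Divisor k K) (x : K) :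
    x ∈ L D ↔ ∀ P : Place k K, P.1 x ≤ exp (D P) := Iff.rfl

theorem AD_mono {D₁ D₂ : Divisor k K} (h : D₁ ≤ D₂) : AD D₁ ≤ AD D₂ :=
  fun _ ha P => (ha P).trans (exp_le_exp.mpr (h P))

theorem L_mono {D₁ D₂ : Divisor k K} (h : D₁ ≤ D₂) : L D₁ ≤ L D₂ :=
  fun _ ha P => (ha P).trans (exp_le_exp.mpr (h P))

/-- `dim_k A(D₂)/A(D₁) = deg D₂ - deg D₁`. -/
theorem relfr_AD (hK : FunFld.IsFunctionField k K) {D₁ D₂ : Divisor k K} (h : D₁ ≤ D₂) :
    RelFin (AD D₁) (AD D₂) ∧ (relfr (AD D₁) (AD D₂) : ℤ) = D₂.deg - D₁.deg := by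
  classical
  set T : Finset (Place k K) := (D₂ - D₁).support with hT
  have hout : ∀ P : Place k K, P ∉ T → D₁ P = D₂ P := by
    intro P hP
    rw [hT, Finsupp.notMem_support_iff, Finsupp.sub_apply] at hP
    omega
  have hev : ∀ P : T, ∀ a ∈ AD D₂, (LinearMap.proj (R := k) (φ := fun _ : Place k K => K) P.1) a
      ∈ ball P.1 (D₂ P.1) := fun P a ha => ha P.1
  let f : AD D₂ →ₗ[k] (∀ P : T, BQ P.1 (D₁ P.1) (D₂ P.1)) := LinearMap.pi (fun P : T =>
    (BQ.mk P.1 (D₁ P.1) (D₂ P.1)) ∘ₗ ((LinearMap.proj P.1).restrict (hev P)))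
  have hfs : Function.Surjective f := by
    intro w
    have hb : ∀ P : T, ∃ b : ball P.1 (D₂ P.1), BQ.mk P.1 (D₁ P.1) (D₂ P.1) b = w P :=
      fun P => BQ.mk_surjective _ _ _ (w P)
    choose b hb using hb
    let a : Place k K → K := fun Q => if h : Q ∈ T then (b ⟨Q, h⟩ : K) else 0
    have ha : a ∈ AD D₂ := by
      intro Q
      by_cases hQ : Q ∈ T
      · simp only [a, dif_pos hQ]; exact (b ⟨Q, hQ⟩).2
      · simp only [a, dif_neg hQ]; simp
    refine ⟨⟨a, ha⟩, ?_⟩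
    funext P
    rw [← hb P]
    change BQ.mk P.1 (D₁ P.1) (D₂ P.1) ⟨a P.1, _⟩ = BQ.mk P.1 (D₁ P.1) (D₂ P.1) (b P)
    congr 1
    apply Subtype.ext
    change a P.1 = b P
    simp only [a, dif_pos P.2]
  have hker : ∀ a : AD D₂, f a = 0 ↔ (a : Place k K → K) ∈ AD D₁ := by
    intro a
    constructor
    · intro h0 Q
      by_cases hQ : Q ∈ T
      · have := congrFun h0 ⟨Q, hQ⟩
        change BQ.mk Q (D₁ Q) (D₂ Q) ⟨a.1 Q, _⟩ = 0 at this
        rw [BQ.mk_eq_zero_iff] at this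
        exact this
      · rw [hout Q hQ]; exact a.2 Q
    · intro ha
      funext P
      change BQ.mk P.1 (D₁ P.1) (D₂ P.1) ⟨a.1 P.1, _⟩ = 0
      rw [BQ.mk_eq_zero_iff]
      exact ha P.1
  have hcomp : ∀ P : T, Module.Finite k (BQ P.1 (D₁ P.1) (D₂ P.1)) ∧
      (Module.finrank k (BQ P.1 (D₁ P.1) (D₂ P.1)) : ℤ) = (D₂ P.1 - D₁ P.1) * P.1.deg :=
    fun P => BQ.finite hK P.1 (h P.1)
  haveI : ∀ P : T, Module.Finite k (BQ P.1 (D₁ P.1) (D₂ P.1)) := fun P => (hcomp P).1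
  refine ⟨relFin_of_surj _ _ f hfs hker, ?_⟩
  rw [relfr_eq_of_surj _ _ f hfs hker, Module.finrank_pi_fintype k, ← deg_sub]
  rw [deg_eq_sum (D₂ - D₁) T (le_refl _), ← Finset.sum_coe_sort T]
  push_cast
  apply Finset.sum_congr rfl
  intro P _
  rw [(hcomp P).2]
  rfl

end AD

section LSpaces

theorem L_zero_eq (hK : FunFld.IsFunctionField k K) : L (0 : Divisor k K) = 1 := by
  ext x
  rw [mem_L, Submodule.mem_one]
  constructor
  · intro hx
    by_contra hcon
    have hxt : Transcendental k x := (ff_transcendental_iff hK).mpr hcon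
    obtain ⟨P, hP⟩ := exists_pole hK x hxt
    have := hx P
    simp only [Finsupp.coe_zero, Pi.zero_apply, exp_zero] at this
    exact absurd hP (not_lt.mpr this)
  · rintro ⟨c, rfl⟩ P
    simp only [Finsupp.coe_zero, Pi.zero_apply, exp_zero]
    exact P.2.1 c

theorem relfr_L (hK : FunFld.IsFunctionField k K) {D₁ D₂ : Divisor k K} (h : D₁ ≤ D₂) :
    RelFin (L D₁) (L D₂) ∧ (relfr (L D₁) (L D₂) : ℤ) ≤ D₂.deg - D₁.deg := by
  obtain ⟨h1, h2⟩ := relfr_AD hK h
  obtain ⟨h3, h4⟩ := relfr_le_of_inj (diag k K) (L D₁) (L D₂) (AD D₁) (AD D₂)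
    (fun b hb P => hb P) (fun b _ => Iff.rfl) h1
  refine ⟨h3, ?_⟩
  rw [← h2]
  exact_mod_cast h4

theorem L_zero_finite (hK : FunFld.IsFunctionField k K) :
    Module.Finite k (L (0 : Divisor k K)) ∧ Module.finrank k (L (0 : Divisor k K)) = 1 := by
  rw [L_zero_eq hK]
  have e : (1 : Submodule k K) = k ∙ (1 : K) := Submodule.one_eq_span
  rw [e]
  exact ⟨inferInstance, finrank_span_singleton one_ne_zero⟩

theorem L_finite_of_nonneg (hK : FunFld.IsFunctionField k K) {D : Divisor k K} (h : 0 ≤ D) :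
    Module.Finite k (L D) ∧ (ell D : ℤ) ≤ D.deg + 1 := by
  obtain ⟨h1, h2⟩ := relfr_L hK h
  haveI := (L_zero_finite hK).1
  obtain ⟨h3, h4⟩ := finrank_eq_add_relfr (L_mono h) h1
  refine ⟨h3, ?_⟩
  unfold ell
  rw [h4, (L_zero_finite hK).2, deg_zero] at *
  push_cast
  omega

theorem L_finite (hK : FunFld.IsFunctionField k K) (D : Divisor k K) : Module.Finite k (L D) := by
  haveI := (L_finite_of_nonneg hK (le_sup_right : (0 : Divisor k K) ≤ D ⊔ 0)).1
  exact Module.Finite.of_injective (Submodule.inclusion (L_mono (le_sup_left : D ≤ D ⊔ 0)))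
    (Submodule.inclusion_injective _)

theorem ell_sub_le (hK : FunFld.IsFunctionField k K) {D₁ D₂ : Divisor k K} (h : D₁ ≤ D₂) :
    (ell D₂ : ℤ) - ell D₁ ≤ D₂.deg - D₁.deg := by
  obtain ⟨h1, h2⟩ := relfr_L hK h
  haveI := L_finite hK D₁
  obtain ⟨-, h4⟩ := finrank_eq_add_relfr (L_mono h) h1
  unfold ell
  rw [h4]
  push_cast
  omega

theorem ell_mono (hK : FunFld.IsFunctionField k K) {D₁ D₂ : Divisor k K} (h : D₁ ≤ D₂) :
    ell D₁ ≤ ell D₂ := by
  haveI := L_finite hK D₂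
  exact Submodule.finrank_mono (L_mono h)

/-- Multiplication by `z ≠ 0` identifies `L(D + (z))` with `L(D)`. -/
theorem mul_mem_L_iff (hK : FunFld.IsFunctionField k K) (D : Divisor k K) {z : K} (hz : z ≠ 0)
    (y : K) : z * y ∈ L D ↔ y ∈ L (D + FunFld.div k z) := by
  by_cases hy : y = 0
  · subst hy
    simp
  constructor
  · intro h P
    have h1 := h P
    rw [Finsupp.add_apply, div_apply hK, pl_val_le_exp_iff P hy]
    rw [pl_val_le_exp_iff P (mul_ne_zero hz hy), pl_ord_mul P hz hy] at h1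
    omega
  · intro h P
    have h1 := h P
    rw [Finsupp.add_apply, div_apply hK, pl_val_le_exp_iff P hy] at h1
    rw [pl_val_le_exp_iff P (mul_ne_zero hz hy), pl_ord_mul P hz hy]
    omega

theorem div_inv (hK : FunFld.IsFunctionField k K) (z : K) :
    FunFld.div k z⁻¹ = -FunFld.div k z := by
  ext P
  rw [Finsupp.neg_apply, div_apply hK, div_apply hK, pl_ord_inv]

theorem div_mul (hK : FunFld.IsFunctionField k K) {x y : K} (hx : x ≠ 0) (hy : y ≠ 0) :
    FunFld.div k (x * y) = FunFld.div k x + FunFld.div k y := by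
  ext P
  rw [Finsupp.add_apply, div_apply hK, div_apply hK, div_apply hK, pl_ord_mul P hx hy]

theorem div_const (hK : FunFld.IsFunctionField k K) (c : k) :
    FunFld.div k (algebraMap k K c) = 0 := by
  ext P
  rw [div_apply hK, pl_ord_const]; rfl

/-- `L(D + (z)) ≃ L(D)`, `y ↦ z y`. -/
noncomputable def LmulEquiv (hK : FunFld.IsFunctionField k K) (D : Divisor k K) {z : K}
    (hz : z ≠ 0) : L (D + FunFld.div k z) ≃ₗ[k] L D where
  toFun y := ⟨z * y.1, (mul_mem_L_iff hK D hz y.1).mpr y.2⟩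
  map_add' a b := by
    apply Subtype.ext
    simp [mul_add]
  map_smul' c a := by
    apply Subtype.ext
    simp
  invFun y := ⟨z⁻¹ * y.1, (mul_mem_L_iff hK D hz _).mp (by
    rw [← mul_assoc, mul_inv_cancel₀ hz, one_mul]; exact y.2)⟩
  left_inv y := by
    apply Subtype.ext
    simp [hz]
  right_inv y := by
    apply Subtype.ext
    simp [hz]

theorem ell_add_div (hK : FunFld.IsFunctionField k K) (D : Divisor k K) {z : K} (hz : z ≠ 0) :
    ell (D + FunFld.div k z) = ell D :=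
  (LmulEquiv hK D hz).finrank_eq

theorem exists_ne_zero_of_ell_pos (D : Divisor k K) (h : 0 < ell D) :
    ∃ z : K, z ≠ 0 ∧ z ∈ L D := by
  by_contra hcon
  have hbot : L D = ⊥ := by
    rw [Submodule.eq_bot_iff]
    intro z hz
    by_contra h0
    exact hcon ⟨z, h0, hz⟩
  unfold ell at h
  rw [hbot, finrank_bot] at h
  exact lt_irrefl _ h

theorem nonneg_of_mem_L (hK : FunFld.IsFunctionField k K) (D : Divisor k K) {z : K} (hz : z ≠ 0)
    (h : z ∈ L D) : 0 ≤ D + FunFld.div k z := by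
  intro P
  have h1 := h P
  rw [pl_val_le_exp_iff P hz] at h1
  rw [Finsupp.add_apply, div_apply hK]
  simp only [Finsupp.coe_zero, Pi.zero_apply]
  omega

end LSpaces

end Groth.Agent.H55
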