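import Groth.Agent.H55.FFAut

/-!
Affine coordinate rings inside a function field: for a finite generating tuple `r` containing `1`,
the ring `k[r]` has finite codimension in the ring of functions regular at all places where the
`r i` are regular.
-/

namespace Groth.Agent.H55

open FunFld WithZero IntermediateField Polynomial

variable {k K : Type*} [Field k] [Field K] [Algebra k K]

section RelAux

variable {V : Type*} [AddCommGroup V] [Module k V]

theorem le_sup_of_relfr_le {As X Y : Submodule k V} (hXY : X ≤ Y) (hfin : RelFin As Y)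
    (h : relfr As Y ≤ relfr As X) : Y ≤ As ⊔ X := by
  have hA'Y : As ⊓ Y ≤ Y := inf_le_right
  have hfin' : RelFin (As ⊓ Y) Y := (relfr_inf_left As Y).2.mpr hfin
  have hM1 : As ⊓ Y ≤ (As ⊓ Y) ⊔ X := le_sup_left
  have hM2 : (As ⊓ Y) ⊔ X ≤ Y := sup_le hA'Y hXY
  obtain ⟨h1, h2, h3⟩ := relfr_add' hM1 hM2 hfin'
  have e1 : relfr (As ⊓ Y) Y = relfr As Y := (relfr_inf_left As Y).1
  have e2 : relfr (As ⊓ Y) ((As ⊓ Y) ⊔ X) = relfr (As ⊓ Y) X := by
    rw [sup_comm]
    exact (relfr_sup_right (le_refl (As ⊓ Y))).1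
  have e3 : relfr (As ⊓ Y) X = relfr As X := by
    have hc : (As ⊓ Y).comap X.subtype = As.comap X.subtype := by
      ext b
      simp only [Submodule.mem_comap, Submodule.subtype_apply, Submodule.mem_inf, hXY b.2,
        and_true]
    unfold relfr RelQ
    rw [hc]
  have h0 : relfr ((As ⊓ Y) ⊔ X) Y = 0 := by omega
  have h4 := le_of_relfr_eq_zero h2 h0
  exact h4.trans (sup_le_sup_right inf_le_left X)

end RelAux

section Generic

variable {ι : Type*} [Fintype ι]

/-- The subspace of coefficient vectors `c` with `Q (∑ c j • r j) < M`. -/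
def genSub (r : ι → K) (Q : Place k K) (M : WithZero (Multiplicative ℤ)) (hM : 0 < M) :
    Submodule k (ι → k) where
  carrier := {c | Q.1 (∑ j, c j • r j) < M}
  zero_mem' := by simp [hM]
  add_mem' := by
    intro a b ha hb
    simp only [Set.mem_setOf_eq, Pi.add_apply, add_smul, Finset.sum_add_distrib] at ha hb ⊢
    exact Q.1.map_add_lt ha hb
  smul_mem' := by
    intro a c hc
    simp only [Set.mem_setOf_eq, Pi.smul_apply, smul_eq_mul, mul_smul] at hc ⊢
    rw [← Finset.smul_sum]
    exact (pl_val_smul_le Q a _).trans_lt hc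

/-- A generic linear combination of the `r i` has, at each place of a given finite set, the
largest value among the `r i`. -/
theorem exists_generic [Infinite k] (r : ι → K) (j₀ : ι) (hj₀ : r j₀ ≠ 0)
    (S : Finset (Place k K)) :
    ∃ c : ι → k, ∀ Q ∈ S, ∀ i, Q.1 (r i) ≤ Q.1 (∑ j, c j • r j) := by
  classical
  have hne : (Finset.univ : Finset ι).Nonempty := ⟨j₀, Finset.mem_univ _⟩
  let M : Place k K → WithZero (Multiplicative ℤ) :=
    fun Q => Finset.univ.sup' hne (fun i => Q.1 (r i))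
  have hM : ∀ Q, 0 < M Q := fun Q =>
    lt_of_lt_of_le (zero_lt_iff.mpr ((Valuation.ne_zero_iff _).mpr hj₀))
      (Finset.le_sup' (fun i => Q.1 (r i)) (Finset.mem_univ j₀))
  let H : Place k K → Submodule k (ι → k) := fun Q => genSub r Q (M Q) (hM Q)
  have htop : (⊤ : Submodule k (ι → k)) ∉ S.image H := by
    intro hmem
    obtain ⟨Q, -, hQ⟩ := Finset.mem_image.mp hmem
    obtain ⟨i₀, -, hi₀⟩ := Finset.exists_mem_eq_sup' hne (fun i => Q.1 (r i))
    have h1 : (Pi.single i₀ 1 : ι → k) ∈ H Q := by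
      rw [hQ]
      exact Submodule.mem_top
    have h2 : ∑ j, (Pi.single i₀ (1 : k) : ι → k) j • r j = r i₀ := by
      simp [Pi.single_apply, ite_smul]
    have h3 : Q.1 (∑ j, (Pi.single i₀ (1 : k) : ι → k) j • r j) < M Q := h1
    rw [h2] at h3
    exact absurd h3 (not_lt.mpr (le_of_eq hi₀))
  have hne' := Subspace.biUnion_ne_univ_of_top_notMem htop
  obtain ⟨c, hc⟩ : ∃ c : ι → k, c ∉ ⋃ p ∈ S.image H, (p : Set (ι → k)) := by
    by_contra hcon
    push_neg at hcon
    exact hne' (Set.eq_univ_of_forall hcon)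
  refine ⟨c, fun Q hQ i => ?_⟩
  have hcQ : ¬ Q.1 (∑ j, c j • r j) < M Q := fun hmem =>
    hc (Set.mem_iUnion₂.mpr ⟨H Q, Finset.mem_image_of_mem H hQ, hmem⟩)
  exact (Finset.le_sup' (fun i => Q.1 (r i)) (Finset.mem_univ i)).trans (not_lt.mp hcQ)

end Generic

section Coord

variable {ι : Type*} [Fintype ι]

variable (k) in
/-- The affine coordinate ring `k[r]`. -/
abbrev Acoord (r : ι → K) : Subalgebra k K := Algebra.adjoin k (Set.range r)

/-- The place `Q` is finite for the tuple `r`: all `r i` are regular at `Q`. -/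
def IsFin (r : ι → K) (Q : Place k K) : Prop := ∀ i, Q.1 (r i) ≤ 1

theorem Acoord_val_le (r : ι → K) (Q : Place k K) (hQ : IsFin r Q) {a : K}
    (ha : a ∈ Acoord k r) : Q.1 a ≤ 1 := by
  induction ha using Algebra.adjoin_induction with
  | mem x hx =>
    obtain ⟨i, rfl⟩ := hx
    exact hQ i
  | algebraMap c => exact Q.2.1 c
  | add x y _ _ hx hy => exact Q.1.map_add_le hx hy
  | mul x y _ _ hx hy =>
    rw [map_mul]
    exact mul_le_one' hx hy

/-- Functions regular at all finite places of `r`. -/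
def Bcoord (r : ι → K) : Submodule k K where
  carrier := {z | ∀ Q : Place k K, IsFin r Q → Q.1 z ≤ 1}
  add_mem' := fun ha hb Q hQ => Q.1.map_add_le (ha Q hQ) (hb Q hQ)
  zero_mem' := fun Q _ => by simp
  smul_mem' := fun c z hz Q hQ => (pl_val_smul_le Q c z).trans (hz Q hQ)

theorem mem_Bcoord (r : ι → K) (z : K) :
    z ∈ Bcoord (k := k) r ↔ ∀ Q : Place k K, IsFin r Q → Q.1 z ≤ 1 := Iff.rfl

theorem Acoord_le_Bcoord (r : ι → K) : Subalgebra.toSubmodule (Acoord k r) ≤ Bcoord r :=
  fun _ ha Q hQ => Acoord_val_le r Q hQ ha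

theorem infinite_places_finite (hK : FunFld.IsFunctionField k K) (r : ι → K) :
    {Q : Place k K | ¬ IsFin r Q}.Finite := by
  refine (Set.finite_iUnion fun i => poles_finite hK (r i)).subset ?_
  intro Q hQ
  simp only [IsFin, not_forall, not_le, Set.mem_setOf_eq] at hQ
  obtain ⟨i, hi⟩ := hQ
  exact Set.mem_iUnion.mpr ⟨i, hi⟩

theorem L_nsmul_mono {E : Divisor k K} (hE : 0 ≤ E) {m m' : ℕ} (h : m ≤ m') :
    L (m • E) ≤ L (m' • E) :=
  L_mono (nsmul_le_nsmul_left hE h)

theorem mul_mem_L_add {D₁ D₂ : Divisor k K} {a b : K} (ha : a ∈ L D₁) (hb : b ∈ L D₂) :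
    a * b ∈ L (D₁ + D₂) := by
  intro Q
  rw [map_mul, Finsupp.add_apply, exp_add]
  exact mul_le_mul' (ha Q) (hb Q)

theorem one_mem_L_zero : (1 : K) ∈ L (0 : Divisor k K) := by
  intro Q
  simp

theorem pow_mem_L_nsmul {E : Divisor k K} {x : K} (hx : x ∈ L E) (i : ℕ) :
    x ^ i ∈ L (i • E) := by
  induction i with
  | zero =>
    rw [pow_zero, zero_smul]
    exact one_mem_L_zero
  | succ i ih =>
    rw [pow_succ, succ_nsmul]
    exact mul_mem_L_add ih hx

/-- **Finiteness**: `k[r]` has finite codimension in the ring of functions regular at all finite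
places, when `r` generates `K` and contains `1`. -/
theorem finite_codim [Infinite k] (hK : FunFld.IsFunctionField k K) (r : ι → K) (j₀ : ι)
    (hj₀ : r j₀ = 1) (hgen : IntermediateField.adjoin k (Set.range r) = ⊤) :
    ∃ U : Submodule k K, Module.Finite k U ∧ U ≤ Bcoord r ∧
      Bcoord r ≤ Subalgebra.toSubmodule (Acoord k r) ⊔ U := by
  classical
  -- Step 1: a generic linear combination
  have hSinf_mem : ∀ Q, Q ∈ (infinite_places_finite hK r).toFinset ↔ ¬ IsFin r Q := fun Q => by
    rw [Set.Finite.mem_toFinset]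
    rfl
  obtain ⟨c, hc⟩ := exists_generic r j₀ (by rw [hj₀]; exact one_ne_zero)
    (infinite_places_finite hK r).toFinset
  obtain ⟨x, hx⟩ : ∃ x : K, x = ∑ j, c j • r j := ⟨_, rfl⟩
  rw [← hx] at hc
  have hxA : x ∈ Acoord k r := by
    rw [hx]
    exact Subalgebra.sum_mem _ fun j _ =>
      Subalgebra.smul_mem _ (Algebra.subset_adjoin (Set.mem_range_self j)) _
  have hx_fin : ∀ Q : Place k K, IsFin r Q → Q.1 x ≤ 1 := fun Q hQ => Acoord_val_le r Q hQ hxA
  have hx_inf : ∀ Q : Place k K, ¬ IsFin r Q → 1 < Q.1 x := by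
    intro Q hQ
    have hQ' := hQ
    simp only [IsFin, not_forall, not_le] at hQ'
    obtain ⟨i, hi⟩ := hQ'
    exact hi.trans_le (hc Q ((hSinf_mem Q).mpr hQ) i)
  have hex : ∃ Q : Place k K, ¬ IsFin r Q := by
    by_contra hcon
    push_neg at hcon
    obtain ⟨y, hyt, -⟩ := hK.1
    have hle : IntermediateField.adjoin k (Set.range r) ≤ ⊥ := by
      rw [IntermediateField.adjoin_le_iff]
      rintro _ ⟨i, rfl⟩
      have h1 : r i ∈ L (0 : Divisor k K) := fun Q => by simpa using hcon Q i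
      rw [L_zero_eq hK, Submodule.mem_one] at h1
      obtain ⟨c', hc'⟩ := h1
      exact IntermediateField.mem_bot.mpr ⟨c', hc'⟩
    have h2 : y ∈ (⊥ : IntermediateField k K) := hle (hgen ▸ IntermediateField.mem_top)
    obtain ⟨c', rfl⟩ := IntermediateField.mem_bot.mp h2
    exact hyt (isAlgebraic_algebraMap c')
  obtain ⟨Q₁, hQ₁⟩ := hex
  have hxk : x ∉ Set.range (algebraMap k K) := by
    rintro ⟨c', hc'⟩
    have h1 := hx_inf Q₁ hQ₁
    rw [← hc'] at h1
    exact absurd (Q₁.2.1 c') (not_le.mpr h1)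
  have hxt : Transcendental k x := (ff_transcendental_iff hK).mpr hxk
  have hx0 : x ≠ 0 := by
    rintro h0
    exact hxt (h0 ▸ isAlgebraic_zero)
  haveI := ff_finite hK hxt
  obtain ⟨E, hE⟩ : ∃ E : Divisor k K, E = poleDiv k x := ⟨_, rfl⟩
  have hE0 : 0 ≤ E := hE ▸ poleDiv_nonneg x
  have hE_fin : ∀ Q : Place k K, IsFin r Q → E Q = 0 := by
    intro Q hQ
    rw [hE, poleDiv_apply hK]
    have := (pl_val_le_one_iff Q hx0).mp (hx_fin Q hQ)
    exact max_eq_right (by omega)
  have hE_inf : ∀ Q : Place k K, ¬ IsFin r Q → Q.1 x = exp (E Q) ∧ 1 ≤ E Q := by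
    intro Q hQ
    have h1 := (pl_one_lt_val_iff Q x).mp (hx_inf Q hQ)
    have h2 : E Q = -(Q.ord x) := by
      rw [hE, poleDiv_apply hK]
      exact max_eq_left (by omega)
    refine ⟨?_, by omega⟩
    rw [h2]
    exact pl_val_eq_exp_neg_ord Q hx0
  have hrE : ∀ i, r i ∈ L E := by
    intro i Q
    by_cases hQ : IsFin r Q
    · rw [hE_fin Q hQ, exp_zero]
      exact hQ i
    · rw [← (hE_inf Q hQ).1]
      exact hc Q ((hSinf_mem Q).mpr hQ) i
  have hxE : x ∈ L E := hE ▸ mem_L_poleDiv hK x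
  have hdegE : E.deg = Module.finrank k⟮x⟯ K := hE ▸ deg_poleDiv hK x hxt
  -- Step 2: elements of `k[r]` lie in some `L(mE)`
  have hA_L : ∀ a ∈ Acoord k r, ∃ m : ℕ, a ∈ L (m • E) := by
    intro a ha
    induction ha using Algebra.adjoin_induction with
    | mem y hy =>
      obtain ⟨i, rfl⟩ := hy
      exact ⟨1, by rw [one_smul]; exact hrE i⟩
    | algebraMap c' =>
      refine ⟨0, ?_⟩
      rw [zero_smul]
      intro Q
      simpa using Q.2.1 c'
    | add y z _ _ hy hz =>
      obtain ⟨m₁, h₁⟩ := hy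
      obtain ⟨m₂, h₂⟩ := hz
      exact ⟨max m₁ m₂, Submodule.add_mem _ (L_nsmul_mono hE0 (le_max_left _ _) h₁)
        (L_nsmul_mono hE0 (le_max_right _ _) h₂)⟩
    | mul y z _ _ hy hz =>
      obtain ⟨m₁, h₁⟩ := hy
      obtain ⟨m₂, h₂⟩ := hz
      exact ⟨m₁ + m₂, by rw [add_smul]; exact mul_mem_L_add h₁ h₂⟩
  -- Step 3: regular functions are the union of the `L(mE)`
  have hL_B : ∀ m : ℕ, L (m • E) ≤ Bcoord r := by
    intro m z hz Q hQ
    have h1 := hz Q
    rw [Finsupp.smul_apply, hE_fin Q hQ, smul_zero, exp_zero] at h1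
    exact h1
  have hB_L : ∀ z ∈ Bcoord (k := k) r, ∃ m : ℕ, z ∈ L (m • E) := by
    intro z hz
    by_cases hz0 : z = 0
    · exact ⟨0, by rw [hz0]; exact Submodule.zero_mem _⟩
    obtain ⟨m, hm⟩ : ∃ m : ℕ, m = (infinite_places_finite hK r).toFinset.sup
        (fun Q => (-(Q.ord z)).toNat) := ⟨_, rfl⟩
    refine ⟨m, fun Q => ?_⟩
    by_cases hQ : IsFin r Q
    · rw [Finsupp.smul_apply, hE_fin Q hQ, smul_zero, exp_zero]
      exact hz Q hQ
    · rw [pl_val_le_exp_iff Q hz0, Finsupp.smul_apply, nsmul_eq_mul]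
      have h1 : (-(Q.ord z)).toNat ≤ m := by
        rw [hm]
        exact Finset.le_sup (f := fun Q : Place k K => (-(Q.ord z)).toNat)
          ((hSinf_mem Q).mpr hQ)
      have h2 := (hE_inf Q hQ).2
      have h3 := Int.self_le_toNat (-(Q.ord z))
      have h4 : ((-(Q.ord z)).toNat : ℤ) ≤ (m : ℤ) := by exact_mod_cast h1
      have h5 : (0 : ℤ) ≤ (m : ℤ) * (E Q - 1) :=
        mul_nonneg (Nat.cast_nonneg m) (by omega)
      nlinarith
  -- Step 4: a basis of `K` over `k(x)` inside `k[r]`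
  have hspan : Submodule.span k⟮x⟯ ((Acoord k r : Subalgebra k K) : Set K) = ⊤ := by
    haveI : Algebra.IsAlgebraic k⟮x⟯ K := Algebra.IsAlgebraic.of_finite _ _
    have hS_top : ∀ w : K, w ∈ Algebra.adjoin k⟮x⟯ (Set.range r) := by
      intro w
      have hw : w ∈ IntermediateField.adjoin k (Set.range r) := by
        rw [hgen]
        exact IntermediateField.mem_top
      induction hw using IntermediateField.adjoin_induction with
      | mem y hy => exact Algebra.subset_adjoin hy
      | algebraMap c' =>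
        rw [IsScalarTower.algebraMap_apply k k⟮x⟯ K]
        exact Subalgebra.algebraMap_mem _ _
      | add y z _ _ hy hz => exact Subalgebra.add_mem _ hy hz
      | inv y _ hy =>
        exact (Algebra.adjoin k⟮x⟯ (Set.range r)).inv_mem_of_algebraic (x := ⟨y, hy⟩)
          (Algebra.IsAlgebraic.isAlgebraic y)
      | mul y z _ _ hy hz => exact Subalgebra.mul_mem _ hy hz
    rw [eq_top_iff]
    intro w _
    have h1 : w ∈ Subalgebra.toSubmodule (Algebra.adjoin k⟮x⟯ (Set.range r)) := hS_top w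
    rw [Algebra.adjoin_eq_span] at h1
    refine Submodule.span_mono ?_ h1
    intro y hy
    have h2 : Submonoid.closure (Set.range r) ≤ (Acoord k r).toSubmonoid :=
      Submonoid.closure_le.mpr (fun w hw => Algebra.subset_adjoin hw)
    exact h2 hy
  obtain ⟨b, hbA, hbspan, hbli⟩ :=
    exists_linearIndependent k⟮x⟯ ((Acoord k r : Subalgebra k K) : Set K)
  have hbtop : ⊤ ≤ Submodule.span k⟮x⟯ (Set.range ((↑) : b → K)) := by
    rw [Subtype.range_coe, hbspan, hspan]
  let bs : Module.Basis b k⟮x⟯ K := Module.Basis.mk hbli hbtop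
  haveI : Finite b := Module.Finite.finite_basis bs
  haveI : Fintype b := Fintype.ofFinite b
  have hN : Module.finrank k⟮x⟯ K = Fintype.card b := Module.finrank_eq_card_basis bs
  -- Step 5: a uniform bound for the basis
  choose mb hmb using fun y : b => hA_L y.1 (hbA y.2)
  obtain ⟨s, hs⟩ : ∃ s : ℕ, s = Finset.univ.sup mb := ⟨_, rfl⟩
  have hbs : ∀ y : b, (y : K) ∈ L (s • E) := fun y =>
    L_nsmul_mono hE0 (hs ▸ Finset.le_sup (Finset.mem_univ y)) (hmb y)
  -- Step 6: lower bound for `L((l+s)E) ∩ k[r]`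
  have hlow : ∀ l : ℕ, Fintype.card b * (l + 1) ≤
      Module.finrank k ↥(L ((l + s) • E) ⊓ Subalgebra.toSubmodule (Acoord k r)) := by
    intro l
    let Φ' : (b → degreeLT k (l + 1)) →ₗ[k] K :=
      ∑ y : b, (LinearMap.mulRight k (y : K)) ∘ₗ
        (aeval x : k[X] →ₐ[k] K).toLinearMap ∘ₗ (degreeLT k (l + 1)).subtype ∘ₗ
          (LinearMap.proj y)
    have hΦ' : ∀ p, Φ' p = ∑ y : b, aeval x (p y : k[X]) * (y : K) := by
      intro p
      simp only [Φ', LinearMap.sum_apply]
      rfl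
    have hterm : ∀ (q : degreeLT k (l + 1)) (y : b), aeval x (q : k[X]) * (y : K) ∈
        L ((l + s) • E) ⊓ Subalgebra.toSubmodule (Acoord k r) := by
      intro q y
      have hq : (q : k[X]).natDegree < l + 1 := by
        by_cases hq0 : (q : k[X]) = 0
        · rw [hq0]; simp
        · exact (natDegree_lt_iff_degree_lt hq0).mpr (mem_degreeLT.mp q.2)
      rw [aeval_eq_sum_range' hq, Finset.sum_mul]
      refine Submodule.sum_mem _ (fun i hi => ?_)
      have hil : i ≤ l := Nat.lt_succ_iff.mp (Finset.mem_range.mp hi)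
      rw [smul_mul_assoc]
      refine Submodule.smul_mem _ _ ⟨?_, ?_⟩
      · have h1 := mul_mem_L_add (pow_mem_L_nsmul hxE i) (hbs y)
        rw [← add_smul] at h1
        exact L_nsmul_mono hE0 (by omega) h1
      · exact Subalgebra.mul_mem _ (Subalgebra.pow_mem _ hxA i) (hbA y.2)
    have hmem : ∀ p, Φ' p ∈ L ((l + s) • E) ⊓ Subalgebra.toSubmodule (Acoord k r) := by
      intro p
      rw [hΦ']
      exact Submodule.sum_mem _ (fun y _ => hterm (p y) y)
    let Φ : (b → degreeLT k (l + 1)) →ₗ[k]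
        ↥(L ((l + s) • E) ⊓ Subalgebra.toSubmodule (Acoord k r)) :=
      Φ'.codRestrict _ hmem
    have hinj : Function.Injective Φ := by
      rw [← LinearMap.ker_eq_bot, LinearMap.ker_codRestrict, LinearMap.ker_eq_bot,
        injective_iff_map_eq_zero]
      intro p hp
      rw [hΦ'] at hp
      have hmemx : ∀ y : b, aeval x (p y : k[X]) ∈ k⟮x⟯ := fun y =>
        algebra_adjoin_le_adjoin k {x} (aeval_mem_adjoin_singleton k x)
      have hsum : ∑ y : b, (⟨aeval x (p y : k[X]), hmemx y⟩ : k⟮x⟯) • (y : K) = 0 := by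
        rw [← hp]
        exact Finset.sum_congr rfl (fun y _ => rfl)
      have hc' := Fintype.linearIndependent_iff.mp hbli _ hsum
      funext y
      have h4 : aeval x (p y : k[X]) = 0 := congrArg Subtype.val (hc' y)
      have h5 := (transcendental_iff.mp hxt) _ h4
      exact Subtype.ext h5
    haveI := L_finite hK ((l + s) • E)
    have hle := LinearMap.finrank_le_finrank_of_injective hinj
    have hdim : Module.finrank k (b → degreeLT k (l + 1)) = Fintype.card b * (l + 1) := by
      rw [Module.finrank_pi_fintype]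
      simp only [Finset.sum_const, Finset.card_univ, smul_eq_mul]
      rw [(degreeLTEquiv k (l + 1)).finrank_eq, Module.finrank_fin_fun]
    rw [hdim] at hle
    exact hle
  -- Step 7/8: the codimension is bounded
  have hbound : ∀ l : ℕ, relfr (Subalgebra.toSubmodule (Acoord k r)) (L ((l + s) • E)) ≤
      Fintype.card b * s + 1 := by
    intro l
    haveI := L_finite hK ((l + s) • E)
    have hle : L ((l + s) • E) ⊓ Subalgebra.toSubmodule (Acoord k r) ≤ L ((l + s) • E) :=
      inf_le_left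
    have hfin : RelFin (L ((l + s) • E) ⊓ Subalgebra.toSubmodule (Acoord k r))
        (L ((l + s) • E)) :=
      (inferInstance : Module.Finite k (RelQ _ _))
    obtain ⟨-, h1⟩ := finrank_eq_add_relfr hle hfin
    have h2 := (L_finite_of_nonneg hK (smul_nonneg (Nat.zero_le (l + s)) hE0)).2
    rw [deg_nsmul, hdegE, hN] at h2
    have h3 := hlow l
    have h4 : relfr (L ((l + s) • E) ⊓ Subalgebra.toSubmodule (Acoord k r)) (L ((l + s) • E)) =
        relfr (Subalgebra.toSubmodule (Acoord k r)) (L ((l + s) • E)) := by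
      rw [inf_comm]
      exact (relfr_inf_left _ _).1
    unfold ell at h2
    rw [← h4]
    zify at h1 h3 ⊢
    push_cast at h2
    nlinarith
  -- Step 9: stabilisation
  have hbdd : BddAbove (Set.range fun l : ℕ =>
      relfr (Subalgebra.toSubmodule (Acoord k r)) (L ((l + s) • E))) :=
    ⟨Fintype.card b * s + 1, by rintro _ ⟨l, rfl⟩; exact hbound l⟩
  obtain ⟨l₀, hl₀⟩ := Nat.sSup_mem (Set.range_nonempty _) hbdd
  have hmax : ∀ l : ℕ, relfr (Subalgebra.toSubmodule (Acoord k r)) (L ((l + s) • E)) ≤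
      relfr (Subalgebra.toSubmodule (Acoord k r)) (L ((l₀ + s) • E)) := fun l => by
    have h1 : relfr (Subalgebra.toSubmodule (Acoord k r)) (L ((l₀ + s) • E)) = sSup _ := hl₀
    rw [h1]
    exact le_csSup hbdd ⟨l, rfl⟩
  refine ⟨L ((l₀ + s) • E), L_finite hK _, hL_B _, ?_⟩
  intro z hz
  obtain ⟨m, hm⟩ := hB_L z hz
  have hzl : z ∈ L ((max m l₀ + s) • E) := L_nsmul_mono hE0 (by omega) hm
  haveI := L_finite hK ((max m l₀ + s) • E)
  have hfin : RelFin (Subalgebra.toSubmodule (Acoord k r)) (L ((max m l₀ + s) • E)) :=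
    (inferInstance : Module.Finite k (RelQ _ _))
  exact le_sup_of_relfr_le (L_nsmul_mono hE0 (by omega)) hfin (hmax _) hzl

end Coord

end Groth.Agent.H55
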