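import Groth.Agent.H55.FFBasic
import Mathlib

/-!
Basic API for places of a function field (`FunFld.Place`), and the weak approximation theorem.
-/

set_option autoImplicit false

namespace Groth.Agent.H55

open FunFld WithZero

variable {k K : Type*} [Field k] [Field K] [Algebra k K]

section ZM0

theorem zm0_lt_one_iff (a : WithZero (Multiplicative ℤ)) : a < 1 ↔ a ≤ exp (-1 : ℤ) := by
  by_cases ha : a = 0
  · subst ha; simp
  · rw [← exp_log ha, ← exp_zero, exp_lt_exp, exp_le_exp]; omega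

theorem zm0_one_lt_iff (a : WithZero (Multiplicative ℤ)) : 1 < a ↔ exp (1 : ℤ) ≤ a := by
  by_cases ha : a = 0
  · subst ha; simp
  · rw [← exp_log ha, ← exp_zero, exp_lt_exp, exp_le_exp]; omega

theorem zm0_lt_exp_iff (a : WithZero (Multiplicative ℤ)) (n : ℤ) : a < exp n ↔ a ≤ exp (n - 1) := by
  by_cases ha : a = 0
  · subst ha; simp
  · rw [← exp_log ha, exp_lt_exp, exp_le_exp]; omega

end ZM0

section Basic

variable (P : Place k K)

theorem pl_val_const {c : k} (hc : c ≠ 0) : P.1 (algebraMap k K c) = 1 := by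
  apply le_antisymm (P.2.1 c)
  have h1 := P.2.1 c⁻¹
  rw [map_inv₀, map_inv₀] at h1
  have hne : P.1 (algebraMap k K c) ≠ 0 := by
    rw [Valuation.ne_zero_iff]; exact (map_ne_zero _).mpr hc
  exact (inv_le_one₀ (zero_lt_iff.mpr hne)).mp h1

theorem pl_val_smul {c : k} (hc : c ≠ 0) (x : K) : P.1 (c • x) = P.1 x := by
  rw [Algebra.smul_def, map_mul, pl_val_const P hc, one_mul]

theorem pl_val_smul_le (c : k) (x : K) : P.1 (c • x) ≤ P.1 x := by
  rw [Algebra.smul_def, map_mul]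
  exact (mul_le_mul' (P.2.1 c) le_rfl).trans_eq (one_mul _)

theorem pl_exists_val_eq_exp (n : ℤ) : ∃ y : K, y ≠ 0 ∧ P.1 y = exp n := by
  obtain ⟨y, hy⟩ := P.2.2 (exp n)
  refine ⟨y, ?_, hy⟩
  rintro rfl
  simp at hy
  exact absurd hy.symm exp_ne_zero

theorem pl_val_eq_exp_neg_ord {x : K} (hx : x ≠ 0) : P.1 x = exp (-(P.ord x)) := by
  unfold Place.ord
  rw [neg_neg, exp_log]
  exact (P.1.ne_zero_iff).mpr hx

theorem pl_ord_eq_of_val_eq {x : K} {n : ℤ} (h : P.1 x = exp n) : P.ord x = -n := by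
  unfold Place.ord; rw [h, log_exp]

theorem pl_ord_zero : P.ord (0 : K) = 0 := by
  unfold Place.ord; simp

theorem pl_ord_one : P.ord (1 : K) = 0 := by
  unfold Place.ord; simp

theorem pl_ord_mul {x y : K} (hx : x ≠ 0) (hy : y ≠ 0) : P.ord (x * y) = P.ord x + P.ord y := by
  unfold Place.ord
  rw [map_mul, log_mul ((P.1.ne_zero_iff).mpr hx) ((P.1.ne_zero_iff).mpr hy)]; ring

theorem pl_ord_inv (x : K) : P.ord x⁻¹ = -P.ord x := by
  unfold Place.ord
  rw [map_inv₀, log_inv]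

theorem pl_ord_div {x y : K} (hx : x ≠ 0) (hy : y ≠ 0) : P.ord (x / y) = P.ord x - P.ord y := by
  rw [div_eq_mul_inv, pl_ord_mul P hx (inv_ne_zero hy), pl_ord_inv]; ring

theorem pl_ord_pow (x : K) (n : ℕ) : P.ord (x ^ n) = n * P.ord x := by
  unfold Place.ord
  rw [map_pow, log_pow]; simp

theorem pl_ord_const (c : k) : P.ord (algebraMap k K c) = 0 := by
  by_cases hc : c = 0
  · subst hc; simp [pl_ord_zero]
  · unfold Place.ord; rw [pl_val_const P hc]; simp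

theorem pl_val_le_exp_iff {x : K} (hx : x ≠ 0) (n : ℤ) : P.1 x ≤ exp n ↔ -n ≤ P.ord x := by
  rw [pl_val_eq_exp_neg_ord P hx, exp_le_exp]; omega

theorem pl_val_lt_exp_iff {x : K} (hx : x ≠ 0) (n : ℤ) : P.1 x < exp n ↔ -n < P.ord x := by
  rw [pl_val_eq_exp_neg_ord P hx, exp_lt_exp]; omega

theorem pl_val_le_one_iff {x : K} (hx : x ≠ 0) : P.1 x ≤ 1 ↔ 0 ≤ P.ord x := by
  have := pl_val_le_exp_iff P hx 0
  simpa using this

theorem pl_val_lt_one_iff {x : K} (hx : x ≠ 0) : P.1 x < 1 ↔ 0 < P.ord x := by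
  have := pl_val_lt_exp_iff P hx 0
  simpa using this

theorem pl_one_lt_val_iff (x : K) : 1 < P.1 x ↔ P.ord x < 0 := by
  by_cases hx : x = 0
  · subst hx; simp [pl_ord_zero]
  · rw [pl_val_eq_exp_neg_ord P hx, ← exp_zero, exp_lt_exp]; omega

theorem pl_val_eq_one_iff {x : K} (hx : x ≠ 0) : P.1 x = 1 ↔ P.ord x = 0 := by
  rw [pl_val_eq_exp_neg_ord P hx, ← exp_zero, exp_inj]; omega

theorem pl_ord_ne_zero_iff (x : K) : P.ord x ≠ 0 ↔ (x ≠ 0 ∧ P.1 x ≠ 1) := by
  by_cases hx : x = 0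
  · subst hx; simp [pl_ord_zero]
  · rw [Ne, ← pl_val_eq_one_iff P hx]; simp [hx]

end Basic

section Ext

theorem pl_ext {P Q : Place k K} (h : ∀ x, P.1 x = Q.1 x) : P = Q :=
  Subtype.ext (Valuation.ext h)

/-- A place is determined by its valuation ring; even an inclusion of valuation rings forces
equality. -/
theorem pl_eq_of_le {P Q : Place k K} (h : ∀ x, P.1 x ≤ 1 → Q.1 x ≤ 1) : P = Q := by
  obtain ⟨t, ht0, ht⟩ := pl_exists_val_eq_exp P (-1)
  -- units of `P` are units of `Q`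
  have hunit : ∀ u : K, P.1 u = 1 → Q.1 u = 1 := by
    intro u hu
    have hu0 : u ≠ 0 := by
      rintro rfl; simp at hu
    apply le_antisymm (h u hu.le)
    have h2 : Q.1 u⁻¹ ≤ 1 := h _ (by rw [map_inv₀, hu, inv_one])
    rw [map_inv₀] at h2
    have hne : Q.1 u ≠ 0 := (Q.1.ne_zero_iff).mpr hu0
    exact (inv_le_one₀ (zero_lt_iff.mpr hne)).mp h2
  -- every nonzero x is t^n * unit
  have hform : ∀ x : K, x ≠ 0 → Q.1 x = (Q.1 t) ^ (P.ord x) := by
    intro x hx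
    have hu : P.1 (x * (t ^ (P.ord x))⁻¹) = 1 := by
      rw [map_mul, map_inv₀, map_zpow₀, ht, pl_val_eq_exp_neg_ord P hx, ← exp_zsmul, ← exp_neg,
        ← exp_add, ← exp_zero, exp_inj]
      simp
    have := hunit _ hu
    rw [map_mul, map_inv₀, map_zpow₀] at this
    have hne : (Q.1 t) ^ (P.ord x) ≠ 0 := zpow_ne_zero _ ((Q.1.ne_zero_iff).mpr ht0)
    field_simp at this
    exact this
  have hQt0 : Q.1 t ≠ 0 := (Q.1.ne_zero_iff).mpr ht0
  have hQt : Q.1 t ≤ 1 := h t (by rw [ht, ← exp_zero, exp_le_exp]; omega)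
  set m : ℤ := Q.ord t with hm
  have hQtm : Q.1 t = exp (-m) := pl_val_eq_exp_neg_ord Q ht0
  have hm0 : 0 ≤ m := (pl_val_le_one_iff Q ht0).mp hQt
  obtain ⟨s, hs0, hs⟩ := pl_exists_val_eq_exp Q (-1)
  have h3 := hform s hs0
  rw [hs, hQtm, ← exp_zsmul, exp_inj] at h3
  have hm1 : m = 1 := by
    have h4 : P.ord s * m = 1 := by
      have : P.ord s • (-m) = -(P.ord s * m) := by simp
      rw [this] at h3; omega
    rcases Int.eq_one_or_neg_one_of_mul_eq_one' h4 with ⟨_, h5⟩ | ⟨_, h5⟩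
    · exact h5
    · omega
  apply pl_ext
  intro x
  by_cases hx : x = 0
  · subst hx; simp
  · rw [hform x hx, hQtm, hm1, pl_val_eq_exp_neg_ord P hx, ← exp_zsmul]
    simp

theorem pl_exists_sep {P Q : Place k K} (h : P ≠ Q) : ∃ z : K, P.1 z < 1 ∧ 1 < Q.1 z := by
  have h1 : ¬ ∀ x, P.1 x ≤ 1 → Q.1 x ≤ 1 := fun hh => h (pl_eq_of_le hh)
  have h2 : ¬ ∀ x, Q.1 x ≤ 1 → P.1 x ≤ 1 := fun hh => h (pl_eq_of_le hh).symm
  simp only [not_forall, not_le] at h1 h2
  obtain ⟨y₁, hy₁P, hy₁Q⟩ := h1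
  obtain ⟨y₂, hy₂Q, hy₂P⟩ := h2
  have hy₂0 : y₂ ≠ 0 := by
    rintro rfl; simp at hy₂P
  have hP0 : P.1 y₂ ≠ 0 := (P.1.ne_zero_iff).mpr hy₂0
  have hQ0 : Q.1 y₂ ≠ 0 := (Q.1.ne_zero_iff).mpr hy₂0
  refine ⟨y₁ / y₂, ?_, ?_⟩
  · rw [map_div₀, div_lt_one₀ (zero_lt_iff.mpr hP0)]
    exact lt_of_le_of_lt hy₁P hy₂P
  · rw [map_div₀, one_lt_div₀ (zero_lt_iff.mpr hQ0)]
    exact lt_of_le_of_lt hy₂Q hy₁Q

end Ext

section WeakApprox

theorem wa_step1 (P₀ : Place k K) (S : Finset (Place k K)) (hS : P₀ ∉ S) :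
    ∃ u : K, P₀.1 u < 1 ∧ ∀ Q ∈ S, 1 < Q.1 u := by
  classical
  induction S using Finset.induction_on with
  | empty => exact ⟨0, by simp, by simp⟩
  | insert Q S hQS ih =>
    have hP₀S : P₀ ∉ S := fun h => hS (Finset.mem_insert_of_mem h)
    have hne : P₀ ≠ Q := fun h => hS (h ▸ Finset.mem_insert_self _ _)
    obtain ⟨y, hy0, hyS⟩ := ih hP₀S
    by_cases hQy : 1 < Q.1 y
    · refine ⟨y, hy0, fun Q' hQ' => ?_⟩
      rcases Finset.mem_insert.mp hQ' with rfl | h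
      · exact hQy
      · exact hyS Q' h
    · rw [not_lt] at hQy
      obtain ⟨z, hz0, hzQ⟩ := pl_exists_sep hne
      set N : ℕ := S.sup (fun Q' => (log (Q'.1 y)).toNat) with hN
      set r : ℕ := N + 1 with hr
      have hr0 : r ≠ 0 := by omega
      have hbad : ∀ Q' ∈ S, (Q'.1 z) ^ r ≠ Q'.1 y := by
        intro Q' hQ' heq
        have hw : 1 < Q'.1 y := hyS Q' hQ'
        have hw0 : Q'.1 y ≠ 0 := by
          intro h0; rw [h0] at hw; simp at hw
        have hq0 : Q'.1 z ≠ 0 := by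
          intro h0; rw [h0, zero_pow hr0] at heq; exact hw0 heq.symm
        have hlogw : 0 < log (Q'.1 y) := by
          rw [lt_log_iff_exp_lt hw0, exp_zero]; exact hw
        have hlog : log (Q'.1 y) = r * log (Q'.1 z) := by
          rw [← heq, log_pow]; simp
        have hle : (log (Q'.1 y)).toNat ≤ N := Finset.le_sup (f := fun Q' => (log (Q'.1 y)).toNat) hQ'
        have hpos : 0 < log (Q'.1 z) := by
          by_contra hcon
          rw [not_lt] at hcon
          have : (r : ℤ) * log (Q'.1 z) ≤ 0 := mul_nonpos_of_nonneg_of_nonpos (by positivity) hcon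
          omega
        have : (r : ℤ) ≤ r * log (Q'.1 z) := by nlinarith
        omega
      refine ⟨y + z ^ r, ?_, ?_⟩
      · refine lt_of_le_of_lt (P₀.1.map_add _ _) (max_lt hy0 ?_)
        rw [map_pow]
        exact pow_lt_one₀ zero_le' hz0 hr0
      · intro Q' hQ'
        rcases Finset.mem_insert.mp hQ' with rfl | h
        · have hlt : Q'.1 y < Q'.1 (z ^ r) := by
            rw [map_pow]
            exact lt_of_le_of_lt hQy (one_lt_pow₀ hzQ hr0)
          rw [Valuation.map_add_eq_of_lt_right _ hlt, map_pow]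
          exact one_lt_pow₀ hzQ hr0
        · have hne' : Q'.1 y ≠ Q'.1 (z ^ r) := by
            rw [map_pow]; exact fun e => hbad Q' h e.symm
          rw [Valuation.map_add_of_distinct_val _ hne']
          exact lt_of_lt_of_le (hyS Q' h) (le_max_left _ _)

theorem wa_step2 (P₀ : Place k K) (S : Finset (Place k K)) (hS : P₀ ∉ S) (N : ℕ) :
    ∃ w : K, P₀.1 (w - 1) ≤ exp (-(N : ℤ)) ∧ ∀ Q ∈ S, Q.1 w ≤ exp (-(N : ℤ)) := by
  obtain ⟨u, hu0, huS⟩ := wa_step1 P₀ S hS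
  set s : ℕ := N + 1 with hs
  have hs0 : s ≠ 0 := by omega
  have hle : exp (-(s : ℤ)) ≤ (exp (-(N : ℤ)) : WithZero (Multiplicative ℤ)) := by
    rw [exp_le_exp]; omega
  have hP : P₀.1 (u ^ s) < 1 := by
    rw [map_pow]; exact pow_lt_one₀ zero_le' hu0 hs0
  have h1 : P₀.1 (1 + u ^ s) = 1 := Valuation.map_one_add_of_lt _ hP
  have hne : (1 + u ^ s : K) ≠ 0 := by
    intro h0; rw [h0] at h1; simp at h1
  refine ⟨(1 + u ^ s)⁻¹, ?_, ?_⟩
  · have : (1 + u ^ s)⁻¹ - 1 = -(u ^ s) * (1 + u ^ s)⁻¹ := by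
      field_simp; ring
    rw [this, map_mul, Valuation.map_neg, map_inv₀, h1, inv_one, mul_one, map_pow]
    refine le_trans ?_ hle
    have : P₀.1 u ≤ exp (-1 : ℤ) := (zm0_lt_one_iff _).mp hu0
    calc P₀.1 u ^ s ≤ (exp (-1 : ℤ)) ^ s := pow_le_pow_left₀ zero_le' this s
      _ = exp (-(s : ℤ)) := by rw [← exp_nsmul]; simp
  · intro Q hQ
    have hQu : exp (1 : ℤ) ≤ Q.1 u := (zm0_one_lt_iff _).mp (huS Q hQ)
    have hQs : exp (s : ℤ) ≤ Q.1 (u ^ s) := by
      rw [map_pow]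
      calc exp (s : ℤ) = (exp (1 : ℤ)) ^ s := by rw [← exp_nsmul]; simp
        _ ≤ Q.1 u ^ s := pow_le_pow_left₀ zero_le' hQu s
    have h1lt : Q.1 (1 : K) < Q.1 (u ^ s) := by
      rw [map_one]
      refine lt_of_lt_of_le ?_ hQs
      rw [← exp_zero, exp_lt_exp]; omega
    rw [map_inv₀, Valuation.map_add_eq_of_lt_right _ h1lt]
    refine le_trans ?_ hle
    rw [exp_neg]
    exact inv_anti₀ exp_pos hQs

theorem wa_step3 (S : Finset (Place k K)) (x : Place k K → K) (N : ℕ) :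
    ∃ z : K, ∀ P ∈ S, P.1 (z - x P) ≤ exp (-(N : ℤ)) := by
  classical
  set M : ℕ := (S ×ˢ S).sup (fun pq => (log (pq.1.1 (x pq.2))).toNat) with hM
  have hMle : ∀ P ∈ S, ∀ Q ∈ S, P.1 (x Q) ≤ exp (M : ℤ) := by
    intro P hP Q hQ
    apply le_exp_of_log_le
    have : (log (P.1 (x Q))).toNat ≤ M :=
      Finset.le_sup (f := fun pq : Place k K × Place k K => (log (pq.1.1 (x pq.2))).toNat)
        (Finset.mk_mem_product hP hQ)
    omega
  have hw : ∀ P : Place k K, ∃ w : K, P.1 (w - 1) ≤ exp (-((N + M : ℕ) : ℤ)) ∧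
      ∀ Q ∈ S.erase P, Q.1 w ≤ exp (-((N + M : ℕ) : ℤ)) :=
    fun P => wa_step2 P (S.erase P) (Finset.notMem_erase P S) (N + M)
  choose w hw1 hw2 using hw
  have hmul : (exp (M : ℤ) * exp (-((N + M : ℕ) : ℤ)) : WithZero (Multiplicative ℤ))
      = exp (-(N : ℤ)) := by
    rw [← exp_add, exp_inj]; push_cast; ring
  refine ⟨∑ Q ∈ S, x Q * w Q, fun P hP => ?_⟩
  have hsplit : ∑ Q ∈ S, x Q * w Q - x P = ∑ Q ∈ S.erase P, x Q * w Q + x P * (w P - 1) := by
    rw [← Finset.add_sum_erase S _ hP]; ring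
  rw [hsplit]
  refine le_trans (P.1.map_add _ _) (max_le ?_ ?_)
  · apply Valuation.map_sum_le
    intro Q hQ
    have hQS : Q ∈ S := Finset.mem_of_mem_erase hQ
    have hPQ : P ∈ S.erase Q := Finset.mem_erase.mpr ⟨(Finset.ne_of_mem_erase hQ).symm, hP⟩
    rw [map_mul, ← hmul]
    exact mul_le_mul' (hMle P hP Q hQS) (hw2 Q P hPQ)
  · rw [map_mul, ← hmul]
    exact mul_le_mul' (hMle P hP P hP) (hw1 P)

/-- **Weak approximation theorem** for places of a function field. -/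
theorem weak_approx (S : Finset (Place k K)) (x : Place k K → K) (m : Place k K → ℤ) :
    ∃ y : K, ∀ P ∈ S, P.1 (y - x P) = exp (m P) := by
  classical
  set N : ℕ := S.sup (fun P => (1 - m P).toNat) with hN
  have hNlt : ∀ P ∈ S, (exp (-(N : ℤ)) : WithZero (Multiplicative ℤ)) < exp (m P) := by
    intro P hP
    have : (1 - m P).toNat ≤ N := Finset.le_sup (f := fun P => (1 - m P).toNat) hP
    rw [exp_lt_exp]; omega
  obtain ⟨z, hz⟩ := wa_step3 S x N
  have ht : ∀ P : Place k K, ∃ t : K, P.1 t = exp (m P) :=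
    fun P => (pl_exists_val_eq_exp P (m P)).imp fun _ h => h.2
  choose t ht using ht
  obtain ⟨z', hz'⟩ := wa_step3 S t N
  refine ⟨z + z', fun P hP => ?_⟩
  have h1 : P.1 z' = exp (m P) := by
    have : z' = (z' - t P) + t P := by ring
    rw [this, Valuation.map_add_eq_of_lt_right, ht]
    rw [ht]; exact lt_of_le_of_lt (hz' P hP) (hNlt P hP)
  have : z + z' - x P = (z - x P) + z' := by ring
  rw [this, Valuation.map_add_eq_of_lt_right, h1]
  rw [h1]; exact lt_of_le_of_lt (hz P hP) (hNlt P hP)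

/-- Weak approximation, `≤` form with the approximating element controlled at all `P ∈ S`. -/
theorem weak_approx_le (S : Finset (Place k K)) (x : Place k K → K) (m : Place k K → ℤ) :
    ∃ y : K, ∀ P ∈ S, P.1 (y - x P) ≤ exp (m P) := by
  obtain ⟨y, hy⟩ := weak_approx S x m
  exact ⟨y, fun P hP => (hy P hP).le⟩

end WeakApprox

end Groth.Agent.H55
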