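import Groth.Agent.H55.FFSing2

/-!
The genus bound for a plane model: `2 g ≤ (d - 1)(d - 2)`.
-/

namespace Groth.Agent.H55

open FunFld WithZero IntermediateField

variable {k K : Type*} [Field k] [Field K] [Algebra k K]

theorem linearIndependent_pow_of_transcendental {t : K} (ht : Transcendental k t) :
    LinearIndependent k (fun a : ℕ => t ^ a) := by
  have h1 : LinearIndependent k (fun a : ℕ => Polynomial.monomial a (1 : k)) := by
    have := (Polynomial.basisMonomials k).linearIndependent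
    rwa [Polynomial.coe_basisMonomials] at this
  have h2 := h1.map' (Polynomial.aeval t).toLinearMap
    (LinearMap.ker_eq_bot.mpr (transcendental_iff_injective.mp ht))
  have e : ((Polynomial.aeval t).toLinearMap ∘ fun a : ℕ => Polynomial.monomial a (1 : k)) =
      fun a : ℕ => t ^ a := by
    funext a
    simp [Polynomial.aeval_monomial]
  rwa [e] at h2

theorem sum_range_add_succ (e d : ℕ) :
    2 * ∑ b ∈ Finset.range d, (e + b + 1) = d * (2 * e + d + 1) := by
  induction d with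
  | zero => simp
  | succ d ih =>
    rw [Finset.sum_range_succ, mul_add, ih]
    ring

/-- Counting monomials `t^a s^b` with `a + b ≤ m`, `b ≤ d'` inside `L(mD)`. -/
theorem plane_count (hK : FunFld.IsFunctionField k K) (D : Divisor k K) (hD : 0 ≤ D) (t s : K)
    (ht : t ∈ L D) (hs : s ∈ L D) (htr : Transcendental k t) (d' : ℕ)
    (hd : LinearIndependent k⟮t⟯ (fun b : Fin (d' + 1) => s ^ (b : ℕ))) (e : ℕ) :
    (d' + 1) * (2 * e + d' + 2) ≤ 2 * ell ((d' + e) • D) := by
  classical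
  haveI := L_finite hK ((d' + e) • D)
  have hgen : LinearIndependent k
      (fun a : ℕ => (⟨t, mem_adjoin_simple_self k t⟩ : k⟮t⟯) ^ a) := by
    have h1 := linearIndependent_pow_of_transcendental (k := k) htr
    refine LinearIndependent.of_comp (k⟮t⟯.val.toLinearMap) ?_
    have e1 : (k⟮t⟯.val.toLinearMap ∘
        fun a : ℕ => (⟨t, mem_adjoin_simple_self k t⟩ : k⟮t⟯) ^ a) = fun a : ℕ => t ^ a := by
      funext a
      simp
    rw [e1]
    exact h1
  have hprod := linearIndependent_smul hgen hd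
  let g : (Σ b' : Fin (d' + 1), Fin (e + (b' : ℕ) + 1)) → ℕ × Fin (d' + 1) :=
    fun p => ((p.2 : ℕ), Fin.rev p.1)
  have hg : Function.Injective g := by
    rintro ⟨b₁, a₁⟩ ⟨b₂, a₂⟩ h
    simp only [g, Prod.mk.injEq] at h
    obtain ⟨h1, h2⟩ := h
    have hb : b₁ = b₂ := Fin.rev_injective h2
    subst hb
    have ha : a₁ = a₂ := Fin.ext h1
    subst ha
    rfl
  have hcomp := hprod.comp g hg
  have hmem : ∀ p : (Σ b' : Fin (d' + 1), Fin (e + (b' : ℕ) + 1)),
      t ^ (p.2 : ℕ) * s ^ ((Fin.rev p.1 : Fin (d' + 1)) : ℕ) ∈ L ((d' + e) • D) := by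
    intro p
    have h1 := mul_mem_L_add (pow_mem_L_nsmul ht (p.2 : ℕ))
      (pow_mem_L_nsmul hs ((Fin.rev p.1 : Fin (d' + 1)) : ℕ))
    rw [← add_smul] at h1
    refine L_nsmul_mono hD ?_ h1
    have h2 : ((Fin.rev p.1 : Fin (d' + 1)) : ℕ) = d' - (p.1 : ℕ) := by
      rw [Fin.val_rev]
      omega
    have h3 := p.2.2
    have h4 := p.1.2
    omega
  have hfam : LinearIndependent k (fun p : (Σ b' : Fin (d' + 1), Fin (e + (b' : ℕ) + 1)) =>
      (⟨t ^ (p.2 : ℕ) * s ^ ((Fin.rev p.1 : Fin (d' + 1)) : ℕ), hmem p⟩ :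
        L ((d' + e) • D))) := by
    refine LinearIndependent.of_comp (L ((d' + e) • D)).subtype ?_
    have e2 : ((L ((d' + e) • D)).subtype ∘
        fun p : (Σ b' : Fin (d' + 1), Fin (e + (b' : ℕ) + 1)) =>
          (⟨t ^ (p.2 : ℕ) * s ^ ((Fin.rev p.1 : Fin (d' + 1)) : ℕ), hmem p⟩ :
            L ((d' + e) • D))) =
        (fun p : ℕ × Fin (d' + 1) =>
          (⟨t, mem_adjoin_simple_self k t⟩ : k⟮t⟯) ^ p.1 • s ^ (p.2 : ℕ)) ∘ g := by
      funext p
      rfl
    rw [e2]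
    exact hcomp
  have hcard := hfam.fintype_card_le_finrank
  rw [Fintype.card_sigma] at hcard
  simp only [Fintype.card_fin] at hcard
  rw [Fin.sum_univ_eq_sum_range (fun b => e + b + 1) (d' + 1)] at hcard
  have hsum : 2 * ∑ b ∈ Finset.range (d' + 1), (e + b + 1) = (d' + 1) * (2 * e + d' + 2) := by
    rw [sum_range_add_succ e (d' + 1)]
    ring
  calc (d' + 1) * (2 * e + d' + 2) = 2 * ∑ b ∈ Finset.range (d' + 1), (e + b + 1) := hsum.symm
    _ ≤ 2 * ell ((d' + e) • D) := Nat.mul_le_mul_left 2 hcard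

/-- Values of a tuple containing `1` against its divisor. -/
theorem val_mapDiv_of_one (hK : FunFld.IsFunctionField k K) {ι : Type*} [Fintype ι] [Nonempty ι]
    (φ : ι → K) (i₀ : ι) (h1 : φ i₀ = 1) (Q : Place k K) :
    (∀ i, Q.1 (φ i) ≤ exp (mapDiv k φ Q)) ∧ ∃ i, Q.1 (φ i) = exp (mapDiv k φ Q) := by
  rw [mapDiv_apply hK]
  constructor
  · intro i
    by_cases hi : φ i = 0
    · rw [hi, map_zero]
      exact zero_le'
    · rw [pl_val_eq_exp_neg_ord Q hi, exp_le_exp, neg_le_neg_iff]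
      exact Finset.inf'_le _ (Finset.mem_univ i)
  · obtain ⟨j, -, hj⟩ := Finset.exists_mem_eq_inf' Finset.univ_nonempty (fun i => Q.ord (φ i))
    by_cases hj0 : φ j = 0
    · refine ⟨i₀, ?_⟩
      rw [hj, hj0, pl_ord_zero, neg_zero, exp_zero, h1, map_one]
    · exact ⟨j, by rw [hj, pl_val_eq_exp_neg_ord Q hj0]⟩

/-- The genus bound for a plane model. -/
theorem two_genus_le_plane [IsAlgClosed k] (hK : FunFld.IsFunctionField k K) (x y : K)
    (hxy : IntermediateField.adjoin k ({x, y} : Set K) = ⊤) :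
    2 * (genus k K : ℤ) ≤ ((mapDiv k ![(1 : K), x, y]).deg - 1) *
      ((mapDiv k ![(1 : K), x, y]).deg - 2) := by
  classical
  obtain ⟨φ, hφ⟩ : ∃ φ : Fin 3 → K, φ = ![(1 : K), x, y] := ⟨_, rfl⟩
  rw [← hφ]
  have hφ0 : φ 0 = 1 := by rw [hφ]; rfl
  have hφ1 : φ 1 = x := by rw [hφ]; rfl
  have hφ2 : φ 2 = y := by rw [hφ]; rfl
  obtain ⟨D, hD⟩ : ∃ D : Divisor k K, D = mapDiv k φ := ⟨_, rfl⟩
  rw [← hD]
  have hval : ∀ Q : Place k K,
      (∀ i, Q.1 (φ i) ≤ exp (D Q)) ∧ ∃ i, Q.1 (φ i) = exp (D Q) := by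
    intro Q
    rw [hD]
    exact val_mapDiv_of_one hK φ 0 hφ0 Q
  have hD0 : 0 ≤ D := by
    intro Q
    have h1 := (hval Q).1 0
    rw [hφ0, map_one] at h1
    have h2 : (exp (0 : ℤ) : WithZero (Multiplicative ℤ)) ≤ exp (D Q) := by
      rw [exp_zero]
      exact h1
    exact exp_le_exp.mp h2
  have hgenK : IntermediateField.adjoin k (Set.range φ) = ⊤ := by
    rw [eq_top_iff, ← hxy, IntermediateField.adjoin_le_iff]
    rintro z hz
    rcases hz with rfl | rfl
    · exact IntermediateField.subset_adjoin _ _ ⟨1, hφ1⟩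
    · exact IntermediateField.subset_adjoin _ _ ⟨2, hφ2⟩
  obtain ⟨Q₀, hQ₀⟩ := exists_not_isFin hK φ hgenK
  obtain ⟨c, hc⟩ := exists_generic φ 0 (by rw [hφ0]; exact one_ne_zero) (insert Q₀ D.support)
  obtain ⟨t, ht⟩ : ∃ t : K, t = ∑ j, c j • φ j := ⟨_, rfl⟩
  rw [← ht] at hc
  have hφL : ∀ i, φ i ∈ L D := fun i Q => (hval Q).1 i
  have htL : t ∈ L D := by
    rw [ht]
    exact Submodule.sum_mem _ (fun j _ => Submodule.smul_mem _ _ (hφL j))
  have htQ : ∀ Q ∈ insert Q₀ D.support, Q.1 t = exp (D Q) := by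
    intro Q hQ
    obtain ⟨i, hi⟩ := (hval Q).2
    exact le_antisymm (htL Q) (hi.symm.le.trans (hc Q hQ i))
  have htr : Transcendental k t := by
    rw [ff_transcendental_iff hK]
    rintro ⟨a, ha⟩
    apply hQ₀
    intro i
    have h1 := hc Q₀ (Finset.mem_insert_self _ _) i
    rw [← ha] at h1
    exact h1.trans (Q₀.2.1 a)
  have ht0 : t ≠ 0 := fun h => htr (by rw [h]; exact isAlgebraic_zero)
  have hpole : poleDiv k t = D := by
    ext Q
    rw [poleDiv_apply hK]
    by_cases hQ : Q ∈ D.support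
    · have h1 := htQ Q (Finset.mem_insert_of_mem hQ)
      have h2 : Q.ord t = -(D Q) := pl_ord_eq_of_val_eq Q h1
      have h3 : 0 ≤ D Q := hD0 Q
      rw [h2, neg_neg, max_eq_left h3]
    · have h0 : D Q = 0 := Finsupp.notMem_support_iff.mp hQ
      have h1 := htL Q
      rw [pl_val_le_exp_iff Q ht0, h0] at h1
      rw [h0, max_eq_right (by omega)]
  have hdeg : D.deg = (Module.finrank k⟮t⟯ K : ℤ) := by
    rw [← hpole]
    exact deg_poleDiv hK t htr
  have ht3 : t = c 0 • φ 0 + c 1 • φ 1 + c 2 • φ 2 := by rw [ht, Fin.sum_univ_three]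
  rw [hφ0, hφ1, hφ2] at ht3
  have key : ∀ s : K, x ∈ (k⟮t⟯⟮s⟯).restrictScalars k → y ∈ (k⟮t⟯⟮s⟯).restrictScalars k →
      k⟮t⟯⟮s⟯ = ⊤ := by
    intro s hx hy
    rw [← IntermediateField.restrictScalars_eq_top_iff (K := k), eq_top_iff, ← hxy,
      IntermediateField.adjoin_le_iff]
    rintro z hz
    rcases hz with rfl | rfl
    · exact hx
    · exact hy
  have htE : ∀ s : K, t ∈ (k⟮t⟯⟮s⟯).restrictScalars k := fun s =>
    (k⟮t⟯⟮s⟯).algebraMap_mem ⟨t, mem_adjoin_simple_self k t⟩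
  have hsE : ∀ s : K, s ∈ (k⟮t⟯⟮s⟯).restrictScalars k := fun s =>
    mem_adjoin_simple_self k⟮t⟯ s
  have hs : ∃ s ∈ L D, k⟮t⟯⟮s⟯ = ⊤ := by
    by_cases hc1 : c 1 = 0
    · by_cases hc2 : c 2 = 0
      · exfalso
        rw [hc1, hc2, zero_smul, zero_smul, add_zero, add_zero] at ht3
        apply (ff_transcendental_iff hK).mp htr
        exact ⟨c 0, by rw [ht3, Algebra.smul_def, mul_one]⟩
      · refine ⟨x, hφ1 ▸ hφL 1, key x (hsE x) ?_⟩
        have hy_eq : y = algebraMap k K (c 2)⁻¹ *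
            (t - algebraMap k K (c 0) - algebraMap k K (c 1) * x) := by
          have hne : algebraMap k K (c 2) ≠ 0 := (map_ne_zero _).mpr hc2
          rw [ht3, Algebra.smul_def, Algebra.smul_def, Algebra.smul_def, map_inv₀]
          field_simp
          ring
        rw [hy_eq]
        exact mul_mem (IntermediateField.algebraMap_mem _ _)
          (sub_mem (sub_mem (htE x) (IntermediateField.algebraMap_mem _ _))
            (mul_mem (IntermediateField.algebraMap_mem _ _) (hsE x)))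
    · refine ⟨y, hφ2 ▸ hφL 2, key y ?_ (hsE y)⟩
      have hx_eq : x = algebraMap k K (c 1)⁻¹ *
          (t - algebraMap k K (c 0) - algebraMap k K (c 2) * y) := by
        have hne : algebraMap k K (c 1) ≠ 0 := (map_ne_zero _).mpr hc1
        rw [ht3, Algebra.smul_def, Algebra.smul_def, Algebra.smul_def, map_inv₀]
        field_simp
        ring
      rw [hx_eq]
      exact mul_mem (IntermediateField.algebraMap_mem _ _)
        (sub_mem (sub_mem (htE y) (IntermediateField.algebraMap_mem _ _))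
          (mul_mem (IntermediateField.algebraMap_mem _ _) (hsE y)))
  obtain ⟨s, hsL, hsT⟩ := hs
  haveI := ff_finite hK htr
  have hsint : IsIntegral k⟮t⟯ s := IsIntegral.of_finite k⟮t⟯ s
  have hnat : (minpoly k⟮t⟯ s).natDegree = Module.finrank k⟮t⟯ K := by
    rw [← IntermediateField.adjoin.finrank hsint, hsT, IntermediateField.finrank_top']
  have hli := linearIndependent_pow (K := k⟮t⟯) s
  obtain ⟨d, hd⟩ : ∃ d : ℕ, d = (minpoly k⟮t⟯ s).natDegree := ⟨_, rfl⟩
  rw [← hd] at hli hnat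
  have hd1 : 1 ≤ d := by
    rw [hnat]
    exact Module.finrank_pos
  obtain ⟨d', rfl⟩ := Nat.exists_eq_add_of_le' hd1
  have hcount := plane_count hK D hD0 t s htL hsL htr d' hli (2 * genus k K)
  have hdD : D.deg = (d' : ℤ) + 1 := by
    rw [hdeg, ← hnat]
    push_cast
    ring
  have hg0 : (0 : ℤ) ≤ genus k K := Int.natCast_nonneg _
  have hd0 : (0 : ℤ) ≤ d' := Int.natCast_nonneg _
  have hell := ell_eq_of_deg_ge hK ((d' + 2 * genus k K) • D) (by
    rw [deg_nsmul, hdD]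
    push_cast
    nlinarith [mul_nonneg hd0 hd0, mul_nonneg hg0 hd0])
  rw [deg_nsmul, hdD] at hell
  have h1 : ((d' : ℤ) + 1) * (2 * (2 * (genus k K : ℤ)) + d' + 2) ≤
      2 * (ell ((d' + 2 * genus k K) • D) : ℤ) := by exact_mod_cast hcount
  rw [hell] at h1
  push_cast at h1
  rw [hdD]
  nlinarith [h1]

end Groth.Agent.H55
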