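import Groth.Agent.H55.FFPlane

/-!
Powers of the span of a projective map, the pencil trick, and nonsingularity of extremal plane
models.
-/

namespace Groth.Agent.H55

open FunFld WithZero IntermediateField

variable {k K : Type*} [Field k] [Field K] [Algebra k K]

theorem L_pow_le (D : Divisor k K) (n : ℕ) : (L D) ^ n ≤ L (n • D) := by
  induction n with
  | zero =>
    rw [pow_zero, zero_smul, Submodule.one_le]
    exact one_mem_L_zero
  | succ n ih =>
    rw [pow_succ, succ_nsmul]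
    exact Submodule.mul_le.mpr (fun a ha b hb => mul_mem_L_add (ih ha) hb)

theorem sub_pow_le_L {W : Submodule k K} {D : Divisor k K} (hW : W ≤ L D) (n : ℕ) :
    W ^ n ≤ L (n • D) := by
  induction n with
  | zero =>
    rw [pow_zero, zero_smul, Submodule.one_le]
    exact one_mem_L_zero
  | succ n ih =>
    rw [pow_succ, succ_nsmul]
    exact Submodule.mul_le.mpr (fun a ha b hb => mul_mem_L_add (ih ha) (hW hb))

theorem one_mem_pow {W : Submodule k K} (h1 : (1 : K) ∈ W) (n : ℕ) : (1 : K) ∈ W ^ n := by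
  have := Submodule.pow_mem_pow W h1 n
  rwa [one_pow] at this

theorem pow_le_pow_of_one_mem {W : Submodule k K} (h1 : (1 : K) ∈ W) {m n : ℕ} (h : m ≤ n) :
    W ^ m ≤ W ^ n := by
  obtain ⟨c, rfl⟩ := Nat.exists_eq_add_of_le h
  intro a ha
  rw [pow_add]
  have := Submodule.mul_mem_mul ha (one_mem_pow h1 c)
  rwa [mul_one] at this

/-- Elements of `W^n` divided by `w^n` are polynomials in the ratios. -/
theorem pow_div_mem_Acoord {ι : Type*} (φ : ι → K) (j : ι) (n : ℕ) {f : K}
    (hf : f ∈ Submodule.span k (Set.range φ) ^ n) :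
    f / φ j ^ n ∈ Algebra.adjoin k (Set.range fun i => φ i / φ j) := by
  induction n generalizing f with
  | zero =>
    rw [pow_zero, Submodule.mem_one] at hf
    obtain ⟨c, rfl⟩ := hf
    rw [pow_zero, div_one]
    exact Subalgebra.algebraMap_mem _ c
  | succ n ih =>
    rw [pow_succ] at hf
    refine Submodule.mul_induction_on hf (fun a ha b hb => ?_) (fun u v hu hv => ?_)
    · have hb' : b / φ j ∈ Algebra.adjoin k (Set.range fun i => φ i / φ j) := by
        induction hb using Submodule.span_induction with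
        | mem v hv =>
          obtain ⟨i, rfl⟩ := hv
          exact Algebra.subset_adjoin (Set.mem_range_self (f := fun i => φ i / φ j) i)
        | zero =>
          rw [zero_div]
          exact Subalgebra.zero_mem _
        | add u v _ _ hu hv =>
          rw [add_div]
          exact Subalgebra.add_mem _ hu hv
        | smul c u _ hu =>
          rw [smul_div_assoc]
          exact Subalgebra.smul_mem _ hu c
      have e : a * b / φ j ^ (n + 1) = (a / φ j ^ n) * (b / φ j) := by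
        rw [pow_succ]
        by_cases h0 : φ j = 0
        · simp [h0]
        · field_simp
      rw [e]
      exact Subalgebra.mul_mem _ (ih ha) hb'
    · rw [add_div]
      exact Subalgebra.add_mem _ hu hv

/-- Polynomials in the ratios `ψ i / w` multiplied by a high power of `w` land in `W^N`. -/
theorem mul_pow_mem_pow {ι : Type*} (W : Submodule k K) (ψ : ι → K) (hψ : ∀ i, ψ i ∈ W) (w : K)
    (hw : w ∈ W) (hw0 : w ≠ 0) {a : K}
    (ha : a ∈ Algebra.adjoin k (Set.range fun i => ψ i / w)) :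
    ∃ N₀ : ℕ, ∀ N, N₀ ≤ N → a * w ^ N ∈ W ^ N := by
  induction ha using Algebra.adjoin_induction with
  | mem v hv =>
    obtain ⟨i, rfl⟩ := hv
    refine ⟨1, fun N hN => ?_⟩
    obtain ⟨N', rfl⟩ := Nat.exists_eq_add_of_le' hN
    have e : ψ i / w * w ^ (N' + 1) = w ^ N' * ψ i := by
      rw [pow_succ]
      field_simp
    rw [e, pow_succ]
    exact Submodule.mul_mem_mul (Submodule.pow_mem_pow W hw N') (hψ i)
  | algebraMap c =>
    refine ⟨0, fun N _ => ?_⟩
    rw [← Algebra.smul_def]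
    exact Submodule.smul_mem _ _ (Submodule.pow_mem_pow W hw N)
  | add u v _ _ hu hv =>
    obtain ⟨N₁, h₁⟩ := hu
    obtain ⟨N₂, h₂⟩ := hv
    refine ⟨max N₁ N₂, fun N hN => ?_⟩
    rw [add_mul]
    exact Submodule.add_mem _ (h₁ N (le_trans (le_max_left _ _) hN))
      (h₂ N (le_trans (le_max_right _ _) hN))
  | mul u v _ _ hu hv =>
    obtain ⟨N₁, h₁⟩ := hu
    obtain ⟨N₂, h₂⟩ := hv
    refine ⟨N₁ + N₂, fun N hN => ?_⟩
    obtain ⟨c, rfl⟩ := Nat.exists_eq_add_of_le hN
    have e : u * v * w ^ (N₁ + N₂ + c) = (u * w ^ N₁) * (v * w ^ (N₂ + c)) := by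
      rw [pow_add, pow_add, pow_add]
      ring
    rw [e, add_assoc, pow_add]
    exact Submodule.mul_mem_mul (h₁ N₁ le_rfl) (h₂ (N₂ + c) (Nat.le_add_right _ _))

/-- Counting monomials `t^a s^b` inside `W^n`. -/
theorem plane_count' (hK : FunFld.IsFunctionField k K) (D : Divisor k K) (W : Submodule k K)
    (hWL : W ≤ L D) (h1 : (1 : K) ∈ W) (t s : K)
    (ht : t ∈ W) (hs : s ∈ W) (htr : Transcendental k t) (d' : ℕ)
    (hd : LinearIndependent k⟮t⟯ (fun b : Fin (d' + 1) => s ^ (b : ℕ))) (e : ℕ) :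
    (d' + 1) * (2 * e + d' + 2) ≤ 2 * Module.finrank k ↥(W ^ (d' + e)) := by
  classical
  haveI := L_finite hK ((d' + e) • D)
  haveI : Module.Finite k ↥(W ^ (d' + e)) :=
    Submodule.finiteDimensional_of_le (sub_pow_le_L hWL (d' + e))
  have hgen : LinearIndependent k
      (fun a : ℕ => (⟨t, mem_adjoin_simple_self k t⟩ : k⟮t⟯) ^ a) := by
    have h1 := linearIndependent_pow_of_transcendental (k := k) htr
    refine LinearIndependent.of_comp (k⟮t⟯.val.toLinearMap) ?_
    have e1 : (k⟮t⟯.val.toLinearMap ∘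
        fun a : ℕ => (⟨t, mem_adjoin_simple_self k t⟩ : k⟮t⟯) ^ a) = fun a : ℕ => t ^ a := by
      funext a
      simp
    rw [e1]
    exact h1
  have hprod := linearIndependent_smul hgen hd
  let g : (Σ b' : Fin (d' + 1), Fin (e + (b' : ℕ) + 1)) → ℕ × Fin (d' + 1) :=
    fun p => ((p.2 : ℕ), Fin.rev p.1)
  have hg : Function.Injective g := by
    rintro ⟨b₁, a₁⟩ ⟨b₂, a₂⟩ h
    simp only [g, Prod.mk.injEq] at h
    obtain ⟨h1, h2⟩ := h
    have hb : b₁ = b₂ := Fin.rev_injective h2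
    subst hb
    have ha : a₁ = a₂ := Fin.ext h1
    subst ha
    rfl
  have hcomp := hprod.comp g hg
  have hmem : ∀ p : (Σ b' : Fin (d' + 1), Fin (e + (b' : ℕ) + 1)),
      t ^ (p.2 : ℕ) * s ^ ((Fin.rev p.1 : Fin (d' + 1)) : ℕ) ∈ W ^ (d' + e) := by
    intro p
    have h2 : ((Fin.rev p.1 : Fin (d' + 1)) : ℕ) = d' - (p.1 : ℕ) := by
      rw [Fin.val_rev]
      omega
    have h3 := p.2.2
    have h4 := p.1.2
    have hle : (p.2 : ℕ) + ((Fin.rev p.1 : Fin (d' + 1)) : ℕ) ≤ d' + e := by omega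
    refine pow_le_pow_of_one_mem h1 hle ?_
    rw [pow_add]
    exact Submodule.mul_mem_mul (Submodule.pow_mem_pow W ht _) (Submodule.pow_mem_pow W hs _)
  have hfam : LinearIndependent k (fun p : (Σ b' : Fin (d' + 1), Fin (e + (b' : ℕ) + 1)) =>
      (⟨t ^ (p.2 : ℕ) * s ^ ((Fin.rev p.1 : Fin (d' + 1)) : ℕ), hmem p⟩ :
        ↥(W ^ (d' + e)))) := by
    refine LinearIndependent.of_comp (W ^ (d' + e)).subtype ?_
    have e2 : ((W ^ (d' + e)).subtype ∘
        fun p : (Σ b' : Fin (d' + 1), Fin (e + (b' : ℕ) + 1)) =>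
          (⟨t ^ (p.2 : ℕ) * s ^ ((Fin.rev p.1 : Fin (d' + 1)) : ℕ), hmem p⟩ :
            ↥(W ^ (d' + e)))) =
        (fun p : ℕ × Fin (d' + 1) =>
          (⟨t, mem_adjoin_simple_self k t⟩ : k⟮t⟯) ^ p.1 • s ^ (p.2 : ℕ)) ∘ g := by
      funext p
      rfl
    rw [e2]
    exact hcomp
  have hcard := hfam.fintype_card_le_finrank
  rw [Fintype.card_sigma] at hcard
  simp only [Fintype.card_fin] at hcard
  rw [Fin.sum_univ_eq_sum_range (fun b => e + b + 1) (d' + 1)] at hcard
  have hsum : 2 * ∑ b ∈ Finset.range (d' + 1), (e + b + 1) = (d' + 1) * (2 * e + d' + 2) := by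
    rw [sum_range_add_succ e (d' + 1)]
    ring
  calc (d' + 1) * (2 * e + d' + 2) = 2 * ∑ b ∈ Finset.range (d' + 1), (e + b + 1) := hsum.symm
    _ ≤ 2 * Module.finrank k ↥(W ^ (d' + e)) := Nat.mul_le_mul_left 2 hcard

/-- Generic coordinates for a plane model. -/
theorem plane_setup [IsAlgClosed k] (hK : FunFld.IsFunctionField k K) (x y : K)
    (hxy : IntermediateField.adjoin k ({x, y} : Set K) = ⊤) (φ : Fin 3 → K)
    (hφ : φ = ![(1 : K), x, y]) :
    ∃ (t s : K) (d' : ℕ), t ∈ Submodule.span k (Set.range φ) ∧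
      s ∈ Submodule.span k (Set.range φ) ∧
      x ∈ Submodule.span k ({1, t, s} : Set K) ∧ y ∈ Submodule.span k ({1, t, s} : Set K) ∧
      Transcendental k t ∧ poleDiv k t = mapDiv k φ ∧ (mapDiv k φ).deg = (d' : ℤ) + 1 ∧
      LinearIndependent k⟮t⟯ (fun b : Fin (d' + 1) => s ^ (b : ℕ)) ∧
      Module.finrank k⟮t⟯ K = d' + 1 ∧ k⟮t⟯⟮s⟯ = ⊤ := by
  classical
  have hφ0 : φ 0 = 1 := by rw [hφ]; rfl
  have hφ1 : φ 1 = x := by rw [hφ]; rfl
  have hφ2 : φ 2 = y := by rw [hφ]; rfl
  obtain ⟨D, hD⟩ : ∃ D : Divisor k K, D = mapDiv k φ := ⟨_, rfl⟩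
  rw [← hD]
  have hval : ∀ Q : Place k K,
      (∀ i, Q.1 (φ i) ≤ exp (D Q)) ∧ ∃ i, Q.1 (φ i) = exp (D Q) := by
    intro Q
    rw [hD]
    exact val_mapDiv_of_one hK φ 0 hφ0 Q
  have hD0 : 0 ≤ D := by
    intro Q
    have h1 := (hval Q).1 0
    rw [hφ0, map_one] at h1
    have h2 : (exp (0 : ℤ) : WithZero (Multiplicative ℤ)) ≤ exp (D Q) := by
      rw [exp_zero]
      exact h1
    exact exp_le_exp.mp h2
  have hgenK : IntermediateField.adjoin k (Set.range φ) = ⊤ := by
    rw [eq_top_iff, ← hxy, IntermediateField.adjoin_le_iff]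
    rintro z hz
    rcases hz with rfl | rfl
    · exact IntermediateField.subset_adjoin _ _ ⟨1, hφ1⟩
    · exact IntermediateField.subset_adjoin _ _ ⟨2, hφ2⟩
  obtain ⟨Q₀, hQ₀⟩ := exists_not_isFin hK φ hgenK
  obtain ⟨c, hc⟩ := exists_generic φ 0 (by rw [hφ0]; exact one_ne_zero) (insert Q₀ D.support)
  obtain ⟨t, ht⟩ : ∃ t : K, t = ∑ j, c j • φ j := ⟨_, rfl⟩
  rw [← ht] at hc
  have hφL : ∀ i, φ i ∈ L D := fun i Q => (hval Q).1 i
  have htW : t ∈ Submodule.span k (Set.range φ) := by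
    rw [ht]
    exact Submodule.sum_mem _
      (fun j _ => Submodule.smul_mem _ _ (Submodule.subset_span ⟨j, rfl⟩))
  have htL : t ∈ L D := by
    rw [ht]
    exact Submodule.sum_mem _ (fun j _ => Submodule.smul_mem _ _ (hφL j))
  have htQ : ∀ Q ∈ insert Q₀ D.support, Q.1 t = exp (D Q) := by
    intro Q hQ
    obtain ⟨i, hi⟩ := (hval Q).2
    exact le_antisymm (htL Q) (hi.symm.le.trans (hc Q hQ i))
  have htr : Transcendental k t := by
    rw [ff_transcendental_iff hK]
    rintro ⟨a, ha⟩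
    apply hQ₀
    intro i
    have h1 := hc Q₀ (Finset.mem_insert_self _ _) i
    rw [← ha] at h1
    exact h1.trans (Q₀.2.1 a)
  have ht0 : t ≠ 0 := fun h => htr (by rw [h]; exact isAlgebraic_zero)
  have hpole : poleDiv k t = D := by
    ext Q
    rw [poleDiv_apply hK]
    by_cases hQ : Q ∈ D.support
    · have h1 := htQ Q (Finset.mem_insert_of_mem hQ)
      have h2 : Q.ord t = -(D Q) := pl_ord_eq_of_val_eq Q h1
      have h3 : 0 ≤ D Q := hD0 Q
      rw [h2, neg_neg, max_eq_left h3]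
    · have h0 : D Q = 0 := Finsupp.notMem_support_iff.mp hQ
      have h1 := htL Q
      rw [pl_val_le_exp_iff Q ht0, h0] at h1
      rw [h0, max_eq_right (by omega)]
  have hdeg : D.deg = (Module.finrank k⟮t⟯ K : ℤ) := by
    rw [← hpole]
    exact deg_poleDiv hK t htr
  have ht3 : t = c 0 • φ 0 + c 1 • φ 1 + c 2 • φ 2 := by rw [ht, Fin.sum_univ_three]
  rw [hφ0, hφ1, hφ2] at ht3
  have key : ∀ s : K, x ∈ Submodule.span k ({1, t, s} : Set K) →
      y ∈ Submodule.span k ({1, t, s} : Set K) → k⟮t⟯⟮s⟯ = ⊤ := by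
    intro s hx hy
    have hle : Submodule.span k ({1, t, s} : Set K) ≤
        Subalgebra.toSubmodule ((k⟮t⟯⟮s⟯).restrictScalars k).toSubalgebra := by
      rw [Submodule.span_le]
      rintro z hz
      rcases hz with h | h | h
      · rw [h]
        exact ((k⟮t⟯⟮s⟯).restrictScalars k).one_mem
      · rw [h]
        exact (k⟮t⟯⟮s⟯).algebraMap_mem ⟨t, mem_adjoin_simple_self k t⟩
      · rw [Set.mem_singleton_iff] at h
        rw [h]
        exact mem_adjoin_simple_self k⟮t⟯ s
    rw [← IntermediateField.restrictScalars_eq_top_iff (K := k), eq_top_iff, ← hxy,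
      IntermediateField.adjoin_le_iff]
    rintro z (rfl | rfl)
    · exact hle hx
    · exact hle hy
  have h1m : ∀ s : K, (1 : K) ∈ Submodule.span k ({1, t, s} : Set K) := fun s =>
    Submodule.subset_span (Set.mem_insert _ _)
  have htm : ∀ s : K, t ∈ Submodule.span k ({1, t, s} : Set K) := fun s =>
    Submodule.subset_span (Set.mem_insert_of_mem _ (Set.mem_insert _ _))
  have hsm : ∀ s : K, s ∈ Submodule.span k ({1, t, s} : Set K) := fun s =>
    Submodule.subset_span (Set.mem_insert_of_mem _ (Set.mem_insert_of_mem _ rfl))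
  have hs : ∃ s ∈ Submodule.span k (Set.range φ), x ∈ Submodule.span k ({1, t, s} : Set K) ∧
      y ∈ Submodule.span k ({1, t, s} : Set K) := by
    by_cases hc1 : c 1 = 0
    · by_cases hc2 : c 2 = 0
      · exfalso
        rw [hc1, hc2, zero_smul, zero_smul, add_zero, add_zero] at ht3
        apply (ff_transcendental_iff hK).mp htr
        exact ⟨c 0, by rw [ht3, Algebra.smul_def, mul_one]⟩
      · refine ⟨x, by rw [← hφ1]; exact Submodule.subset_span ⟨1, rfl⟩, hsm x, ?_⟩
        have e1 : c 2 • y = t - c 0 • (1 : K) - c 1 • x := by rw [ht3]; abel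
        have e2 : y = (c 2)⁻¹ • (c 2 • y) := by rw [smul_smul, inv_mul_cancel₀ hc2, one_smul]
        rw [e2, e1]
        exact Submodule.smul_mem _ _ (Submodule.sub_mem _ (Submodule.sub_mem _ (htm x)
          (Submodule.smul_mem _ _ (h1m x))) (Submodule.smul_mem _ _ (hsm x)))
    · refine ⟨y, by rw [← hφ2]; exact Submodule.subset_span ⟨2, rfl⟩, ?_, hsm y⟩
      have e1 : c 1 • x = t - c 0 • (1 : K) - c 2 • y := by rw [ht3]; abel
      have e2 : x = (c 1)⁻¹ • (c 1 • x) := by rw [smul_smul, inv_mul_cancel₀ hc1, one_smul]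
      rw [e2, e1]
      exact Submodule.smul_mem _ _ (Submodule.sub_mem _ (Submodule.sub_mem _ (htm y)
        (Submodule.smul_mem _ _ (h1m y))) (Submodule.smul_mem _ _ (hsm y)))
  obtain ⟨s, hsW, hxs, hys⟩ := hs
  have hsT := key s hxs hys
  haveI := ff_finite hK htr
  have hsint : IsIntegral k⟮t⟯ s := IsIntegral.of_finite k⟮t⟯ s
  have hnat : (minpoly k⟮t⟯ s).natDegree = Module.finrank k⟮t⟯ K := by
    rw [← IntermediateField.adjoin.finrank hsint, hsT, IntermediateField.finrank_top']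
  have hli := linearIndependent_pow (K := k⟮t⟯) s
  obtain ⟨d, hd⟩ : ∃ d : ℕ, d = (minpoly k⟮t⟯ s).natDegree := ⟨_, rfl⟩
  rw [← hd] at hli hnat
  have hd1 : 1 ≤ d := by
    rw [hnat]
    exact Module.finrank_pos
  obtain ⟨d', rfl⟩ := Nat.exists_eq_add_of_le' hd1
  refine ⟨t, s, d', htW, hsW, hxs, hys, htr, hpole, ?_, hli, hnat.symm, hsT⟩
  rw [hdeg, ← hnat]
  push_cast
  ring

/-- The base-point-free pencil trick. -/
theorem pencil (hK : FunFld.IsFunctionField k K) (t : K) (F : Divisor k K)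
    (hF : 2 * (genus k K : ℤ) - 1 ≤ (F - poleDiv k t).deg) :
    ∀ z ∈ L (F + poleDiv k t), ∃ a ∈ L F, ∃ b ∈ L F, z = a + t * b := by
  classical
  obtain ⟨D, hD⟩ : ∃ D : Divisor k K, D = poleDiv k t := ⟨_, rfl⟩
  rw [← hD] at hF ⊢
  have hD0 : 0 ≤ D := hD ▸ poleDiv_nonneg t
  have htD : t ∈ L D := hD ▸ mem_L_poleDiv hK t
  have hdegD : 0 ≤ D.deg := deg_nonneg_of_nonneg hD0
  haveI := L_finite hK F
  haveI := L_finite hK (F + D)
  haveI := L_finite hK (F - D)
  let f : (↥(L F) × ↥(L F)) →ₗ[k] K :=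
    (L F).subtype.coprod ((LinearMap.mulLeft k t).comp (L F).subtype)
  have hf : ∀ p : ↥(L F) × ↥(L F), f p = (p.1 : K) + t * (p.2 : K) := fun p => rfl
  have hrange : LinearMap.range f ≤ L (F + D) := by
    rintro _ ⟨p, rfl⟩
    rw [hf]
    refine Submodule.add_mem _ (L_mono (le_add_of_nonneg_right hD0) p.1.2) ?_
    have := mul_mem_L_add htD p.2.2
    rwa [add_comm] at this
  have hker : ∀ p ∈ LinearMap.ker f, ((p : ↥(L F) × ↥(L F)).2 : K) ∈ L (F - D) := by
    intro p hp
    have h0 : (p.1 : K) + t * (p.2 : K) = 0 := by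
      rw [← hf]
      exact hp
    have htb : t * (p.2 : K) = -(p.1 : K) := by linear_combination h0
    intro Q
    rw [Finsupp.sub_apply]
    by_cases hQ : D Q = 0
    · rw [hQ, sub_zero]
      exact p.2.2 Q
    · have hDQ : D Q = max (-(Q.ord t)) 0 := by rw [hD, poleDiv_apply hK]
      have hpos : 0 < D Q := lt_of_le_of_ne (hD0 Q) (Ne.symm hQ)
      have hord : -(Q.ord t) = D Q := by
        rcases max_cases (-(Q.ord t)) 0 with ⟨h1, _⟩ | ⟨h1, _⟩
        · rw [hDQ, h1]
        · rw [hDQ, h1] at hpos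
          exact absurd hpos (lt_irrefl _)
      have ht0 : t ≠ 0 := by
        rintro rfl
        rw [pl_ord_zero] at hord
        omega
      have hQt : Q.1 t = exp (D Q) := by rw [pl_val_eq_exp_neg_ord Q ht0, hord]
      have h1 : Q.1 t * Q.1 (p.2 : K) ≤ exp (F Q) := by
        rw [← map_mul, htb, Valuation.map_neg]
        exact p.1.2 Q
      rw [hQt] at h1
      rw [exp_sub, le_div_iff₀' (zero_lt_iff.mpr exp_ne_zero)]
      exact h1
  let ψ : ↥(LinearMap.ker f) →ₗ[k] ↥(L (F - D)) :=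
    LinearMap.codRestrict (L (F - D))
      (((L F).subtype.comp (LinearMap.snd k ↥(L F) ↥(L F))).comp (LinearMap.ker f).subtype)
      (fun p => hker p.1 p.2)
  have hψinj : Function.Injective ψ := by
    intro p q hpq
    have h2' : ((ψ p : ↥(L (F - D))) : K) = ((ψ q : ↥(L (F - D))) : K) :=
      congrArg Subtype.val hpq
    have h2 : ((p : ↥(L F) × ↥(L F)).2 : K) = ((q : ↥(L F) × ↥(L F)).2 : K) := h2'
    have hp0 : ((p : ↥(L F) × ↥(L F)).1 : K) + t * ((p : ↥(L F) × ↥(L F)).2 : K) = 0 := by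
      rw [← hf]
      exact p.2
    have hq0 : ((q : ↥(L F) × ↥(L F)).1 : K) + t * ((q : ↥(L F) × ↥(L F)).2 : K) = 0 := by
      rw [← hf]
      exact q.2
    have h1 : ((p : ↥(L F) × ↥(L F)).1 : K) = ((q : ↥(L F) × ↥(L F)).1 : K) := by
      linear_combination hp0 - hq0 - t * h2
    exact Subtype.ext (Prod.ext (Subtype.ext h1) (Subtype.ext h2))
  have hkerdim := LinearMap.finrank_le_finrank_of_injective hψinj
  have hrn := LinearMap.finrank_range_add_finrank_ker f
  rw [Module.finrank_prod] at hrn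
  have hdFD : (F - D).deg = F.deg - D.deg := deg_sub F D
  have hdFD' : (F + D).deg = F.deg + D.deg := deg_add F D
  have e1 := ell_eq_of_deg_ge hK F (by rw [hdFD] at hF; omega)
  have e2 := ell_eq_of_deg_ge hK (F - D) hF
  have e3 := ell_eq_of_deg_ge hK (F + D) (by rw [hdFD] at hF; rw [hdFD']; omega)
  rw [hdFD] at e2
  rw [hdFD'] at e3
  unfold ell at e1 e2 e3
  have hle : Module.finrank k ↥(L (F + D)) ≤ Module.finrank k ↥(LinearMap.range f) := by
    have h1 : (Module.finrank k ↥(L (F + D)) : ℤ) ≤ Module.finrank k ↥(LinearMap.range f) := by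
      have h2 : (Module.finrank k ↥(LinearMap.ker f) : ℤ) ≤ Module.finrank k ↥(L (F - D)) := by
        exact_mod_cast hkerdim
      have h3 : (Module.finrank k ↥(LinearMap.range f) : ℤ) +
          Module.finrank k ↥(LinearMap.ker f) =
          (Module.finrank k ↥(L F) : ℤ) + Module.finrank k ↥(L F) := by
        exact_mod_cast hrn
      omega
    exact_mod_cast h1
  have heq : LinearMap.range f = L (F + D) := Submodule.eq_of_le_of_finrank_le hrange hle
  intro z hz
  rw [← heq] at hz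
  obtain ⟨p, rfl⟩ := hz
  exact ⟨p.1, p.1.2, p.2, p.2.2, hf p⟩

/-- Iterating the pencil trick. -/
theorem pencil_iterate (hK : FunFld.IsFunctionField k K) (t : K) (m : ℕ)
    (hm : 2 * (genus k K : ℤ) - 1 ≤ ((m : ℤ) - 1) * (poleDiv k t).deg) (M : ℕ) :
    ∀ z ∈ L ((m + M) • poleDiv k t),
      z ∈ Submodule.span k {v : K | ∃ i, i ≤ M ∧ ∃ u ∈ L (m • poleDiv k t), v = t ^ i * u} := by
  induction M with
  | zero =>
    intro z hz
    exact Submodule.subset_span ⟨0, le_rfl, z, hz, by rw [pow_zero, one_mul]⟩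
  | succ M ih =>
    have hdegD : 0 ≤ (poleDiv k t).deg := deg_nonneg_of_nonneg (poleDiv_nonneg t)
    have hmono : Submodule.span k {v : K | ∃ i, i ≤ M ∧ ∃ u ∈ L (m • poleDiv k t),
        v = t ^ i * u} ≤
        Submodule.span k {v : K | ∃ i, i ≤ M + 1 ∧ ∃ u ∈ L (m • poleDiv k t),
          v = t ^ i * u} := by
      apply Submodule.span_mono
      rintro v ⟨i, hi, u, hu, rfl⟩
      exact ⟨i, Nat.le_succ_of_le hi, u, hu, rfl⟩
    have hmul : ∀ b ∈ Submodule.span k {v : K | ∃ i, i ≤ M ∧ ∃ u ∈ L (m • poleDiv k t),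
        v = t ^ i * u}, t * b ∈ Submodule.span k {v : K | ∃ i, i ≤ M + 1 ∧
          ∃ u ∈ L (m • poleDiv k t), v = t ^ i * u} := by
      intro b hb'
      induction hb' using Submodule.span_induction with
      | mem v hv =>
        obtain ⟨i, hi, u, hu, rfl⟩ := hv
        exact Submodule.subset_span ⟨i + 1, Nat.succ_le_succ hi, u, hu, by rw [pow_succ]; ring⟩
      | zero =>
        rw [mul_zero]
        exact Submodule.zero_mem _
      | add u v _ _ hu hv =>
        rw [mul_add]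
        exact Submodule.add_mem _ hu hv
      | smul c u _ hu =>
        rw [mul_smul_comm]
        exact Submodule.smul_mem _ _ hu
    intro z hz
    have hz' : z ∈ L ((m + M) • poleDiv k t + poleDiv k t) := by
      rw [← succ_nsmul]
      exact hz
    obtain ⟨a, ha, b, hb, rfl⟩ := pencil hK t ((m + M) • poleDiv k t) (by
      rw [deg_sub, deg_nsmul]
      push_cast
      nlinarith [mul_nonneg (Int.natCast_nonneg M) hdegD]) z hz'
    exact Submodule.add_mem _ (hmono (ih a ha)) (hmul b (ih b hb))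

end Groth.Agent.H55
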