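import Groth.Agent.H55.FFPlane2

/-!
Extremal plane models are nonsingular; nonsingular projective maps are projectively normal in
large degrees.
-/

namespace Groth.Agent.H55

open FunFld WithZero IntermediateField

variable {k K : Type*} [Field k] [Field K] [Algebra k K]

theorem isNonsingularAt_of_sep_of_unif' [IsAlgClosed k] (hK : FunFld.IsFunctionField k K)
    {ι : Type*} [Fintype ι] (φ : ι → K) (P : Place k K) (j : ι) (hj0 : φ j ≠ 0)
    (hgen : IntermediateField.adjoin k (Set.range fun i => φ i / φ j) = ⊤)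
    (hj : ∀ i, P.1 (φ i) ≤ P.1 (φ j))
    (hsep : ∀ Q : Place k K, Q ≠ P → IsFin (fun i => φ i / φ j) Q →
      ∃ w ∈ Acoord k (fun i => φ i / φ j), P.1 w = 1 ∧ Q.1 w < 1)
    (hunif : ∃ t ∈ Acoord k (fun i => φ i / φ j), P.1 t = exp (-1 : ℤ)) :
    IsNonsingularAt φ P := by
  have hP : IsFin (fun i => φ i / φ j) P := fun i => by
    show P.1 (φ i / φ j) ≤ 1
    rw [map_div₀]
    exact div_le_one_of_le₀ (hj i) zero_le'
  intro z hz
  rw [inLocRing_iff φ P j hj0 hj]
  exact locSub_eq_valuationRing hK (fun i => φ i / φ j) j (div_self hj0) hgen P hP hsep hunif z hz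

theorem val_le_of_mem_span {ι : Type*} (φ : ι → K) (Q : Place k K)
    (M : WithZero (Multiplicative ℤ)) (h : ∀ i, Q.1 (φ i) ≤ M) {w : K}
    (hw : w ∈ Submodule.span k (Set.range φ)) : Q.1 w ≤ M := by
  induction hw using Submodule.span_induction with
  | mem v hv =>
    obtain ⟨i, rfl⟩ := hv
    exact h i
  | zero =>
    rw [map_zero]
    exact zero_le'
  | add u v _ _ hu hv => exact (Q.1.map_add u v).trans (max_le hu hv)
  | smul c u _ hu => exact (pl_val_smul_le Q c u).trans hu

/-- An extremal plane model is nonsingular everywhere. -/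
theorem nonsingular_of_genus_eq [IsAlgClosed k] (hK : FunFld.IsFunctionField k K) (x y : K)
    (hxy : IntermediateField.adjoin k ({x, y} : Set K) = ⊤)
    (heq : 2 * (genus k K : ℤ) = ((mapDiv k ![(1 : K), x, y]).deg - 1) *
      ((mapDiv k ![(1 : K), x, y]).deg - 2)) (P : Place k K) :
    IsNonsingularAt ![(1 : K), x, y] P := by
  classical
  obtain ⟨φ, hφ⟩ : ∃ φ : Fin 3 → K, φ = ![(1 : K), x, y] := ⟨_, rfl⟩
  rw [← hφ] at heq ⊢
  obtain ⟨t, s, d', htW, hsW, -, -, htr, hpole, hdeg, hli, -, -⟩ := plane_setup hK x y hxy φ hφ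
  have hφ0 : φ 0 = 1 := by rw [hφ]; rfl
  have hφ1 : φ 1 = x := by rw [hφ]; rfl
  have hφ2 : φ 2 = y := by rw [hφ]; rfl
  obtain ⟨D, hD⟩ : ∃ D : Divisor k K, D = mapDiv k φ := ⟨_, rfl⟩
  rw [← hD] at heq hpole hdeg
  have hval : ∀ Q : Place k K,
      (∀ i, Q.1 (φ i) ≤ exp (D Q)) ∧ ∃ i, Q.1 (φ i) = exp (D Q) := by
    intro Q
    rw [hD]
    exact val_mapDiv_of_one hK φ 0 hφ0 Q
  have hWL : Submodule.span k (Set.range φ) ≤ L D := by
    rw [Submodule.span_le]
    rintro _ ⟨i, rfl⟩
    exact fun Q => (hval Q).1 i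
  have h1W : (1 : K) ∈ Submodule.span k (Set.range φ) := by
    rw [← hφ0]
    exact Submodule.subset_span ⟨0, rfl⟩
  obtain ⟨n, hn⟩ : ∃ n : ℕ, n = d' + (2 * genus k K + 1) := ⟨_, rfl⟩
  have hcount := plane_count' hK D _ hWL h1W t s htW hsW htr d' hli (2 * genus k K + 1)
  rw [← hn] at hcount
  have hg0 : (0 : ℤ) ≤ genus k K := Int.natCast_nonneg _
  have hd0 : (0 : ℤ) ≤ d' := Int.natCast_nonneg _
  have hnd : (n • D).deg = (n : ℤ) * ((d' : ℤ) + 1) := by rw [deg_nsmul, hdeg]
  have hnge : 2 * (genus k K : ℤ) + 1 ≤ (n • D).deg := by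
    rw [hnd, hn]
    push_cast
    nlinarith [mul_nonneg hd0 hd0, mul_nonneg hg0 hd0]
  have hell := ell_eq_of_deg_ge hK (n • D) (by omega)
  have hVL : Submodule.span k (Set.range φ) ^ n = L (n • D) := by
    haveI := L_finite hK (n • D)
    apply Submodule.eq_of_le_of_finrank_le (sub_pow_le_L hWL n)
    have h1 : (ell (n • D) : ℤ) ≤ Module.finrank k ↥(Submodule.span k (Set.range φ) ^ n) := by
      rw [hell, hnd]
      have h2 : ((d' : ℤ) + 1) * (2 * (2 * (genus k K : ℤ) + 1) + d' + 2) ≤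
          2 * (Module.finrank k ↥(Submodule.span k (Set.range φ) ^ n) : ℤ) := by
        exact_mod_cast hcount
      rw [hdeg] at heq
      have hn' : (n : ℤ) = d' + (2 * genus k K + 1) := by
        rw [hn]
        push_cast
        ring
      have hn'' : (n : ℤ) * ((d' : ℤ) + 1) = (d' + (2 * genus k K + 1)) * ((d' : ℤ) + 1) := by
        rw [hn']
      nlinarith [h2, heq, hn'']
    unfold ell at h1
    exact_mod_cast h1
  obtain ⟨j, -, hjmax⟩ := Finset.exists_max_image Finset.univ (fun i => P.1 (φ i))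
    ⟨0, Finset.mem_univ _⟩
  have hj : ∀ i, P.1 (φ i) ≤ P.1 (φ j) := fun i => hjmax i (Finset.mem_univ _)
  have hvalmax : ∀ Q : Place k K, (∀ i, Q.1 (φ i) ≤ Q.1 (φ j)) → Q.1 (φ j) = exp (D Q) := by
    intro Q hQ
    obtain ⟨i, hi⟩ := (hval Q).2
    exact le_antisymm ((hval Q).1 j) (hi.symm.le.trans (hQ i))
  have hPj := hvalmax P hj
  have hj0 : φ j ≠ 0 := by
    intro h0
    rw [h0, map_zero] at hPj
    exact exp_ne_zero hPj.symm
  have hgen : IntermediateField.adjoin k (Set.range fun i => φ i / φ j) = ⊤ := by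
    have hmem : ∀ i, φ i ∈ IntermediateField.adjoin k (Set.range fun i => φ i / φ j) := by
      intro i
      have e : φ i = (φ i / φ j) / (φ 0 / φ j) := by
        rw [hφ0]
        field_simp
      rw [e]
      exact div_mem (IntermediateField.subset_adjoin _ _ ⟨i, rfl⟩)
        (IntermediateField.subset_adjoin _ _ ⟨0, rfl⟩)
    rw [eq_top_iff, ← hxy, IntermediateField.adjoin_le_iff]
    rintro z hz
    rcases hz with h | h
    · rw [h, ← hφ1]
      exact hmem 1
    · rw [Set.mem_singleton_iff] at h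
      rw [h, ← hφ2]
      exact hmem 2
  have hpow : ∀ Q : Place k K, exp (D Q) ^ n = exp ((n • D) Q) := fun Q => by
    rw [Finsupp.smul_apply, exp_nsmul]
  refine isNonsingularAt_of_sep_of_unif' hK φ P j hj0 hgen hj ?_ ?_
  · intro Q hQP hQfin
    have hQj : ∀ i, Q.1 (φ i) ≤ Q.1 (φ j) := by
      intro i
      have h1 := hQfin i
      change Q.1 (φ i / φ j) ≤ 1 at h1
      rwa [map_div₀,
        div_le_one₀ (zero_lt_iff.mpr ((Valuation.ne_zero_iff _).mpr hj0))] at h1
    have hQval := hvalmax Q hQj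
    have hlt := ell_sub_single_lt_of_deg_ge hK (n • D - Finsupp.single Q 1) P (by
      rw [deg_sub, deg_single, deg_eq_one_of_isAlgClosed hK Q]
      push_cast
      omega)
    obtain ⟨f, hfL, hf0, hford⟩ := exists_mem_L_ord_eq _ P hlt
    have hfV : f ∈ Submodule.span k (Set.range φ) ^ n := by
      rw [hVL]
      exact L_mono (sub_le_self _ (single_one_nonneg Q)) hfL
    refine ⟨f / φ j ^ n, pow_div_mem_Acoord φ j n hfV, ?_, ?_⟩
    · rw [map_div₀, map_pow, hPj, hpow, pl_val_eq_exp_neg_ord P hf0, hford, Finsupp.sub_apply,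
        Finsupp.single_apply, if_neg hQP, sub_zero, neg_neg]
      exact div_self exp_ne_zero
    · rw [map_div₀, map_pow, hQval, hpow]
      have h3 := hfL Q
      rw [Finsupp.sub_apply, Finsupp.single_eq_same] at h3
      refine lt_of_le_of_lt (div_le_div_of_nonneg_right h3 zero_le') ?_
      rw [← exp_sub]
      have h7 : (exp ((n • D) Q - 1 - (n • D) Q) : WithZero (Multiplicative ℤ)) <
          exp (0 : ℤ) := exp_lt_exp.mpr (by omega)
      simpa using h7
  · have hlt := ell_sub_single_lt_of_deg_ge hK (n • D - Finsupp.single P 1) P (by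
      rw [deg_sub, deg_single, deg_eq_one_of_isAlgClosed hK P]
      push_cast
      omega)
    obtain ⟨f, hfL, hf0, hford⟩ := exists_mem_L_ord_eq _ P hlt
    have hfV : f ∈ Submodule.span k (Set.range φ) ^ n := by
      rw [hVL]
      exact L_mono (sub_le_self _ (single_one_nonneg P)) hfL
    refine ⟨f / φ j ^ n, pow_div_mem_Acoord φ j n hfV, ?_⟩
    rw [map_div₀, map_pow, hPj, hpow, pl_val_eq_exp_neg_ord P hf0, hford, Finsupp.sub_apply,
      Finsupp.single_eq_same, neg_neg, ← exp_sub]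
    congr 1
    ring

section Normal

variable {ι : Type*} [Fintype ι]

/-- If `k[r]` is the full local ring at every finite place, it is the ring of all functions
regular at the finite places. -/
theorem mem_Acoord_of_mem_Bcoord [Infinite k] (hK : FunFld.IsFunctionField k K) (r : ι → K)
    (j₀ : ι) (hj₀ : r j₀ = 1) (hgen : IntermediateField.adjoin k (Set.range r) = ⊤)
    (hns : ∀ P : Place k K, IsFin r P → ∀ z : K, P.1 z ≤ 1 → z ∈ locSub (Acoord k r) P)
    {z : K} (hz : z ∈ Bcoord (k := k) r) : z ∈ Acoord k r := by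
  classical
  by_contra hzA
  obtain ⟨s₀, hs₀A, hs₀0, hs₀B⟩ := exists_conductor hK r j₀ hj₀ hgen
  let R : Subring K := (Acoord k r).toSubring
  let I : Ideal R :=
    { carrier := {a | (a : K) * z ∈ Acoord k r}
      add_mem' := fun {a b} ha hb => by
        show ((a + b : R) : K) * z ∈ Acoord k r
        rw [Subring.coe_add, add_mul]
        exact Subalgebra.add_mem _ ha hb
      zero_mem' := by
        show ((0 : R) : K) * z ∈ Acoord k r
        rw [Subring.coe_zero, zero_mul]
        exact Subalgebra.zero_mem _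
      smul_mem' := fun c a ha => by
        show ((c • a : R) : K) * z ∈ Acoord k r
        rw [smul_eq_mul, Subring.coe_mul, mul_assoc]
        exact Subalgebra.mul_mem _ c.2 ha }
  have hI : I ≠ ⊤ := by
    intro htop
    have h1 : (1 : R) ∈ I := by
      rw [htop]
      trivial
    have h2 : ((1 : R) : K) * z ∈ Acoord k r := h1
    rw [Subring.coe_one, one_mul] at h2
    exact hzA h2
  obtain ⟨V, hRV, hIV⟩ := Ideal.image_subset_nonunits_valuationSubring I hI
  have hkV : ∀ c : k, algebraMap k K c ∈ V := fun c => hRV ((Acoord k r).algebraMap_mem c)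
  have hs₀I : (⟨s₀, hs₀A⟩ : R) ∈ I := hs₀B z hz
  have hs₀V : s₀ ∈ V.nonunits := hIV ⟨⟨s₀, hs₀A⟩, hs₀I, rfl⟩
  obtain ⟨P, hPV, hPV'⟩ := exists_place_of_valuationSubring V hkV hK s₀ hs₀0 hs₀V
  have hPfin : IsFin r P := fun i => hPV _ (hRV (Algebra.subset_adjoin ⟨i, rfl⟩))
  obtain ⟨u, hu, w, hw, hPw, hzw⟩ := hns P hPfin z (hz P hPfin)
  have hwI : (⟨w, hw⟩ : R) ∈ I := by
    show w * z ∈ Acoord k r
    rw [mul_comm, hzw]
    exact hu
  have hwV : w ∈ V.nonunits := hIV ⟨⟨w, hw⟩, hwI, rfl⟩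
  have h3 := hPV' w hwV
  rw [hPw] at h3
  exact lt_irrefl _ h3

variable [Nonempty ι]

/-- For a projective map nonsingular everywhere, elements of `L(mD)` multiplied by a high power
of a linear form are forms. -/
theorem chart_absorb [IsAlgClosed k] (hK : FunFld.IsFunctionField k K) (φ : ι → K) (i₀ : ι)
    (h1 : φ i₀ = 1) (hgenK : IntermediateField.adjoin k (Set.range φ) = ⊤)
    (hns : ∀ P : Place k K, IsNonsingularAt φ P) {w : K}
    (hwW : w ∈ Submodule.span k (Set.range φ)) (hw0 : w ≠ 0) (m : ℕ) :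
    ∃ N₁ : ℕ, ∀ N, N₁ ≤ N → ∀ z ∈ L (m • mapDiv k φ),
      z * w ^ N ∈ Submodule.span k (Set.range φ) ^ (m + N) := by
  classical
  obtain ⟨D, hD⟩ : ∃ D : Divisor k K, D = mapDiv k φ := ⟨_, rfl⟩
  rw [← hD]
  have hval : ∀ Q : Place k K,
      (∀ i, Q.1 (φ i) ≤ exp (D Q)) ∧ ∃ i, Q.1 (φ i) = exp (D Q) := by
    intro Q
    rw [hD]
    exact val_mapDiv_of_one hK φ i₀ h1 Q
  obtain ⟨ψ, hψ⟩ : ∃ ψ : Option ι → K, ψ = fun o => o.elim w φ := ⟨_, rfl⟩
  have hψn : ψ none = w := by rw [hψ]; rfl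
  have hψs : ∀ i, ψ (some i) = φ i := fun i => by rw [hψ]; rfl
  have hψW : ∀ o, ψ o ∈ Submodule.span k (Set.range φ) := by
    intro o
    cases o with
    | none => rw [hψn]; exact hwW
    | some i => rw [hψs]; exact Submodule.subset_span ⟨i, rfl⟩
  have hgen_r : IntermediateField.adjoin k (Set.range fun o => ψ o / w) = ⊤ := by
    rw [eq_top_iff, ← hgenK, IntermediateField.adjoin_le_iff]
    rintro _ ⟨i, rfl⟩
    have e : φ i = (ψ (some i) / w) / (ψ (some i₀) / w) := by
      rw [hψs, hψs, h1]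
      field_simp
    show φ i ∈ IntermediateField.adjoin k (Set.range fun o => ψ o / w)
    rw [e]
    exact div_mem (IntermediateField.subset_adjoin _ _ ⟨some i, rfl⟩)
      (IntermediateField.subset_adjoin _ _ ⟨some i₀, rfl⟩)
  have hloc : ∀ P : Place k K, IsFin (fun o => ψ o / w) P → ∀ z : K, P.1 z ≤ 1 →
      z ∈ locSub (Acoord k (fun o => ψ o / w)) P := by
    intro P hPfin z hz
    have hleast : ∀ o, P.1 (ψ o) ≤ P.1 (ψ none) := by
      intro o
      have h2 := hPfin o
      change P.1 (ψ o / w) ≤ 1 at h2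
      rw [hψn]
      rwa [map_div₀,
        div_le_one₀ (zero_lt_iff.mpr ((Valuation.ne_zero_iff _).mpr hw0))] at h2
    obtain ⟨j, hj0, hj, u, hu, w', hw', hPw', h⟩ := hns P z hz
    have hin : InLocRing ψ P z := by
      refine ⟨some j, by rw [hψs]; exact hj0, ?_, u, ?_, w', ?_, hPw', h⟩
      · intro o
        cases o with
        | none =>
          rw [hψn, hψs]
          exact val_le_of_mem_span φ P _ hj hwW
        | some i =>
          rw [hψs, hψs]
          exact hj i
      · refine Algebra.adjoin_mono ?_ hu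
        rintro _ ⟨i, rfl⟩
        exact ⟨some i, by simp only [hψs]⟩
      · refine Algebra.adjoin_mono ?_ hw'
        rintro _ ⟨i, rfl⟩
        exact ⟨some i, by simp only [hψs]⟩
    have h4 := (inLocRing_iff ψ P none (by rw [hψn]; exact hw0) hleast z).mp hin
    rw [hψn] at h4
    exact h4
  have hpt : ∀ z ∈ L (m • D), ∃ N₀ : ℕ, ∀ N, N₀ ≤ N →
      z * w ^ N ∈ Submodule.span k (Set.range φ) ^ (m + N) := by
    intro z hz
    have hzB : z / w ^ m ∈ Bcoord (k := k) (fun o => ψ o / w) := by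
      intro Q hQfin
      have hQw : Q.1 w = exp (D Q) := by
        apply le_antisymm
        · exact val_le_of_mem_span φ Q _ (hval Q).1 hwW
        · obtain ⟨i, hi⟩ := (hval Q).2
          have h2 := hQfin (some i)
          change Q.1 (ψ (some i) / w) ≤ 1 at h2
          rw [hψs, map_div₀,
            div_le_one₀ (zero_lt_iff.mpr ((Valuation.ne_zero_iff _).mpr hw0))] at h2
          rw [← hi]
          exact h2
      rw [map_div₀, map_pow, hQw]
      have h3 := hz Q
      rw [Finsupp.smul_apply, exp_nsmul] at h3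
      exact div_le_one_of_le₀ h3 zero_le'
    have hzA := mem_Acoord_of_mem_Bcoord hK (fun o => ψ o / w) none
      (by rw [hψn]; exact div_self hw0) hgen_r hloc hzB
    obtain ⟨N₀, hN₀⟩ := mul_pow_mem_pow (Submodule.span k (Set.range φ)) ψ hψW w hwW hw0 hzA
    refine ⟨N₀, fun N hN => ?_⟩
    have h5 := hN₀ (m + N) (le_trans hN (Nat.le_add_left _ _))
    have e : z / w ^ m * w ^ (m + N) = z * w ^ N := by
      rw [pow_add]
      field_simp
    rwa [e] at h5
  haveI := L_finite hK (m • D)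
  obtain ⟨S, hS⟩ := (Submodule.fg_iff_finiteDimensional (L (m • D))).mpr inferInstance
  have hpt' : ∀ z : K, ∃ N₀ : ℕ, z ∈ L (m • D) → ∀ N, N₀ ≤ N →
      z * w ^ N ∈ Submodule.span k (Set.range φ) ^ (m + N) := by
    intro z
    by_cases hz : z ∈ L (m • D)
    · obtain ⟨N₀, h⟩ := hpt z hz
      exact ⟨N₀, fun _ => h⟩
    · exact ⟨0, fun h => absurd h hz⟩
  choose N₀ hN₀ using hpt'
  refine ⟨S.sup N₀, fun N hN z hz => ?_⟩
  rw [← hS] at hz
  induction hz using Submodule.span_induction with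
  | mem v hv =>
    have hvL : v ∈ L (m • D) := by
      rw [← hS]
      exact Submodule.subset_span hv
    exact hN₀ v hvL N (le_trans (Finset.le_sup (f := N₀) (Finset.mem_coe.mp hv)) hN)
  | zero =>
    rw [zero_mul]
    exact Submodule.zero_mem _
  | add u v _ _ hu hv =>
    rw [add_mul]
    exact Submodule.add_mem _ hu hv
  | smul c u _ hu =>
    rw [smul_mul_assoc]
    exact Submodule.smul_mem _ _ hu

end Normal

end Groth.Agent.H55
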