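import Groth.Agent.H55.FFPlane4

/-!
The genus formula for nonsingular plane models.
-/

namespace Groth.Agent.H55

open FunFld WithZero IntermediateField Polynomial

variable {k K : Type*} [Field k] [Field K] [Algebra k K]

/-- A projective map nonsingular everywhere is projectively normal in large degrees. -/
theorem L_le_pow_of_nonsingular [IsAlgClosed k] (hK : FunFld.IsFunctionField k K) {ι : Type*}
    [Fintype ι] [Nonempty ι] (φ : ι → K) (i₀ : ι) (h1 : φ i₀ = 1)
    (hgenK : IntermediateField.adjoin k (Set.range φ) = ⊤)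
    (hns : ∀ P : Place k K, IsNonsingularAt φ P) (t : K)
    (htW : t ∈ Submodule.span k (Set.range φ)) (ht0 : t ≠ 0)
    (hpole : poleDiv k t = mapDiv k φ) (hdeg : 1 ≤ (mapDiv k φ).deg) :
    ∃ n₀ : ℕ, ∀ n, n₀ ≤ n → L (n • mapDiv k φ) ≤ Submodule.span k (Set.range φ) ^ n := by
  classical
  have h1W : (1 : K) ∈ Submodule.span k (Set.range φ) := by
    rw [← h1]
    exact Submodule.subset_span ⟨i₀, rfl⟩
  obtain ⟨m, hm⟩ : ∃ m : ℕ, m = 2 * genus k K + 1 := ⟨_, rfl⟩
  have hg0 : (0 : ℤ) ≤ genus k K := Int.natCast_nonneg _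
  have hmpen : 2 * (genus k K : ℤ) - 1 ≤ ((m : ℤ) - 1) * (poleDiv k t).deg := by
    rw [hpole, hm]
    push_cast
    nlinarith
  obtain ⟨N₁, hN₁⟩ := chart_absorb hK φ i₀ h1 hgenK hns h1W one_ne_zero m
  obtain ⟨N₂, hN₂⟩ := chart_absorb hK φ i₀ h1 hgenK hns htW ht0 m
  refine ⟨m + 2 * max N₁ N₂, fun n hn z hz => ?_⟩
  obtain ⟨M, rfl⟩ := Nat.exists_eq_add_of_le (le_trans (Nat.le_add_right _ _) hn)
  have hM : 2 * max N₁ N₂ ≤ M := by omega
  rw [← hpole] at hz
  have hz' := pencil_iterate hK t m hmpen M z hz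
  rw [hpole] at hz'
  refine (Submodule.span_le.mpr ?_) hz'
  rintro v ⟨i, hi, u, hu, rfl⟩
  show t ^ i * u ∈ Submodule.span k (Set.range φ) ^ (m + M)
  by_cases hiN : max N₁ N₂ ≤ i
  · have h2 := hN₂ i (le_trans (le_max_right N₁ N₂) hiN) u hu
    rw [mul_comm]
    exact pow_le_pow_of_one_mem h1W (by omega) h2
  · have h2 := hN₁ (M - i) (le_trans (le_max_left N₁ N₂) (by omega)) u hu
    rw [one_pow, mul_one] at h2
    have e : m + M = i + (m + (M - i)) := by omega
    rw [e, pow_add]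
    exact Submodule.mul_mem_mul (Submodule.pow_mem_pow _ htW i) h2

/-- A nonsingular plane model is extremal. -/
theorem genus_eq_of_nonsingular [IsAlgClosed k] (hK : FunFld.IsFunctionField k K) (x y : K)
    (hxy : IntermediateField.adjoin k ({x, y} : Set K) = ⊤)
    (hns : ∀ P : Place k K, IsNonsingularAt ![(1 : K), x, y] P) :
    2 * (genus k K : ℤ) = ((mapDiv k ![(1 : K), x, y]).deg - 1) *
      ((mapDiv k ![(1 : K), x, y]).deg - 2) := by
  classical
  have hle := two_genus_le_plane hK x y hxy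
  obtain ⟨φ, hφ⟩ : ∃ φ : Fin 3 → K, φ = ![(1 : K), x, y] := ⟨_, rfl⟩
  rw [← hφ] at hns hle ⊢
  obtain ⟨t, s, d', htW, hsW, hxs, hys, htr, hpole, hdeg, hli, hfr, -⟩ :=
    plane_setup hK x y hxy φ hφ
  have hφ0 : φ 0 = 1 := by rw [hφ]; rfl
  have hφ1 : φ 1 = x := by rw [hφ]; rfl
  have hφ2 : φ 2 = y := by rw [hφ]; rfl
  have ht0 : t ≠ 0 := fun h0 => htr (by rw [h0]; exact isAlgebraic_zero)
  have hgenK : IntermediateField.adjoin k (Set.range φ) = ⊤ := by
    rw [eq_top_iff, ← hxy, IntermediateField.adjoin_le_iff]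
    rintro z hz
    rcases hz with h | h
    · rw [h]
      exact IntermediateField.subset_adjoin _ _ ⟨1, hφ1⟩
    · rw [Set.mem_singleton_iff] at h
      rw [h]
      exact IntermediateField.subset_adjoin _ _ ⟨2, hφ2⟩
  obtain ⟨D, hD⟩ : ∃ D : Divisor k K, D = mapDiv k φ := ⟨_, rfl⟩
  have hval : ∀ Q : Place k K,
      (∀ i, Q.1 (φ i) ≤ exp (D Q)) ∧ ∃ i, Q.1 (φ i) = exp (D Q) := by
    intro Q
    rw [hD]
    exact val_mapDiv_of_one hK φ 0 hφ0 Q
  have hWL : Submodule.span k (Set.range φ) ≤ L D := by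
    rw [Submodule.span_le]
    rintro _ ⟨i, rfl⟩
    exact fun Q => (hval Q).1 i
  have hs_val : ∀ Q : Place k K, Q.1 s ≤ max (Q.1 t) 1 := by
    intro Q
    have h2 := hWL hsW Q
    rw [hD, ← hpole, poleDiv_apply hK] at h2
    rcases le_total (-(Q.ord t)) 0 with h3 | h3
    · rw [max_eq_right h3, exp_zero] at h2
      exact h2.trans (le_max_right _ _)
    · rw [max_eq_left h3, ← pl_val_eq_exp_neg_ord Q ht0] at h2
      exact h2.trans (le_max_left _ _)
  obtain ⟨a, hadeg, harel⟩ := plane_relation hK t s htr (d' + 1) hfr hli hs_val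
  have hall : ∀ i : Fin 3, φ i ∈ Submodule.span k ({1, t, s} : Set K) := by
    intro i
    have h3 : i = 0 ∨ i = 1 ∨ i = 2 := by
      fin_cases i <;> simp
    rcases h3 with rfl | rfl | rfl
    · rw [hφ0]
      exact Submodule.subset_span (Set.mem_insert _ _)
    · rw [hφ1]
      exact hxs
    · rw [hφ2]
      exact hys
  have hWspan : Submodule.span k (Set.range φ) ≤ Submodule.span k ({1, t, s} : Set K) := by
    rw [Submodule.span_le]
    rintro _ ⟨i, rfl⟩
    exact hall i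
  obtain ⟨n₀, hn₀⟩ := L_le_pow_of_nonsingular hK φ 0 hφ0 hgenK hns t htW ht0 hpole (by
    rw [hdeg]
    have : (0 : ℤ) ≤ d' := Int.natCast_nonneg _
    omega)
  obtain ⟨e, he⟩ : ∃ e : ℕ, e = n₀ + 2 * genus k K + 1 := ⟨_, rfl⟩
  have hLV := hn₀ (d' + e) (by omega)
  have hVU := pow_le_monomials t s (d' + 1) (by omega) (Submodule.span k (Set.range φ)) hWspan a
    hadeg harel (d' + e)
  have hcount := finrank_le_of_le_monomials t s d' e _ (hLV.trans hVU)
  have hg0 : (0 : ℤ) ≤ genus k K := Int.natCast_nonneg _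
  have hd0 : (0 : ℤ) ≤ d' := Int.natCast_nonneg _
  have hn0 : (0 : ℤ) ≤ n₀ := Int.natCast_nonneg _
  have hnd : ((d' + e) • mapDiv k φ).deg = ((d' + e : ℕ) : ℤ) * ((d' : ℤ) + 1) := by
    rw [deg_nsmul, hdeg]
  have hell := ell_eq_of_deg_ge hK ((d' + e) • mapDiv k φ) (by
    rw [hnd, he]
    push_cast
    nlinarith [mul_nonneg hd0 hd0, mul_nonneg hg0 hd0, mul_nonneg hn0 hd0])
  unfold ell at hell
  rw [hnd] at hell
  have h2 : 2 * (Module.finrank k ↥(L ((d' + e) • mapDiv k φ)) : ℤ) ≤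
      ((d' : ℤ) + 1) * (2 * e + d' + 2) := by exact_mod_cast hcount
  rw [hell] at h2
  push_cast at h2
  rw [hdeg] at hle ⊢
  nlinarith [h2, hle]

end Groth.Agent.H55
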