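import Groth.Agent.H55.FFInertia2
import Mathlib

/-!
Higher ramification groups of a place in a finite Galois extension: the quotients `G₁/G₂`
(cyclic) and `G_i/G_{i+1}` for `i ≥ 2` (abelian, killed by the characteristic).
-/

set_option autoImplicit false

namespace Groth.Agent.H55

open FunFld WithZero Polynomial IntermediateField

open scoped Pointwise

section Ram

variable {k K K' : Type*} [Field k] [Field K] [Field K'] [Algebra k K] [Algebra K K']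
  [Algebra k K'] [IsScalarTower k K K']

/-- The `i`-th ramification condition. -/
def RamCond (Q : Place k K') (i : ℕ) (σ : K' ≃ₐ[K] K') : Prop :=
  ∀ x : K', Q.1 x ≤ 1 → Q.1 (σ x - x) ≤ exp (-(i : ℤ))

variable {Q : Place k K'} {i : ℕ} {σ τ : K' ≃ₐ[K] K'}

theorem RamCond.mem_inertia (hi : 1 ≤ i) (h : RamCond Q i σ) : σ ∈ inertiaGal K Q := by
  rw [mem_inertiaGal_iff]
  intro x hx
  refine lt_of_le_of_lt (h x hx) ?_
  exact (zm0_lt_one_iff _).mpr (exp_le_exp.mpr (by omega))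

theorem RamCond.one : RamCond Q i (1 : K' ≃ₐ[K] K') := by
  intro x hx
  rw [AlgEquiv.one_apply, sub_self, map_zero]
  exact zero_le'

theorem RamCond.mul (hi : 1 ≤ i) (hσ : RamCond Q i σ) (hτ : RamCond Q i τ) :
    RamCond Q i (σ * τ) := by
  intro x hx
  have e : (σ * τ) x - x = σ (τ x - x) + (σ x - x) := by
    rw [AlgEquiv.mul_apply, map_sub]; ring
  rw [e]
  refine Q.1.map_add_le ?_ (hσ x hx)
  rw [val_inertia (hσ.mem_inertia hi)]
  exact hτ x hx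

theorem RamCond.inv (hi : 1 ≤ i) (hσ : RamCond Q i σ) : RamCond Q i σ⁻¹ := by
  intro x hx
  have hI := hσ.mem_inertia hi
  have hI' : σ⁻¹ ∈ inertiaGal K Q := inv_mem hI
  have hx' : Q.1 (σ⁻¹ x) ≤ 1 := by rw [val_inertia hI']; exact hx
  have e : σ⁻¹ x - x = -(σ (σ⁻¹ x) - σ⁻¹ x) := by
    have : σ (σ⁻¹ x) = x := by
      rw [← AlgEquiv.mul_apply, mul_inv_cancel, AlgEquiv.one_apply]
    rw [this]; ring
  rw [e, Valuation.map_neg]
  exact hσ _ hx'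

theorem RamCond.pow (hi : 1 ≤ i) (hσ : RamCond Q i σ) (n : ℕ) : RamCond Q i (σ ^ n) := by
  induction n with
  | zero => rw [pow_zero]; exact RamCond.one
  | succ n ih => rw [pow_succ]; exact ih.mul hi hσ

/-- An automorphism in `G_i` moves elements of `𝔪^m` by elements of `𝔪^(i+m-1)`. -/
theorem RamCond.sub_le (hi : 1 ≤ i) (hσ : RamCond Q i σ) :
    ∀ (m : ℕ) (y : K'), Q.1 y ≤ exp (-(m : ℤ)) →
      Q.1 (σ y - y) ≤ exp (-((i : ℤ) + m - 1)) := by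
  obtain ⟨t, ht0, ht⟩ := pl_exists_val_eq_exp Q (-1)
  have hI := hσ.mem_inertia hi
  have htO : Q.1 t ≤ 1 := by rw [ht]; exact ((zm0_lt_one_iff _).mpr le_rfl).le
  intro m
  induction m with
  | zero =>
    intro y hy
    rw [Nat.cast_zero, neg_zero, exp_zero] at hy
    refine (hσ y hy).trans (exp_le_exp.mpr ?_)
    push_cast; omega
  | succ m ih =>
    intro y hy
    obtain ⟨y', rfl⟩ : ∃ y', y = t * y' := ⟨y / t, by field_simp⟩
    have hy' : Q.1 y' ≤ exp (-(m : ℤ)) := by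
      rw [map_mul, ht] at hy
      have e1 : Q.1 y' = exp 1 * (exp (-1) * Q.1 y') := by
        rw [← mul_assoc, ← exp_add, add_neg_cancel, exp_zero, one_mul]
      rw [e1]
      calc exp 1 * (exp (-1) * Q.1 y') ≤ exp 1 * exp (-((m + 1 : ℕ) : ℤ)) :=
            mul_le_mul' le_rfl hy
        _ = exp (-(m : ℤ)) := by rw [← exp_add]; congr 1; push_cast; ring
    have e : σ (t * y') - t * y' = (σ t - t) * σ y' + t * (σ y' - y') := by
      rw [map_mul]; ring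
    rw [e]
    refine Q.1.map_add_le ?_ ?_
    · rw [map_mul, val_inertia hI]
      calc Q.1 (σ t - t) * Q.1 y' ≤ exp (-(i : ℤ)) * exp (-(m : ℤ)) :=
            mul_le_mul' (hσ t htO) hy'
        _ = exp (-((i : ℤ) + (m + 1 : ℕ) - 1)) := by
            rw [← exp_add]; congr 1; push_cast; ring
    · rw [map_mul, ht]
      calc exp (-1) * Q.1 (σ y' - y') ≤ exp (-1) * exp (-((i : ℤ) + m - 1)) :=
            mul_le_mul' le_rfl (ih _ hy')
        _ = exp (-((i : ℤ) + (m + 1 : ℕ) - 1)) := by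
            rw [← exp_add]; congr 1; push_cast; ring

theorem RamCond.sub_le' (hi : 2 ≤ i) (hσ : RamCond Q i σ) (y : K')
    (hy : Q.1 y ≤ exp (-(i : ℤ))) : Q.1 (σ y - y) ≤ exp (-((i : ℤ) + 1)) := by
  refine (hσ.sub_le (by omega) i y hy).trans (exp_le_exp.mpr ?_)
  omega

/-- `σ ↦ σ x - x` is additive on `G_i` modulo `𝔪^(i+1)` when `i ≥ 2`. -/
theorem RamCond.add_congr (hi : 2 ≤ i) (hσ : RamCond Q i σ) (hτ : RamCond Q i τ)
    (x : K') (hx : Q.1 x ≤ 1) :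
    Q.1 (((σ * τ) x - x) - ((σ x - x) + (τ x - x))) ≤ exp (-((i : ℤ) + 1)) := by
  have e : ((σ * τ) x - x) - ((σ x - x) + (τ x - x)) = σ (τ x - x) - (τ x - x) := by
    rw [AlgEquiv.mul_apply, map_sub]; ring
  rw [e]
  exact hσ.sub_le' hi _ (hτ x hx)

theorem RamCond.pow_congr (hi : 2 ≤ i) (hσ : RamCond Q i σ) (x : K') (hx : Q.1 x ≤ 1)
    (n : ℕ) :
    Q.1 (((σ ^ n) x - x) - (n : K') * (σ x - x)) ≤ exp (-((i : ℤ) + 1)) := by
  induction n with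
  | zero =>
    rw [pow_zero, AlgEquiv.one_apply, sub_self, Nat.cast_zero, zero_mul, sub_zero, map_zero]
    exact zero_le'
  | succ n ih =>
    have h1 := (hσ.pow (by omega) n).add_congr hi hσ x hx
    have e : ((σ ^ (n + 1)) x - x) - ((n + 1 : ℕ) : K') * (σ x - x) =
        (((σ ^ n * σ) x - x) - (((σ ^ n) x - x) + (σ x - x))) +
          (((σ ^ n) x - x) - (n : K') * (σ x - x)) := by
      rw [pow_succ]; push_cast; ring
    rw [e]
    exact Q.1.map_add_le h1 ih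

/-- For `i ≥ 2`, `G_i/G_{i+1}` is abelian, trivial in characteristic zero and killed by `p` in
characteristic `p`. -/
theorem ram_quotient [FiniteDimensional K K'] (Q : Place k K') (i : ℕ) (hi : 2 ≤ i)
    (σ τ : K' ≃ₐ[K] K') (hσ : RamCond Q i σ) (hτ : RamCond Q i τ) :
    (∀ x : K', Q.1 x ≤ 1 →
      Q.1 ((σ * τ * σ⁻¹ * τ⁻¹) x - x) ≤ exp (-((i : ℤ) + 1))) ∧
    (ringChar K = 0 → ∀ x : K', Q.1 x ≤ 1 → Q.1 (σ x - x) ≤ exp (-((i : ℤ) + 1))) ∧
    ∀ p : ℕ, p.Prime → ringChar K = p →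
      ∀ x : K', Q.1 x ≤ 1 → Q.1 ((σ ^ p) x - x) ≤ exp (-((i : ℤ) + 1)) := by
  have hi1 : 1 ≤ i := by omega
  refine ⟨?_, ?_, ?_⟩
  · intro x hx
    have hσi := hσ.inv hi1
    have hτi := hτ.inv hi1
    have hστ := hσ.mul hi1 hτ
    have hστσ := hστ.mul hi1 hσi
    have h1 := hστσ.add_congr hi hτi x hx
    have h2 := hστ.add_congr hi hσi x hx
    have h3 := hσ.add_congr hi hτ x hx
    have h4 := hσ.add_congr hi hσi x hx
    have h5 := hτ.add_congr hi hτi x hx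
    rw [mul_inv_cancel, AlgEquiv.one_apply] at h4 h5
    have e : (σ * τ * σ⁻¹ * τ⁻¹) x - x =
        (((σ * τ * σ⁻¹ * τ⁻¹) x - x) - (((σ * τ * σ⁻¹) x - x) + (τ⁻¹ x - x))) +
        ((((σ * τ * σ⁻¹) x - x) - (((σ * τ) x - x) + (σ⁻¹ x - x))) +
        ((((σ * τ) x - x) - ((σ x - x) + (τ x - x))) +
        (-((x - x) - ((σ x - x) + (σ⁻¹ x - x))) +
          -((x - x) - ((τ x - x) + (τ⁻¹ x - x)))))) := by ring
    rw [e]
    refine Q.1.map_add_le h1 (Q.1.map_add_le h2 (Q.1.map_add_le h3 (Q.1.map_add_le ?_ ?_)))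
    · rw [Valuation.map_neg]; exact h4
    · rw [Valuation.map_neg]; exact h5
  · intro h0 x hx
    haveI : CharP K 0 := h0 ▸ ringChar.charP K
    haveI : CharZero K := CharP.charP_to_charZero K
    haveI : CharZero k := RingHom.charZero (algebraMap k K)
    have hN : 0 < orderOf σ := orderOf_pos σ
    have h := hσ.pow_congr hi x hx (orderOf σ)
    rw [pow_orderOf_eq_one, AlgEquiv.one_apply, sub_self, zero_sub, Valuation.map_neg,
      map_mul] at h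
    have hN1 : Q.1 ((orderOf σ : ℕ) : K') = 1 := by
      have e : ((orderOf σ : ℕ) : K') = algebraMap k K' ((orderOf σ : ℕ) : k) :=
        (map_natCast _ _).symm
      rw [e]
      exact pl_val_const Q (Nat.cast_ne_zero.mpr hN.ne')
    rw [hN1, one_mul] at h
    exact h
  · intro p _ hchar x hx
    haveI : CharP K p := hchar ▸ ringChar.charP K
    haveI : CharP K' p := charP_of_injective_algebraMap (algebraMap K K').injective p
    have h := hσ.pow_congr hi x hx p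
    rw [CharP.cast_eq_zero K' p, zero_mul, sub_zero] at h
    exact h

end Ram

section Theta

variable {k K K' : Type*} [Field k] [Field K] [Field K'] [Algebra k K] [Algebra K K']
  [Algebra k K'] [IsScalarTower k K K']

theorem val_div_inertia {Q : Place k K'} {σ : K' ≃ₐ[K] K'} (hσ : σ ∈ inertiaGal K Q) {t : K'}
    (ht0 : t ≠ 0) : Q.1 (σ t / t) = 1 := by
  rw [map_div₀, val_inertia hσ, div_self]
  exact (Q.1.ne_zero_iff).mpr ht0

/-- `σ ↦ residue (σ t / t)` on the inertia group. -/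
noncomputable def thetaFun (Q : Place k K') (t : K') (ht0 : t ≠ 0) (σ : inertiaGal K Q) :
    IsLocalRing.ResidueField Q.O :=
  IsLocalRing.residue Q.O ⟨(σ : K' ≃ₐ[K] K') t / t, (val_div_inertia σ.2 ht0).le⟩

theorem thetaFun_one (Q : Place k K') (t : K') (ht0 : t ≠ 0) :
    thetaFun (K := K) Q t ht0 1 = 1 := by
  have e1 : (⟨((1 : inertiaGal K Q) : K' ≃ₐ[K] K') t / t,
      (val_div_inertia (1 : inertiaGal K Q).2 ht0).le⟩ : Q.O) = 1 := by
    apply Subtype.ext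
    show (1 : K' ≃ₐ[K] K') t / t = 1
    rw [AlgEquiv.one_apply, div_self ht0]
  unfold thetaFun
  rw [e1, map_one]

theorem thetaFun_mul (Q : Place k K') (t : K') (ht0 : t ≠ 0) (σ τ : inertiaGal K Q) :
    thetaFun Q t ht0 (σ * τ) = thetaFun Q t ht0 σ * thetaFun Q t ht0 τ := by
  have hu : Q.1 ((τ : K' ≃ₐ[K] K') t / t) ≤ 1 := (val_div_inertia τ.2 ht0).le
  have hσu : Q.1 ((σ : K' ≃ₐ[K] K') ((τ : K' ≃ₐ[K] K') t / t)) ≤ 1 := by
    rw [val_inertia σ.2]; exact hu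
  have hσt0 : (σ : K' ≃ₐ[K] K') t ≠ 0 := by
    intro h
    exact ht0 ((map_eq_zero_iff _ (σ : K' ≃ₐ[K] K').injective).mp h)
  have e1 : (⟨((σ * τ : inertiaGal K Q) : K' ≃ₐ[K] K') t / t,
      (val_div_inertia (σ * τ).2 ht0).le⟩ : Q.O)
      = ⟨(σ : K' ≃ₐ[K] K') ((τ : K' ≃ₐ[K] K') t / t), hσu⟩ *
        ⟨(σ : K' ≃ₐ[K] K') t / t, (val_div_inertia σ.2 ht0).le⟩ := by
    apply Subtype.ext
    show ((σ : K' ≃ₐ[K] K') * (τ : K' ≃ₐ[K] K')) t / t =
      (σ : K' ≃ₐ[K] K') ((τ : K' ≃ₐ[K] K') t / t) * ((σ : K' ≃ₐ[K] K') t / t)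
    rw [AlgEquiv.mul_apply, map_div₀]
    field_simp
  have e2 : IsLocalRing.residue Q.O ⟨(σ : K' ≃ₐ[K] K') ((τ : K' ≃ₐ[K] K') t / t), hσu⟩ =
      IsLocalRing.residue Q.O ⟨(τ : K' ≃ₐ[K] K') t / t, hu⟩ := by
    rw [← sub_eq_zero, ← map_sub, IsLocalRing.residue_eq_zero_iff, mem_maximalIdeal_iff]
    exact (mem_inertiaGal_iff Q (σ : K' ≃ₐ[K] K')).mp σ.2 _ hu
  unfold thetaFun
  rw [e1, map_mul, e2, mul_comm]

/-- The tame character `G₁ → F_Q^×`. -/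
noncomputable def thetaHom (Q : Place k K') (t : K') (ht0 : t ≠ 0) :
    inertiaGal K Q →* (IsLocalRing.ResidueField Q.O)ˣ :=
  MonoidHom.toHomUnits
    { toFun := thetaFun Q t ht0
      map_one' := thetaFun_one Q t ht0
      map_mul' := thetaFun_mul Q t ht0 }

theorem thetaHom_coe (Q : Place k K') (t : K') (ht0 : t ≠ 0) (σ : inertiaGal K Q) :
    ((thetaHom Q t ht0 σ : (IsLocalRing.ResidueField Q.O)ˣ) : IsLocalRing.ResidueField Q.O) =
      thetaFun Q t ht0 σ := rfl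

theorem thetaHom_eq_one_iff (Q : Place k K') (t : K') (ht0 : t ≠ 0) (σ : inertiaGal K Q) :
    thetaHom Q t ht0 σ = 1 ↔ Q.1 ((σ : K' ≃ₐ[K] K') t - t) < Q.1 t := by
  have hvt : Q.1 t ≠ 0 := (Q.1.ne_zero_iff).mpr ht0
  have hu : Q.1 ((σ : K' ≃ₐ[K] K') t / t) ≤ 1 := (val_div_inertia σ.2 ht0).le
  have h1 : thetaHom Q t ht0 σ = 1 ↔
      IsLocalRing.residue Q.O (⟨(σ : K' ≃ₐ[K] K') t / t, hu⟩ - 1) = 0 := by
    rw [map_sub, map_one, sub_eq_zero, ← Units.val_inj, thetaHom_coe, Units.val_one]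
    rfl
  rw [h1, IsLocalRing.residue_eq_zero_iff, mem_maximalIdeal_iff]
  show Q.1 ((σ : K' ≃ₐ[K] K') t / t - 1) < 1 ↔ _
  have e : (σ : K' ≃ₐ[K] K') t / t - 1 = ((σ : K' ≃ₐ[K] K') t - t) / t := by field_simp
  rw [e, map_div₀, div_lt_one₀ (zero_lt_iff.mpr hvt)]

/-- `G₁/G₂` is cyclic. -/
theorem ram_cyclic [FiniteDimensional K K'] [IsGalois K K'] (hK : G.IsFF1 k K)
    (Q : Place k K') [Algebra.IsSeparable k (IsLocalRing.ResidueField Q.O)] :
    ∃ σ₀ : K' ≃ₐ[K] K', (∀ x : K', Q.1 x ≤ 1 → Q.1 (σ₀ x - x) ≤ exp (-(1 : ℤ))) ∧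
      ∀ σ : K' ≃ₐ[K] K', (∀ x : K', Q.1 x ≤ 1 → Q.1 (σ x - x) ≤ exp (-(1 : ℤ))) →
        ∃ n : ℕ, (∀ x : K', Q.1 x ≤ 1 →
          Q.1 (((σ₀ ^ n)⁻¹ * σ) x - x) ≤ exp (-(2 : ℤ))) := by
  classical
  obtain ⟨t, ht0, ht⟩ := pl_exists_val_eq_exp Q (-1)
  have hmem : ∀ σ : K' ≃ₐ[K] K', σ ∈ inertiaGal K Q ↔
      (∀ x : K', Q.1 x ≤ 1 → Q.1 (σ x - x) ≤ exp (-(1 : ℤ))) := by
    intro σ
    rw [mem_inertiaGal_iff]
    constructor
    · intro h x hx; exact (zm0_lt_one_iff _).mp (h x hx)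
    · intro h x hx; exact (zm0_lt_one_iff _).mpr (h x hx)
  obtain ⟨F, hF⟩ : ∃ F : inertiaGal K Q →* (IsLocalRing.ResidueField Q.O)ˣ,
      F = thetaHom Q t ht0 := ⟨_, rfl⟩
  haveI : Finite F.range := Finite.of_surjective F.rangeRestrict F.rangeRestrict_surjective
  obtain ⟨⟨g, σ₀, hσ₀⟩, hgen⟩ := IsCyclic.exists_monoid_generator (α := F.range)
  refine ⟨(σ₀ : K' ≃ₐ[K] K'), (hmem _).mp σ₀.2, ?_⟩
  intro σ hσ
  have hσI : σ ∈ inertiaGal K Q := (hmem σ).mpr hσ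
  obtain ⟨n, hn⟩ := (Submonoid.mem_powers_iff _ _).mp (hgen ⟨F ⟨σ, hσI⟩, ⟨σ, hσI⟩, rfl⟩)
  have hn' : g ^ n = F ⟨σ, hσI⟩ := congrArg Subtype.val hn
  refine ⟨n, ?_⟩
  have hτ : F ((σ₀ ^ n)⁻¹ * ⟨σ, hσI⟩) = 1 := by
    rw [map_mul, map_inv, map_pow, hσ₀, hn', inv_mul_cancel]
  rw [hF, thetaHom_eq_one_iff, ht, zm0_lt_exp_iff] at hτ
  have hτI := ((σ₀ ^ n)⁻¹ * ⟨σ, hσI⟩ : inertiaGal K Q).2
  have h2 : Q.1 ((((σ₀ ^ n)⁻¹ * ⟨σ, hσI⟩ : inertiaGal K Q) : K' ≃ₐ[K] K') t - t) ≤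
      exp (-((2 : ℕ) : ℤ)) := by
    refine hτ.trans (exp_le_exp.mpr ?_)
    norm_num
  have h3 := (ramification_iff_uniformizer hK Q _ ((hmem _).mp hτI) t ht 2).mpr h2
  intro x hx
  have h4 := h3 x hx
  have hcast : (-((2 : ℕ) : ℤ)) = -(2 : ℤ) := by norm_num
  rw [hcast] at h4
  exact h4

end Theta

end Groth.Agent.H55
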