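import Groth.Agent.H55.FFScalar
import Groth.Agent.H55.GFF2
import Mathlib

/-!
Places of `k̄ ⊗ K` are defined over finite extensions of `k`.
-/

set_option autoImplicit false

universe u v

namespace Groth.Agent.H55

open FunFld Polynomial IntermediateField TensorProduct

section ScalarExtAlg

variable {k k' : Type u} {K K' : Type v} [Field k] [Field k'] [Field K] [Field K']
    [Algebra k k'] [Algebra k K] [Algebra K K'] [Algebra k' K'] [Algebra k K']
    [IsScalarTower k k' K'] [IsScalarTower k K K']

theorem isFF1_scalarExt_algebraic [Algebra.IsAlgebraic k k']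
    (h : Function.Bijective (Algebra.TensorProduct.productMap
      (IsScalarTower.toAlgHom k k' K') (IsScalarTower.toAlgHom k K K')))
    (hK : FunFld.IsFunctionField k K) :
    ∃ x' : K', Transcendental k' x' ∧ FiniteDimensional k'⟮x'⟯ K' := by
  classical
  obtain ⟨⟨x, hx, hfin⟩, -⟩ := hK
  haveI := hfin
  refine ⟨algebraMap K K' x, ?_, ?_⟩
  · intro halg
    have h1 : IsAlgebraic k (algebraMap K K' x) := by
      exact halg.restrictScalars k
    exact hx ((isAlgebraic_algebraMap_iff (algebraMap K K').injective).mp h1)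
  · obtain ⟨A, hA⟩ : ∃ A : IntermediateField k' K', A = k'⟮algebraMap K K' x⟯ := ⟨_, rfl⟩
    rw [← hA]
    have hmemk : ∀ r : K, r ∈ k⟮x⟯ → algebraMap K K' r ∈ A := by
      let M : Subfield K := A.toSubfield.comap (algebraMap K K')
      have hk : ∀ c : k, algebraMap k K c ∈ M := fun c => by
        show algebraMap K K' (algebraMap k K c) ∈ A
        rw [← IsScalarTower.algebraMap_apply k K K', IsScalarTower.algebraMap_apply k k' K']
        exact A.algebraMap_mem _
      have h1 : k⟮x⟯ ≤ M.toIntermediateField hk := by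
        rw [IntermediateField.adjoin_simple_le_iff]
        show algebraMap K K' x ∈ A
        rw [hA]
        exact IntermediateField.mem_adjoin_simple_self k' _
      exact fun r hr => h1 hr
    obtain ⟨s, hs⟩ := (Module.finite_def.mp hfin)
    refine ⟨⟨s.image (algebraMap K K'), ?_⟩⟩
    rw [eq_top_iff]
    rintro z -
    obtain ⟨w, rfl⟩ := h.2 z
    induction w using TensorProduct.induction_on with
    | zero => rw [map_zero]; exact Submodule.zero_mem _
    | tmul c y =>
      rw [Algebra.TensorProduct.productMap_apply_tmul]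
      have hy : y ∈ Submodule.span k⟮x⟯ (s : Set K) := by rw [hs]; trivial
      have hy' : algebraMap K K' y ∈
          Submodule.span A ((s.image (algebraMap K K') : Finset K') : Set K') := by
        induction hy using Submodule.span_induction with
        | mem b hb =>
          exact Submodule.subset_span (by rw [Finset.coe_image]; exact ⟨b, hb, rfl⟩)
        | zero => rw [map_zero]; exact Submodule.zero_mem _
        | add a b _ _ ha hb => rw [map_add]; exact Submodule.add_mem _ ha hb
        | smul r a _ ha =>
          rw [Algebra.smul_def, map_mul]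
          have h2 : algebraMap K K' (algebraMap k⟮x⟯ K r) * algebraMap K K' a =
              (⟨_, hmemk r.1 r.2⟩ : A) • algebraMap K K' a := by
            rw [Algebra.smul_def]; rfl
          rw [h2]
          exact Submodule.smul_mem _ _ ha
      have hc : (IsScalarTower.toAlgHom k k' K') c * (IsScalarTower.toAlgHom k K K') y =
          (⟨algebraMap k' K' c, A.algebraMap_mem c⟩ : A) • algebraMap K K' y := by
        rw [Algebra.smul_def]; rfl
      rw [hc]
      exact Submodule.smul_mem _ _ hy'
    | add a b ha hb => rw [map_add]; exact Submodule.add_mem _ ha hb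


/-- Every element of `k' ⊗ K` involves only finitely many constants. -/
theorem exists_finset_mem_adjoin
    (h : Function.Surjective (Algebra.TensorProduct.productMap
      (IsScalarTower.toAlgHom k k' K') (IsScalarTower.toAlgHom k K K'))) (w : K') :
    ∃ s : Finset k', w ∈ Algebra.adjoin K ((algebraMap k' K') '' (s : Set k')) := by
  classical
  obtain ⟨t, rfl⟩ := h w
  induction t using TensorProduct.induction_on with
  | zero => exact ⟨∅, by rw [map_zero]; exact zero_mem _⟩
  | tmul c a =>
    refine ⟨{c}, ?_⟩
    rw [Algebra.TensorProduct.productMap_apply_tmul]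
    refine mul_mem (Algebra.subset_adjoin ⟨c, by simp, rfl⟩) ?_
    exact Subalgebra.algebraMap_mem _ a
  | add x y hx hy =>
    obtain ⟨s₁, h₁⟩ := hx
    obtain ⟨s₂, h₂⟩ := hy
    refine ⟨s₁ ∪ s₂, ?_⟩
    rw [map_add]
    refine add_mem (Algebra.adjoin_mono ?_ h₁) (Algebra.adjoin_mono ?_ h₂)
    · exact Set.image_mono (by rw [Finset.coe_union]; exact Set.subset_union_left)
    · exact Set.image_mono (by rw [Finset.coe_union]; exact Set.subset_union_right)

theorem place_defined_over_finite [Algebra.IsAlgebraic k k']
    (h : Function.Bijective (Algebra.TensorProduct.productMap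
      (IsScalarTower.toAlgHom k k' K') (IsScalarTower.toAlgHom k K K')))
    (hK : FunFld.IsFunctionField k K) (Q : FunFld.Place k' K') :
    ∃ k₁ : IntermediateField k k', FiniteDimensional k k₁ ∧
      (∃ z ∈ Algebra.adjoin K (Set.range fun c : k₁ => algebraMap k' K' c),
        Q.1 z = WithZero.exp (-1)) ∧
      ∀ Q' : FunFld.Place k' K',
        (∃ e : ℕ, ∀ z ∈ Algebra.adjoin K (Set.range fun c : k₁ => algebraMap k' K' c),
          Q'.1 z = Q.1 z ^ e) → Q' = Q := by
  classical
  have hFF : G.IsFF1 k' K' := isFF1_scalarExt_algebraic h hK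
  obtain ⟨t, ht⟩ := Q.2.2 (WithZero.exp (-1))
  obtain ⟨z₀, -, hz₀, hz₀'⟩ := G.exists_only_zero hFF Q
  obtain ⟨s₁, hs₁⟩ := exists_finset_mem_adjoin h.2 t
  obtain ⟨s₂, hs₂⟩ := exists_finset_mem_adjoin h.2 z₀
  refine ⟨IntermediateField.adjoin k ((s₁ ∪ s₂ : Finset k') : Set k'), ?_, ?_, ?_⟩
  · apply IntermediateField.finiteDimensional_adjoin
    intro c _
    exact (Algebra.IsAlgebraic.isAlgebraic c).isIntegral
  · refine ⟨t, Algebra.adjoin_mono ?_ hs₁, ht⟩
    rintro _ ⟨c, hc, rfl⟩
    exact ⟨⟨c, IntermediateField.subset_adjoin k _ (by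
      rw [Finset.coe_union]; exact Or.inl hc)⟩, rfl⟩
  · rintro Q' ⟨e, he⟩
    have hz₀A : z₀ ∈ Algebra.adjoin K (Set.range fun c :
        IntermediateField.adjoin k ((s₁ ∪ s₂ : Finset k') : Set k') => algebraMap k' K' c) := by
      refine Algebra.adjoin_mono ?_ hs₂
      rintro _ ⟨c, hc, rfl⟩
      exact ⟨⟨c, IntermediateField.subset_adjoin k _ (by
        rw [Finset.coe_union]; exact Or.inr hc)⟩, rfl⟩
    rcases Nat.eq_zero_or_pos e with he0 | hepos
    · exfalso
      have h1 := he 0 (zero_mem _)
      rw [he0, pow_zero, map_zero] at h1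
      exact zero_ne_one h1
    · apply hz₀'
      rw [he z₀ hz₀A]
      exact pow_lt_one₀ zero_le' hz₀ hepos.ne'

end ScalarExtAlg

end Groth.Agent.H55
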