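import Groth.Agent.H55.FFZetaG
import Groth.Agent.H55.FFInertia2
import Groth.Agent.H55.FFUnram
import Groth.Agent.H55.GeomField
import Mathlib

/-!
F. K. Schmidt's theorem: over a finite constant field the degree map on divisors is onto `ℤ`.
-/

set_option autoImplicit false

namespace Groth.Agent.H55

open FunFld WithZero Polynomial IntermediateField IsLocalRing

open scoped Pointwise

section FiniteFieldLemma

theorem mem_range_of_pow_card {E F : Type*} [Field E] [Field F] [Finite E] (φ : E →+* F)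
    {a : F} (ha : a ^ Nat.card E = a) : a ∈ Set.range φ := by
  classical
  haveI : Fintype E := Fintype.ofFinite E
  rw [Nat.card_eq_fintype_card] at ha
  have h1 : Fintype.card E > 1 := Fintype.one_lt_card
  have hroots : (X ^ Fintype.card E - X : E[X]).roots = Finset.univ.val :=
    FiniteField.roots_X_pow_card_sub_X E
  have hcard : Multiset.card (X ^ Fintype.card E - X : E[X]).roots
      = (X ^ Fintype.card E - X : E[X]).natDegree := by
    rw [hroots, FiniteField.X_pow_card_sub_X_natDegree_eq E h1]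
    rfl
  have hmap := roots_map_of_injective_of_card_eq_natDegree φ.injective hcard
  have hpm : (X ^ Fintype.card E - X : E[X]).map φ = X ^ Fintype.card E - X := by
    simp
  rw [hpm, hroots] at hmap
  have hmem : a ∈ (X ^ Fintype.card E - X : F[X]).roots := by
    rw [mem_roots (FiniteField.X_pow_card_sub_X_ne_zero F h1)]
    simp [ha]
  rw [← hmap, Multiset.mem_map] at hmem
  obtain ⟨e, -, he⟩ := hmem
  exact ⟨e, he⟩

theorem pow_pow_card_eq {F : Type*} [Monoid F] {a : F} {Q : ℕ} (ha : a ^ Q = a) (m : ℕ) :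
    a ^ (Q ^ m) = a := by
  induction m with
  | zero => simp
  | succ m ih => rw [pow_succ, pow_mul, ih, ha]

end FiniteFieldLemma

section Split

variable {k K K' : Type*} [Field k] [Field K] [Field K'] [Algebra k K] [Algebra K K']
  [Algebra k K'] [IsScalarTower k K K']

theorem card_residueField [Finite k] (hK : G.IsFF1 k K) (P : Place k K) :
    Nat.card (ResidueField P.O) = Nat.card k ^ P.deg := by
  have hfd : @Module.Finite k (ResidueField P.O) _ _ (Place.algRes P).toModule :=
    G.residue_finiteDimensional hK P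
  exact @Module.natCard_eq_pow_finrank k (ResidueField P.O) _ _ (Place.algRes P).toModule hfd

theorem val_decomp {Q : Place k K'} {τ : K' ≃ₐ[K] K'} (hτ : τ ∈ (Q.O).decompositionSubgroup K)
    (x : K') : Q.1 (τ x) = Q.1 x := by
  have h1 : τ • Q.O = Q.O := MulAction.mem_stabilizer_iff.mp hτ
  have h2 : comapGal Q τ = Q := by
    apply pl_eq_of_le
    intro y hy
    have h3 : y ∈ (comapGal Q τ).O := (Valuation.mem_valuationSubring_iff _ _).mpr hy
    rw [comapGal_O] at h3
    have h4 : τ⁻¹ • Q.O = Q.O := by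
      rw [inv_smul_eq_iff, h1]
    rw [h4] at h3
    exact (Valuation.mem_valuationSubring_iff _ _).mp h3
  rw [← comapGal_apply, h2]

/-- If the residue field of `P` contains the field with `q^d` elements and `K' = K(α)` with
`α^(q^d) = α`, then the decomposition group of any `Q | P` is trivial. -/
theorem decomp_trivial [Finite k] [FiniteDimensional K K'] (hK : G.IsFF1 k K)
    {Q : Place k K'} {P : Place k K} {e : ℕ} (he : IsOverWith Q P e) {d : ℕ} (hd0 : 0 < d)
    (hdP : d ∣ P.deg) {α : K'} (hα : α ^ (Nat.card k ^ d) = α)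
    (hgen : ∀ τ : K' ≃ₐ[K] K', τ α = α → τ = 1) (τ : K' ≃ₐ[K] K')
    (hτ : τ ∈ (Q.O).decompositionSubgroup K) : τ = 1 := by
  classical
  have hq : 1 < Nat.card k := Finite.one_lt_card
  have hqd : 1 < Nat.card k ^ d := Nat.one_lt_pow hd0.ne' hq
  -- `α` is algebraic over `k`
  have halg : IsAlgebraic k α := by
    refine ⟨X ^ (Nat.card k ^ d) - X, FiniteField.X_pow_card_sub_X_ne_zero k hqd, ?_⟩
    simp [hα]
  have hαQ : Q.1 α ≤ 1 := by
    by_cases h0 : α = 0
    · rw [h0, map_zero]; exact zero_le'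
    · exact (G.val_eq_one_of_isAlgebraic Q h0 halg).le
  -- the residue of `α` lies in the image of the residue field of `P`
  let a' : Q.O := ⟨α, (Valuation.mem_valuationSubring_iff _ _).mpr hαQ⟩
  have hres : (residue Q.O a') ^ Nat.card (ResidueField P.O) = residue Q.O a' := by
    obtain ⟨m, hm⟩ := hdP
    rw [card_residueField hK P, hm, pow_mul]
    apply pow_pow_card_eq
    rw [← map_pow]
    congr 1
    exact Subtype.ext hα
  haveI : Finite (ResidueField P.O) := by
    apply Nat.finite_of_card_ne_zero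
    rw [card_residueField hK P]
    exact (pow_pos (by omega) _).ne'
  obtain ⟨r, hr⟩ := mem_range_of_pow_card (resExt he) hres
  obtain ⟨a, rfl⟩ := residue_surjective r
  rw [resExt_residue] at hr
  have h1 : Q.1 (algebraMap K K' (a : K) - α) < 1 := by
    have h2 : residue Q.O (incO he a - a') = 0 := by rw [map_sub, hr, sub_self]
    rw [residue_eq_zero_iff, mem_maximalIdeal_iff] at h2
    exact h2
  -- apply `τ`
  have h3 : Q.1 (algebraMap K K' (a : K) - τ α) < 1 := by
    have := val_decomp hτ (algebraMap K K' (a : K) - α)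
    rw [map_sub, τ.commutes] at this
    rw [this]; exact h1
  have h4 : Q.1 (τ α - α) < 1 := by
    have e1 : τ α - α = (algebraMap K K' (a : K) - α) - (algebraMap K K' (a : K) - τ α) := by ring
    rw [e1]
    exact lt_of_le_of_lt (Q.1.map_sub _ _) (max_lt h1 h3)
  -- `τ α - α` is algebraic over `k`
  have halg2 : IsAlgebraic k (τ α - α) := by
    have hτα : IsAlgebraic k (τ α) := by
      refine ⟨X ^ (Nat.card k ^ d) - X, FiniteField.X_pow_card_sub_X_ne_zero k hqd, ?_⟩
      simp only [map_sub, map_pow, aeval_X]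
      rw [← map_pow, hα, sub_self]
    exact hτα.sub halg
  apply hgen
  by_contra hne
  have h5 := G.val_eq_one_of_isAlgebraic Q (sub_ne_zero.mpr hne) halg2
  rw [h5] at h4
  exact lt_irrefl _ h4

/-- Under the hypotheses of `decomp_trivial`, `P` splits completely. -/
theorem split_completely [Finite k] [FiniteDimensional K K'] [IsGalois K K'] (hK : G.IsFF1 k K)
    (P : Place k K) {d : ℕ} (hd0 : 0 < d)
    (hdP : d ∣ P.deg) {α : K'} (hα : α ^ (Nat.card k ^ d) = α)
    (hgen : ∀ τ : K' ≃ₐ[K] K', τ α = α → τ = 1) :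
    Nat.card {Q : Place k K' // IsOver Q P} = Module.finrank K K' ∧
      ∀ Q : Place k K', IsOver Q P → Q.deg = P.deg := by
  classical
  obtain ⟨Q₀, e, he⟩ := exists_place_over (K' := K') hK P
  have hbot : (Q₀.O).decompositionSubgroup K = ⊥ := by
    rw [Subgroup.eq_bot_iff_forall]
    intro τ hτ
    exact decomp_trivial hK he hd0 hdP hα hgen τ hτ
  have hD : Nat.card ((Q₀.O).decompositionSubgroup K) = 1 := by
    rw [hbot]; exact Subgroup.card_bot
  obtain ⟨h1, h2⟩ := G.galois_places hK Q₀ P e he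
  rw [hD, mul_one] at h1
  have he1 : e = 1 := by
    have h3 := le_card_inertia hK he
    have h4 : Nat.card ((Q₀.O).inertiaSubgroup K) ≤ Nat.card ((Q₀.O).decompositionSubgroup K) :=
      Subgroup.card_le_card_group _
    have h5 := isOverWith_pos he
    omega
  have h6 := G.card_decomposition_mul_deg hK Q₀ P e he
  rw [hD, he1, one_mul, one_mul] at h6
  refine ⟨h1, fun Q hQ => ?_⟩
  rw [(h2 Q hQ).2, h6]

end Split

section Lift

variable {k K K' : Type*} [Field k] [Field K] [Field K'] [Algebra k K] [Algebra k K']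

theorem deg_mapDomain (Qf : Place k K → Place k K') (hdeg : ∀ P, (Qf P).deg = P.deg)
    (D : Divisor k K) :
    Divisor.deg (Finsupp.mapDomain Qf D : Divisor k K') = D.deg := by
  unfold Divisor.deg
  rw [Finsupp.sum_mapDomain_index (by intro; simp) (by intros; ring)]
  simp only [hdeg]

theorem mapDomain_nonneg (Qf : Place k K → Place k K') (hinj : Function.Injective Qf)
    {D : Divisor k K} (h : 0 ≤ D) : 0 ≤ (Finsupp.mapDomain Qf D : Divisor k K') := by
  intro Q
  by_cases hQ : Q ∈ Set.range Qf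
  · obtain ⟨P, rfl⟩ := hQ
    rw [Finsupp.mapDomain_apply hinj]; exact h P
  · rw [Finsupp.mapDomain_notin_range _ _ hQ]; rfl

theorem sum_card_le [Finite k] (hK : G.IsFF1 k K) (hK' : G.IsFF1 k K')
    (Q₁ Q₂ : Place k K → Place k K') (h₁ : Function.Injective Q₁) (h₂ : Function.Injective Q₂)
    (hdisj : ∀ P P', Q₁ P ≠ Q₂ P') (hd₁ : ∀ P, (Q₁ P).deg = P.deg)
    (hd₂ : ∀ P, (Q₂ P).deg = P.deg)
    {ι : Type} [Fintype ι] (N : ℕ) (f : ι → ℕ) (hf : Function.Injective f) (hfN : ∀ j, f j ≤ N) :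
    ∑ j, Nat.card {D : Divisor k K // 0 ≤ D ∧ D.deg = (f j : ℕ)} *
        Nat.card {D : Divisor k K // 0 ≤ D ∧ D.deg = ((N - f j : ℕ) : ℤ)}
      ≤ Nat.card {D : Divisor k K' // 0 ≤ D ∧ D.deg = N} := by
  classical
  haveI : ∀ n : ℕ, Finite {D : Divisor k K // 0 ≤ D ∧ D.deg = (n : ℤ)} :=
    fun n => (G.effDiv_finite hK n).to_subtype
  haveI : Finite {D : Divisor k K' // 0 ≤ D ∧ D.deg = N} := (G.effDiv_finite hK' N).to_subtype
  simp_rw [← Nat.card_prod]
  rw [← Nat.card_sigma]
  have hnot₂ : ∀ P, Q₁ P ∉ Set.range Q₂ := by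
    rintro P ⟨P', hP'⟩
    exact hdisj P P' hP'.symm
  have hnot₁ : ∀ P, Q₂ P ∉ Set.range Q₁ := by
    rintro P ⟨P', hP'⟩
    exact hdisj P' P hP'
  let Φ : (Σ j, {D : Divisor k K // 0 ≤ D ∧ D.deg = (f j : ℕ)} ×
      {D : Divisor k K // 0 ≤ D ∧ D.deg = ((N - f j : ℕ) : ℤ)}) →
      {D : Divisor k K' // 0 ≤ D ∧ D.deg = N} := fun x =>
    ⟨Finsupp.mapDomain Q₁ x.2.1.1 + Finsupp.mapDomain Q₂ x.2.2.1,
      add_nonneg (mapDomain_nonneg Q₁ h₁ x.2.1.2.1) (mapDomain_nonneg Q₂ h₂ x.2.2.2.1), by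
        rw [deg_add, deg_mapDomain Q₁ hd₁, deg_mapDomain Q₂ hd₂, x.2.1.2.2, x.2.2.2.2]
        have := hfN x.1
        push_cast [Nat.cast_sub this]
        ring⟩
  apply Nat.card_le_card_of_injective Φ
  rintro ⟨j, D₁, D₂⟩ ⟨j', D₁', D₂'⟩ h
  have h0 : Finsupp.mapDomain Q₁ D₁.1 + Finsupp.mapDomain Q₂ D₂.1
      = Finsupp.mapDomain Q₁ D₁'.1 + Finsupp.mapDomain Q₂ D₂'.1 := congrArg Subtype.val h
  have e1 : D₁.1 = D₁'.1 := by
    ext P
    have := DFunLike.congr_fun h0 (Q₁ P)
    simp only [Finsupp.add_apply, Finsupp.mapDomain_apply h₁,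
      Finsupp.mapDomain_notin_range _ _ (hnot₂ P), add_zero] at this
    exact this
  have e2 : D₂.1 = D₂'.1 := by
    ext P
    have := DFunLike.congr_fun h0 (Q₂ P)
    simp only [Finsupp.add_apply, Finsupp.mapDomain_apply h₂,
      Finsupp.mapDomain_notin_range _ _ (hnot₁ P), zero_add] at this
    exact this
  have ej : j = j' := by
    apply hf
    have a1 := D₁.2.2
    have a2 := D₁'.2.2
    rw [e1, a2] at a1
    exact_mod_cast a1.symm
  subst ej
  have e1' : D₁ = D₁' := Subtype.ext e1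
  have e2' : D₂ = D₂' := Subtype.ext e2
  rw [e1', e2']

end Lift

section Contra

variable {k K K' : Type*} [Field k] [Field K] [Field K'] [Algebra k K] [Algebra K K']
  [Algebra k K'] [IsScalarTower k K K']

theorem effDivCount_ge [Finite k] (hK : FunFld.IsFunctionField k K) (i : ℕ)
    (hi : 2 * genus k K ≤ i) (hex : ∃ D : Divisor k K, D.deg = i) :
    Nat.card k ^ (i - genus k K) ≤ Nat.card {D : Divisor k K // 0 ≤ D ∧ D.deg = i} := by
  obtain ⟨D₁, hD₁⟩ := hex
  obtain ⟨hfin, h⟩ := class_count hK i (by omega) D₁ hD₁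
  haveI := hfin
  have hh : 0 < Nat.card ((degHom k K).ker ⧸ (prinDivs k K).addSubgroupOf (degHom k K).ker) :=
    Nat.card_pos
  have hu : Nat.card k = Nat.card kˣ + 1 := Nat.card_eq_card_units_add_one k
  have hq : 1 < Nat.card k := Finite.one_lt_card
  have hpow : Nat.card k ^ (i + 1 - genus k K) = Nat.card k * Nat.card k ^ (i - genus k K) := by
    rw [show i + 1 - genus k K = (i - genus k K) + 1 by omega, pow_succ]; ring
  rw [hpow] at h
  have hx : 0 < Nat.card k ^ (i - genus k K) := pow_pos (by omega) _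
  generalize Nat.card k ^ (i - genus k K) = x at *
  generalize Nat.card {D : Divisor k K // 0 ≤ D ∧ D.deg = i} = a at *
  generalize Nat.card ((degHom k K).ker ⧸ (prinDivs k K).addSubgroupOf (degHom k K).ker) = c at *
  generalize Nat.card kˣ = u at *
  generalize Nat.card k = q at *
  subst hu
  by_contra hlt
  push_neg at hlt
  have h1 : a + 1 ≤ x := hlt
  have hu1 : 1 ≤ u := by omega
  have h2 : c * ((u + 1) * (a + 1)) ≤ c * ((u + 1) * x) :=
    Nat.mul_le_mul_left _ (Nat.mul_le_mul_left _ h1)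
  have h3 : a * u + c < c * ((u + 1) * (a + 1)) := by
    have e1 : c * ((u + 1) * (a + 1)) = c * (u * a) + c * u + c * a + c := by ring
    have e2 : u * a ≤ c * (u * a) := Nat.le_mul_of_pos_left _ hh
    have e3 : 0 < c * u := Nat.mul_pos hh hu1
    rw [e1]
    nlinarith
  omega

theorem schmidt_aux [Finite k] (hK : FunFld.IsFunctionField k K) [FiniteDimensional K K']
    [IsGalois K K'] {d : ℕ} (hd2 : 2 ≤ d) (hfr : Module.finrank K K' = d)
    (hdP : ∀ P : Place k K, d ∣ P.deg)
    (hex : ∀ n : ℕ, d ∣ n → ∃ D : Divisor k K, D.deg = n)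
    {α : K'} (hα : α ^ (Nat.card k ^ d) = α)
    (hgen : ∀ τ : K' ≃ₐ[K] K', τ α = α → τ = 1) : False := by
  classical
  have hK1 : G.IsFF1 k K := G.isFF1_of_isFunctionField hK
  have hK' : G.IsFF1 k K' := isFF1_of_finite hK1
  have hch : ∀ P : Place k K, ∃ Q₁ Q₂ : Place k K', Q₁ ≠ Q₂ ∧ IsOver Q₁ P ∧ IsOver Q₂ P ∧
      Q₁.deg = P.deg ∧ Q₂.deg = P.deg := by
    intro P
    obtain ⟨hc, hdeg⟩ := split_completely (K' := K') hK1 P (by omega) (hdP P) hα hgen
    rw [hfr] at hc
    haveI : Finite {Q : Place k K' // IsOver Q P} := Nat.finite_of_card_ne_zero (by omega)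
    have h1 : 1 < Nat.card {Q : Place k K' // IsOver Q P} := by omega
    rw [Finite.one_lt_card_iff_nontrivial] at h1
    obtain ⟨⟨Q₁, hQ₁⟩, ⟨Q₂, hQ₂⟩, hne⟩ := exists_pair_ne {Q : Place k K' // IsOver Q P}
    exact ⟨Q₁, Q₂, fun h => hne (Subtype.ext h), hQ₁, hQ₂, hdeg Q₁ hQ₁, hdeg Q₂ hQ₂⟩
  choose Q₁ Q₂ hne ho₁ ho₂ hd₁ hd₂ using hch
  have hinj₁ : Function.Injective Q₁ := by
    intro P P' h
    obtain ⟨e, he⟩ := ho₁ P
    obtain ⟨e', he'⟩ := ho₁ P'
    rw [h] at he
    exact (isOverWith_unique he he').1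
  have hinj₂ : Function.Injective Q₂ := by
    intro P P' h
    obtain ⟨e, he⟩ := ho₂ P
    obtain ⟨e', he'⟩ := ho₂ P'
    rw [h] at he
    exact (isOverWith_unique he he').1
  have hdisj : ∀ P P', Q₁ P ≠ Q₂ P' := by
    intro P P' h
    obtain ⟨e, he⟩ := ho₁ P
    obtain ⟨e', he'⟩ := ho₂ P'
    rw [h] at he
    have hPP := (isOverWith_unique he he').1
    subst hPP
    exact hne P h
  obtain ⟨C', hC'⟩ := G.effDiv_card_le hK'
  have hq : 1 < Nat.card k := Finite.one_lt_card
  obtain ⟨g, hg⟩ : ∃ g, g = genus k K := ⟨_, rfl⟩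
  obtain ⟨C₀, hC₀⟩ : ∃ C₀, C₀ = C' * Nat.card k ^ (2 * g) := ⟨_, rfl⟩
  obtain ⟨M, hM⟩ : ∃ M, M = 4 * g + C₀ := ⟨_, rfl⟩
  obtain ⟨N, hN⟩ : ∃ N, N = d * M := ⟨_, rfl⟩
  have hfinj : Function.Injective (fun j : Fin (C₀ + 1) => d * (2 * g + (j : ℕ))) := by
    intro j j' h
    have h1 : 2 * g + (j : ℕ) = 2 * g + (j' : ℕ) := Nat.eq_of_mul_eq_mul_left (by omega) h
    exact Fin.ext (by omega)
  have hsplit : ∀ j : Fin (C₀ + 1), N = d * (2 * g + (C₀ - (j : ℕ))) + d * (2 * g + (j : ℕ)) := by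
    intro j
    have := j.2
    rw [hN, ← mul_add]
    congr 1
    omega
  have hfN : ∀ j : Fin (C₀ + 1), d * (2 * g + (j : ℕ)) ≤ N := by
    intro j
    have := hsplit j
    omega
  have hsum := sum_card_le hK1 hK' Q₁ Q₂ hinj₁ hinj₂ hdisj hd₁ hd₂ N
    (fun j : Fin (C₀ + 1) => d * (2 * g + (j : ℕ))) hfinj hfN
  have hterm : ∀ j : Fin (C₀ + 1), Nat.card k ^ (N - 2 * g) ≤
      Nat.card {D : Divisor k K // 0 ≤ D ∧ D.deg = ((d * (2 * g + (j : ℕ)) : ℕ) : ℤ)} *
        Nat.card {D : Divisor k K // 0 ≤ D ∧ D.deg = ((N - d * (2 * g + (j : ℕ)) : ℕ) : ℤ)} := by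
    intro j
    have hs := hsplit j
    have hsub : N - d * (2 * g + (j : ℕ)) = d * (2 * g + (C₀ - (j : ℕ))) := by omega
    have hb1 : 2 * g ≤ d * (2 * g + (j : ℕ)) := by nlinarith
    have hb2 : 2 * g ≤ d * (2 * g + (C₀ - (j : ℕ))) := by nlinarith
    have h1 := effDivCount_ge hK (d * (2 * g + (j : ℕ))) (by rw [← hg]; exact hb1)
      (hex _ (dvd_mul_right _ _))
    have h2 := effDivCount_ge hK (N - d * (2 * g + (j : ℕ))) (by rw [← hg, hsub]; exact hb2)
      (hex _ (by rw [hsub]; exact dvd_mul_right _ _))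
    rw [← hg] at h1 h2
    calc Nat.card k ^ (N - 2 * g)
        = Nat.card k ^ (d * (2 * g + (j : ℕ)) - g) *
          Nat.card k ^ (N - d * (2 * g + (j : ℕ)) - g) := by
          rw [← pow_add]; congr 1; omega
      _ ≤ _ := Nat.mul_le_mul h1 h2
  have h3 : (C₀ + 1) * Nat.card k ^ (N - 2 * g) ≤
      ∑ j : Fin (C₀ + 1),
        Nat.card {D : Divisor k K // 0 ≤ D ∧ D.deg = ((d * (2 * g + (j : ℕ)) : ℕ) : ℤ)} *
        Nat.card {D : Divisor k K // 0 ≤ D ∧ D.deg = ((N - d * (2 * g + (j : ℕ)) : ℕ) : ℤ)} := by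
    calc (C₀ + 1) * Nat.card k ^ (N - 2 * g)
        = ∑ _j : Fin (C₀ + 1), Nat.card k ^ (N - 2 * g) := by simp
      _ ≤ _ := Finset.sum_le_sum (fun j _ => hterm j)
  have h4 := hC' N
  have hN2g : 2 * g ≤ N := by
    rw [hN, hM]; nlinarith
  have h5 : Nat.card k ^ N = Nat.card k ^ (2 * g) * Nat.card k ^ (N - 2 * g) := by
    rw [← pow_add]; congr 1; omega
  have hx : 0 < Nat.card k ^ (N - 2 * g) := pow_pos (by omega) _
  have h6 := (h3.trans hsum).trans h4
  rw [h5, ← mul_assoc, ← hC₀] at h6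
  have := Nat.le_of_mul_le_mul_right h6 hx
  omega

end Contra

section Construct

variable {k K : Type*} [Field k] [Field K] [Algebra k K]

/-- There is no `d ≥ 2` dividing the degrees of all places. -/
theorem schmidt_false [Finite k] (hK : FunFld.IsFunctionField k K) (d : ℕ) (hd2 : 2 ≤ d)
    (hdP : ∀ P : Place k K, d ∣ P.deg)
    (hex : ∀ n : ℕ, d ∣ n → ∃ D : Divisor k K, D.deg = n) : False := by
  classical
  obtain ⟨p, hp⟩ := CharP.exists k
  haveI := hp
  haveI : Fact p.Prime := ⟨CharP.char_is_prime k p⟩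
  haveI : NeZero d := ⟨by omega⟩
  have hfr : Module.finrank k (FiniteField.Extension k p d) = d :=
    FiniteField.finrank_extension k p d
  have hcard : Nat.card (FiniteField.Extension k p d) = Nat.card k ^ d :=
    FiniteField.natCard_extension k p d
  obtain ⟨β, hβ⟩ := Field.exists_primitive_element k (FiniteField.Extension k p d)
  have hint : IsIntegral k β := IsIntegral.of_finite k β
  obtain ⟨f, hf⟩ : ∃ f, f = minpoly k β := ⟨_, rfl⟩
  have hfm : f.Monic := hf ▸ minpoly.monic hint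
  have hfi : Irreducible f := hf ▸ minpoly.irreducible hint
  have hfd : f.natDegree = d := by
    have h1 : Module.finrank k k⟮β⟯ = (minpoly k β).natDegree :=
      IntermediateField.adjoin.finrank hint
    have h2 : Module.finrank k (⊤ : IntermediateField k (FiniteField.Extension k p d))
        = Module.finrank k (FiniteField.Extension k p d) := IntermediateField.finrank_top'
    rw [hβ] at h1
    rw [hf, ← h1, h2, hfr]
  have hβpow : β ^ (Nat.card k ^ d) = β := by
    haveI : Fintype (FiniteField.Extension k p d) := Fintype.ofFinite _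
    rw [← hcard, Nat.card_eq_fintype_card]
    exact FiniteField.pow_card β
  have hdvd : f ∣ X ^ (Nat.card k ^ d) - X := by
    rw [hf]
    apply minpoly.dvd k β
    simp [hβpow]
  have hfK : Irreducible (f.map (algebraMap k K)) :=
    irreducible_map_of_algClosed_in (fun y hy => hK.2 y hy.isAlgebraic) hfm hfi
  haveI : Fact (Irreducible (f.map (algebraMap k K))) := ⟨hfK⟩
  obtain ⟨α, hαdef⟩ : ∃ α : AdjoinRoot (f.map (algebraMap k K)), α = AdjoinRoot.root _ := ⟨_, rfl⟩
  have hα0 : aeval α f = 0 := by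
    rw [← Polynomial.aeval_map_algebraMap K, hαdef]
    exact AdjoinRoot.eval₂_root _
  have hα : α ^ (Nat.card k ^ d) = α := by
    obtain ⟨c, hc⟩ := hdvd
    have := congrArg (aeval α) hc
    rw [map_mul, hα0, zero_mul, map_sub, map_pow, aeval_X] at this
    exact sub_eq_zero.mp this
  have hgen : ∀ τ : AdjoinRoot (f.map (algebraMap k K)) ≃ₐ[K] AdjoinRoot (f.map (algebraMap k K)),
      τ α = α → τ = 1 := by
    intro τ h
    have h1 : (τ : AdjoinRoot (f.map (algebraMap k K)) →ₐ[K] AdjoinRoot (f.map (algebraMap k K)))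
        = AlgHom.id K _ := AdjoinRoot.algHom_ext (by rw [← hαdef]; simpa using h)
    ext x
    exact DFunLike.congr_fun h1 x
  haveI : FiniteDimensional K (AdjoinRoot (f.map (algebraMap k K))) :=
    (AdjoinRoot.powerBasis hfK.ne_zero).finite
  have hfrK : Module.finrank K (AdjoinRoot (f.map (algebraMap k K))) = d := by
    rw [(AdjoinRoot.powerBasis hfK.ne_zero).finrank, AdjoinRoot.powerBasis_dim, natDegree_map, hfd]
  -- `f` splits in `k(α)`, a finite field
  have hintα : IsIntegral k α := ⟨f, hfm, hα0⟩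
  haveI : FiniteDimensional k k⟮α⟯ := IntermediateField.adjoin.finiteDimensional hintα
  haveI : Finite k⟮α⟯ := Module.finite_of_finite k
  have hnorm : Normal k k⟮α⟯ := IsGalois.to_normal
  have hmin : minpoly k (IntermediateField.AdjoinSimple.gen k α) = f := by
    rw [IntermediateField.minpoly_gen]
    exact (minpoly.eq_of_irreducible_of_monic hfi hα0 hfm).symm
  have hsp1 : (f.map (algebraMap k k⟮α⟯)).Splits := by
    have h1 := hnorm.splits (IntermediateField.AdjoinSimple.gen k α)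
    rw [hmin] at h1
    exact h1
  have hsp : ((f.map (algebraMap k K)).map
      (algebraMap K (AdjoinRoot (f.map (algebraMap k K))))).Splits := by
    have h1 := hsp1.map (algebraMap k⟮α⟯ (AdjoinRoot (f.map (algebraMap k K))))
    rw [Polynomial.map_map, ← IsScalarTower.algebraMap_eq] at h1
    rw [Polynomial.map_map, ← IsScalarTower.algebraMap_eq]
    exact h1
  haveI : (f.map (algebraMap k K)).IsSplittingField K (AdjoinRoot (f.map (algebraMap k K))) := by
    refine ⟨hsp, ?_⟩
    rw [eq_top_iff, ← AdjoinRoot.adjoinRoot_eq_top]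
    apply Algebra.adjoin_mono
    rintro x rfl
    rw [Polynomial.mem_rootSet]
    exact ⟨hfK.ne_zero, AdjoinRoot.eval₂_root _⟩
  have hsep : (f.map (algebraMap k K)).Separable :=
    (PerfectField.separable_of_irreducible hfi).map
  haveI : IsGalois K (AdjoinRoot (f.map (algebraMap k K))) :=
    IsGalois.of_separable_splitting_field hsep
  exact schmidt_aux hK hd2 hfrK hdP hex hα hgen

/-- **F. K. Schmidt**: over a finite constant field there is a divisor of degree one. -/
theorem deg_surjective [Finite k] (hK : FunFld.IsFunctionField k K) :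
    Function.Surjective (Divisor.deg : Divisor k K → ℤ) := by
  classical
  obtain ⟨a, ha⟩ := Int.subgroup_cyclic (degHom k K).range
  rw [← AddSubgroup.zmultiples_eq_closure] at ha
  have hmem : ∀ n : ℤ, (∃ D : Divisor k K, D.deg = n) ↔ a ∣ n := by
    intro n
    constructor
    · rintro ⟨D, rfl⟩
      have h1 : degHom k K D ∈ (degHom k K).range := ⟨D, rfl⟩
      rw [ha, Int.mem_zmultiples_iff, degHom_apply] at h1
      exact h1
    · intro h
      have h1 : n ∈ (degHom k K).range := by rw [ha, Int.mem_zmultiples_iff]; exact h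
      obtain ⟨D, hD⟩ := h1
      exact ⟨D, by rw [← degHom_apply]; exact hD⟩
  have hdP : ∀ P : Place k K, a.natAbs ∣ P.deg := by
    intro P
    have h1 : a ∣ (P.deg : ℤ) :=
      (hmem _).mp ⟨Finsupp.single P 1, by rw [deg_single, one_mul]⟩
    have h2 := Int.natAbs_dvd_natAbs.mpr h1
    rwa [Int.natAbs_natCast] at h2
  have hex : ∀ n : ℕ, a.natAbs ∣ n → ∃ D : Divisor k K, D.deg = n := by
    intro n hn
    apply (hmem n).mpr
    rw [← Int.natAbs_dvd_natAbs, Int.natAbs_natCast]
    exact hn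
  obtain ⟨x, hx, -⟩ := hK.1
  obtain ⟨P, -⟩ := exists_pole hK x hx
  have hd0 : a.natAbs ≠ 0 := by
    intro h
    have h1 := hdP P
    rw [h, zero_dvd_iff] at h1
    exact (deg_pos hK P).ne' h1
  by_cases hd1 : a.natAbs = 1
  · intro n
    apply (hmem n).mpr
    exact (Int.isUnit_iff_natAbs_eq.mpr hd1).dvd
  · exact (schmidt_false hK a.natAbs (by omega) hdP hex).elim

end Construct

end Groth.Agent.H55
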