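import Groth.Agent.H55.FFSing

/-!
Fractions of the coordinate ring, the conductor, and finiteness of the singular places.
-/

namespace Groth.Agent.H55

open FunFld WithZero IntermediateField

variable {k K : Type*} [Field k] [Field K] [Algebra k K]

theorem exists_frac {ι : Type*} (r : ι → K)
    (hgen : IntermediateField.adjoin k (Set.range r) = ⊤) (z : K) :
    ∃ a ∈ Acoord k r, ∃ b ∈ Acoord k r, b ≠ 0 ∧ z * b = a := by
  have hz : z ∈ IntermediateField.adjoin k (Set.range r) := by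
    rw [hgen]
    exact IntermediateField.mem_top
  induction hz using IntermediateField.adjoin_induction with
  | mem y hy => exact ⟨y, Algebra.subset_adjoin hy, 1, one_mem _, one_ne_zero, mul_one y⟩
  | algebraMap c =>
    exact ⟨algebraMap k K c, Subalgebra.algebraMap_mem _ c, 1, one_mem _, one_ne_zero, mul_one _⟩
  | add y z _ _ hy hz =>
    obtain ⟨a₁, ha₁, b₁, hb₁, hb₁0, h₁⟩ := hy
    obtain ⟨a₂, ha₂, b₂, hb₂, hb₂0, h₂⟩ := hz
    exact ⟨a₁ * b₂ + a₂ * b₁, add_mem (mul_mem ha₁ hb₂) (mul_mem ha₂ hb₁), b₁ * b₂,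
      mul_mem hb₁ hb₂, mul_ne_zero hb₁0 hb₂0, by rw [← h₁, ← h₂]; ring⟩
  | inv y _ hy =>
    obtain ⟨a, ha, b, hb, hb0, h⟩ := hy
    by_cases ha0 : a = 0
    · have hy0 : y = 0 := by
        rw [ha0] at h
        exact (mul_eq_zero.mp h).resolve_right hb0
      exact ⟨0, zero_mem _, 1, one_mem _, one_ne_zero, by rw [hy0, inv_zero, zero_mul]⟩
    · refine ⟨b, hb, a, ha, ha0, ?_⟩
      have hy0 : y ≠ 0 := by
        rintro rfl
        rw [zero_mul] at h
        exact ha0 h.symm
      rw [← h, ← mul_assoc, inv_mul_cancel₀ hy0, one_mul]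
  | mul y z _ _ hy hz =>
    obtain ⟨a₁, ha₁, b₁, hb₁, hb₁0, h₁⟩ := hy
    obtain ⟨a₂, ha₂, b₂, hb₂, hb₂0, h₂⟩ := hz
    exact ⟨a₁ * a₂, mul_mem ha₁ ha₂, b₁ * b₂, mul_mem hb₁ hb₂, mul_ne_zero hb₁0 hb₂0,
      by rw [← h₁, ← h₂]; ring⟩

theorem exists_not_isFin (hK : FunFld.IsFunctionField k K) {ι : Type*} [Fintype ι] (r : ι → K)
    (hgen : IntermediateField.adjoin k (Set.range r) = ⊤) : ∃ Q : Place k K, ¬ IsFin r Q := by
  by_contra hcon
  push_neg at hcon
  obtain ⟨y, hyt, -⟩ := hK.1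
  have hle : IntermediateField.adjoin k (Set.range r) ≤ ⊥ := by
    rw [IntermediateField.adjoin_le_iff]
    rintro _ ⟨i, rfl⟩
    have h1 : r i ∈ L (0 : Divisor k K) := fun Q => by simpa using hcon Q i
    rw [L_zero_eq hK, Submodule.mem_one] at h1
    obtain ⟨c', hc'⟩ := h1
    exact IntermediateField.mem_bot.mpr ⟨c', hc'⟩
  have h2 : y ∈ (⊥ : IntermediateField k K) := hle (hgen ▸ IntermediateField.mem_top)
  obtain ⟨c', rfl⟩ := IntermediateField.mem_bot.mp h2
  exact hyt (isAlgebraic_algebraMap c')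

/-- The conductor: a nonzero element of `k[r]` multiplying all functions regular at the finite
places into `k[r]`. -/
theorem exists_conductor [Infinite k] (hK : FunFld.IsFunctionField k K) {ι : Type*} [Fintype ι]
    (r : ι → K) (j₀ : ι) (hj₀ : r j₀ = 1)
    (hgen : IntermediateField.adjoin k (Set.range r) = ⊤) :
    ∃ s₀ ∈ Acoord k r, s₀ ≠ 0 ∧ ∀ z ∈ Bcoord (k := k) r, s₀ * z ∈ Acoord k r := by
  classical
  obtain ⟨U, hUfin, hUB, hBU⟩ := finite_codim hK r j₀ hj₀ hgen
  obtain ⟨S, hS⟩ := (Submodule.fg_iff_finiteDimensional U).mpr hUfin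
  choose a ha b hb hb0 hab using exists_frac r hgen
  have hs₀A : ∏ u ∈ S, b u ∈ Acoord k r := Subalgebra.prod_mem _ (fun u _ => hb u)
  have hs₀0 : ∏ u ∈ S, b u ≠ 0 := Finset.prod_ne_zero_iff.mpr (fun u _ => hb0 u)
  have hs₀U : ∀ u ∈ U, (∏ u ∈ S, b u) * u ∈ Acoord k r := by
    intro u hu
    rw [← hS] at hu
    induction hu using Submodule.span_induction with
    | mem v hv =>
      have hv' : v ∈ S := Finset.mem_coe.mp hv
      rw [← Finset.mul_prod_erase S b hv']
      have e : (b v * ∏ x ∈ S.erase v, b x) * v = (∏ x ∈ S.erase v, b x) * (v * b v) := by ring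
      rw [e, hab v]
      exact mul_mem (Subalgebra.prod_mem _ (fun u _ => hb u)) (ha v)
    | zero =>
      rw [mul_zero]
      exact zero_mem _
    | add x y _ _ hx hy =>
      rw [mul_add]
      exact add_mem hx hy
    | smul c x _ hx =>
      rw [mul_smul_comm]
      exact Subalgebra.smul_mem _ hx c
  refine ⟨∏ u ∈ S, b u, hs₀A, hs₀0, ?_⟩
  intro z hz
  obtain ⟨α, hα, υ, hυ, rfl⟩ := Submodule.mem_sup.mp (hBU hz)
  rw [mul_add]
  exact add_mem (mul_mem hs₀A hα) (hs₀U υ hυ)

/-- A birational projective map is nonsingular at all but finitely many places. -/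
theorem finite_singular [IsAlgClosed k] (hK : FunFld.IsFunctionField k K) {ι : Type*}
    [Fintype ι] (φ : ι → K) (j₀ : ι) (hφ0 : ∀ i, φ i ≠ 0)
    (hbir : IntermediateField.adjoin k (Set.range fun i => φ i / φ j₀) = ⊤) :
    {P : Place k K | ¬ IsNonsingularAt φ P}.Finite := by
  classical
  obtain ⟨s₀, hs₀A, hs₀0, hs₀B⟩ := exists_conductor hK (fun i => φ i / φ j₀) j₀
    (div_self (hφ0 j₀)) hbir
  obtain ⟨Pinf, hPinf⟩ := exists_not_isFin hK (fun i => φ i / φ j₀) hbir
  refine ((infinite_places_finite hK (fun i => φ i / φ j₀)).union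
    (zeros_finite hK s₀ hs₀0)).subset ?_
  intro P hP
  by_contra hgood
  simp only [Set.mem_union, Set.mem_setOf_eq, not_or, not_not, not_lt] at hgood
  obtain ⟨hPfin, hPs₀⟩ := hgood
  apply hP
  have hPs₀1 : P.1 s₀ = 1 := le_antisymm (Acoord_val_le _ P hPfin hs₀A) hPs₀
  have hP0 : ∀ i, P.1 (φ i) ≤ P.1 (φ j₀) := by
    intro i
    have h1 := hPfin i
    change P.1 (φ i / φ j₀) ≤ 1 at h1
    rwa [map_div₀,
      div_le_one₀ (zero_lt_iff.mpr ((Valuation.ne_zero_iff _).mpr (hφ0 j₀)))] at h1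
  have hPne : P ≠ Pinf := by
    rintro rfl
    exact hPinf hPfin
  refine isNonsingularAt_of_sep_of_unif hK φ j₀ hφ0 hbir P j₀ hP0 ?_ ?_
  · intro Q hQP hQfin
    have hQne : Q ≠ Pinf := by
      rintro rfl
      exact hPinf hQfin
    obtain ⟨z, hz1, hz2⟩ := strong_approx_le hK Pinf {P, Q}
      (by
        simp only [Finset.mem_insert, Finset.mem_singleton, not_or]
        exact ⟨hPne.symm, hQne.symm⟩)
      (fun R => if R = P then 1 else 0) (fun _ => -1)
    have hzP : P.1 (z - 1) ≤ exp (-1 : ℤ) := by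
      have := hz1 P (by simp)
      simpa using this
    have hzQ : Q.1 z ≤ exp (-1 : ℤ) := by
      have := hz1 Q (by simp)
      simpa [hQP] using this
    have hPz : P.1 z = 1 := by
      have h1 : P.1 (z - algebraMap k K 1) < 1 := by
        rw [map_one]
        exact (zm0_lt_one_iff _).mpr hzP
      exact val_eq_one_of_sub_const P h1 one_ne_zero
    have hzB : z ∈ Bcoord (k := k) (fun i => φ i / φ j₀) := by
      intro R hR
      by_cases hRP : R = P
      · rw [hRP, hPz]
      by_cases hRQ : R = Q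
      · rw [hRQ]
        exact hzQ.trans ((zm0_lt_one_iff _).mpr le_rfl).le
      exact hz2 R (by rintro rfl; exact hPinf hR)
        (by
          simp only [Finset.mem_insert, Finset.mem_singleton, not_or]
          exact ⟨hRP, hRQ⟩)
    refine ⟨s₀ * z, hs₀B z hzB, by rw [map_mul, hPs₀1, hPz, one_mul], ?_⟩
    rw [map_mul]
    calc Q.1 s₀ * Q.1 z ≤ 1 * exp (-1 : ℤ) :=
          mul_le_mul' (Acoord_val_le _ Q hQfin hs₀A) hzQ
      _ = exp (-1 : ℤ) := one_mul _
      _ < 1 := (zm0_lt_one_iff _).mpr le_rfl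
  · obtain ⟨t₀, -, ht₀⟩ := pl_exists_val_eq_exp P (-1)
    obtain ⟨z, hz1, hz2⟩ := strong_approx_le hK Pinf {P}
      (by
        simp only [Finset.mem_singleton]
        exact hPne.symm)
      (fun _ => t₀) (fun _ => -2)
    have hzP : P.1 (z - t₀) ≤ exp (-2 : ℤ) := hz1 P (by simp)
    have hPz : P.1 z = exp (-1 : ℤ) := by
      have e : z = (z - t₀) + t₀ := by ring
      rw [e, P.1.map_add_eq_of_lt_right, ht₀]
      rw [ht₀]
      exact lt_of_le_of_lt hzP (exp_lt_exp.mpr (by norm_num))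
    have hzB : z ∈ Bcoord (k := k) (fun i => φ i / φ j₀) := by
      intro R hR
      by_cases hRP : R = P
      · rw [hRP, hPz]
        exact ((zm0_lt_one_iff _).mpr le_rfl).le
      exact hz2 R (by rintro rfl; exact hPinf hR)
        (by
          simp only [Finset.mem_singleton]
          exact hRP)
    exact ⟨s₀ * z, hs₀B z hzB, by rw [map_mul, hPs₀1, one_mul, hPz]⟩

end Groth.Agent.H55
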