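import Groth.Agent.H55.FFCons3
import Mathlib

/-!
Weierstrass normal form of a genus-one function field with a place of degree one.
-/

set_option autoImplicit false

namespace Groth.Agent.H55

open FunFld WithZero Polynomial IntermediateField

variable {k K : Type*} [Field k] [Field K] [Algebra k K]

/-- A `k`-linear combination of nonzero elements with pairwise distinct orders at `P` vanishes
only if all coefficients vanish. -/
theorem eq_zero_of_sum_eq_zero_of_ord_injOn {ι : Type*} (P : Place k K) (s : Finset ι)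
    (c : ι → k) (u : ι → K) (hu : ∀ i ∈ s, u i ≠ 0)
    (hinj : Set.InjOn (fun i => P.ord (u i)) (s : Set ι))
    (h : ∑ i ∈ s, c i • u i = 0) : ∀ i ∈ s, c i = 0 := by
  classical
  by_contra hcon
  rw [not_forall] at hcon
  obtain ⟨j, hj⟩ := hcon
  rw [Classical.not_imp] at hj
  set T := s.filter (fun i => c i ≠ 0) with hT
  have hTne : T.Nonempty := ⟨j, Finset.mem_filter.mpr hj⟩
  obtain ⟨i₀, hi₀, hmax⟩ := Finset.exists_max_image T (fun i => P.1 (u i)) hTne
  have hi₀s : i₀ ∈ s := (Finset.mem_filter.mp hi₀).1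
  have hci₀ : c i₀ ≠ 0 := (Finset.mem_filter.mp hi₀).2
  have hval : ∀ i, c i ≠ 0 → P.1 (c i • u i) = P.1 (u i) := fun i hi => pl_val_smul P hi _
  have hne0 : P.1 (u i₀) ≠ 0 := (P.1.ne_zero_iff).mpr (hu i₀ hi₀s)
  have hlt : P.1 (∑ i ∈ s.erase i₀, c i • u i) < P.1 (u i₀) := by
    apply Valuation.map_sum_lt _ hne0
    intro i hi
    have his : i ∈ s := Finset.mem_of_mem_erase hi
    have hne : i ≠ i₀ := Finset.ne_of_mem_erase hi
    by_cases hci : c i = 0
    · rw [hci, zero_smul, map_zero]; exact zero_lt_iff.mpr hne0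
    · rw [hval i hci]
      have hiT : i ∈ T := Finset.mem_filter.mpr ⟨his, hci⟩
      refine lt_of_le_of_ne (hmax i hiT) ?_
      intro heq
      apply hne
      apply hinj his hi₀s
      change P.ord (u i) = P.ord (u i₀)
      unfold Place.ord
      rw [heq]
  have hsum : ∑ i ∈ s, c i • u i = c i₀ • u i₀ + ∑ i ∈ s.erase i₀, c i • u i :=
    (Finset.add_sum_erase s _ hi₀s).symm
  rw [hsum] at h
  have h2 : P.1 (c i₀ • u i₀ + ∑ i ∈ s.erase i₀, c i • u i) = P.1 (c i₀ • u i₀) := by
    apply Valuation.map_add_eq_of_lt_left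
    rw [hval i₀ hci₀]; exact hlt
  rw [h, map_zero, hval i₀ hci₀] at h2
  exact hne0 h2.symm

/-- Pole orders of `1, x, y, x², xy, x³, y²`. -/
def wOrd : Fin 7 → ℤ := ![0, -2, -3, -4, -5, -6, -6]

theorem wOrd_inj6 : ∀ i ∈ (Finset.univ.erase 6 : Finset (Fin 7)),
    ∀ i' ∈ (Finset.univ.erase 6 : Finset (Fin 7)), wOrd i = wOrd i' → i = i' := by decide

theorem wOrd_inj5 : ∀ i ∈ (Finset.univ.erase 5 : Finset (Fin 7)),
    ∀ i' ∈ (Finset.univ.erase 5 : Finset (Fin 7)), wOrd i = wOrd i' → i = i' := by decide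

theorem wOrd_ge : ∀ i : Fin 7, -((6 : ℕ) : ℤ) ≤ wOrd i := by decide

theorem weierstrass_form (hK : FunFld.IsFunctionField k K) (hg : genus k K = 1)
    (P₀ : Place k K) (hP : P₀.deg = 1) :
    ∃ x y : K, x ∈ L (Finsupp.single P₀ 2 : Divisor k K) ∧
      y ∈ L (Finsupp.single P₀ 3 : Divisor k K) ∧
      P₀.ord x = -2 ∧ P₀.ord y = -3 ∧
      IntermediateField.adjoin k ({x, y} : Set K) = ⊤ ∧
      ∃ f g : Polynomial k, f.natDegree ≤ 1 ∧ g.natDegree = 3 ∧
        y ^ 2 + Polynomial.aeval x f * y + Polynomial.aeval x g = 0 := by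
  classical
  have hell : ∀ n : ℕ, 1 ≤ n → ell (Finsupp.single P₀ (n : ℤ) : Divisor k K) = n := by
    intro n hn
    have h1 := ell_eq_of_deg_ge hK (Finsupp.single P₀ (n : ℤ) : Divisor k K) (by
      rw [deg_single, hP, hg]; push_cast; omega)
    rw [deg_single, hP, hg] at h1
    have : (ell (Finsupp.single P₀ (n : ℤ) : Divisor k K) : ℤ) = n := by rw [h1]; push_cast; ring
    exact_mod_cast this
  have hng : ∀ n : ℕ, 2 ≤ n → ¬ IsGap P₀ (n : ℤ) := by
    intro n hn hgap
    have h1 := hell n (by omega)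
    have h2 := hell (n - 1) (by omega)
    unfold IsGap at hgap
    unfold ell at h1 h2
    rw [hgap] at h1
    have e : ((n - 1 : ℕ) : ℤ) = (n : ℤ) - 1 := by rw [Nat.cast_sub (by omega)]; simp
    rw [e] at h2
    omega
  obtain ⟨x, hx0, hxP, hxQ⟩ := exists_of_not_isGap P₀ (hng 2 le_rfl)
  obtain ⟨y, hy0, hyP, hyQ⟩ := exists_of_not_isGap P₀ (hng 3 (by norm_num))
  have hxP' : P₀.ord x = -2 := by exact_mod_cast hxP
  have hyP' : P₀.ord y = -3 := by exact_mod_cast hyP
  refine ⟨x, y, (mem_L_single_iff P₀ hx0).mpr ⟨by omega, hxQ⟩,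
    (mem_L_single_iff P₀ hy0).mpr ⟨by omega, hyQ⟩, hxP', hyP', ?_, ?_⟩
  · -- k(x,y) = K
    have hxt : Transcendental k x := transcendental_of_val_ne_one hK P₀ hx0 (by
      rw [Ne, pl_val_eq_one_iff P₀ hx0]; omega)
    have hyt : Transcendental k y := transcendental_of_val_ne_one hK P₀ hy0 (by
      rw [Ne, pl_val_eq_one_iff P₀ hy0]; omega)
    have h2 := deg_poleDiv hK x hxt
    rw [poleDiv_eq_single hK (by norm_num) hxP' hxQ, deg_single, hP] at h2
    have h3 := deg_poleDiv hK y hyt
    rw [poleDiv_eq_single hK (by norm_num) hyP' hyQ, deg_single, hP] at h3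
    have h2' : Module.finrank k⟮x⟯ K = 2 := by
      have : (Module.finrank k⟮x⟯ K : ℤ) = 2 := by rw [← h2]; norm_num
      exact_mod_cast this
    have h3' : Module.finrank k⟮y⟯ K = 3 := by
      have : (Module.finrank k⟮y⟯ K : ℤ) = 3 := by rw [← h3]; norm_num
      exact_mod_cast this
    set F : IntermediateField k K := IntermediateField.adjoin k ({x, y} : Set K) with hF
    have hxF : k⟮x⟯ ≤ F := by
      rw [adjoin_simple_le_iff]; exact subset_adjoin k _ (by simp)
    have hyF : k⟮y⟯ ≤ F := by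
      rw [adjoin_simple_le_iff]; exact subset_adjoin k _ (by simp)
    have d2 := relfinrank_mul_finrank_top hxF
    have d3 := relfinrank_mul_finrank_top hyF
    rw [h2'] at d2
    rw [h3'] at d3
    rw [← finrank_eq_one_iff_eq_top]
    have hd2 : Module.finrank F K ∣ 2 := Dvd.intro_left _ d2
    have hd3 : Module.finrank F K ∣ 3 := Dvd.intro_left _ d3
    have : Module.finrank F K ∣ 1 := by
      have := Nat.dvd_sub hd3 hd2
      simpa using this
    exact Nat.dvd_one.mp this
  · -- the cubic relation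
    let u : Fin 7 → K := ![1, x, y, x ^ 2, x * y, x ^ 3, y ^ 2]
    let o : Fin 7 → ℤ := wOrd
    have hu0 : ∀ i, u i ≠ 0 := by
      intro i
      fin_cases i <;> simp [u, hx0, hy0]
    have hord : ∀ i, P₀.ord (u i) = o i := by
      intro i
      fin_cases i
      · simp [u, o, wOrd, pl_ord_one]
      · simp [u, o, wOrd, hxP']
      · simp [u, o, wOrd, hyP']
      · simp [u, o, wOrd, pl_ord_pow, hxP']
      · simp [u, o, wOrd, pl_ord_mul P₀ hx0 hy0, hxP', hyP']
      · simp [u, o, wOrd, pl_ord_pow, hxP']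
      · simp [u, o, wOrd, pl_ord_pow, hyP']
    have hordQ : ∀ i, ∀ Q : Place k K, Q ≠ P₀ → 0 ≤ Q.ord (u i) := by
      intro i Q hQ
      have hx' := hxQ Q hQ
      have hy' := hyQ Q hQ
      fin_cases i
      · simp [u, pl_ord_one]
      · simpa [u] using hx'
      · simpa [u] using hy'
      · simp only [u]; simp [pl_ord_pow]; positivity
      · simp only [u]; simp [pl_ord_mul Q hx0 hy0]; positivity
      · simp only [u]; simp [pl_ord_pow]; positivity
      · simp only [u]; simp [pl_ord_pow]; positivity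
    have hmem : ∀ i, u i ∈ L (Finsupp.single P₀ ((6 : ℕ) : ℤ) : Divisor k K) := by
      intro i
      rw [mem_L_single_iff P₀ (hu0 i)]
      refine ⟨?_, hordQ i⟩
      rw [hord i]
      exact wOrd_ge i
    -- linear dependence
    have hdep : ∃ c : Fin 7 → k, ∑ i, c i • u i = 0 ∧ ¬ ∀ i, c i = 0 := by
      by_contra hcon
      have hli : LinearIndependent k
          (fun i => (⟨u i, hmem i⟩ : L (Finsupp.single P₀ ((6 : ℕ) : ℤ) : Divisor k K))) := by
        rw [Fintype.linearIndependent_iff]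
        intro c hc
        by_contra hne
        apply hcon
        refine ⟨c, ?_, hne⟩
        have := congrArg Subtype.val hc
        simpa using this
      haveI := L_finite hK (Finsupp.single P₀ ((6 : ℕ) : ℤ) : Divisor k K)
      have := hli.fintype_card_le_finrank
      have h6 := hell 6 (by norm_num)
      unfold ell at h6
      rw [h6] at this
      simp at this
    obtain ⟨c, hc, hcne⟩ := hdep
    have key : ∀ j : Fin 7, (∀ i ∈ (Finset.univ.erase j : Finset (Fin 7)),
        ∀ i' ∈ (Finset.univ.erase j : Finset (Fin 7)), o i = o i' → i = i') → c j ≠ 0 := by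
      intro j hinj hcj
      apply hcne
      have hsum : ∑ i ∈ Finset.univ.erase j, c i • u i = 0 := by
        rw [← hc, ← Finset.add_sum_erase Finset.univ _ (Finset.mem_univ j), hcj, zero_smul, zero_add]
      have := eq_zero_of_sum_eq_zero_of_ord_injOn P₀ (Finset.univ.erase j) c u
        (fun i _ => hu0 i) (by
          intro i hi i' hi' h
          simp only at h
          rw [hord, hord] at h
          exact hinj i hi i' hi' h) hsum
      intro i
      by_cases hij : i = j
      · rw [hij]; exact hcj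
      · exact this i (Finset.mem_erase.mpr ⟨hij, Finset.mem_univ i⟩)
    have hc6 : c 6 ≠ 0 := key 6 wOrd_inj6
    have hc5 : c 5 ≠ 0 := key 5 wOrd_inj5
    rw [Fin.sum_univ_seven] at hc
    simp only [u, Matrix.cons_val_zero, Matrix.cons_val_one, Matrix.cons_val] at hc
    refine ⟨C (c 4 / c 6) * X + C (c 2 / c 6),
      C (c 5 / c 6) * X ^ 3 + C (c 3 / c 6) * X ^ 2 + C (c 1 / c 6) * X + C (c 0 / c 6),
      natDegree_linear_le, natDegree_cubic (div_ne_zero hc5 hc6), ?_⟩
    simp only [map_add, map_mul, aeval_C, aeval_X, map_pow, map_div₀]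
    have hc6' : algebraMap k K (c 6) ≠ 0 := (_root_.map_ne_zero _).mpr hc6
    simp only [Algebra.smul_def] at hc
    field_simp
    linear_combination hc
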