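import Groth.Agent.H55.FFAdele
import Mathlib

/-!
Weil differentials: divisor of a differential, `dim_K W_K = 1`, duality and Riemann–Roch.
-/

set_option autoImplicit false

namespace Groth.Agent.H55

open FunFld WithZero Polynomial IntermediateField

variable {k K : Type*} [Field k] [Field K] [Algebra k K]

section Basics

theorem mem_WD_iff (D : Divisor k K) (ω : Module.Dual k (adele k K)) :
    ω ∈ WD D ↔ ∀ a : adele k K, (a : Place k K → K) ∈ AD D ⊔ Kd k K → ω a = 0 := by
  unfold WD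
  rw [Submodule.mem_dualAnnihilator]
  exact Iff.rfl

theorem WD_anti {E E' : Divisor k K} (h : E ≤ E') : WD E' ≤ WD E := by
  intro ω hω
  rw [mem_WD_iff] at hω ⊢
  intro a ha
  exact hω a (sup_le_sup_right (AD_mono h) _ ha)

theorem smul_mem_adele (hK : FunFld.IsFunctionField k K) (x : K) :
    ∀ a ∈ adele k K, x • a ∈ adele k K := by
  intro a ha
  rw [mem_adele] at ha ⊢
  refine ((poles_finite hK x).union ha).subset ?_
  intro P hP
  by_contra hcon
  rw [Set.mem_union, not_or] at hcon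
  apply hP
  have h1 : P.1 x ≤ 1 := not_lt.mp hcon.1
  have h2 : P.1 (a P) ≤ 1 := not_not.mp hcon.2
  change P.1 (x * a P) ≤ 1
  rw [map_mul]
  exact (mul_le_mul' h1 h2).trans_eq (one_mul _)

theorem mulW_apply (x : K) (hx : ∀ a ∈ adele k K, x • a ∈ adele k K)
    (ω : Module.Dual k (adele k K)) (a : adele k K) :
    mulW x hx ω a = ω ⟨x • (a : Place k K → K), hx a.1 a.2⟩ := rfl

theorem smul_mem_AD_iff (hK : FunFld.IsFunctionField k K) {x : K} (hx : x ≠ 0)
    (a : Place k K → K) (E : Divisor k K) :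
    x • a ∈ AD E ↔ a ∈ AD (E + FunFld.div k x) := by
  constructor
  · intro h P
    have h1 := h P
    change P.1 (x * a P) ≤ _ at h1
    rw [map_mul, pl_val_eq_exp_neg_ord P hx] at h1
    rw [Finsupp.add_apply, div_apply hK, exp_add]
    calc P.1 (a P) = exp (P.ord x) * (exp (-(P.ord x)) * P.1 (a P)) := by
          rw [← mul_assoc, ← exp_add]; simp
      _ ≤ exp (P.ord x) * exp (E P) := mul_le_mul' le_rfl h1
      _ = exp (E P) * exp (P.ord x) := mul_comm _ _
  · intro h P
    have h1 := h P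
    rw [Finsupp.add_apply, div_apply hK, exp_add] at h1
    change P.1 (x * a P) ≤ _
    rw [map_mul, pl_val_eq_exp_neg_ord P hx]
    calc exp (-(P.ord x)) * P.1 (a P) ≤ exp (-(P.ord x)) * (exp (E P) * exp (P.ord x)) :=
          mul_le_mul' le_rfl h1
      _ = exp (E P) := by
          rw [mul_comm (exp (E P)), ← mul_assoc, ← exp_add]; simp

theorem smul_diag (x z : K) : x • diag k K z = diag k K (x * z) := rfl

theorem smul_mem_ADK_iff (hK : FunFld.IsFunctionField k K) {x : K} (hx : x ≠ 0)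
    (a : Place k K → K) (E : Divisor k K) :
    x • a ∈ AD E ⊔ Kd k K ↔ a ∈ AD (E + FunFld.div k x) ⊔ Kd k K := by
  constructor
  · intro h
    obtain ⟨b, hb, y, ⟨z, rfl⟩, hsum⟩ := Submodule.mem_sup.mp h
    have ha : a = x⁻¹ • b + diag k K (x⁻¹ * z) := by
      rw [← smul_diag, ← smul_add, hsum, smul_smul, inv_mul_cancel₀ hx, one_smul]
    rw [ha]
    refine Submodule.add_mem _ (Submodule.mem_sup_left ?_) (Submodule.mem_sup_right ⟨_, rfl⟩)
    rw [← smul_mem_AD_iff hK hx, smul_smul, mul_inv_cancel₀ hx, one_smul]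
    exact hb
  · intro h
    obtain ⟨b, hb, y, ⟨z, rfl⟩, hsum⟩ := Submodule.mem_sup.mp h
    rw [← hsum, smul_add, smul_diag]
    exact Submodule.add_mem _ (Submodule.mem_sup_left ((smul_mem_AD_iff hK hx b E).mpr hb))
      (Submodule.mem_sup_right ⟨_, rfl⟩)

theorem mulW_mem_WD_iff (hK : FunFld.IsFunctionField k K) {x : K} (hx0 : x ≠ 0)
    (hx : ∀ a ∈ adele k K, x • a ∈ adele k K) (ω : Module.Dual k (adele k K)) (E : Divisor k K) :
    mulW x hx ω ∈ WD E ↔ ω ∈ WD (E - FunFld.div k x) := by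
  rw [mem_WD_iff, mem_WD_iff]
  constructor
  · intro h b hb
    have hmem : x⁻¹ • (b : Place k K → K) ∈ adele k K := smul_mem_adele hK x⁻¹ b.1 b.2
    have hxb : x • (x⁻¹ • (b : Place k K → K)) = b := by
      rw [smul_smul, mul_inv_cancel₀ hx0, one_smul]
    have h1 := h ⟨x⁻¹ • (b : Place k K → K), hmem⟩ (by
      change x⁻¹ • (b : Place k K → K) ∈ _
      have := (smul_mem_ADK_iff hK hx0 (x⁻¹ • (b : Place k K → K)) (E - FunFld.div k x)).mp
        (by rw [hxb]; exact hb)
      rwa [sub_add_cancel] at this)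
    rw [mulW_apply] at h1
    have : (⟨x • (x⁻¹ • (b : Place k K → K)), hx _ hmem⟩ : adele k K) = b := Subtype.ext hxb
    rw [← this]
    exact h1
  · intro h a ha
    rw [mulW_apply]
    apply h
    change x • (a : Place k K → K) ∈ _
    rw [smul_mem_ADK_iff hK hx0, sub_add_cancel]
    exact ha

theorem mulW_zero (hx : ∀ a ∈ adele k K, (0 : K) • a ∈ adele k K)
    (ω : Module.Dual k (adele k K)) : mulW (0 : K) hx ω = 0 := by
  ext a
  rw [mulW_apply]
  have : (⟨(0 : K) • (a : Place k K → K), hx a.1 a.2⟩ : adele k K) = 0 :=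
    Subtype.ext (zero_smul _ _)
  rw [this, map_zero]
  rfl

theorem mulW_one (hx : ∀ a ∈ adele k K, (1 : K) • a ∈ adele k K)
    (ω : Module.Dual k (adele k K)) : mulW (1 : K) hx ω = ω := by
  ext a
  rw [mulW_apply]
  congr 1
  exact Subtype.ext (one_smul _ _)

theorem mulW_mulW (x y : K) (hx : ∀ a ∈ adele k K, x • a ∈ adele k K)
    (hy : ∀ a ∈ adele k K, y • a ∈ adele k K) (hxy : ∀ a ∈ adele k K, (x * y) • a ∈ adele k K)
    (ω : Module.Dual k (adele k K)) : mulW x hx (mulW y hy ω) = mulW (x * y) hxy ω := by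
  ext a
  rw [mulW_apply, mulW_apply, mulW_apply]
  congr 1
  apply Subtype.ext
  change y • x • (a : Place k K → K) = (x * y) • (a : Place k K → K)
  rw [smul_smul, mul_comm]

/-- `x ↦ xω` as a `k`-linear map. -/
noncomputable def mulWL (hK : FunFld.IsFunctionField k K) (ω : Module.Dual k (adele k K)) :
    K →ₗ[k] Module.Dual k (adele k K) where
  toFun x := mulW x (smul_mem_adele hK x) ω
  map_add' x y := by
    ext a
    rw [LinearMap.add_apply, mulW_apply, mulW_apply, mulW_apply, ← map_add]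
    congr 1
    apply Subtype.ext
    change (x + y) • (a : Place k K → K) = x • (a : Place k K → K) + y • (a : Place k K → K)
    rw [add_smul]
  map_smul' c x := by
    ext a
    rw [LinearMap.smul_apply, RingHom.id_apply, mulW_apply, mulW_apply, ← map_smul]
    congr 1
    apply Subtype.ext
    change (c • x) • (a : Place k K → K) = c • (x • (a : Place k K → K))
    rw [smul_assoc]

theorem mulWL_apply (hK : FunFld.IsFunctionField k K) (ω : Module.Dual k (adele k K)) (x : K)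
    (hx : ∀ a ∈ adele k K, x • a ∈ adele k K) : mulWL hK ω x = mulW x hx ω := rfl

theorem mulW_eq_zero_iff (hK : FunFld.IsFunctionField k K) {x : K}
    (hx : ∀ a ∈ adele k K, x • a ∈ adele k K) {ω : Module.Dual k (adele k K)} (hω : ω ≠ 0) :
    mulW x hx ω = 0 ↔ x = 0 := by
  constructor
  · intro h
    by_contra hx0
    apply hω
    have h1 := mulW_mulW x⁻¹ x (smul_mem_adele hK x⁻¹) hx (smul_mem_adele hK _) ω
    rw [h] at h1
    have h2 : mulW x⁻¹ (smul_mem_adele hK x⁻¹) (0 : Module.Dual k (adele k K)) = 0 := by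
      ext a; rw [mulW_apply]; rfl
    rw [h2] at h1
    have h3 : mulW (x⁻¹ * x) (smul_mem_adele hK _) ω = ω := by
      have := mulW_one (smul_mem_adele hK 1) ω
      convert this using 2
      exact inv_mul_cancel₀ hx0
    rw [h3] at h1
    exact h1.symm
  · rintro rfl
    exact mulW_zero _ ω

end Basics

section DivisorOfDifferential

theorem eq_zero_of_nonneg_of_deg_eq_zero (hK : FunFld.IsFunctionField k K) {D : Divisor k K}
    (h0 : 0 ≤ D) (hd : D.deg = 0) : D = 0 := by
  classical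
  ext P
  by_contra hP
  have hP' : P ∈ D.support := Finsupp.mem_support_iff.mpr hP
  have h1 : Finsupp.single P (D P) ≤ D := by
    intro Q
    by_cases hQ : Q = P
    · subst hQ; simp
    · rw [Finsupp.single_apply, if_neg (Ne.symm hQ)]; exact h0 Q
  have h2 := deg_mono h1
  rw [deg_single, hd] at h2
  have h3 : 0 < D P := lt_of_le_of_ne (h0 P) (Ne.symm hP)
  have h4 : (0 : ℤ) < P.deg := by exact_mod_cast deg_pos hK P
  nlinarith

theorem WD_eq_bot_of_deg_ge (hK : FunFld.IsFunctionField k K) :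
    ∃ N : ℤ, ∀ E : Divisor k K, N ≤ E.deg → ∀ ω ∈ WD E, ω = 0 := by
  obtain ⟨N, hN⟩ := adele_eq hK
  refine ⟨N, fun E hE ω hω => ?_⟩
  rw [mem_WD_iff] at hω
  ext a
  apply hω a
  rw [← hN E hE]
  exact a.2

theorem AD_sup_le (E₁ E₂ : Divisor k K) : AD (E₁ ⊔ E₂) ≤ AD E₁ ⊔ AD E₂ := by
  classical
  intro a ha
  let a' : Place k K → K := fun P => if E₂ P ≤ E₁ P then a P else 0
  have ha' : a' ∈ AD E₁ := by
    intro P
    by_cases h : E₂ P ≤ E₁ P
    · simp only [a', if_pos h]
      have := ha P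
      rwa [Finsupp.sup_apply, sup_eq_left.mpr h] at this
    · simp only [a', if_neg h]; simp
  have ha'' : a - a' ∈ AD E₂ := by
    intro P
    by_cases h : E₂ P ≤ E₁ P
    · simp only [Pi.sub_apply, a', if_pos h, sub_self]; simp
    · simp only [Pi.sub_apply, a', if_neg h, sub_zero]
      have := ha P
      rwa [Finsupp.sup_apply, sup_eq_right.mpr (not_le.mp h).le] at this
  have : a = a' + (a - a') := by abel
  rw [this]
  exact Submodule.add_mem _ (Submodule.mem_sup_left ha') (Submodule.mem_sup_right ha'')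

theorem WD_sup {E₁ E₂ : Divisor k K} {ω : Module.Dual k (adele k K)}
    (h1 : ω ∈ WD E₁) (h2 : ω ∈ WD E₂) : ω ∈ WD (E₁ ⊔ E₂) := by
  rw [mem_WD_iff] at h1 h2 ⊢
  intro a ha
  obtain ⟨b, hb, y, hy, hsum⟩ := Submodule.mem_sup.mp ha
  obtain ⟨b₁, hb₁, b₂, hb₂, hbsum⟩ := Submodule.mem_sup.mp (AD_sup_le E₁ E₂ hb)
  have hb₁' : b₁ ∈ adele k K := AD_le_adele E₁ hb₁
  have hrest : b₂ + y ∈ adele k K := by
    have : b₂ + y = (a : Place k K → K) - b₁ := by rw [← hsum, ← hbsum]; abel
    rw [this]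
    exact (adele k K).sub_mem a.2 hb₁'
  have hdec : a = (⟨b₁, hb₁'⟩ : adele k K) + ⟨b₂ + y, hrest⟩ := by
    apply Subtype.ext
    change (a : Place k K → K) = b₁ + (b₂ + y)
    rw [← hsum, ← hbsum]; abel
  rw [hdec, map_add, h1 _ (Submodule.mem_sup_left hb₁),
    h2 _ (Submodule.add_mem _ (Submodule.mem_sup_left hb₂) (Submodule.mem_sup_right hy)), add_zero]

/-- A nonzero Weil differential has a divisor. -/
theorem exists_isDivOf (hK : FunFld.IsFunctionField k K) (ω : Module.Dual k (adele k K))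
    (hω : IsWeil ω) (h0 : ω ≠ 0) : ∃ C : Divisor k K, IsDivOf ω C := by
  obtain ⟨N, hN⟩ := WD_eq_bot_of_deg_ge hK
  obtain ⟨E₀, hE₀⟩ := hω
  have hbdd : ∀ z : ℤ, (∃ E : Divisor k K, ω ∈ WD E ∧ E.deg = z) → z ≤ N := by
    rintro z ⟨E, hE, rfl⟩
    by_contra hcon
    exact h0 (hN E (not_le.mp hcon).le ω hE)
  obtain ⟨d, ⟨C, hC, hCd⟩, hmax⟩ := Int.exists_greatest_of_bdd ⟨N, hbdd⟩ ⟨E₀.deg, E₀, hE₀, rfl⟩
  refine ⟨C, fun E => ⟨fun hE => ?_, fun hE => WD_anti hE hC⟩⟩
  have hsup := WD_sup hE hC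
  have h1 : (E ⊔ C).deg ≤ d := hmax _ ⟨E ⊔ C, hsup, rfl⟩
  have h2 : C ≤ E ⊔ C := le_sup_right
  have h3 := deg_mono h2
  have h4 : E ⊔ C - C = 0 := by
    apply eq_zero_of_nonneg_of_deg_eq_zero hK (sub_nonneg.mpr h2)
    rw [deg_sub]; omega
  have h5 : E ⊔ C = C := sub_eq_zero.mp h4
  rw [← h5]
  exact le_sup_left

theorem isDivOf_unique {ω : Module.Dual k (adele k K)} {C C' : Divisor k K}
    (h : IsDivOf ω C) (h' : IsDivOf ω C') : C = C' :=
  le_antisymm ((h' C).mp ((h C).mpr le_rfl)) ((h C').mp ((h' C').mpr le_rfl))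

theorem isDivOf_mulW (hK : FunFld.IsFunctionField k K) {x : K} (h0 : x ≠ 0)
    (hx : ∀ a ∈ adele k K, x • a ∈ adele k K)
    {ω : Module.Dual k (adele k K)} {C : Divisor k K} (hω : IsDivOf ω C) :
    IsDivOf (mulW x hx ω) (C + FunFld.div k x) := by
  intro E
  rw [mulW_mem_WD_iff hK h0, hω (E - FunFld.div k x), sub_le_iff_le_add]

theorem ne_zero_of_isDivOf (hK : FunFld.IsFunctionField k K) {ω : Module.Dual k (adele k K)}
    {C : Divisor k K} (hω : IsDivOf ω C) : ω ≠ 0 := by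
  classical
  rintro rfl
  obtain ⟨P₀⟩ := exists_place hK
  have h1 : (0 : Module.Dual k (adele k K)) ∈ WD (C + Finsupp.single P₀ 1) := Submodule.zero_mem _
  have h2 := (hω _).mp h1 P₀
  rw [Finsupp.add_apply, Finsupp.single_eq_same] at h2
  omega

end DivisorOfDifferential

end Groth.Agent.H55
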