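import Groth.Agent.H55.FFSchmidt
import Mathlib

/-!
The numerator `L_K(t) = (1 - t)(1 - q t) Z_K(t)` of the zeta function: its coefficients, the
closed formula for `a(n)` when `n ≥ 2g - 1`, polynomiality and `L_K(1) = h`.
-/

set_option autoImplicit false

namespace Groth.Agent.H55

open FunFld

variable {k K : Type*} [Field k] [Field K] [Algebra k K]

/-- The closed formula `(q - 1) a(n) = h (q^{n+1-g} - 1)` for every `n ≥ 2g - 1`. -/
theorem effDivCount_formula [Finite k] (hK : FunFld.IsFunctionField k K) (n : ℕ)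
    (hn : 2 * genus k K ≤ n + 1) :
    ((Nat.card k : ℤ) - 1) * (effDivCount k K n : ℤ) =
      (classNum k K : ℤ) * ((Nat.card k : ℤ) ^ (n + 1 - genus k K) - 1) := by
  obtain ⟨D₁, hD₁⟩ := deg_surjective hK (n : ℤ)
  obtain ⟨-, h⟩ := class_count hK n hn D₁ hD₁
  unfold effDivCount classNum
  have hu : (Nat.card kˣ : ℤ) = (Nat.card k : ℤ) - 1 := by
    rw [Nat.card_units]
    have := Nat.card_pos (α := k)
    omega
  have h' := congrArg (fun m : ℕ => (m : ℤ)) h
  simp only [Nat.cast_add, Nat.cast_mul, Nat.cast_pow] at h'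
  rw [hu] at h'
  linear_combination h'

variable (k K) in
/-- `W = (1 - q t) Z`. -/
noncomputable def zetaW : PowerSeries ℤ :=
  (1 - PowerSeries.C (Nat.card k : ℤ) * PowerSeries.X) * zetaZ k K

theorem numerZ_eq : numerZ k K = (1 - PowerSeries.X) * zetaW k K := by
  unfold numerZ zetaW
  ring

theorem coeff_zetaW_succ (n : ℕ) :
    PowerSeries.coeff (n + 1) (zetaW k K) =
      (effDivCount k K (n + 1) : ℤ) - (Nat.card k : ℤ) * (effDivCount k K n : ℤ) := by
  unfold zetaW zetaZ
  rw [sub_mul, one_mul, map_sub, mul_assoc, PowerSeries.coeff_C_mul, PowerSeries.coeff_succ_X_mul,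
    PowerSeries.coeff_mk, PowerSeries.coeff_mk]

theorem coeff_numerZ_succ (n : ℕ) :
    PowerSeries.coeff (n + 1) (numerZ k K) =
      PowerSeries.coeff (n + 1) (zetaW k K) - PowerSeries.coeff n (zetaW k K) := by
  rw [numerZ_eq, sub_mul, one_mul, map_sub, PowerSeries.coeff_succ_X_mul]

theorem coeff_numerZ_zero :
    PowerSeries.coeff 0 (numerZ k K) = PowerSeries.coeff 0 (zetaW k K) := by
  rw [numerZ_eq, sub_mul, one_mul, map_sub, PowerSeries.coeff_zero_X_mul, sub_zero]

/-- Telescoping: the sum of the first `N + 1` coefficients of `L` is the `N`-th coefficient of `W`. -/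
theorem sum_coeff_numerZ (N : ℕ) :
    ∑ i ∈ Finset.range (N + 1), PowerSeries.coeff i (numerZ k K) =
      PowerSeries.coeff N (zetaW k K) := by
  induction N with
  | zero => rw [Finset.sum_range_one, coeff_numerZ_zero]
  | succ N ih => rw [Finset.sum_range_succ, ih, coeff_numerZ_succ]; ring

/-- For `n ≥ 2g - 1`, `a(n+1) - q a(n) = h`. -/
theorem coeff_zetaW_large [Finite k] (hK : FunFld.IsFunctionField k K) (n : ℕ)
    (hn : 2 * genus k K ≤ n + 1) :
    PowerSeries.coeff (n + 1) (zetaW k K) = (classNum k K : ℤ) := by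
  rw [coeff_zetaW_succ]
  have h1 := effDivCount_formula hK n hn
  have h2 := effDivCount_formula hK (n + 1) (by omega)
  have he : n + 1 + 1 - genus k K = (n + 1 - genus k K) + 1 := by omega
  rw [he, pow_succ] at h2
  have hq : (1 : ℤ) < (Nat.card k : ℤ) := by exact_mod_cast (Finite.one_lt_card : 1 < Nat.card k)
  have hq1 : (Nat.card k : ℤ) - 1 ≠ 0 := by omega
  apply mul_left_cancel₀ hq1
  linear_combination h2 - (Nat.card k : ℤ) * h1

theorem coeff_zetaW_zero :
    PowerSeries.coeff 0 (zetaW k K) = (effDivCount k K 0 : ℤ) := by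
  unfold zetaW zetaZ
  rw [sub_mul, one_mul, map_sub, mul_assoc, PowerSeries.coeff_C_mul, PowerSeries.coeff_zero_X_mul,
    PowerSeries.coeff_mk, mul_zero, sub_zero]

theorem coeff_numerZ_large [Finite k] (hK : FunFld.IsFunctionField k K) (n : ℕ)
    (hn : 2 * genus k K < n) : PowerSeries.coeff n (numerZ k K) = 0 := by
  by_cases hn1 : n = 1
  · subst hn1
    have hg : genus k K = 0 := by omega
    rw [show (1 : ℕ) = 0 + 1 from rfl, coeff_numerZ_succ, coeff_zetaW_large hK 0 (by omega),
      coeff_zetaW_zero]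
    have h1 := effDivCount_formula hK 0 (by omega)
    rw [hg] at h1
    have hq : (1 : ℤ) < (Nat.card k : ℤ) := by exact_mod_cast (Finite.one_lt_card : 1 < Nat.card k)
    have hq1 : (Nat.card k : ℤ) - 1 ≠ 0 := by omega
    have h2 : (effDivCount k K 0 : ℤ) = classNum k K := by
      apply mul_left_cancel₀ hq1
      rw [h1]
      simp
      ring
    rw [h2, sub_self]
  obtain ⟨m, rfl⟩ : ∃ m, n = m + 2 := ⟨n - 2, by omega⟩
  rw [show m + 2 = (m + 1) + 1 from rfl, coeff_numerZ_succ, coeff_zetaW_large hK (m + 1) (by omega),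
    coeff_zetaW_large hK m (by omega), sub_self]

theorem exists_polynomial_numerZ [Finite k] (hK : FunFld.IsFunctionField k K) :
    ∃ p : Polynomial ℤ, (p : PowerSeries ℤ) = numerZ k K := by
  refine ⟨PowerSeries.trunc (2 * genus k K + 1) (numerZ k K), ?_⟩
  ext n
  rw [Polynomial.coeff_coe, PowerSeries.coeff_trunc]
  split_ifs with h
  · rfl
  · exact (coeff_numerZ_large hK n (by omega)).symm

theorem eval_one_numerZ [Finite k] (hK : FunFld.IsFunctionField k K) (p : Polynomial ℤ)
    (hp : (p : PowerSeries ℤ) = numerZ k K) : p.eval 1 = (classNum k K : ℤ) := by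
  have hc : ∀ i, p.coeff i = PowerSeries.coeff i (numerZ k K) := by
    intro i
    rw [← hp, Polynomial.coeff_coe]
  obtain ⟨N, hN⟩ : ∃ N, N = max p.natDegree (2 * genus k K) + 1 := ⟨_, rfl⟩
  have hlt : p.natDegree < N + 1 := by
    rw [hN]
    have := le_max_left p.natDegree (2 * genus k K)
    omega
  rw [Polynomial.eval_eq_sum_range' hlt]
  simp only [one_pow, mul_one, hc]
  rw [sum_coeff_numerZ]
  obtain ⟨M, hM⟩ : ∃ M, N = M + 1 := ⟨max p.natDegree (2 * genus k K), hN⟩
  rw [hM]
  apply coeff_zetaW_large hK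
  have := le_max_right p.natDegree (2 * genus k K)
  omega

end Groth.Agent.H55
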