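import Groth.Agent.H55.FFZeta2
import Mathlib

/-!
The functional equation of the numerator of the zeta function.
-/

set_option autoImplicit false

namespace Groth.Agent.H55

open FunFld

variable {k K : Type*} [Field k] [Field K] [Algebra k K]

variable (k K) in
/-- Number of effective divisors of integer degree `n` (zero for `n < 0`). -/
noncomputable def aZ (n : ℤ) : ℕ := Nat.card {D : Divisor k K // 0 ≤ D ∧ D.deg = n}

theorem effDivCount_eq_aZ (n : ℕ) : effDivCount k K n = aZ k K (n : ℤ) := rfl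

theorem aZ_neg {n : ℤ} (hn : n < 0) : aZ k K n = 0 := by
  unfold aZ
  haveI : IsEmpty {D : Divisor k K // 0 ≤ D ∧ D.deg = n} :=
    ⟨fun D => by have := deg_nonneg_of_nonneg D.2.1; rw [D.2.2] at this; omega⟩
  exact Nat.card_of_isEmpty

theorem effDivZ_finite [Finite k] (hK : FunFld.IsFunctionField k K) (n : ℤ) :
    Finite {D : Divisor k K // 0 ≤ D ∧ D.deg = n} := by
  by_cases hn : 0 ≤ n
  · obtain ⟨m, rfl⟩ := Int.eq_ofNat_of_zero_le hn
    exact (effDiv_finite hK m).to_subtype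
  · haveI : IsEmpty {D : Divisor k K // 0 ≤ D ∧ D.deg = n} :=
      ⟨fun D => by have := deg_nonneg_of_nonneg D.2.1; rw [D.2.2] at this; omega⟩
    infer_instance

theorem exists_classMapZ (hK : FunFld.IsFunctionField k K) (D₁ : Divisor k K) :
    ∃ π : {D : Divisor k K // 0 ≤ D ∧ D.deg = D₁.deg} →
      (degHom k K).ker ⧸ (prinDivs k K).addSubgroupOf (degHom k K).ker,
      ∀ (C : (degHom k K).ker) (D : {D : Divisor k K // 0 ≤ D ∧ D.deg = D₁.deg}),
        π D = QuotientAddGroup.mk C ↔ ∃ z : K, z ≠ 0 ∧ D.1 = (D₁ + C.1) + FunFld.div k z := by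
  have hker : ∀ D : {D : Divisor k K // 0 ≤ D ∧ D.deg = D₁.deg},
      D.1 - D₁ ∈ (degHom k K).ker := by
    intro D
    rw [AddMonoidHom.mem_ker, degHom_apply, deg_sub, D.2.2, sub_self]
  refine ⟨fun D => QuotientAddGroup.mk ⟨D.1 - D₁, hker D⟩, ?_⟩
  intro C D
  change (QuotientAddGroup.mk (⟨D.1 - D₁, hker D⟩ : (degHom k K).ker) :
    (degHom k K).ker ⧸ (prinDivs k K).addSubgroupOf (degHom k K).ker) = QuotientAddGroup.mk C ↔ _
  rw [QuotientAddGroup.eq, AddSubgroup.mem_addSubgroupOf, mem_prinDivs_iff hK]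
  have hco : (((-(⟨D.1 - D₁, hker D⟩ : (degHom k K).ker) + C : (degHom k K).ker)) : Divisor k K)
      = -(D.1 - D₁) + C.1 := rfl
  rw [hco]
  constructor
  · rintro ⟨z, hz, h⟩
    refine ⟨z⁻¹, inv_ne_zero hz, ?_⟩
    rw [div_inv hK, ← h]
    abel
  · rintro ⟨z, hz, h⟩
    refine ⟨z⁻¹, inv_ne_zero hz, ?_⟩
    rw [div_inv hK, h]
    abel

/-- `(q - 1) a(deg D₁) + h = ∑_c q^{ℓ(D₁ + c)}`. -/
theorem class_sum [Finite k] (hK : FunFld.IsFunctionField k K) (D₁ : Divisor k K)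
    [Fintype ((degHom k K).ker ⧸ (prinDivs k K).addSubgroupOf (degHom k K).ker)] :
    aZ k K D₁.deg * Nat.card kˣ +
        Fintype.card ((degHom k K).ker ⧸ (prinDivs k K).addSubgroupOf (degHom k K).ker)
      = ∑ c : (degHom k K).ker ⧸ (prinDivs k K).addSubgroupOf (degHom k K).ker,
          Nat.card k ^ ell (D₁ + (Quotient.out c).1) := by
  classical
  unfold aZ
  haveI := effDivZ_finite hK D₁.deg
  obtain ⟨π, hfib⟩ := exists_classMapZ hK D₁
  have hfibdeg : ∀ (C : (degHom k K).ker) (D : Divisor k K),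
      (∃ z : K, z ≠ 0 ∧ D = (D₁ + C.1) + FunFld.div k z) → D.deg = D₁.deg := by
    rintro C D ⟨z, -, rfl⟩
    rw [deg_add, deg_add, G.ker_deg C, deg_div hK, add_zero, add_zero]
  have hcard : ∀ (c : (degHom k K).ker ⧸ (prinDivs k K).addSubgroupOf (degHom k K).ker)
      (C : (degHom k K).ker), QuotientAddGroup.mk C = c →
      Nat.card {D : {D : Divisor k K // 0 ≤ D ∧ D.deg = D₁.deg} // π D = c} * Nat.card kˣ + 1
        = Nat.card k ^ ell (D₁ + C.1) := by
    rintro c C rfl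
    obtain ⟨-, hc⟩ := card_linSys hK (D₁ + C.1)
    let e : {D : {D : Divisor k K // 0 ≤ D ∧ D.deg = D₁.deg} // π D = QuotientAddGroup.mk C} ≃
        {D : Divisor k K // 0 ≤ D ∧ ∃ z : K, z ≠ 0 ∧ D = (D₁ + C.1) + FunFld.div k z} :=
      { toFun := fun D => ⟨D.1.1, D.1.2.1, (hfib C D.1).mp D.2⟩
        invFun := fun D => ⟨⟨D.1, D.2.1, hfibdeg C D.1 D.2.2⟩, (hfib C _).mpr D.2.2⟩
        left_inv := fun D => rfl
        right_inv := fun D => rfl }
    rw [Nat.card_congr e]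
    exact hc
  have h1 : Nat.card {D : Divisor k K // 0 ≤ D ∧ D.deg = D₁.deg} =
      ∑ c : (degHom k K).ker ⧸ (prinDivs k K).addSubgroupOf (degHom k K).ker,
        Nat.card {D : {D : Divisor k K // 0 ≤ D ∧ D.deg = D₁.deg} // π D = c} := by
    rw [← Nat.card_sigma]
    exact Nat.card_congr (Equiv.sigmaFiberEquiv π).symm
  have h2 : ∑ c : (degHom k K).ker ⧸ (prinDivs k K).addSubgroupOf (degHom k K).ker,
      (Nat.card {D : {D : Divisor k K // 0 ≤ D ∧ D.deg = D₁.deg} // π D = c} * Nat.card kˣ + 1)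
      = ∑ c : (degHom k K).ker ⧸ (prinDivs k K).addSubgroupOf (degHom k K).ker,
        Nat.card k ^ ell (D₁ + (Quotient.out c).1) :=
    Finset.sum_congr rfl (fun c _ => hcard c _ (QuotientAddGroup.out_eq' c))
  rw [Finset.sum_add_distrib, Finset.sum_const, Finset.card_univ, smul_eq_mul, mul_one,
    ← Finset.sum_mul, ← h1] at h2
  exact h2

theorem ell_out (hK : FunFld.IsFunctionField k K) (D : Divisor k K) (C : (degHom k K).ker) :
    ell (D + (Quotient.out (QuotientAddGroup.mk C :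
      (degHom k K).ker ⧸ (prinDivs k K).addSubgroupOf (degHom k K).ker)).1) = ell (D + C.1) := by
  have h1 : (QuotientAddGroup.mk (Quotient.out (QuotientAddGroup.mk C :
      (degHom k K).ker ⧸ (prinDivs k K).addSubgroupOf (degHom k K).ker)) :
      (degHom k K).ker ⧸ (prinDivs k K).addSubgroupOf (degHom k K).ker) = QuotientAddGroup.mk C :=
    QuotientAddGroup.out_eq' _
  rw [QuotientAddGroup.eq, AddSubgroup.mem_addSubgroupOf, mem_prinDivs_iff hK] at h1
  obtain ⟨z, hz, h⟩ := h1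
  have h2 : D + C.1 = D + (Quotient.out (QuotientAddGroup.mk C :
      (degHom k K).ker ⧸ (prinDivs k K).addSubgroupOf (degHom k K).ker)).1 + FunFld.div k z := by
    rw [← h]
    push_cast
    abel
  rw [h2, ell_add_div hK _ hz]

/-- Riemann–Roch along class representatives. -/
theorem ell_out_rr (hK : FunFld.IsFunctionField k K) {W : Divisor k K} (hW : IsCanonical k K W)
    (D₁ : Divisor k K)
    (c : (degHom k K).ker ⧸ (prinDivs k K).addSubgroupOf (degHom k K).ker) :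
    (ell (D₁ + (Quotient.out c).1) : ℤ) =
      D₁.deg + 1 - genus k K + ell ((W - D₁) + (Quotient.out (-c)).1) := by
  obtain ⟨C, hC⟩ : ∃ C, C = Quotient.out c := ⟨_, rfl⟩
  have hc : (QuotientAddGroup.mk C :
      (degHom k K).ker ⧸ (prinDivs k K).addSubgroupOf (degHom k K).ker) = c := by
    rw [hC]; exact QuotientAddGroup.out_eq' c
  have h1 := riemann_roch hK hW (D₁ + C.1)
  rw [deg_add, G.ker_deg C, add_zero] at h1
  have h2 : W - (D₁ + C.1) = (W - D₁) + ((-C : (degHom k K).ker) : Divisor k K) := by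
    push_cast
    abel
  have h3 : -c = (QuotientAddGroup.mk (-C) :
      (degHom k K).ker ⧸ (prinDivs k K).addSubgroupOf (degHom k K).ker) := by
    rw [← hc]; rfl
  rw [h3, ell_out hK, ← h2, ← hC]
  exact h1

variable (k K) in
/-- `b(n) = (q - 1) a(n) + h`, as a rational number. -/
noncomputable def bQ (n : ℤ) : ℚ :=
  ((Nat.card k : ℚ) - 1) * (aZ k K n : ℚ) + (classNum k K : ℚ)

theorem card_units_cast [Finite k] : (Nat.card kˣ : ℚ) = (Nat.card k : ℚ) - 1 := by
  have h := Nat.card_eq_card_units_add_one k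
  rw [h]; push_cast; ring

theorem bQ_symm [Finite k] (hK : FunFld.IsFunctionField k K) (n : ℤ) :
    bQ k K n = (Nat.card k : ℚ) ^ (n + 1 - genus k K) * bQ k K (2 * (genus k K : ℤ) - 2 - n) := by
  classical
  haveI : Finite ((degHom k K).ker ⧸ (prinDivs k K).addSubgroupOf (degHom k K).ker) :=
    G.classGroup_finite (G.isFF1_of_isFunctionField hK)
  haveI : Fintype ((degHom k K).ker ⧸ (prinDivs k K).addSubgroupOf (degHom k K).ker) :=
    Fintype.ofFinite _
  obtain ⟨W, hW⟩ := exists_canonical hK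
  have hWd := (ell_canonical hK hW).2
  obtain ⟨D₁, hD₁⟩ := deg_surjective hK n
  have hq0 : (Nat.card k : ℚ) ≠ 0 := by
    have : 0 < Nat.card k := Nat.card_pos
    positivity
  have hh : (classNum k K : ℚ) =
      (Fintype.card ((degHom k K).ker ⧸ (prinDivs k K).addSubgroupOf (degHom k K).ker) : ℚ) := by
    unfold classNum
    rw [Nat.card_eq_fintype_card]
  have hB : ∀ D : Divisor k K, bQ k K D.deg =
      ∑ c : (degHom k K).ker ⧸ (prinDivs k K).addSubgroupOf (degHom k K).ker,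
        (Nat.card k : ℚ) ^ (ell (D + (Quotient.out c).1) : ℤ) := by
    intro D
    have h := congrArg (fun m : ℕ => (m : ℚ)) (class_sum hK D)
    simp only [Nat.cast_add, Nat.cast_mul, Nat.cast_sum, Nat.cast_pow] at h
    rw [card_units_cast] at h
    unfold bQ
    rw [hh]
    simp only [zpow_natCast]
    linear_combination h
  subst hD₁
  have hdeg' : (W - D₁).deg = 2 * (genus k K : ℤ) - 2 - D₁.deg := by
    rw [deg_sub, hWd]
  rw [hB D₁, ← hdeg', hB (W - D₁), Finset.mul_sum]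
  refine Fintype.sum_equiv (Equiv.neg _) _ _ (fun c => ?_)
  rw [Equiv.neg_apply, ← zpow_add₀ hq0, ell_out_rr hK hW D₁ c]

theorem numerZ_coeff_bQ [Finite k] (j : ℕ) :
    ((Nat.card k : ℚ) - 1) * ((PowerSeries.coeff j (numerZ k K) : ℤ) : ℚ) =
      bQ k K j - ((Nat.card k : ℚ) + 1) * bQ k K ((j : ℤ) - 1) +
        (Nat.card k : ℚ) * bQ k K ((j : ℤ) - 2) := by
  unfold bQ
  match j with
  | 0 =>
    rw [coeff_numerZ_zero, coeff_zetaW_zero, effDivCount_eq_aZ,
      aZ_neg (show ((0 : ℕ) : ℤ) - 1 < 0 by norm_num),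
      aZ_neg (show ((0 : ℕ) : ℤ) - 2 < 0 by norm_num)]
    push_cast
    ring
  | 1 =>
    rw [show (1 : ℕ) = 0 + 1 from rfl, coeff_numerZ_succ, coeff_zetaW_succ, coeff_zetaW_zero,
      effDivCount_eq_aZ, effDivCount_eq_aZ,
      aZ_neg (show ((0 + 1 : ℕ) : ℤ) - 2 < 0 by norm_num)]
    have e1 : ((0 + 1 : ℕ) : ℤ) - 1 = ((0 : ℕ) : ℤ) := by norm_num
    rw [e1]
    push_cast
    ring
  | m + 2 =>
    rw [show m + 2 = (m + 1) + 1 from rfl, coeff_numerZ_succ, coeff_zetaW_succ, coeff_zetaW_succ,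
      effDivCount_eq_aZ, effDivCount_eq_aZ, effDivCount_eq_aZ]
    have e1 : ((m + 1 + 1 : ℕ) : ℤ) - 1 = ((m + 1 : ℕ) : ℤ) := by push_cast; ring
    have e2 : ((m + 1 + 1 : ℕ) : ℤ) - 2 = ((m : ℕ) : ℤ) := by push_cast; ring
    rw [e1, e2]
    push_cast
    ring

theorem numerZ_functional [Finite k] (hK : FunFld.IsFunctionField k K) (i : ℕ)
    (hi : i ≤ 2 * genus k K) :
    (((PowerSeries.coeff (2 * genus k K - i) (numerZ k K) : ℤ)) : ℚ) =
      (Nat.card k : ℚ) ^ ((genus k K : ℤ) - i) *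
        (((PowerSeries.coeff i (numerZ k K) : ℤ)) : ℚ) := by
  have hq : (1 : ℚ) < (Nat.card k : ℚ) := by exact_mod_cast (Finite.one_lt_card : 1 < Nat.card k)
  have hq0 : (Nat.card k : ℚ) ≠ 0 := by linarith
  have hq1 : (Nat.card k : ℚ) - 1 ≠ 0 := by linarith
  apply mul_left_cancel₀ hq1
  rw [numerZ_coeff_bQ (2 * genus k K - i)]
  have hcast : ((2 * genus k K - i : ℕ) : ℤ) = 2 * (genus k K : ℤ) - i := by
    push_cast [Nat.cast_sub hi]; ring
  rw [hcast]
  have s1 := bQ_symm hK (2 * (genus k K : ℤ) - i)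
  have s2 := bQ_symm hK (2 * (genus k K : ℤ) - i - 1)
  have s3 := bQ_symm hK (2 * (genus k K : ℤ) - i - 2)
  have e1 : 2 * (genus k K : ℤ) - 2 - (2 * (genus k K : ℤ) - i) = (i : ℤ) - 2 := by ring
  have e2 : 2 * (genus k K : ℤ) - 2 - (2 * (genus k K : ℤ) - i - 1) = (i : ℤ) - 1 := by ring
  have e3 : 2 * (genus k K : ℤ) - 2 - (2 * (genus k K : ℤ) - i - 2) = (i : ℤ) := by ring
  have p1 : 2 * (genus k K : ℤ) - i + 1 - genus k K = ((genus k K : ℤ) - i) + 1 := by ring
  have p2 : 2 * (genus k K : ℤ) - i - 1 + 1 - genus k K = ((genus k K : ℤ) - i) := by ring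
  have p3 : 2 * (genus k K : ℤ) - i - 2 + 1 - genus k K = ((genus k K : ℤ) - i) - 1 := by ring
  rw [e1, p1, zpow_add_one₀ hq0] at s1
  rw [e2, p2] at s2
  rw [e3, p3, zpow_sub_one₀ hq0] at s3
  rw [s1, s2, s3]
  have h4 := numerZ_coeff_bQ (k := k) (K := K) i
  have h5 : (Nat.card k : ℚ) ^ ((genus k K : ℤ) - i) * (Nat.card k : ℚ)⁻¹ * bQ k K i * (Nat.card k : ℚ)
      = (Nat.card k : ℚ) ^ ((genus k K : ℤ) - i) * bQ k K i := by
    field_simp
  linear_combination h5 - (Nat.card k : ℚ) ^ ((genus k K : ℤ) - i) * h4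

theorem numerZ_coeff_zero_ne [Finite k] (hK : FunFld.IsFunctionField k K) :
    PowerSeries.coeff 0 (numerZ k K) ≠ 0 := by
  rw [coeff_numerZ_zero, coeff_zetaW_zero]
  unfold effDivCount
  haveI : Finite {D : Divisor k K // 0 ≤ D ∧ D.deg = ((0 : ℕ) : ℤ)} :=
    (effDiv_finite hK 0).to_subtype
  haveI : Nonempty {D : Divisor k K // 0 ≤ D ∧ D.deg = ((0 : ℕ) : ℤ)} :=
    ⟨⟨0, le_refl _, by rw [deg_zero]; rfl⟩⟩
  have : 0 < Nat.card {D : Divisor k K // 0 ≤ D ∧ D.deg = ((0 : ℕ) : ℤ)} := Nat.card_pos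
  exact_mod_cast this.ne'

end Groth.Agent.H55
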