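import Mathlib

/-!
`q`-self-reciprocal polynomials: `L` of degree `≤ 2m` with `l_{2m-i} = q^{m-i} l_i`.
Structure: `L(z) = z^m G(z⁻¹ + q z)`; over an algebraically closed field, `L = ∏ (1 - αᵢ X)` with
`αᵢ α_{2m-1-i} = q`.
-/

set_option autoImplicit false

namespace Groth.Agent.H55.SelfRecip

open Polynomial

variable {F : Type*} [Field F] (q : F)

/-- `L` is `q`-self-reciprocal of weight `m`. -/
def Sym (m : ℕ) (L : F[X]) : Prop :=
  L.natDegree ≤ 2 * m ∧ L.reflect (2 * m) = C (q ^ m) * L.comp (C q⁻¹ * X)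

variable {q}

theorem Sym.add {m : ℕ} {L₁ L₂ : F[X]} (h₁ : Sym q m L₁) (h₂ : Sym q m L₂) :
    Sym q m (L₁ + L₂) :=
  ⟨(natDegree_add_le _ _).trans (max_le h₁.1 h₂.1), by
    rw [reflect_add, h₁.2, h₂.2, add_comp, mul_add]⟩

theorem Sym.C_mul {m : ℕ} {L : F[X]} (c : F) (h : Sym q m L) : Sym q m (C c * L) :=
  ⟨(natDegree_C_mul_le _ _).trans h.1, by
    rw [reflect_C_mul, h.2, mul_comp, C_comp]; ring⟩

theorem Sym.sub {m : ℕ} {L₁ L₂ : F[X]} (h₁ : Sym q m L₁) (h₂ : Sym q m L₂) :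
    Sym q m (L₁ - L₂) := by
  have := h₁.add (h₂.C_mul (-1))
  simpa [sub_eq_add_neg] using this

theorem Sym.mul {m₁ m₂ : ℕ} {L₁ L₂ : F[X]} (h₁ : Sym q m₁ L₁) (h₂ : Sym q m₂ L₂) :
    Sym q (m₁ + m₂) (L₁ * L₂) := by
  refine ⟨natDegree_mul_le.trans (by have := h₁.1; have := h₂.1; omega), ?_⟩
  rw [mul_add 2, reflect_mul _ _ h₁.1 h₂.1, h₁.2, h₂.2, mul_comp, pow_add, Polynomial.C_mul]
  ring

theorem sym_one : Sym q 0 (1 : F[X]) := by
  refine ⟨by simp, ?_⟩
  have h := reflect_C (1 : F) 0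
  simp only [map_one, pow_zero, mul_one] at h
  rw [h]
  simp

theorem reflect_two_X : reflect 2 (X : F[X]) = X := by
  have h := reflect_monomial (R := F) 2 1
  rw [pow_one, revAt_le (by norm_num : 1 ≤ 2)] at h
  simpa using h

theorem sym_X (hq : q ≠ 0) : Sym q 1 (X : F[X]) := by
  refine ⟨by simp, ?_⟩
  rw [Nat.mul_one, reflect_two_X, X_comp, pow_one, ← mul_assoc, ← Polynomial.C_mul,
    mul_inv_cancel₀ hq]
  simp

theorem sym_quad (hq : q ≠ 0) : Sym q 1 (1 + C q * X ^ 2 : F[X]) := by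
  refine ⟨?_, ?_⟩
  · refine (natDegree_add_le _ _).trans (max_le (by simp) ?_)
    exact (natDegree_C_mul_X_pow_le _ _).trans (by norm_num)
  · have h1 := reflect_C (1 : F) 2
    have h2 := reflect_C_mul_X_pow (R := F) 2 2 (c := q)
    rw [revAt_le (le_refl 2)] at h2
    simp only [map_one, one_mul] at h1
    rw [Nat.mul_one, reflect_add, h1, h2]
    simp only [add_comp, one_comp, mul_comp, C_comp, pow_comp, X_comp, pow_one]
    have h3 : (C q : F[X]) * C q⁻¹ = 1 := by
      rw [← Polynomial.C_mul, mul_inv_cancel₀ hq, C_1]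
    have h4 : (C q : F[X]) * (C q * (C q⁻¹ * X) ^ 2) = (C q * C q⁻¹) ^ 2 * X ^ 2 := by ring
    rw [mul_add, h4, h3]
    simp
    ring

theorem sym_quad_pow (hq : q ≠ 0) (n : ℕ) : Sym q n ((1 + C q * X ^ 2 : F[X]) ^ n) := by
  induction n with
  | zero => simpa using sym_one (q := q)
  | succ n ih =>
    rw [pow_succ]
    exact ih.mul (sym_quad hq)

theorem Sym.div_X (hq : q ≠ 0) {m : ℕ} {L : F[X]} (h : Sym q (m + 1) L) (h0 : L.coeff 0 = 0) :
    ∃ L₂ : F[X], L = X * L₂ ∧ Sym q m L₂ := by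
  obtain ⟨L₂, rfl⟩ := X_dvd_iff.mpr h0
  refine ⟨L₂, rfl, ?_⟩
  by_cases hL₂ : L₂ = 0
  · subst hL₂
    refine ⟨by simp, by simp⟩
  -- top coefficient vanishes
  have htop : (X * L₂).coeff (2 * (m + 1)) = 0 := by
    have h1 := congrArg (fun p => p.coeff 0) h.2
    simp only [coeff_reflect, revAt_le (Nat.zero_le _), Nat.sub_zero, coeff_C_mul] at h1
    rw [h1]
    have : ((X * L₂).comp (C q⁻¹ * X)).coeff 0 = 0 := by
      rw [comp_C_mul_X_coeff, h0, zero_mul]
    rw [this, mul_zero]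
  have hdeg : L₂.natDegree ≤ 2 * m := by
    have h1 : (X * L₂).natDegree = L₂.natDegree + 1 := natDegree_X_mul hL₂
    have h2 := h.1
    by_contra hcon
    push_neg at hcon
    have h3 : (X * L₂).natDegree = 2 * (m + 1) := by omega
    have h4 : (X * L₂).coeff (2 * (m + 1)) = (X * L₂).leadingCoeff := by
      rw [← h3]; rfl
    rw [h4, leadingCoeff_eq_zero] at htop
    exact (mul_ne_zero X_ne_zero hL₂) htop
  refine ⟨hdeg, ?_⟩
  have h2 := h.2
  have e : 2 * (m + 1) = 2 + 2 * m := by ring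
  have hX : (X : F[X]).natDegree ≤ 2 := by simp
  rw [e, reflect_mul _ _ hX hdeg] at h2
  rw [reflect_two_X, mul_comp, X_comp, pow_succ, Polynomial.C_mul] at h2
  have h6 : (C (q ^ m) * C q : F[X]) * (C q⁻¹ * X * L₂.comp (C q⁻¹ * X))
      = X * (C (q ^ m) * L₂.comp (C q⁻¹ * X)) := by
    have h3 : (C q : F[X]) * C q⁻¹ = 1 := by
      rw [← Polynomial.C_mul, mul_inv_cancel₀ hq, C_1]
    calc (C (q ^ m) * C q : F[X]) * (C q⁻¹ * X * L₂.comp (C q⁻¹ * X))
        = (C q * C q⁻¹) * (X * (C (q ^ m) * L₂.comp (C q⁻¹ * X))) := by ring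
      _ = _ := by rw [h3, one_mul]
  rw [h6] at h2
  exact mul_left_cancel₀ X_ne_zero h2

/-- Structure of self-reciprocal polynomials. -/
theorem Sym.exists_G (hq : q ≠ 0) : ∀ (m : ℕ) (L : F[X]), Sym q m L →
    ∃ G : F[X], G.natDegree ≤ m ∧ G.coeff m = L.coeff 0 ∧
      ∀ z : F, z ≠ 0 → L.eval z = z ^ m * G.eval ((1 + q * z ^ 2) / z) := by
  intro m
  induction m with
  | zero =>
    intro L hL
    have h0 : L.natDegree ≤ 0 := by simpa using hL.1
    have h1 := eq_C_of_natDegree_le_zero h0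
    refine ⟨C (L.coeff 0), by simp, by simp, fun z _ => ?_⟩
    rw [h1]
    simp
  | succ m ih =>
    intro L hL
    have hS : Sym q (m + 1) (L - C (L.coeff 0) * (1 + C q * X ^ 2) ^ (m + 1)) :=
      hL.sub ((sym_quad_pow hq (m + 1)).C_mul _)
    have h0 : (L - C (L.coeff 0) * (1 + C q * X ^ 2) ^ (m + 1)).coeff 0 = 0 := by
      rw [coeff_sub, coeff_C_mul, coeff_zero_eq_eval_zero ((1 + C q * X ^ 2 : F[X]) ^ (m + 1))]
      simp
    obtain ⟨L₂, hL₂, hS₂⟩ := hS.div_X hq h0
    obtain ⟨G₂, hG₂d, -, hG₂⟩ := ih L₂ hS₂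
    refine ⟨C (L.coeff 0) * X ^ (m + 1) + G₂, ?_, ?_, ?_⟩
    · refine (natDegree_add_le _ _).trans (max_le (natDegree_C_mul_X_pow_le _ _) (by omega))
    · have hc : G₂.coeff (m + 1) = 0 := coeff_eq_zero_of_natDegree_lt (by omega)
      rw [coeff_add, coeff_C_mul, coeff_X_pow, if_pos rfl, mul_one, hc, add_zero]
    · intro z hz
      have h1 : L = C (L.coeff 0) * (1 + C q * X ^ 2) ^ (m + 1) + X * L₂ := by
        rw [← hL₂]; ring
      have h2 : L.eval z = L.coeff 0 * (1 + q * z ^ 2) ^ (m + 1) + z * L₂.eval z := by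
        conv_lhs => rw [h1]
        simp
      rw [h2, hG₂ z hz]
      simp only [eval_add, eval_mul, eval_C, eval_pow, eval_X]
      rw [div_pow, mul_add, pow_succ z m]
      have hzm : z ^ m * z ≠ 0 := mul_ne_zero (pow_ne_zero _ hz) hz
      have e1 : z ^ m * z * (L.coeff 0 * ((1 + q * z ^ 2) ^ (m + 1) / (z ^ m * z)))
          = L.coeff 0 * (1 + q * z ^ 2) ^ (m + 1) := by
        field_simp
      rw [e1]
      ring

section AlgClosed

variable [IsAlgClosed F]

theorem exists_prod_X_sub_C : ∀ (m : ℕ) (G : F[X]), G.Monic → G.natDegree = m →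
    ∃ γ : Fin m → F, G = ∏ j, (X - C (γ j)) := by
  intro m
  induction m with
  | zero =>
    intro G hG hd
    exact ⟨Fin.elim0, by simpa using (hG.natDegree_eq_zero.mp hd)⟩
  | succ m ih =>
    intro G hG hd
    have hdeg : G.degree ≠ 0 := by
      rw [degree_eq_natDegree hG.ne_zero, hd]
      exact_mod_cast Nat.succ_ne_zero m
    obtain ⟨a, ha⟩ := IsAlgClosed.exists_root G hdeg
    have h1 : (X - C a) * (G /ₘ (X - C a)) = G := mul_divByMonic_eq_iff_isRoot.mpr ha
    have hm' : (G /ₘ (X - C a)).Monic :=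
      (monic_X_sub_C a).of_mul_monic_left (by rw [h1]; exact hG)
    have hd' : (G /ₘ (X - C a)).natDegree = m := by
      have h2 := (monic_X_sub_C a).natDegree_mul hm'
      rw [h1, hd, natDegree_X_sub_C] at h2
      omega
    obtain ⟨γ', hγ'⟩ := ih _ hm' hd'
    refine ⟨Fin.cons a γ', ?_⟩
    rw [Fin.prod_univ_succ]
    simp only [Fin.cons_zero, Fin.cons_succ]
    rw [← hγ', h1]

theorem exists_paired_roots (hq : q ≠ 0) (m : ℕ) (L : F[X]) (hL : Sym q m L)
    (h0 : L.coeff 0 = 1) :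
    ∃ α : Fin (2 * m) → F, L = ∏ i, (1 - C (α i) * X) ∧ ∀ i, α i * α (Fin.rev i) = q := by
  classical
  obtain ⟨G, hGd, hGc, hGe⟩ := hL.exists_G hq m L
  rw [h0] at hGc
  have hGm : G.Monic := monic_of_natDegree_le_of_coeff_eq_one m hGd hGc
  have hGn : G.natDegree = m :=
    le_antisymm hGd (le_natDegree_of_ne_zero (by rw [hGc]; exact one_ne_zero))
  obtain ⟨γ, hγ⟩ := exists_prod_X_sub_C m G hGm hGn
  have hβ : ∀ j : Fin m, ∃ b : F, b ≠ 0 ∧ b + q / b = γ j := by
    intro j
    have hdeg : (C (1 : F) * X ^ 2 + C (-γ j) * X + C q).degree ≠ 0 := by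
      rw [degree_quadratic one_ne_zero]; norm_num
    obtain ⟨b, hb⟩ := IsAlgClosed.exists_root _ hdeg
    simp only [IsRoot.def, eval_add, eval_mul, eval_C, eval_pow, eval_X, one_mul] at hb
    have hb0 : b ≠ 0 := by
      rintro rfl
      simp at hb
      exact hq hb
    refine ⟨b, hb0, ?_⟩
    field_simp
    linear_combination hb
  choose β hβ0 hβγ using hβ
  refine ⟨fun i => Fin.append β (fun j => q / β (Fin.rev j)) (Fin.cast (two_mul m) i), ?_, ?_⟩
  · apply Polynomial.eq_of_infinite_eval_eq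
    apply Set.Infinite.mono (s := {z : F | z ≠ 0})
    · intro z hz
      rw [Set.mem_setOf_eq] at hz ⊢
      rw [hGe z hz, hγ, eval_prod, eval_prod]
      have h1 : ∏ i : Fin (2 * m), eval z (1 - C (Fin.append β (fun j => q / β (Fin.rev j))
          (Fin.cast (two_mul m) i)) * X)
          = ∏ i : Fin (m + m), eval z (1 - C (Fin.append β (fun j => q / β (Fin.rev j)) i) * X) :=
        Fintype.prod_equiv (finCongr (two_mul m)) _ _ (fun i => rfl)
      rw [h1, Fin.prod_univ_add]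
      simp only [Fin.append_left, Fin.append_right]
      have h3 : ∏ x : Fin m, eval z (1 - C (q / β (Fin.rev x)) * X)
          = ∏ x : Fin m, eval z (1 - C (q / β x) * X) :=
        Equiv.prod_comp Fin.revPerm (fun j : Fin m => eval z (1 - C (q / β j) * X))
      rw [h3, ← Finset.prod_mul_distrib]
      have h2 : z ^ m = ∏ _j : Fin m, z := by simp
      rw [h2, ← Finset.prod_mul_distrib]
      apply Finset.prod_congr rfl
      intro j _
      simp only [eval_sub, eval_X, eval_C, eval_one, eval_mul]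
      rw [← hβγ j]
      have := hβ0 j
      field_simp
      ring
    · exact (Set.finite_singleton (0 : F)).infinite_compl
  · intro i
    have hrev : Fin.cast (two_mul m) (Fin.rev i) = Fin.rev (Fin.cast (two_mul m) i) := by
      apply Fin.ext
      simp only [Fin.val_cast, Fin.val_rev]
      omega
    simp only
    rw [hrev]
    generalize Fin.cast (two_mul m) i = i'
    induction i' using Fin.addCases with
    | left j =>
      have h3 : Fin.rev (Fin.castAdd m j) = Fin.natAdd m (Fin.rev j) := by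
        apply Fin.ext
        simp only [Fin.val_rev, Fin.val_castAdd, Fin.val_natAdd]
        omega
      rw [h3, Fin.append_left, Fin.append_right, Fin.rev_rev]
      field_simp [hβ0 j]
    | right j =>
      have h3 : Fin.rev (Fin.natAdd m j) = Fin.castAdd m (Fin.rev j) := by
        apply Fin.ext
        simp only [Fin.val_rev, Fin.val_castAdd, Fin.val_natAdd]
        omega
      rw [h3, Fin.append_left, Fin.append_right]
      field_simp [hβ0 (Fin.rev j)]

end AlgClosed

end Groth.Agent.H55.SelfRecip
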