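import Groth.Agent.H55.FFZeta3
import Groth.Agent.H55.SelfRecip
import Mathlib

/-!
Reciprocal roots of the numerator of the zeta function.
-/

set_option autoImplicit false

namespace Groth.Agent.H55

open FunFld Polynomial

variable {k K : Type*} [Field k] [Field K] [Algebra k K]

theorem effDivCount_zero (hK : FunFld.IsFunctionField k K) : effDivCount k K 0 = 1 := by
  unfold effDivCount
  rw [Nat.card_eq_one_iff_unique]
  refine ⟨⟨fun D D' => ?_⟩, ⟨⟨0, le_refl _, by rw [deg_zero]; rfl⟩⟩⟩
  have key : ∀ D : {D : Divisor k K // 0 ≤ D ∧ D.deg = ((0 : ℕ) : ℤ)}, D.1 = 0 := by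
    intro D
    ext P
    have h1 := deg_mono (single_le_of_nonneg D.2.1 P)
    rw [deg_single, D.2.2] at h1
    have h2 : (0 : ℤ) < P.deg := by exact_mod_cast deg_pos hK P
    have h3 := D.2.1 P
    simp only [Finsupp.coe_zero, Pi.zero_apply] at h3 ⊢
    push_cast at h1
    nlinarith
  exact Subtype.ext ((key D).trans (key D').symm)

theorem exists_reciprocal_roots [Finite k] (hK : FunFld.IsFunctionField k K) :
    ∃ α : Fin (2 * genus k K) → ℂ, (∀ i, IsIntegral ℤ (α i)) ∧
      PowerSeries.map (Int.castRingHom ℂ) (numerZ k K) =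
        ((∏ i, (1 - Polynomial.C (α i) * Polynomial.X) : Polynomial ℂ) : PowerSeries ℂ) ∧
      ∀ i, α i * α (Fin.rev i) = (Nat.card k : ℂ) := by
  classical
  obtain ⟨p, hp⟩ : ∃ p : ℤ[X], p = PowerSeries.trunc (2 * genus k K + 1) (numerZ k K) := ⟨_, rfl⟩
  have hpc : (p : PowerSeries ℤ) = numerZ k K := by
    ext n
    rw [Polynomial.coeff_coe, hp, PowerSeries.coeff_trunc]
    split_ifs with h
    · rfl
    · exact (coeff_numerZ_large hK n (by omega)).symm
  have hcoeff : ∀ i, p.coeff i = PowerSeries.coeff i (numerZ k K) := by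
    intro i; rw [← hpc, Polynomial.coeff_coe]
  have hpd : p.natDegree ≤ 2 * genus k K := by
    have := PowerSeries.natDegree_trunc_lt (numerZ k K) (2 * genus k K)
    rw [hp]; omega
  have hp0 : p.coeff 0 = 1 := by
    rw [hcoeff, coeff_numerZ_zero, coeff_zetaW_zero, effDivCount_zero hK]; rfl
  have hq0 : (Nat.card k : ℂ) ≠ 0 := by
    have : 0 < Nat.card k := Nat.card_pos
    exact_mod_cast this.ne'
  -- the complex polynomial
  obtain ⟨L, hL⟩ : ∃ L : ℂ[X], L = p.map (Int.castRingHom ℂ) := ⟨_, rfl⟩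
  have hLc : ∀ i, L.coeff i = ((PowerSeries.coeff i (numerZ k K) : ℤ) : ℂ) := by
    intro i; rw [hL, coeff_map, hcoeff]; rfl
  have hLd : L.natDegree ≤ 2 * genus k K := by
    rw [hL]; exact natDegree_map_le.trans hpd
  have hSym : SelfRecip.Sym (Nat.card k : ℂ) (genus k K) L := by
    refine ⟨hLd, ?_⟩
    ext i
    rw [coeff_reflect, coeff_C_mul, comp_C_mul_X_coeff]
    by_cases hi : i ≤ 2 * genus k K
    · rw [revAt_le hi, hLc, hLc]
      have h := numerZ_functional hK i hi
      have h' := congrArg (fun x : ℚ => (x : ℂ)) h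
      simp only [Rat.cast_mul, Rat.cast_intCast, Rat.cast_zpow, Rat.cast_natCast] at h'
      rw [h', zpow_sub₀ hq0, zpow_natCast, zpow_natCast, inv_pow]
      field_simp
    · push_neg at hi
      have h1 : revAt (2 * genus k K) i = i := by
        simp only [revAt, Function.Embedding.coeFn_mk, revAtFun]
        rw [if_neg (by omega)]
      rw [h1, coeff_eq_zero_of_natDegree_lt (lt_of_le_of_lt hLd hi)]
      ring
  have hL0 : L.coeff 0 = 1 := by
    rw [hL, coeff_map, hp0]; simp
  obtain ⟨α, hα, hpair⟩ := SelfRecip.exists_paired_roots hq0 (genus k K) L hSym hL0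
  refine ⟨α, ?_, ?_, hpair⟩
  · intro i
    have hαi : α i ≠ 0 := by
      intro h
      have := hpair i
      rw [h, zero_mul] at this
      exact hq0 this.symm
    refine ⟨reflect (2 * genus k K) p, ?_, ?_⟩
    · apply monic_of_natDegree_le_of_coeff_eq_one (2 * genus k K)
      · exact natDegree_reflect_le.trans (max_le (le_refl _) hpd)
      · rw [coeff_reflect, revAt_le (le_refl _), Nat.sub_self, hp0]
    · haveI : Invertible (α i)⁻¹ := invertibleOfNonzero (inv_ne_zero hαi)
      have h1 := (eval₂_reflect_eq_zero_iff (Int.castRingHom ℂ) (α i)⁻¹ (2 * genus k K) p hpd).mpr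
        (by
          rw [← eval_map, ← hL, hα, eval_prod]
          apply Finset.prod_eq_zero (Finset.mem_univ i)
          simp only [eval_sub, eval_one, eval_mul, eval_C, eval_X]
          rw [mul_inv_cancel₀ hαi, sub_self])
      rw [invOf_eq_inv, inv_inv] at h1
      exact h1
  · rw [← hα, hL, ← hpc]
    exact (Polynomial.polynomial_map_coe).symm

end Groth.Agent.H55
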