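import Groth.Agent.H55.FrobLift
import Groth.Agent.H55.FFUnram
import Groth.Agent.H55.FFZetaG

/-!
# Counting places fixed by twisted Frobenius in a Galois extension.
-/

set_option autoImplicit false

namespace Groth.Agent.H55

open FunFld WithZero Polynomial IntermediateField IsLocalRing

open scoped Pointwise

namespace FrobCount

variable {k F E : Type*} [Field k] [Field F] [Field E] [Algebra k F] [Algebra F E]
  [Algebra k E] [IsScalarTower k F E]

/-- `σ z ≡ z^N` modulo the maximal ideal of `R`. -/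
def FixAt (N : ℕ) (σ : E ≃ₐ[F] E) (R : Place k E) : Prop :=
  ∀ z : E, R.1 z ≤ 1 → R.1 (σ z - z ^ N) < 1

theorem comapGal_eq_of_fixAt {N : ℕ} {σ : E ≃ₐ[F] E} {R : Place k E} (h : FixAt N σ R) :
    comapGal R σ = R := by
  symm
  apply pl_eq_of_le
  intro x hx
  rw [comapGal_apply]
  have e : σ x = (σ x - x ^ N) + x ^ N := by ring
  rw [e]
  refine le_trans (Valuation.map_add _ _ _) (max_le (h x hx).le ?_)
  rw [map_pow]; exact pow_le_one₀ zero_le' hx

theorem frobenius_lift_unique [Finite k] [FiniteDimensional F E] [IsGalois F E]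
    (hF : G.IsFF1 k F) {Q : Place k E} {P : Place k F} (he : IsOverWith Q P 1) {N : ℕ}
    {σ σ' : E ≃ₐ[F] E} (h : FixAt N σ Q) (h' : FixAt N σ' Q) : σ = σ' := by
  have hE : G.IsFF1 k E := isFF1_of_finite hF
  haveI := FrobLift.isSeparable_residue hE Q
  have hc : Nat.card (inertiaGal F Q) = 1 := by
    rw [Subgroup.card_map_of_injective (Subgroup.subtype_injective _)]
    exact card_inertia_eq hF Q P 1 he
  have hQσ : ∀ x, Q.1 (σ x) = Q.1 x := fun x => by
    rw [← comapGal_apply, comapGal_eq_of_fixAt h]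
  have hQσi : ∀ x, Q.1 (σ.symm x) = Q.1 x := fun x => by
    rw [← hQσ (σ.symm x), AlgEquiv.apply_symm_apply]
  have hmem : σ⁻¹ * σ' ∈ inertiaGal F Q := by
    rw [mem_inertiaGal_iff]
    intro x hx
    have h1 : Q.1 (σ' x - σ x) < 1 := by
      have e : σ' x - σ x = (σ' x - x ^ N) - (σ x - x ^ N) := by ring
      rw [e]
      exact lt_of_le_of_lt (Valuation.map_sub _ _ _) (max_lt (h' x hx) (h x hx))
    have e2 : (σ⁻¹ * σ') x - x = σ.symm (σ' x - σ x) := by
      rw [map_sub, AlgEquiv.symm_apply_apply]; rfl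
    rw [e2, hQσi]; exact h1
  have hbot : inertiaGal F Q = ⊥ := Subgroup.eq_bot_of_card_eq _ hc
  rw [hbot, Subgroup.mem_bot] at hmem
  exact inv_mul_eq_one.mp hmem

variable (k F E) in
/-- Places of `E` unramified over a place of `F` of degree dividing `S`. -/
def US (S : ℕ) : Set (Place k E) := {R | ∃ P : Place k F, IsOverWith R P 1 ∧ P.deg ∣ S}

variable (k F E) in
/-- Places of `F` of degree dividing `S` that are unramified in `E`. -/
def PS (S : ℕ) : Set (Place k F) := {P | P.deg ∣ S ∧ ∃ R : Place k E, IsOverWith R P 1}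

theorem PS_finite [Finite k] (hF : G.IsFF1 k F) {S : ℕ} (hS : 0 < S) : (PS k F E S).Finite :=
  (G.places_deg_le_finite hF S).subset (fun P hP => Nat.le_of_dvd hS hP.1)

theorem US_finite [Finite k] [FiniteDimensional F E] (hF : G.IsFF1 k F) {S : ℕ} (hS : 0 < S) :
    (US k F E S).Finite := by
  have h1 : (PS k F E S).Finite := PS_finite hF hS
  have hsub : US k F E S ⊆ ⋃ P ∈ PS k F E S, {R : Place k E | IsOver R P} := by
    rintro R ⟨P, he, hd⟩
    simp only [Set.mem_iUnion]
    exact ⟨P, ⟨hd, R, he⟩, ⟨1, he⟩⟩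
  exact (h1.biUnion (fun P _ => (G.sum_ramIdx_mul_deg hF P).1)).subset hsub

open scoped Classical in
theorem sum_fix_eq [Finite k] [FiniteDimensional F E] [IsGalois F E] (hF : G.IsFF1 k F) {S : ℕ}
    (hS : 0 < S) (Us : Finset (Place k E)) (hUs : ∀ R, R ∈ Us ↔ R ∈ US k F E S)
    (Ps : Finset (Place k F)) (hPs : ∀ P, P ∈ Ps ↔ P ∈ PS k F E S) :
    ∑ σ : E ≃ₐ[F] E, ∑ R ∈ Us.filter (fun R => FixAt (Nat.card k ^ S) σ R), R.deg =
      Module.finrank F E * ∑ P ∈ Ps, P.deg := by
  -- step 1: exactly one σ for each R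
  have hone : ∀ R ∈ Us, ∑ σ : E ≃ₐ[F] E, (if FixAt (Nat.card k ^ S) σ R then R.deg else 0) =
      R.deg := by
    intro R hR
    obtain ⟨P, he, hd⟩ := (hUs R).mp hR
    obtain ⟨σ₀, hσ₀⟩ := FrobLift.exists_frobenius_lift hF he hd
    rw [Finset.sum_eq_single σ₀]
    · rw [if_pos (show FixAt (Nat.card k ^ S) σ₀ R from hσ₀)]
    · intro σ _ hne
      rw [if_neg]
      intro hσ
      exact hne (frobenius_lift_unique hF he hσ hσ₀)
    · intro h; exact absurd (Finset.mem_univ _) h
  have h1 : ∑ σ : E ≃ₐ[F] E, ∑ R ∈ Us.filter (fun R => FixAt (Nat.card k ^ S) σ R), R.deg =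
      ∑ R ∈ Us, R.deg := by
    simp_rw [Finset.sum_filter]
    rw [Finset.sum_comm]
    exact Finset.sum_congr rfl hone
  rw [h1]
  -- step 2: fibre over places of F
  have hbelow : ∀ R : Place k E, ∃ P : Place k F, IsOver R P := by
    intro R
    obtain ⟨P, e, he⟩ := exists_place_under hF R
    exact ⟨P, e, he⟩
  choose below hbel using hbelow
  have hbelow_unique : ∀ (R : Place k E) (P : Place k F), IsOver R P → below R = P := by
    rintro R P ⟨e, he⟩
    obtain ⟨e', he'⟩ := hbel R
    exact (isOverWith_unique he' he).1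
  have hmaps : ∀ R ∈ Us, below R ∈ Ps := by
    intro R hR
    obtain ⟨P, he, hd⟩ := (hUs R).mp hR
    rw [hbelow_unique R P ⟨1, he⟩, hPs]
    exact ⟨hd, R, he⟩
  rw [← Finset.sum_fiberwise_of_maps_to hmaps, Finset.mul_sum]
  refine Finset.sum_congr rfl fun P hP => ?_
  obtain ⟨hd, R₀, he₀⟩ := (hPs P).mp hP
  have hall := (G.galois_places hF R₀ P 1 he₀).2
  have hfilter : ∀ R, R ∈ Us.filter (fun R => below R = P) ↔ IsOver R P := by
    intro R
    rw [Finset.mem_filter]
    constructor
    · rintro ⟨-, hb⟩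
      rw [← hb]; exact hbel R
    · intro h
      refine ⟨?_, hbelow_unique R P h⟩
      rw [hUs]
      exact ⟨P, (hall R h).1, hd⟩
  have hsum := (G.sum_ramIdx_mul_deg (K' := E) hF P).2 _ hfilter
  rw [← hsum]
  refine Finset.sum_congr rfl fun R hR => ?_
  rw [ramIdx_eq (hall R ((hfilter R).mp hR)).1, one_mul]

theorem ramified_finite [FiniteDimensional F E] [Algebra.IsSeparable F E] (hF : G.IsFF1 k F) :
    {P : Place k F | ¬ ∃ R : Place k E, IsOverWith R P 1}.Finite := by
  have hram := finite_ramified (K' := E) hF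
  have hbelow : ∀ R : Place k E, ∃ P : Place k F, IsOver R P := by
    intro R
    obtain ⟨P, e, he⟩ := exists_place_under hF R
    exact ⟨P, e, he⟩
  choose below hbel using hbelow
  refine (hram.image below).subset ?_
  intro P hP
  obtain ⟨R, e, he⟩ := exists_place_over (K' := E) hF P
  refine ⟨R, ?_, ?_⟩
  · intro hsurj
    apply hP
    have h1 := range_comap_eq he
    have h2 : Set.range (R.1.comap (algebraMap F E)) =
        Set.range (fun δ : WithZero (Multiplicative ℤ) => δ ^ 1) := by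
      rw [Set.range_eq_univ.mpr hsurj]
      symm
      rw [Set.range_eq_univ]
      intro γ; exact ⟨γ, pow_one γ⟩
    rw [h1, pow_range_eq_iff (isOverWith_pos he) one_pos] at h2
    exact ⟨R, h2 ▸ he⟩
  · obtain ⟨e', he'⟩ := hbel R
    exact (isOverWith_unique he' he).1

end FrobCount

end Groth.Agent.H55
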