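import Groth.Agent.H55.Bombieri
import Groth.Agent.H55.FFInertia2
import Groth.Agent.H55.FFSchmidt

/-!
# Frobenius elements at unramified places of a Galois extension of function fields over a finite
field.
-/

set_option autoImplicit false

namespace Groth.Agent.H55

open FunFld WithZero Polynomial IntermediateField IsLocalRing

open scoped Pointwise

namespace FrobLift

variable {k K K' : Type*} [Field k] [Field K] [Field K'] [Algebra k K] [Algebra K K']
  [Algebra k K'] [IsScalarTower k K K']

theorem residueField_finite [Finite k] (hK : G.IsFF1 k K) (P : Place k K) :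
    Finite (ResidueField P.O) := by
  apply Nat.finite_of_card_ne_zero
  rw [card_residueField hK P]
  exact (pow_pos Nat.card_pos _).ne'

theorem residue_pow_card [Finite k] (hK : G.IsFF1 k K) (P : Place k K) (x : ResidueField P.O)
    {s : ℕ} (hs : P.deg ∣ s) : x ^ (Nat.card k ^ s) = x := by
  haveI := residueField_finite hK P
  haveI : Fintype (ResidueField P.O) := Fintype.ofFinite _
  obtain ⟨t, rfl⟩ := hs
  rw [pow_mul]
  apply pow_pow_card_eq
  rw [← card_residueField hK P, Nat.card_eq_fintype_card]
  exact FiniteField.pow_card x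

/-- If every residue class at `P` is fixed by the `q^s`-power map then `deg P ∣ s`. -/
theorem deg_dvd_of_pow_eq [Finite k] (hK : G.IsFF1 k K) (P : Place k K) {s : ℕ}
    (h : ∀ x : ResidueField P.O, x ^ (Nat.card k ^ s) = x) : P.deg ∣ s := by
  haveI := residueField_finite hK P
  haveI : Fintype k := Fintype.ofFinite k
  have h1 : (FiniteField.frobeniusAlgHom k (ResidueField P.O)) ^ s = 1 := by
    ext x
    rw [AlgHom.coe_pow, FiniteField.coe_frobeniusAlgHom, pow_iterate, AlgHom.one_apply,
      ← Nat.card_eq_fintype_card]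
    exact h x
  have h2 := orderOf_dvd_of_pow_eq_one h1
  rwa [FiniteField.orderOf_frobeniusAlgHom] at h2

/-- `E2`: a place fixed by a twisted Frobenius lies over a place of degree dividing `s`. -/
theorem deg_dvd_of_fix [Finite k] (hK : G.IsFF1 k K) {Q : Place k K'} {P : Place k K} {e : ℕ}
    (he : IsOverWith Q P e) (σ : K' ≃ₐ[K] K') {s : ℕ}
    (hfix : ∀ z : K', Q.1 z ≤ 1 → Q.1 (σ z - z ^ (Nat.card k ^ s)) < 1) : P.deg ∣ s := by
  apply deg_dvd_of_pow_eq hK P
  intro x
  obtain ⟨a, rfl⟩ := residue_surjective x
  have he0 := isOverWith_pos he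
  have ha : Q.1 (algebraMap K K' (a : K)) ≤ 1 := by
    rw [he]; exact pow_le_one₀ zero_le' ((Valuation.mem_valuationSubring_iff _ _).mp a.2)
  have h1 := hfix _ ha
  rw [σ.commutes, ← map_pow, ← map_sub, he] at h1
  have h2 : P.1 ((a : K) - (a : K) ^ (Nat.card k ^ s)) < 1 := by
    by_contra hcon
    rw [not_lt] at hcon
    exact absurd h1 (not_lt.mpr (one_le_pow₀ hcon))
  rw [← map_pow, ← sub_eq_zero, ← map_sub, residue_eq_zero_iff, mem_maximalIdeal_iff]
  have e1 : ((a ^ (Nat.card k ^ s) - a : P.O) : K) = -((a : K) - (a : K) ^ (Nat.card k ^ s)) := by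
    push_cast; ring
  rw [e1, Valuation.map_neg]
  exact h2

theorem isSeparable_residue [Finite k] (hK : G.IsFF1 k K) (P : Place k K) :
    Algebra.IsSeparable k (ResidueField P.O) := by
  have hfd : @Module.Finite k (ResidueField P.O) _ _ (Place.algRes P).toModule :=
    G.residue_finiteDimensional hK P
  haveI := hfd
  haveI halg : Algebra.IsAlgebraic k (ResidueField P.O) := Algebra.IsAlgebraic.of_finite _ _
  exact Algebra.IsAlgebraic.isSeparable_of_perfectField

/-- `E1` (existence): the `q^s`-Frobenius at an unramified place over a place of degree dividing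
`s` lifts to the Galois group. -/
theorem exists_frobenius_lift [Finite k] [FiniteDimensional K K'] [IsGalois K K']
    (hK : G.IsFF1 k K) {Q : Place k K'} {P : Place k K} (he : IsOverWith Q P 1) {s : ℕ}
    (hs : P.deg ∣ s) :
    ∃ σ : K' ≃ₐ[K] K', ∀ z : K', Q.1 z ≤ 1 → Q.1 (σ z - z ^ (Nat.card k ^ s)) < 1 := by
  classical
  have hK' : G.IsFF1 k K' := isFF1_of_finite hK
  haveI hfin : FiniteDimensional k (ResidueField Q.O) := G.residue_finiteDimensional hK' Q
  haveI := isSeparable_residue hK' Q
  haveI hQfin : Finite (ResidueField Q.O) := residueField_finite hK' Q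
  letI : Algebra (ResidueField P.O) (ResidueField Q.O) := (resExt he).toAlgebra
  have htower : IsScalarTower k (ResidueField P.O) (ResidueField Q.O) :=
    IsScalarTower.of_algebraMap_eq (fun c => (resExt_algebraMap he c).symm)
  haveI hfin2 : FiniteDimensional (ResidueField P.O) (ResidueField Q.O) :=
    @Module.Finite.right k (ResidueField P.O) (ResidueField Q.O) _ _ _ _ _ _ htower hfin
  have hmul : Q.deg = P.deg * Module.finrank (ResidueField P.O) (ResidueField Q.O) :=
    (@Module.finrank_mul_finrank k (ResidueField P.O) (ResidueField Q.O) _ _ _ _ _ _ htower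
      _ _ _ _).symm
  obtain ⟨ρ, hρ⟩ : ∃ ρ : (Q.O).decompositionSubgroup K →* RingAut (ResidueField Q.O),
      ρ = MulSemiringAction.toRingAut ((Q.O).decompositionSubgroup K) (ResidueField Q.O) :=
    ⟨_, rfl⟩
  have hker : (Q.O).inertiaSubgroup K = ρ.ker := by rw [hρ]; rfl
  have hI : Nat.card ((Q.O).inertiaSubgroup K) = 1 := card_inertia_eq hK Q P 1 he
  have h1 : Nat.card ((Q.O).decompositionSubgroup K) = Nat.card ρ.range * Nat.card ρ.ker := by
    rw [Subgroup.card_eq_card_quotient_mul_card_subgroup ρ.ker]
    congr 1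
    exact Nat.card_congr (QuotientGroup.quotientKerEquivRange ρ).toEquiv
  rw [← hker, hI, mul_one] at h1
  have hD := G.card_decomposition_mul_deg hK Q P 1 he
  rw [one_mul, hmul, h1, mul_comm] at hD
  have hrange : Nat.card ρ.range = Module.finrank (ResidueField P.O) (ResidueField Q.O) :=
    Nat.eq_of_mul_eq_mul_left (G.deg_pos hK P) hD
  have hfixP : ∀ (g : (Q.O).decompositionSubgroup K) (a : ResidueField P.O),
      ρ g (algebraMap (ResidueField P.O) (ResidueField Q.O) a)
        = algebraMap (ResidueField P.O) (ResidueField Q.O) a := by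
    intro g a
    obtain ⟨a₀, rfl⟩ := residue_surjective a
    rw [hρ]
    show g • residue Q.O (incO he a₀) = residue Q.O (incO he a₀)
    rw [← ResidueField.residue_smul]
    congr 1
    apply Subtype.ext
    show (g : K' ≃ₐ[K] K') (algebraMap K K' a₀) = algebraMap K K' a₀
    exact (g : K' ≃ₐ[K] K').commutes a₀
  let Ψ : ρ.range → ((ResidueField Q.O) ≃ₐ[ResidueField P.O] (ResidueField Q.O)) := fun r =>
    AlgEquiv.ofRingEquiv (f := (r.1 : ResidueField Q.O ≃+* ResidueField Q.O)) (by
      obtain ⟨g, hg⟩ := r.2
      intro a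
      rw [← hg]
      exact hfixP g a)
  have hΨ : Function.Injective Ψ := by
    intro r r' h
    apply Subtype.ext
    ext z
    exact congrArg (fun f : (ResidueField Q.O) ≃ₐ[ResidueField P.O] (ResidueField Q.O) => f z) h
  have hΨb : Function.Bijective Ψ := by
    apply hΨ.bijective_of_nat_card_le
    rw [hrange, Nat.card_eq_fintype_card]
    exact AlgEquiv.card_le
  -- the Frobenius automorphism of the residue field
  have hfrobinj : Function.Injective (fun x : ResidueField Q.O => x ^ (Nat.card k ^ s)) := by
    intro x y hxy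
    have h2 : (x - y) ^ (Nat.card k ^ s) = 0 := by
      obtain ⟨p, hp⟩ := CharP.exists k
      haveI := hp
      haveI : Fact p.Prime := ⟨CharP.char_is_prime k p⟩
      haveI : Fintype k := Fintype.ofFinite k
      obtain ⟨a, -, ha⟩ := FiniteField.card k p
      haveI : CharP (ResidueField Q.O) p :=
        (RingHom.charP_iff (algebraMap k (ResidueField Q.O))
          (algebraMap k (ResidueField Q.O)).injective p).mp hp
      haveI : ExpChar (ResidueField Q.O) p := ExpChar.prime Fact.out
      have hq : Nat.card k ^ s = p ^ ((a : ℕ) * s) := by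
        rw [Nat.card_eq_fintype_card, ha, pow_mul]
      rw [hq, sub_pow_expChar_pow, ← hq, sub_eq_zero]
      exact hxy
    exact sub_eq_zero.mp (pow_eq_zero_iff (pow_pos Nat.card_pos s).ne' |>.mp h2)
  obtain ⟨φ, hφ⟩ : ∃ φ : (ResidueField Q.O) ≃ₐ[ResidueField P.O] (ResidueField Q.O),
      ∀ x, φ x = x ^ (Nat.card k ^ s) := by
    obtain ⟨p, hp⟩ := CharP.exists k
    haveI := hp
    haveI : Fact p.Prime := ⟨CharP.char_is_prime k p⟩
    haveI : Fintype k := Fintype.ofFinite k
    obtain ⟨a, -, ha⟩ := FiniteField.card k p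
    haveI : CharP (ResidueField Q.O) p :=
      (RingHom.charP_iff (algebraMap k (ResidueField Q.O))
        (algebraMap k (ResidueField Q.O)).injective p).mp hp
    haveI : ExpChar (ResidueField Q.O) p := ExpChar.prime Fact.out
    have hq : Nat.card k ^ s = p ^ ((a : ℕ) * s) := by
      rw [Nat.card_eq_fintype_card, ha, pow_mul]
    let f : ResidueField Q.O →ₐ[ResidueField P.O] ResidueField Q.O :=
      { toFun := fun x => x ^ (Nat.card k ^ s)
        map_one' := one_pow _
        map_mul' := fun x y => mul_pow x y _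
        map_zero' := zero_pow (pow_pos Nat.card_pos s).ne'
        map_add' := fun x y => by rw [hq]; exact add_pow_expChar_pow x y p _
        commutes' := fun a => by
          show (resExt he a) ^ (Nat.card k ^ s) = resExt he a
          rw [← map_pow, residue_pow_card hK P a hs] }
    have hbij : Function.Bijective f :=
      (Finite.injective_iff_bijective).mp hfrobinj
    exact ⟨AlgEquiv.ofBijective f hbij, fun x => rfl⟩
  obtain ⟨r, hr⟩ := hΨb.2 φ
  obtain ⟨g, hg⟩ := r.2
  refine ⟨(g : K' ≃ₐ[K] K'), fun z hz => ?_⟩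
  let zO : Q.O := ⟨z, (Valuation.mem_valuationSubring_iff _ _).mpr hz⟩
  have h3 : ρ g (residue Q.O zO) = (residue Q.O zO) ^ (Nat.card k ^ s) := by
    rw [← hφ, ← hr, hg]
    rfl
  have h4 : ρ g (residue Q.O zO) = residue Q.O (g • zO) := by
    rw [hρ]
    show g • residue Q.O zO = residue Q.O (g • zO)
    rw [ResidueField.residue_smul]
  rw [h4, ← map_pow, ← sub_eq_zero, ← map_sub, residue_eq_zero_iff, mem_maximalIdeal_iff] at h3
  exact h3

end FrobLift

end Groth.Agent.H55
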