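import Groth.Agent.H55.SplitA
import Groth.Agent.H55.FFRR
import Groth.Agent.H55.FFCons2
import Mathlib

/-!
A place of `K'/k'` with a unique unramified place above it in `k̄ ⊗ K'` has degree one.
-/

set_option autoImplicit false

universe u v

namespace Groth.Agent.H55

open FunFld IntermediateField TensorProduct WithZero

section DegOne

variable {k' kb : Type u} {K' Kb : Type v} [Field k'] [Field kb] [Field K'] [Field Kb]
    [Algebra k' kb] [Algebra k' K'] [Algebra K' Kb] [Algebra kb Kb] [Algebra k' Kb]
    [IsScalarTower k' kb Kb] [IsScalarTower k' K' Kb]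

theorem isFunctionField_of_isAlgClosed [IsAlgClosed kb] (h : G.IsFF1 kb Kb) :
    FunFld.IsFunctionField kb Kb := by
  refine ⟨h, fun y hy => ?_⟩
  have hint : IsIntegral kb y := hy.isIntegral
  have h1 : (minpoly kb y).degree = 1 :=
    IsAlgClosed.degree_eq_one_of_irreducible kb (minpoly.irreducible hint)
  exact minpoly.mem_range_of_degree_eq_one kb y h1

/-- Linear independence over `k'` is preserved in `kb ⊗ K' = Kb`. -/
theorem linearIndependent_scalarExt
    (h : Function.Injective (Algebra.TensorProduct.productMap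
      (IsScalarTower.toAlgHom k' kb Kb) (IsScalarTower.toAlgHom k' K' Kb)))
    {ι : Type*} {v : ι → K'} (hv : LinearIndependent k' v) :
    LinearIndependent kb (fun i => algebraMap K' Kb (v i)) := by
  have h1 : LinearIndependent kb (fun i => (1 : kb) ⊗ₜ[k'] v i) :=
    Module.Flat.linearIndependent_one_tmul hv
  let pl : kb ⊗[k'] K' →ₗ[kb] Kb :=
    (Algebra.TensorProduct.productLeftAlgHom (Algebra.ofId kb Kb)
      (IsScalarTower.toAlgHom k' K' Kb)).toLinearMap
  have hpl : ∀ t : kb ⊗[k'] K', pl t = Algebra.TensorProduct.productMap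
      (IsScalarTower.toAlgHom k' kb Kb) (IsScalarTower.toAlgHom k' K' Kb) t := by
    intro t
    induction t using TensorProduct.induction_on with
    | zero => simp
    | tmul c a => simp [pl, Algebra.ofId_apply]
    | add x y hx hy => rw [map_add, map_add, hx, hy]
  have hplinj : Function.Injective pl := by
    intro a b hab
    apply h
    rw [← hpl, ← hpl, hab]
  have h2 := h1.map' pl (LinearMap.ker_eq_bot.mpr hplinj)
  have h3 : (pl ∘ fun i => (1 : kb) ⊗ₜ[k'] v i) = fun i => algebraMap K' Kb (v i) := by
    funext i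
    simp [pl]
  rw [h3] at h2
  exact h2

theorem deg_eq_one_of_unique_over [IsAlgClosed kb] [Algebra.IsAlgebraic k' kb]
    (h : Function.Bijective (Algebra.TensorProduct.productMap
      (IsScalarTower.toAlgHom k' kb Kb) (IsScalarTower.toAlgHom k' K' Kb)))
    (hK' : FunFld.IsFunctionField k' K') (Q : Place k' K') (Qb : Place kb Kb)
    (he : ∀ z : K', Qb.1 (algebraMap K' Kb z) = Q.1 z)
    (huniq : ∀ Qb' : Place kb Kb,
      (∃ e : ℕ, 0 < e ∧ ∀ z : K', Qb'.1 (algebraMap K' Kb z) = Q.1 z ^ e) → Qb' = Qb) :
    Q.deg = 1 := by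
  classical
  have hKb1 : G.IsFF1 kb Kb := isFF1_scalarExt_algebraic h hK'
  have hKb : FunFld.IsFunctionField kb Kb := isFunctionField_of_isAlgClosed hKb1
  have hdegb : Qb.deg = 1 := deg_eq_one_of_isAlgClosed hKb Qb
  haveI : Algebra.IsAlgebraic K' Kb := by
    refine ⟨fun z => ?_⟩
    obtain ⟨t, rfl⟩ := h.2 z
    induction t using TensorProduct.induction_on with
    | zero => rw [map_zero]; exact isAlgebraic_zero
    | tmul c a =>
      rw [Algebra.TensorProduct.productMap_apply_tmul]
      refine IsAlgebraic.mul ?_ (isAlgebraic_algebraMap a)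
      have h1 : IsAlgebraic k' c := Algebra.IsAlgebraic.isAlgebraic c
      have h2 : IsAlgebraic k' (IsScalarTower.toAlgHom k' kb Kb c) := h1.algHom _
      exact h2.tower_top K'
    | add x y hx hy => rw [map_add]; exact hx.add hy
  obtain ⟨g, hg⟩ : ∃ g : ℕ, g = genus k' K' := ⟨_, rfl⟩
  obtain ⟨n, hn⟩ : ∃ n : ℕ, n = 2 * g + 1 := ⟨_, rfl⟩
  set D : Divisor k' K' := Finsupp.single Q (n : ℤ) with hD
  set Db : Divisor kb Kb := Finsupp.single Qb (n : ℤ) with hDb
  have hm : 0 < Q.deg := G.deg_pos hK'.1 Q
  have hDQ : D Q = n := by rw [hD, Finsupp.single_eq_same]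
  have hDne : ∀ R : Place k' K', R ≠ Q → D R = 0 := fun R hR => by
    rw [hD, Finsupp.single_eq_of_ne hR]
  have hDbQ : Db Qb = n := by rw [hDb, Finsupp.single_eq_same]
  have hDbne : ∀ R : Place kb Kb, R ≠ Qb → Db R = 0 := fun R hR => by
    rw [hDb, Finsupp.single_eq_of_ne hR]
  have hdegD : D.deg = n * Q.deg := deg_single Q n
  have h1 : (ell D : ℤ) = D.deg + 1 - genus k' K' := by
    apply ell_eq_of_deg_ge hK'
    rw [hdegD, ← hg, hn]
    push_cast
    nlinarith
  have hDb0 : 0 ≤ Db := by
    rw [hDb]
    intro R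
    rw [Finsupp.coe_zero, Pi.zero_apply]
    by_cases hR : R = Qb
    · subst hR; rw [Finsupp.single_eq_same]; positivity
    · rw [Finsupp.single_eq_of_ne hR]
  have h2 : (ell Db : ℤ) ≤ n + 1 := by
    have := (L_finite_of_nonneg hKb hDb0).2
    rw [hDb, deg_single, hdegb] at this
    push_cast at this
    linarith
  have h3 : ell D ≤ ell Db := by
    haveI := L_finite hK' D
    haveI := L_finite hKb Db
    let b := Module.finBasis k' (L D)
    have hv : LinearIndependent k' (fun i => ((b i : L D) : K')) :=
      b.linearIndependent.map' (L D).subtype (Submodule.ker_subtype _)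
    have hv2 := linearIndependent_scalarExt h.1 hv
    have hmem : ∀ i, algebraMap K' Kb ((b i : L D) : K') ∈ L Db := by
      intro i Qb'
      have hbi : ∀ R : Place k' K', R.1 ((b i : L D) : K') ≤ exp (D R) := (b i).2
      by_cases hQb' : Qb' = Qb
      · subst hQb'
        rw [he, hDbQ]
        have := hbi Q
        rwa [hDQ] at this
      · obtain ⟨Q', e, he0, hQ'⟩ := exists_place_under_alg (k := k') (K := K') (K' := Kb) hK'.1
          Qb'.1 Qb'.2.2 (fun c => by
            rw [← IsScalarTower.algebraMap_apply, IsScalarTower.algebraMap_apply k' kb Kb]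
            exact Qb'.2.1 _)
        have hne : Q' ≠ Q := by
          rintro rfl
          exact hQb' (huniq Qb' ⟨e, he0, hQ'⟩)
        rw [hQ', hDbne _ hQb', exp_zero]
        have := hbi Q'
        rw [hDne _ hne, exp_zero] at this
        exact pow_le_one₀ zero_le' this
    let w : Fin (Module.finrank k' (L D)) → L Db := fun i => ⟨_, hmem i⟩
    have hw : LinearIndependent kb w := by
      apply LinearIndependent.of_comp (L Db).subtype
      exact hv2
    have := hw.fintype_card_le_finrank
    rw [Fintype.card_fin] at this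
    exact this
  have h4 : (ell D : ℤ) ≤ ell Db := by exact_mod_cast h3
  rw [h1, hdegD, ← hg] at h4
  have h5 : (n : ℤ) * Q.deg + 1 - g ≤ n + 1 := h4.trans h2
  have h6 : (Q.deg : ℤ) ≤ 1 := by
    by_contra hcon
    rw [not_le] at hcon
    have h7 : (2 : ℤ) ≤ Q.deg := by omega
    rw [hn] at h5
    push_cast at h5
    nlinarith
  have : Q.deg ≤ 1 := by exact_mod_cast h6
  omega

end DegOne

end Groth.Agent.H55
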