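import Groth.Agent.H55.SplitE
import Groth.Agent.H55.SplitB
import Groth.Agent.H55.FFRiemann
import Groth.Agent.H55.FFOver2
import Mathlib

/-!
The genus under a finite constant field extension: it does not increase, and it is preserved
exactly when all places are nonsingular with respect to the extension.
-/

set_option autoImplicit false

universe u v

namespace Groth.Agent.H55

open FunFld WithZero IsLocalRing TensorProduct
open ConstExt

section CE

variable {k k' : Type u} {K K' : Type v} [Field k] [Field k'] [Field K] [Field K']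
  [Algebra k k'] [Algebra k K] [Algebra K K'] [Algebra k' K'] [Algebra k K']
  [IsScalarTower k k' K'] [IsScalarTower k K K']

/-- Places of `K'/k` and of `K'/k'` coincide for `k'/k` algebraic. -/
noncomputable def placeEquiv [Algebra.IsAlgebraic k k'] : Place k K' ≃ Place k' K' :=
  ⟨ofK, toK k, toK_ofK, ofK_toK⟩

/-- The conorm of a divisor under the constant field extension `K' = k' ⊗ K`. -/
noncomputable def sconorm [Algebra.IsAlgebraic k k'] (D : Divisor k K) : Divisor k' K' :=
  Finsupp.equivMapDomain placeEquiv (conorm K' D)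

theorem sconorm_apply [Algebra.IsAlgebraic k k'] (hK : FunFld.IsFunctionField k K)
    [FiniteDimensional K K'] (D : Divisor k K) (Q : Place k' K') {P : Place k K} {e : ℕ}
    (h : IsOverWith (toK k Q) P e) : sconorm (k' := k') (K' := K') D Q = (e : ℤ) * D P := by
  unfold sconorm
  rw [Finsupp.equivMapDomain_apply]
  exact conorm_apply hK D h

theorem deg_sconorm [FiniteDimensional k k']
    (h : Function.Bijective (Algebra.TensorProduct.productMap
      (IsScalarTower.toAlgHom k k' K') (IsScalarTower.toAlgHom k K K')))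
    (hK : FunFld.IsFunctionField k K) (D : Divisor k K) :
    (sconorm (k' := k') (K' := K') D).deg = D.deg := by
  haveI : FiniteDimensional K K' := finiteDimensional_of_productMap h.2
  have hrank : Module.finrank K K' = Module.finrank k k' := finrank_of_productMap h
  have h1 : (conorm K' D).deg = Module.finrank K K' * D.deg := deg_conorm hK D
  have h2 : (conorm K' D).deg =
      Module.finrank k k' * (sconorm (k' := k') (K' := K') D).deg := by
    unfold sconorm Divisor.deg
    rw [Finsupp.sum_equivMapDomain, Finsupp.mul_sum]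
    apply Finsupp.sum_congr
    intro R _
    have h3 : R.deg = Module.finrank k k' * (placeEquiv (k' := k') R).deg := by
      have := deg_toK (k := k) (placeEquiv (k' := k') R)
      exact this
    rw [h3]
    push_cast
    ring
  rw [h1, hrank] at h2
  have hpos : (0 : ℤ) < Module.finrank k k' := by exact_mod_cast Module.finrank_pos
  exact (mul_left_cancel₀ hpos.ne' h2).symm

theorem mem_L_sconorm [FiniteDimensional k k'] (hK : FunFld.IsFunctionField k K)
    [FiniteDimensional K K'] (D : Divisor k K) {x : K} (hx : x ∈ L D) :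
    algebraMap K K' x ∈ L (sconorm (k' := k') (K' := K') D) := by
  intro Q
  obtain ⟨P, e, he⟩ := exists_place_under (K' := K') hK.1 (toK k Q)
  rw [sconorm_apply hK D Q he]
  have h1 : Q.1 (algebraMap K K' x) = P.1 x ^ e := he x
  rw [h1]
  calc P.1 x ^ e ≤ exp (D P) ^ e := pow_le_pow_left₀ zero_le' (hx P) e
    _ = exp ((e : ℤ) * D P) := by rw [← exp_nsmul, nsmul_eq_mul]

theorem ell_le_ell_sconorm [FiniteDimensional k k']
    (h : Function.Bijective (Algebra.TensorProduct.productMap
      (IsScalarTower.toAlgHom k k' K') (IsScalarTower.toAlgHom k K K')))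
    (hK : FunFld.IsFunctionField k K) (hK' : FunFld.IsFunctionField k' K') (D : Divisor k K) :
    ell D ≤ ell (sconorm (k' := k') (K' := K') D) := by
  haveI : FiniteDimensional K K' := finiteDimensional_of_productMap h.2
  haveI := L_finite hK D
  haveI := L_finite hK' (sconorm (k' := k') (K' := K') D)
  let b := Module.finBasis k (L D)
  have hv : LinearIndependent k (fun i => ((b i : L D) : K)) :=
    b.linearIndependent.map' (L D).subtype (Submodule.ker_subtype _)
  have hv2 := linearIndependent_scalarExt h.1 hv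
  let w : Fin (Module.finrank k (L D)) → L (sconorm (k' := k') (K' := K') D) :=
    fun i => ⟨_, mem_L_sconorm hK D (b i).2⟩
  have hw : LinearIndependent k' w := by
    apply LinearIndependent.of_comp (L (sconorm (k' := k') (K' := K') D)).subtype
    exact hv2
  have := hw.fintype_card_le_finrank
  rw [Fintype.card_fin] at this
  exact this

/-- The genus does not increase under constant field extension. -/
theorem genus_scalarExt_le [FiniteDimensional k k']
    (h : Function.Bijective (Algebra.TensorProduct.productMap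
      (IsScalarTower.toAlgHom k k' K') (IsScalarTower.toAlgHom k K K')))
    (hK : FunFld.IsFunctionField k K) (hK' : FunFld.IsFunctionField k' K') :
    genus k' K' ≤ genus k K := by
  obtain ⟨N', hN'⟩ := exists_riemann_bound hK'
  obtain ⟨x, hx, -⟩ := hK.1
  obtain ⟨P₀, -⟩ := G.exists_zero hK.1 x hx
  obtain ⟨D, hD⟩ : ∃ D : Divisor k K, D = Finsupp.single P₀ (N'.toNat : ℤ) := ⟨_, rfl⟩
  have hdeg : N' ≤ D.deg := by
    rw [hD, deg_single]
    have h1 : (1 : ℤ) ≤ P₀.deg := by exact_mod_cast G.deg_pos hK.1 P₀
    have h2 := Int.self_le_toNat N'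
    nlinarith [Int.natCast_nonneg N'.toNat]
  have h1 := hN' (sconorm (k' := k') (K' := K') D) (by rw [deg_sconorm h hK]; exact hdeg)
  have h2 := delta_le_genus hK D
  have h3 := ell_le_ell_sconorm h hK hK' D
  unfold delta at h1 h2
  rw [deg_sconorm h hK] at h1
  have h4 : (ell D : ℤ) ≤ ell (sconorm (k' := k') (K' := K') D) := by exact_mod_cast h3
  have : (genus k' K' : ℤ) ≤ genus k K := by omega
  exact_mod_cast this

/-- If the genus is preserved, every place is nonsingular with respect to the extension. -/
theorem nonsingular_of_genus_eq [FiniteDimensional k k']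
    (h : Function.Bijective (Algebra.TensorProduct.productMap
      (IsScalarTower.toAlgHom k k' K') (IsScalarTower.toAlgHom k K K')))
    (hK : FunFld.IsFunctionField k K) (hK' : FunFld.IsFunctionField k' K')
    (hgen : genus k' K' = genus k K) (P : Place k K) (z : K')
    (hz : ∀ Q : Place k K', IsOver Q P → Q.1 z ≤ 1) :
    z ∈ Algebra.adjoin (SO P K') (Set.range (algebraMap k' K')) := by
  classical
  haveI : FiniteDimensional K K' := finiteDimensional_of_productMap h.2
  haveI : Algebra.IsAlgebraic k k' := Algebra.IsAlgebraic.of_finite k k'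
  have hK1 : G.IsFF1 k K := hK.1
  have hK'1 : G.IsFF1 k' K' := hK'.1
  by_cases hz0 : z = 0
  · rw [hz0]; exact zero_mem _
  choose uP ue hu using fun Q : Place k' K' => exists_place_under (K' := K') hK1 (toK k Q)
  have hpol : {Q : Place k' K' | 1 < Q.1 z}.Finite := G.poles_finite hK'1 z
  obtain ⟨P₁, hP₁⟩ : ∃ P₁ : Place k K, P₁ ≠ P := by
    obtain ⟨x, hx, -⟩ := hK.1
    obtain ⟨Pz, hPz⟩ := G.exists_zero hK1 x hx
    obtain ⟨Pp, hPp⟩ := G.exists_pole hK1 x hx
    by_cases h1 : Pz = P
    · refine ⟨Pp, ?_⟩
      rintro rfl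
      rw [h1] at hPz
      exact absurd (hPz.trans hPp) (lt_irrefl _)
    · exact ⟨Pz, h1⟩
  obtain ⟨N, hN⟩ := exists_riemann_bound hK
  obtain ⟨N', hN'⟩ := exists_riemann_bound hK'
  obtain ⟨n, hn⟩ : ∃ n : ℕ, n = ∑ Q ∈ hpol.toFinset, (-(Q.ord z)).toNat := ⟨_, rfl⟩
  obtain ⟨M, hM⟩ : ∃ M : ℕ, M = n + N.toNat + N'.toNat := ⟨_, rfl⟩
  obtain ⟨T, hT⟩ : ∃ T : Finset (Place k K), T = (insert P₁ (hpol.toFinset.image uP)).erase P :=
    ⟨_, rfl⟩
  obtain ⟨D, hD⟩ : ∃ D : Divisor k K, D = ∑ P' ∈ T, Finsupp.single P' (M : ℤ) := ⟨_, rfl⟩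
  have hDapp : ∀ P' : Place k K, D P' = if P' ∈ T then (M : ℤ) else 0 := by
    intro P'
    rw [hD, Finsupp.finset_sum_apply]
    simp only [Finsupp.single_apply]
    rw [Finset.sum_ite_eq' T P']
  have hP₁T : P₁ ∈ T := by
    rw [hT]
    exact Finset.mem_erase.mpr ⟨hP₁, Finset.mem_insert_self _ _⟩
  have hPT : P ∉ T := by rw [hT]; exact Finset.notMem_erase P _
  have hDP : D P = 0 := by rw [hDapp, if_neg hPT]
  have hdegD : (M : ℤ) ≤ D.deg := by
    rw [hD, ← degHom_apply, map_sum]
    have h1 : ∀ P' ∈ T, (0 : ℤ) ≤ degHom k K (Finsupp.single P' (M : ℤ)) := by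
      intro P' _
      rw [degHom_apply, deg_single]
      positivity
    have h2 := Finset.single_le_sum h1 hP₁T
    refine le_trans ?_ h2
    rw [degHom_apply, deg_single]
    have h3 : (1 : ℤ) ≤ P₁.deg := by exact_mod_cast G.deg_pos hK1 P₁
    nlinarith [Int.natCast_nonneg M]
  have hzL : z ∈ L (sconorm (k' := k') (K' := K') D) := by
    intro Q
    rw [sconorm_apply hK D Q (hu Q)]
    have he : 0 < ue Q := isOverWith_pos (hu Q)
    by_cases hQ : 1 < Q.1 z
    · have hne : uP Q ≠ P := by
        intro hP
        have := hz (toK k Q) ⟨ue Q, hP ▸ hu Q⟩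
        exact absurd hQ (not_lt.mpr this)
      have hmemT : uP Q ∈ T := by
        rw [hT]
        exact Finset.mem_erase.mpr ⟨hne, Finset.mem_insert_of_mem
          (Finset.mem_image.mpr ⟨Q, (hpol.mem_toFinset).mpr hQ, rfl⟩)⟩
      rw [hDapp, if_pos hmemT, pl_val_eq_exp_neg_ord Q hz0, exp_le_exp]
      have h1 : (-(Q.ord z)).toNat ≤ n := by
        rw [hn]
        exact Finset.single_le_sum (f := fun Q : Place k' K' => (-(Q.ord z)).toNat)
          (fun _ _ => Nat.zero_le _) ((hpol.mem_toFinset).mpr hQ)
      have h2 := Int.self_le_toNat (-(Q.ord z))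
      have h3 : (n : ℤ) ≤ M := by rw [hM]; push_cast; omega
      have h4 : ((-(Q.ord z)).toNat : ℤ) ≤ n := by exact_mod_cast h1
      have h5 : (1 : ℤ) ≤ ue Q := by exact_mod_cast he
      nlinarith [Int.natCast_nonneg M]
    · push_neg at hQ
      refine hQ.trans ?_
      rw [← exp_zero, exp_le_exp, hDapp]
      split_ifs <;> positivity
  have hNM : N ≤ D.deg := by
    refine le_trans ?_ hdegD
    rw [hM]; push_cast
    have := Int.self_le_toNat N
    omega
  have hN'M : N' ≤ D.deg := by
    refine le_trans ?_ hdegD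
    rw [hM]; push_cast
    have := Int.self_le_toNat N'
    omega
  have e1 := hN D hNM
  have e2 := hN' (sconorm (k' := k') (K' := K') D) (by rw [deg_sconorm h hK]; exact hN'M)
  unfold delta at e1 e2
  rw [deg_sconorm h hK, hgen] at e2
  have hell : ell (sconorm (k' := k') (K' := K') D) = ell D := by
    have : (ell (sconorm (k' := k') (K' := K') D) : ℤ) = ell D := by omega
    exact_mod_cast this
  haveI := L_finite hK D
  haveI := L_finite hK' (sconorm (k' := k') (K' := K') D)
  obtain ⟨W, hW⟩ : ∃ W : Submodule k' K',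
    W = Submodule.span k' ((algebraMap K K') '' (L D : Set K)) := ⟨_, rfl⟩
  have hWle : W ≤ L (sconorm (k' := k') (K' := K') D) := by
    rw [hW]
    refine Submodule.span_le.mpr ?_
    rintro _ ⟨x, hx, rfl⟩
    exact mem_L_sconorm hK D hx
  haveI : FiniteDimensional k' W := Submodule.finiteDimensional_of_le hWle
  have hWdim : ell D ≤ Module.finrank k' W := by
    let b := Module.finBasis k (L D)
    have hv : LinearIndependent k (fun i => ((b i : L D) : K)) :=
      b.linearIndependent.map' (L D).subtype (Submodule.ker_subtype _)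
    have hv2 := linearIndependent_scalarExt h.1 hv
    let w : Fin (Module.finrank k (L D)) → W :=
      fun i => ⟨algebraMap K K' ((b i : L D) : K), by
        rw [hW]
        exact Submodule.subset_span ⟨_, (b i).2, rfl⟩⟩
    have hw : LinearIndependent k' w := by
      apply LinearIndependent.of_comp W.subtype
      exact hv2
    have := hw.fintype_card_le_finrank
    rw [Fintype.card_fin] at this
    exact this
  have hWeq : W = L (sconorm (k' := k') (K' := K') D) :=
    Submodule.eq_of_le_of_finrank_le hWle (by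
      show ell (sconorm (k' := k') (K' := K') D) ≤ _
      rw [hell]; exact hWdim)
  have hzW : z ∈ W := by rw [hWeq]; exact hzL
  rw [hW] at hzW
  have key : ∀ y ∈ Submodule.span k' ((algebraMap K K') '' (L D : Set K)),
      y ∈ Algebra.adjoin (SO P K') (Set.range (algebraMap k' K')) := by
    intro y hy
    induction hy using Submodule.span_induction with
    | mem y hy =>
      obtain ⟨x, hx, rfl⟩ := hy
      have hxP : P.1 x ≤ 1 := by
        have := hx P
        rwa [hDP, exp_zero] at this
      have hmem : algebraMap K K' x ∈ SO P K' := (mem_SO_iff P _).mpr ⟨x, hxP, rfl⟩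
      exact Subalgebra.algebraMap_mem _ (⟨_, hmem⟩ : SO P K')
    | zero => exact zero_mem _
    | add x y _ _ hx hy => exact add_mem hx hy
    | smul c y _ hy =>
      rw [Algebra.smul_def]
      exact mul_mem (Algebra.subset_adjoin ⟨c, rfl⟩) hy
  exact key z hzW

/-- If every place is nonsingular with respect to the extension, the genus is preserved. -/
theorem genus_eq_of_nonsingular [FiniteDimensional k k']
    (h : Function.Bijective (Algebra.TensorProduct.productMap
      (IsScalarTower.toAlgHom k k' K') (IsScalarTower.toAlgHom k K K')))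
    (hK : FunFld.IsFunctionField k K) (hK' : FunFld.IsFunctionField k' K')
    (hns : ∀ (P : Place k K) (z : K'), (∀ Q : Place k K', IsOver Q P → Q.1 z ≤ 1) →
      z ∈ Algebra.adjoin (SO P K') (Set.range (algebraMap k' K'))) :
    genus k' K' = genus k K := by
  classical
  haveI : FiniteDimensional K K' := finiteDimensional_of_productMap h.2
  haveI : Algebra.IsAlgebraic k k' := Algebra.IsAlgebraic.of_finite k k'
  have hK1 : G.IsFF1 k K := hK.1
  apply le_antisymm (genus_scalarExt_le h hK hK')
  obtain ⟨N, hN⟩ := exists_riemann_bound hK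
  obtain ⟨N', hN'⟩ := exists_riemann_bound hK'
  obtain ⟨x, hx, -⟩ := hK.1
  obtain ⟨P₀, -⟩ := G.exists_zero hK1 x hx
  obtain ⟨M, hM⟩ : ∃ M : ℕ, M = N.toNat + N'.toNat := ⟨_, rfl⟩
  obtain ⟨D, hD⟩ : ∃ D : Divisor k K, D = Finsupp.single P₀ (M : ℤ) := ⟨_, rfl⟩
  have hdegD : (M : ℤ) ≤ D.deg := by
    rw [hD, deg_single]
    have h3 : (1 : ℤ) ≤ P₀.deg := by exact_mod_cast G.deg_pos hK1 P₀
    nlinarith [Int.natCast_nonneg M]
  have hNM : N ≤ D.deg := by
    refine le_trans ?_ hdegD
    rw [hM]; push_cast
    have := Int.self_le_toNat N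
    omega
  have hN'M : N' ≤ D.deg := by
    refine le_trans ?_ hdegD
    rw [hM]; push_cast
    have := Int.self_le_toNat N'
    omega
  have e1 := hN D hNM
  have e2 := hN' (sconorm (k' := k') (K' := K') D) (by rw [deg_sconorm h hK]; exact hN'M)
  unfold delta at e1 e2
  rw [deg_sconorm h hK] at e2
  -- coordinates
  let b := Module.finBasis k k'
  have hlamex : ∀ j, ∃ lam : K' →ₗ[K] K,
      ∀ c : k', lam (algebraMap k' K' c) = algebraMap k K (b.coord j c) :=
    fun j => exists_lambda h (b.coord j)
  choose lam hlam using hlamex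
  haveI := L_finite hK D
  haveI := L_finite hK' (sconorm (k' := k') (K' := K') D)
  have hcoord : ∀ z ∈ L (sconorm (k' := k') (K' := K') D), ∀ j, lam j z ∈ L D := by
    intro z hz j P
    obtain ⟨t, ht0, ht⟩ := pl_exists_val_eq_exp P (-1)
    obtain ⟨u, hu⟩ : ∃ u : K', u = (t ^ (D P)) • z := ⟨_, rfl⟩
    have huall : ∀ Q : Place k K', IsOver Q P → Q.1 u ≤ 1 := by
      rintro Q ⟨e, he⟩
      have h1 := hz (ofK Q)
      rw [sconorm_apply hK D (ofK Q) (by rw [toK_ofK]; exact he)] at h1
      have h2 : (ofK (k' := k') Q).1 z = Q.1 z := rfl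
      rw [h2] at h1
      rw [hu, Algebra.smul_def, map_mul, he, map_zpow₀, ht, ← exp_zsmul, ← exp_nsmul]
      calc exp ((e : ℕ) • (D P • (-1 : ℤ))) * Q.1 z
          ≤ exp ((e : ℕ) • (D P • (-1 : ℤ))) * exp ((e : ℤ) * D P) := mul_le_mul' le_rfl h1
        _ = 1 := by
          rw [← exp_add, ← exp_zero]
          congr 1
          simp only [smul_eq_mul, nsmul_eq_mul]
          ring
    have hmem := hns P u huall
    have h3 := lambda_adjoin_mem P.O.toSubring (fun c => P.2.1 c) (lam j)
      (fun c => ⟨b.coord j c, (hlam j c).symm⟩) hmem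
    rw [hu, map_smul, smul_eq_mul] at h3
    have h4 : P.1 (t ^ (D P) * lam j z) ≤ 1 := h3
    rw [map_mul, map_zpow₀, ht, ← exp_zsmul] at h4
    have h5 : P.1 (lam j z) = exp (D P) * (exp (D P • (-1 : ℤ)) * P.1 (lam j z)) := by
      rw [← mul_assoc, ← exp_add]
      simp
    rw [h5]
    calc exp (D P) * (exp (D P • (-1 : ℤ)) * P.1 (lam j z)) ≤ exp (D P) * 1 :=
          mul_le_mul' le_rfl h4
      _ = exp (D P) := mul_one _
  let bL := Module.finBasis k (L D)
  obtain ⟨W, hW⟩ : ∃ W : Submodule k' K',
    W = Submodule.span k' (Set.range fun i => algebraMap K K' ((bL i : L D) : K)) := ⟨_, rfl⟩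
  have hLW : L (sconorm (k' := k') (K' := K') D) ≤ W := by
    intro z hz
    rw [sum_lambda_mul_basis h.2 b lam hlam z]
    refine Submodule.sum_mem _ (fun j _ => ?_)
    have h1 : lam j z ∈ L D := hcoord z hz j
    have h2 : lam j z = ∑ i, (bL.repr ⟨lam j z, h1⟩ i) • ((bL i : L D) : K) := by
      have := bL.sum_repr ⟨lam j z, h1⟩
      have h3 := congrArg (fun y : L D => (y : K)) this
      simp only [Submodule.coe_sum, Submodule.coe_smul] at h3
      exact h3.symm
    rw [h2, map_sum, Finset.sum_mul]
    refine Submodule.sum_mem _ (fun i _ => ?_)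
    rw [Algebra.smul_def, map_mul, ← IsScalarTower.algebraMap_apply k K K',
      IsScalarTower.algebraMap_apply k k' K']
    have h4 : algebraMap k' K' (algebraMap k k' (bL.repr ⟨lam j z, h1⟩ i)) *
        algebraMap K K' ((bL i : L D) : K) * algebraMap k' K' (b j) =
        (algebraMap k k' (bL.repr ⟨lam j z, h1⟩ i) * b j) •
          algebraMap K K' ((bL i : L D) : K) := by
      rw [Algebra.smul_def, map_mul]; ring
    rw [h4, hW]
    exact Submodule.smul_mem _ _ (Submodule.subset_span ⟨i, rfl⟩)
  have hWfin : FiniteDimensional k' W := by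
    rw [hW]
    exact FiniteDimensional.span_of_finite k' (Set.finite_range _)
  have hWdim : Module.finrank k' W ≤ ell D := by
    rw [hW]
    have := finrank_range_le_card (R := k') (fun i => algebraMap K K' ((bL i : L D) : K))
    rw [Fintype.card_fin] at this
    exact this
  have hell : ell (sconorm (k' := k') (K' := K') D) ≤ ell D :=
    (Submodule.finrank_mono hLW).trans hWdim
  have h6 : (ell (sconorm (k' := k') (K' := K') D) : ℤ) ≤ ell D := by exact_mod_cast hell
  have : (genus k K : ℤ) ≤ genus k' K' := by omega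
  exact_mod_cast this

end CE

end Groth.Agent.H55
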