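import Mathlib

/-!
A finite normal extension is separable over its maximal purely inseparable subextension.
-/

set_option autoImplicit false

namespace Groth.Agent.H55

open IntermediateField Polynomial

variable (k N : Type*) [Field k] [Field N] [Algebra k N]

theorem fixedField_le_perfectClosure [FiniteDimensional k N] [Normal k N] :
    fixedField (⊤ : Subgroup Gal(N/k)) ≤ perfectClosure k N := by
  classical
  intro x hx
  rw [mem_fixedField_iff] at hx
  rw [mem_perfectClosure_iff_natSepDegree_eq_one]
  have hint : IsIntegral k x := Algebra.IsIntegral.isIntegral x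
  have hsplit : ((minpoly k x).map (algebraMap k N)).Splits := Normal.splits inferInstance x
  rw [natSepDegree_eq_of_splits _ hsplit]
  have h1 : ((minpoly k x).aroots N).toFinset = {x} := by
    ext r
    rw [Multiset.mem_toFinset, mem_aroots, Finset.mem_singleton]
    constructor
    · rintro ⟨-, hr⟩
      obtain ⟨σ, hσ⟩ := minpoly.exists_algEquiv_of_root hint.isAlgebraic hr
      have h2 := hx σ⁻¹ (Subgroup.mem_top _)
      rw [← hσ] at h2
      have h3 : σ⁻¹ (σ r) = r := σ.symm_apply_apply r
      rw [h3] at h2
      rw [h2, hσ]
    · rintro rfl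
      exact ⟨minpoly.ne_zero hint, minpoly.aeval k r⟩
  rw [h1, Finset.card_singleton]

theorem isSeparable_over_perfectClosure [FiniteDimensional k N] [Normal k N] :
    Algebra.IsSeparable (perfectClosure k N) N := by
  have hle := fixedField_le_perfectClosure k N
  haveI : IsGalois (fixedField (⊤ : Subgroup Gal(N/k))) N :=
    IsGalois.of_fixed_field N (⊤ : Subgroup Gal(N/k))
  letI : Algebra (fixedField (⊤ : Subgroup Gal(N/k))) (perfectClosure k N) :=
    (IntermediateField.inclusion hle).toRingHom.toAlgebra
  haveI : IsScalarTower (fixedField (⊤ : Subgroup Gal(N/k))) (perfectClosure k N) N :=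
    IsScalarTower.of_algebraMap_eq (fun _ => rfl)
  exact Algebra.isSeparable_tower_top_of_isSeparable (fixedField (⊤ : Subgroup Gal(N/k)))
    (perfectClosure k N) N

end Groth.Agent.H55
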