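import Groth.Agent.H55.GenusCE
import Groth.Agent.H55.CompField
import Groth.Agent.H55.NormalSep
import Mathlib

/-!
Minimal genus among constant field extensions; comparison of realizations.
-/

set_option autoImplicit false

universe u v

namespace Groth.Agent.H55

open FunFld WithZero IsLocalRing TensorProduct IntermediateField
open ConstExt

section Gen

variable {k k' K K' : Type*} [Field k] [Field k'] [Field K] [Field K']
  [Algebra k k'] [Algebra k K] [Algebra K K'] [Algebra k' K'] [Algebra k K']
  [IsScalarTower k k' K'] [IsScalarTower k K K']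

theorem gen_of_surjective
    (h : Function.Surjective (Algebra.TensorProduct.productMap
      (IsScalarTower.toAlgHom k k' K') (IsScalarTower.toAlgHom k K K'))) (z : K') :
    z ∈ Algebra.adjoin K (Set.range (algebraMap k' K')) := by
  obtain ⟨t, rfl⟩ := h z
  induction t using TensorProduct.induction_on with
  | zero => rw [map_zero]; exact zero_mem _
  | tmul c a =>
    rw [Algebra.TensorProduct.productMap_apply_tmul]
    exact mul_mem (Algebra.subset_adjoin ⟨c, rfl⟩) (Subalgebra.algebraMap_mem _ a)
  | add x y hx hy => rw [map_add]; exact add_mem hx hy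

end Gen

section CompReal

variable {k k' k'' : Type u} {K K' K'' : Type v} [Field k] [Field k'] [Field k''] [Field K]
    [Field K'] [Field K'']
    [Algebra k k'] [Algebra k' k''] [Algebra k k''] [IsScalarTower k k' k'']
    [Algebra k K] [Algebra K K'] [Algebra k' K'] [Algebra k K'] [IsScalarTower k k' K']
    [IsScalarTower k K K']
    [Algebra K' K''] [Algebra k'' K''] [Algebra k' K''] [Algebra k K''] [Algebra K K'']
    [IsScalarTower k' k'' K''] [IsScalarTower k' K' K''] [IsScalarTower K K' K'']
    [IsScalarTower k K K''] [IsScalarTower k k'' K'']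

/-- A realization of a realization is a realization. -/
theorem realization_comp [FiniteDimensional k k'']
    (h1 : Function.Surjective (Algebra.TensorProduct.productMap
      (IsScalarTower.toAlgHom k k' K') (IsScalarTower.toAlgHom k K K')))
    (h2 : Function.Surjective (Algebra.TensorProduct.productMap
      (IsScalarTower.toAlgHom k' k'' K'') (IsScalarTower.toAlgHom k' K' K'')))
    (hg : FunFld.IsGeometric k K) :
    Function.Bijective (Algebra.TensorProduct.productMap
      (IsScalarTower.toAlgHom k k'' K'') (IsScalarTower.toAlgHom k K K'')) := by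
  apply productMap_bijective_of_isField (hg k'' inferInstance)
  intro z
  have hz := gen_of_surjective h2 z
  induction hz using Algebra.adjoin_induction with
  | mem x hx => exact Algebra.subset_adjoin hx
  | algebraMap a =>
    have ha := gen_of_surjective h1 a
    induction ha using Algebra.adjoin_induction with
    | mem x hx =>
      obtain ⟨c, rfl⟩ := hx
      apply Algebra.subset_adjoin
      refine ⟨algebraMap k' k'' c, ?_⟩
      rw [← IsScalarTower.algebraMap_apply k' k'' K'', IsScalarTower.algebraMap_apply k' K' K'']
    | algebraMap b =>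
      rw [← IsScalarTower.algebraMap_apply K K' K'']
      exact Subalgebra.algebraMap_mem _ b
    | add x y _ _ hx hy => rw [map_add]; exact add_mem hx hy
    | mul x y _ _ hx hy => rw [map_mul]; exact mul_mem hx hy
  | add x y _ _ hx hy => exact add_mem hx hy
  | mul x y _ _ hx hy => exact mul_mem hx hy

end CompReal

section TwoReal

variable {k k' : Type u} {K K₁ K₂ : Type v} [Field k] [Field k'] [Field K] [Field K₁] [Field K₂]
  [Algebra k k'] [Algebra k K]
  [Algebra K K₁] [Algebra k' K₁] [Algebra k K₁] [IsScalarTower k k' K₁] [IsScalarTower k K K₁]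
  [Algebra K K₂] [Algebra k' K₂] [Algebra k K₂] [IsScalarTower k k' K₂] [IsScalarTower k K K₂]

/-- Two realizations of `k' ⊗ K` have the same genus. -/
theorem genus_le_of_realizations [FiniteDimensional k k']
    (h₁ : Function.Bijective (Algebra.TensorProduct.productMap
      (IsScalarTower.toAlgHom k k' K₁) (IsScalarTower.toAlgHom k K K₁)))
    (h₂ : Function.Bijective (Algebra.TensorProduct.productMap
      (IsScalarTower.toAlgHom k k' K₂) (IsScalarTower.toAlgHom k K K₂)))
    (hK : FunFld.IsFunctionField k K) (hg : FunFld.IsGeometric k K) :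
    genus k' K₂ ≤ genus k' K₁ := by
  obtain ⟨hK₁, hg₁⟩ := scalarExt_isFunctionField_isGeometric h₁ hK hg
  obtain ⟨hK₂, -⟩ := scalarExt_isFunctionField_isGeometric h₂ hK hg
  let e₁ : k' ⊗[k] K ≃ₐ[k'] K₁ := scalarExtEquiv h₁
  let e₂ : k' ⊗[k] K ≃ₐ[k'] K₂ := scalarExtEquiv h₂
  let ψ : K₁ ≃ₐ[k'] K₂ := e₁.symm.trans e₂
  letI : Algebra K₁ K₂ := ψ.toAlgHom.toRingHom.toAlgebra
  haveI : IsScalarTower k' K₁ K₂ := IsScalarTower.of_algebraMap_eq (fun c => (ψ.commutes c).symm)
  have hbij : Function.Bijective (Algebra.TensorProduct.productMap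
      (IsScalarTower.toAlgHom k' k' K₂) (IsScalarTower.toAlgHom k' K₁ K₂)) := by
    have h3 : ∀ t : k' ⊗[k'] K₁, Algebra.TensorProduct.productMap
        (IsScalarTower.toAlgHom k' k' K₂) (IsScalarTower.toAlgHom k' K₁ K₂) t =
        ψ (Algebra.TensorProduct.lid k' K₁ t) := by
      intro t
      induction t using TensorProduct.induction_on with
      | zero => simp
      | tmul c a =>
        rw [Algebra.TensorProduct.productMap_apply_tmul, Algebra.TensorProduct.lid_tmul,
          map_smul, Algebra.smul_def]
        rfl
      | add x y hx hy => rw [map_add, map_add, map_add, hx, hy]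
    have h4 : (Algebra.TensorProduct.productMap
        (IsScalarTower.toAlgHom k' k' K₂) (IsScalarTower.toAlgHom k' K₁ K₂) : _ → K₂) =
        ψ ∘ (Algebra.TensorProduct.lid k' K₁) := funext h3
    rw [h4]
    exact ψ.bijective.comp (Algebra.TensorProduct.lid k' K₁).bijective
  exact genus_scalarExt_le hbij hK₁ hK₂

theorem genus_eq_of_realizations [FiniteDimensional k k']
    (h₁ : Function.Bijective (Algebra.TensorProduct.productMap
      (IsScalarTower.toAlgHom k k' K₁) (IsScalarTower.toAlgHom k K K₁)))
    (h₂ : Function.Bijective (Algebra.TensorProduct.productMap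
      (IsScalarTower.toAlgHom k k' K₂) (IsScalarTower.toAlgHom k K K₂)))
    (hK : FunFld.IsFunctionField k K) (hg : FunFld.IsGeometric k K) :
    genus k' K₂ = genus k' K₁ :=
  le_antisymm (genus_le_of_realizations h₁ h₂ hK hg) (genus_le_of_realizations h₂ h₁ hK hg)

end TwoReal

end Groth.Agent.H55
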