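import Groth.Agent.H55.GenusMin
import Mathlib

/-!
A finite purely inseparable constant field extension with minimal genus, and nonsingularity of
all its places.
-/

set_option autoImplicit false

universe u v

namespace Groth.Agent.H55

open FunFld WithZero IsLocalRing TensorProduct IntermediateField
open ConstExt

section NsSep

variable {k k' : Type u} {K K' : Type v} [Field k] [Field k'] [Field K] [Field K']
  [Algebra k k'] [Algebra k K] [Algebra K K'] [Algebra k' K'] [Algebra k K']
  [IsScalarTower k k' K'] [IsScalarTower k K K']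

theorem ns_of_isSeparable [FiniteDimensional k k'] [Algebra.IsSeparable k k']
    (h : Function.Bijective (Algebra.TensorProduct.productMap
      (IsScalarTower.toAlgHom k k' K') (IsScalarTower.toAlgHom k K K')))
    (hK : G.IsFF1 k K) (P : Place k K) (z : K')
    (hz : ∀ Q : Place k K', IsOver Q P → Q.1 z ≤ 1) :
    z ∈ Algebra.adjoin (SO P K') (Set.range (algebraMap k' K')) := by
  haveI : FiniteDimensional K K' := finiteDimensional_of_productMap h.2
  letI : Algebra P.O K' := ((algebraMap K K').comp P.O.subtype).toAlgebra
  haveI : IsScalarTower P.O K K' := IsScalarTower.of_algebraMap_eq (fun _ => rfl)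
  have h1 : IsIntegral P.O z := isIntegral_of_forall_over hK P z hz
  have h2 : z ∈ integralClosure P.O K' := h1
  rw [Groth.Agent.H10.FFConstPlace.integralClosure_eq_adjoin_of_isSeparable h P] at h2
  have key : ∀ y ∈ Algebra.adjoin P.O (Set.range (algebraMap k' K')),
      y ∈ Algebra.adjoin (SO P K') (Set.range (algebraMap k' K')) := by
    intro y hy
    induction hy using Algebra.adjoin_induction with
    | mem x hx => exact Algebra.subset_adjoin hx
    | algebraMap a =>
      have hmem : algebraMap P.O K' a ∈ SO P K' :=
        (mem_SO_iff P _).mpr ⟨a.1, (P.1.mem_valuationSubring_iff _).mp a.2, rfl⟩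
      exact Subalgebra.algebraMap_mem _ (⟨_, hmem⟩ : SO P K')
    | add x y _ _ hx hy => exact add_mem hx hy
    | mul x y _ _ hx hy => exact mul_mem hx hy
  exact key z h2

end NsSep

section AdjGen

variable {K L N : Type*} [Field K] [Field L] [Algebra K L] [Field N]

theorem adjoin_range_gen (f : N →+* L) (halg : ∀ c, IsAlgebraic K (f c))
    (z : IntermediateField.adjoin K (Set.range f)) :
    z ∈ Algebra.adjoin K (Set.range (f.codRestrict (IntermediateField.adjoin K (Set.range f))
      (fun c => IntermediateField.subset_adjoin K _ ⟨c, rfl⟩))) := by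
  obtain ⟨z, hz⟩ := z
  have halg' : ∀ x ∈ Set.range f, IsAlgebraic K x := by
    rintro _ ⟨c, rfl⟩
    exact halg c
  have h1 : z ∈ (IntermediateField.adjoin K (Set.range f)).toSubalgebra := hz
  rw [IntermediateField.adjoin_toSubalgebra_of_isAlgebraic halg'] at h1
  have key : ∀ x ∈ Algebra.adjoin K (Set.range f),
      ∃ hx : x ∈ IntermediateField.adjoin K (Set.range f),
        (⟨x, hx⟩ : IntermediateField.adjoin K (Set.range f)) ∈
        Algebra.adjoin K (Set.range (f.codRestrict (IntermediateField.adjoin K (Set.range f))
          (fun c => IntermediateField.subset_adjoin K _ ⟨c, rfl⟩))) := by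
    intro x hx
    induction hx using Algebra.adjoin_induction with
    | mem x hx =>
      obtain ⟨c, rfl⟩ := hx
      exact ⟨IntermediateField.subset_adjoin K _ ⟨c, rfl⟩, Algebra.subset_adjoin ⟨c, rfl⟩⟩
    | algebraMap a =>
      exact ⟨(IntermediateField.adjoin K (Set.range f)).algebraMap_mem a,
        Subalgebra.algebraMap_mem _ a⟩
    | add x y _ _ hx hy =>
      obtain ⟨hx1, hx2⟩ := hx
      obtain ⟨hy1, hy2⟩ := hy
      exact ⟨add_mem hx1 hy1, add_mem hx2 hy2⟩
    | mul x y _ _ hx hy =>
      obtain ⟨hx1, hx2⟩ := hx
      obtain ⟨hy1, hy2⟩ := hy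
      exact ⟨mul_mem hx1 hy1, mul_mem hx2 hy2⟩
  obtain ⟨_, h2⟩ := key z h1
  exact h2

end AdjGen

section Main

variable (k : Type u) (K : Type v) [Field k] [Field K] [Algebra k K]

/-- The genera of all finite constant field extensions of `K/k`. -/
def GenusFam : Set ℕ :=
  {g | ∃ (k₁ : Type u) (_ : Field k₁) (_ : Algebra k k₁) (K₁ : Type v) (_ : Field K₁)
      (_ : Algebra K K₁) (_ : Algebra k₁ K₁) (_ : Algebra k K₁) (_ : IsScalarTower k k₁ K₁)
      (_ : IsScalarTower k K K₁), FiniteDimensional k k₁ ∧
      Function.Bijective (Algebra.TensorProduct.productMap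
        (IsScalarTower.toAlgHom k k₁ K₁) (IsScalarTower.toAlgHom k K K₁)) ∧ genus k₁ K₁ = g}

theorem genusFam_nonempty : (GenusFam k K).Nonempty := by
  refine ⟨genus k K, k, inferInstance, inferInstance, K, inferInstance, inferInstance,
    inferInstance, inferInstance, inferInstance, inferInstance, inferInstance, ?_, rfl⟩
  have h3 : ∀ t : k ⊗[k] K, Algebra.TensorProduct.productMap
      (IsScalarTower.toAlgHom k k K) (IsScalarTower.toAlgHom k K K) t =
      Algebra.TensorProduct.lid k K t := by
    intro t
    induction t using TensorProduct.induction_on with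
    | zero => simp
    | tmul c a =>
      rw [Algebra.TensorProduct.productMap_apply_tmul, Algebra.TensorProduct.lid_tmul,
        Algebra.smul_def]
      rfl
    | add x y hx hy => rw [map_add, map_add, hx, hy]
  have h4 : (Algebra.TensorProduct.productMap
      (IsScalarTower.toAlgHom k k K) (IsScalarTower.toAlgHom k K K) : _ → K) =
      (Algebra.TensorProduct.lid k K) := funext h3
  rw [h4]
  exact (Algebra.TensorProduct.lid k K).bijective

end Main

end Groth.Agent.H55
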