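import Groth.Agent.H55.GenusMin2
import Mathlib

/-!
A finite purely inseparable constant field extension realizing the minimal genus.
-/

set_option autoImplicit false

universe u v

namespace Groth.Agent.H55

open FunFld WithZero IsLocalRing TensorProduct IntermediateField
open ConstExt

section SubReal

theorem exists_subfield_realization {k : Type u} {K L : Type v} {Ni : Type u} [Field k] [Field K] [Field L] [Field Ni]
    [Algebra k K] [Algebra K L] [Algebra k L] [IsScalarTower k K L] [Algebra k Ni] [Algebra Ni L]
    [IsScalarTower k Ni L] [Algebra.IsAlgebraic k Ni] (hF : IsField (Ni ⊗[k] K)) :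
    ∃ (Ki : IntermediateField K L) (_ : Algebra Ni Ki) (_ : IsScalarTower k Ni Ki)
      (_ : IsScalarTower Ni Ki L),
      Function.Bijective (Algebra.TensorProduct.productMap
        (IsScalarTower.toAlgHom k Ni Ki) (IsScalarTower.toAlgHom k K Ki)) := by
  have halg : ∀ c : Ni, IsAlgebraic K (algebraMap Ni L c) := by
    intro c
    have h1 : IsAlgebraic k c := Algebra.IsAlgebraic.isAlgebraic c
    have h2 : IsAlgebraic k (IsScalarTower.toAlgHom k Ni L c) := h1.algHom _
    exact h2.tower_top K
  let alg : Algebra Ni (IntermediateField.adjoin K (Set.range (algebraMap Ni L))) :=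
    RingHom.toAlgebra ((algebraMap Ni L).codRestrict
      (IntermediateField.adjoin K (Set.range (algebraMap Ni L)))
      (fun c => IntermediateField.subset_adjoin K _ ⟨c, rfl⟩))
  have t1 : IsScalarTower k Ni (IntermediateField.adjoin K (Set.range (algebraMap Ni L))) :=
    IsScalarTower.of_algebraMap_eq (fun c => Subtype.ext (by
      show algebraMap k L c = algebraMap Ni L (algebraMap k Ni c)
      rw [← IsScalarTower.algebraMap_apply]))
  have t2 : IsScalarTower Ni (IntermediateField.adjoin K (Set.range (algebraMap Ni L))) L :=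
    IsScalarTower.of_algebraMap_eq (fun _ => rfl)
  refine ⟨IntermediateField.adjoin K (Set.range (algebraMap Ni L)), alg, t1, t2, ?_⟩
  exact productMap_bijective_of_isField hF (adjoin_range_gen (algebraMap Ni L) halg)

end SubReal

section StepA

variable {k : Type u} {K : Type v} [Field k] [Field K] [Algebra k K]
  {k₁ : Type u} {K₁ : Type v} [Field k₁] [Field K₁] [Algebra k k₁] [Algebra K K₁]
  [Algebra k₁ K₁] [Algebra k K₁] [IsScalarTower k k₁ K₁] [IsScalarTower k K K₁]
  (N Ni : Type u) [Field N] [Field Ni] [Algebra k N] [Algebra k₁ N] [IsScalarTower k k₁ N]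
  [Algebra k Ni] [Algebra Ni N] [IsScalarTower k Ni N]

set_option maxHeartbeats 1600000 in
theorem genus_min_step [FiniteDimensional k k₁] [FiniteDimensional k N]
    [Algebra.IsSeparable Ni N]
    (hK : FunFld.IsFunctionField k K) (hg : FunFld.IsGeometric k K)
    (h₁ : Function.Bijective (Algebra.TensorProduct.productMap
      (IsScalarTower.toAlgHom k k₁ K₁) (IsScalarTower.toAlgHom k K K₁)))
    (hgen₁ : genus k₁ K₁ = sInf (GenusFam k K))
    (K' : Type v) [Field K'] [Algebra K K'] [Algebra Ni K'] [Algebra k K']
    [IsScalarTower k Ni K'] [IsScalarTower k K K']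
    (h' : Function.Bijective (Algebra.TensorProduct.productMap
      (IsScalarTower.toAlgHom k Ni K') (IsScalarTower.toAlgHom k K K'))) :
    genus Ni K' = sInf (GenusFam k K) := by
  classical
  haveI : Algebra.IsAlgebraic k k₁ := Algebra.IsAlgebraic.of_finite k k₁
  obtain ⟨hK₁, hg₁⟩ := scalarExt_isFunctionField_isGeometric h₁ hK hg
  haveI : FiniteDimensional k₁ N := FiniteDimensional.right k k₁ N
  haveI : Algebra.IsAlgebraic k₁ N := Algebra.IsAlgebraic.of_finite k₁ N
  haveI : FiniteDimensional k Ni :=
    FiniteDimensional.of_injective (IsScalarTower.toAlgHom k Ni N).toLinearMap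
      (algebraMap Ni N).injective
  haveI : FiniteDimensional Ni N := FiniteDimensional.right k Ni N
  -- `K_N`
  have hbN : Function.Bijective (Algebra.TensorProduct.productMap
      (IsScalarTower.toAlgHom k₁ N (CompField k₁ K₁ N))
      (IsScalarTower.toAlgHom k₁ K₁ (CompField k₁ K₁ N))) :=
    comp_bijective k₁ K₁ N (hg₁ N inferInstance)
  obtain ⟨hK_N, -⟩ := scalarExt_isFunctionField_isGeometric hbN hK₁ hg₁
  letI : Algebra K (CompField k₁ K₁ N) :=
    ((algebraMap K₁ (CompField k₁ K₁ N)).comp (algebraMap K K₁)).toAlgebra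
  haveI : IsScalarTower K K₁ (CompField k₁ K₁ N) := IsScalarTower.of_algebraMap_eq (fun _ => rfl)
  haveI : IsScalarTower k K (CompField k₁ K₁ N) := by
    refine IsScalarTower.of_algebraMap_eq (fun c => ?_)
    rw [IsScalarTower.algebraMap_apply K K₁ (CompField k₁ K₁ N),
      ← IsScalarTower.algebraMap_apply k K K₁,
      ← IsScalarTower.algebraMap_apply k K₁ (CompField k₁ K₁ N)]
  haveI : IsScalarTower k N (CompField k₁ K₁ N) := by
    refine IsScalarTower.of_algebraMap_eq (fun c => ?_)
    rw [IsScalarTower.algebraMap_apply k k₁ N,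
      ← IsScalarTower.algebraMap_apply k₁ N (CompField k₁ K₁ N),
      IsScalarTower.algebraMap_apply k₁ K₁ (CompField k₁ K₁ N),
      ← IsScalarTower.algebraMap_apply k k₁ K₁,
      ← IsScalarTower.algebraMap_apply k K₁ (CompField k₁ K₁ N)]
  have hbNk : Function.Bijective (Algebra.TensorProduct.productMap
      (IsScalarTower.toAlgHom k N (CompField k₁ K₁ N))
      (IsScalarTower.toAlgHom k K (CompField k₁ K₁ N))) :=
    realization_comp h₁.2 hbN.2 hg
  have hgenN : genus N (CompField k₁ K₁ N) = sInf (GenusFam k K) := by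
    apply le_antisymm
    · rw [← hgen₁]
      exact genus_scalarExt_le hbN hK₁ hK_N
    · exact Nat.sInf_le ⟨N, inferInstance, inferInstance, CompField k₁ K₁ N, inferInstance,
        inferInstance, inferInstance, inferInstance, inferInstance, inferInstance,
        inferInstance, hbNk, rfl⟩
  -- `K_i`
  letI : Algebra Ni (CompField k₁ K₁ N) :=
    ((algebraMap N (CompField k₁ K₁ N)).comp (algebraMap Ni N)).toAlgebra
  haveI : IsScalarTower Ni N (CompField k₁ K₁ N) := IsScalarTower.of_algebraMap_eq (fun _ => rfl)
  haveI : IsScalarTower k Ni (CompField k₁ K₁ N) := by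
    refine IsScalarTower.of_algebraMap_eq (fun c => ?_)
    rw [IsScalarTower.algebraMap_apply Ni N (CompField k₁ K₁ N),
      ← IsScalarTower.algebraMap_apply k Ni N,
      ← IsScalarTower.algebraMap_apply k N (CompField k₁ K₁ N)]
  haveI : Algebra.IsAlgebraic k Ni := Algebra.IsAlgebraic.of_finite k Ni
  obtain ⟨Ki, _, _, _, hbi⟩ := exists_subfield_realization (k := k) (K := K)
    (L := CompField k₁ K₁ N) (Ni := Ni) (hg Ni inferInstance)
  obtain ⟨hK_i, hg_i⟩ := scalarExt_isFunctionField_isGeometric hbi hK hg
  have hbNi : Function.Bijective (Algebra.TensorProduct.productMap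
      (IsScalarTower.toAlgHom Ni N (CompField k₁ K₁ N))
      (IsScalarTower.toAlgHom Ni Ki (CompField k₁ K₁ N))) := by
    apply productMap_bijective_of_isField (hg_i N inferInstance)
    intro z
    have hz := gen_of_surjective hbNk.2 z
    induction hz using Algebra.adjoin_induction with
    | mem x hx => exact Algebra.subset_adjoin hx
    | algebraMap a =>
      rw [IsScalarTower.algebraMap_apply K Ki (CompField k₁ K₁ N)]
      exact Subalgebra.algebraMap_mem _ _
    | add x y _ _ hx hy => exact add_mem hx hy
    | mul x y _ _ hx hy => exact mul_mem hx hy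
  have hns : ∀ (P : Place Ni Ki) (z : CompField k₁ K₁ N),
      (∀ Q : Place Ni (CompField k₁ K₁ N), IsOver Q P → Q.1 z ≤ 1) →
      z ∈ Algebra.adjoin (SO P (CompField k₁ K₁ N))
        (Set.range (algebraMap N (CompField k₁ K₁ N))) :=
    fun P z hz => ns_of_isSeparable hbNi hK_i.1 P z hz
  have hgeni : genus N (CompField k₁ K₁ N) = genus Ni Ki :=
    genus_eq_of_nonsingular hbNi hK_i hK_N hns
  rw [genus_eq_of_realizations hbi h' hK hg, ← hgeni, hgenN]

end StepA

end Groth.Agent.H55
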