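import Groth.Agent.H55.GenusMin3
import Mathlib

/-!
Existence of a finite purely inseparable constant field extension making the function field
nonsingular.
-/

set_option autoImplicit false

universe u v

namespace Groth.Agent.H55

open FunFld WithZero IsLocalRing TensorProduct IntermediateField
open ConstExt

set_option maxHeartbeats 1600000 in
theorem exists_purelyInseparable_min_genus (k : Type u) (K : Type v) [Field k] [Field K]
    [Algebra k K] (hK : FunFld.IsFunctionField k K) (hg : FunFld.IsGeometric k K) :
    ∃ (k' : Type u) (_ : Field k') (_ : Algebra k k'), FiniteDimensional k k' ∧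
      IsPurelyInseparable k k' ∧
      ∀ (K' : Type v) [Field K'] [Algebra K K'] [Algebra k' K'] [Algebra k K']
        [IsScalarTower k k' K'] [IsScalarTower k K K'],
        Function.Bijective (Algebra.TensorProduct.productMap
          (IsScalarTower.toAlgHom k k' K') (IsScalarTower.toAlgHom k K K')) →
        genus k' K' = sInf (GenusFam k K) := by
  classical
  obtain ⟨k₁, _, _, K₁, _, _, _, _, _, _, hfin₁, h₁, hgen₁⟩ :=
    Nat.sInf_mem (genusFam_nonempty k K)
  haveI := hfin₁
  haveI : Algebra.IsAlgebraic k k₁ := Algebra.IsAlgebraic.of_finite k k₁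
  haveI : IsAlgClosure k (AlgebraicClosure k₁) := IsAlgClosure.ofAlgebraic k k₁ _
  haveI : Normal k (AlgebraicClosure k₁) := IsAlgClosure.normal k _
  haveI : Algebra.IsSeparable
      (perfectClosure k (IntermediateField.normalClosure k k₁ (AlgebraicClosure k₁)))
      (IntermediateField.normalClosure k k₁ (AlgebraicClosure k₁)) :=
    isSeparable_over_perfectClosure k _
  refine ⟨perfectClosure k (IntermediateField.normalClosure k k₁ (AlgebraicClosure k₁)),
    inferInstance, inferInstance, inferInstance, inferInstance, ?_⟩
  intro K' _ _ _ _ _ _ h'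
  exact genus_min_step (IntermediateField.normalClosure k k₁ (AlgebraicClosure k₁))
    (perfectClosure k (IntermediateField.normalClosure k k₁ (AlgebraicClosure k₁)))
    hK hg h₁ hgen₁ K' h'

set_option maxHeartbeats 1600000 in
theorem exists_purelyInseparable_nonsingular (k : Type u) (K : Type v) [Field k] [Field K]
    [Algebra k K] (hK : FunFld.IsFunctionField k K) (hg : FunFld.IsGeometric k K) :
    ∃ (k' : Type u) (_ : Field k') (_ : Algebra k k'), FiniteDimensional k k' ∧
      IsPurelyInseparable k k' ∧
      ∀ (K' : Type v) [Field K'] [Algebra K K'] [Algebra k' K'] [Algebra k K']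
        [IsScalarTower k k' K'] [IsScalarTower k K K'],
        Function.Bijective (Algebra.TensorProduct.productMap
          (IsScalarTower.toAlgHom k k' K') (IsScalarTower.toAlgHom k K K')) →
        ∀ (Q : FunFld.Place k' K') (k'' : Type u) [Field k''] [Algebra k' k'']
          [FiniteDimensional k' k'']
          (K'' : Type v) [Field K''] [Algebra K' K''] [Algebra k'' K''] [Algebra k' K'']
          [IsScalarTower k' k'' K''] [IsScalarTower k' K' K''],
          Function.Bijective (Algebra.TensorProduct.productMap
            (IsScalarTower.toAlgHom k' k'' K'') (IsScalarTower.toAlgHom k' K' K'')) →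
          integralClosure (Q.O.toSubring.map (algebraMap K' K'')) K'' =
            Algebra.adjoin (Q.O.toSubring.map (algebraMap K' K''))
              (Set.range (algebraMap k'' K'')) := by
  classical
  obtain ⟨k', _, _, hfin, hpi, hmin⟩ := exists_purelyInseparable_min_genus k K hK hg
  haveI := hfin
  refine ⟨k', inferInstance, inferInstance, hfin, hpi, ?_⟩
  intro K' _ _ _ _ _ _ h' Q k'' _ _ _ K'' _ _ _ _ _ _ h''
  obtain ⟨hK', hg'⟩ := scalarExt_isFunctionField_isGeometric h' hK hg
  obtain ⟨hK'', -⟩ := scalarExt_isFunctionField_isGeometric h'' hK' hg'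
  letI : Algebra k k'' := ((algebraMap k' k'').comp (algebraMap k k')).toAlgebra
  haveI : IsScalarTower k k' k'' := IsScalarTower.of_algebraMap_eq (fun _ => rfl)
  haveI : FiniteDimensional k k'' := FiniteDimensional.trans k k' k''
  letI : Algebra K K'' := ((algebraMap K' K'').comp (algebraMap K K')).toAlgebra
  haveI : IsScalarTower K K' K'' := IsScalarTower.of_algebraMap_eq (fun _ => rfl)
  letI : Algebra k K'' := ((algebraMap K K'').comp (algebraMap k K)).toAlgebra
  haveI : IsScalarTower k K K'' := IsScalarTower.of_algebraMap_eq (fun _ => rfl)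
  haveI : IsScalarTower k k'' K'' := by
    refine IsScalarTower.of_algebraMap_eq (fun c => ?_)
    show algebraMap K' K'' (algebraMap K K' (algebraMap k K c)) =
      algebraMap k'' K'' (algebraMap k' k'' (algebraMap k k' c))
    rw [← IsScalarTower.algebraMap_apply k K K', IsScalarTower.algebraMap_apply k k' K',
      ← IsScalarTower.algebraMap_apply k' K' K'', IsScalarTower.algebraMap_apply k' k'' K'']
  have hb'' : Function.Bijective (Algebra.TensorProduct.productMap
      (IsScalarTower.toAlgHom k k'' K'') (IsScalarTower.toAlgHom k K K'')) :=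
    realization_comp h'.2 h''.2 hg
  have hmem : genus k'' K'' ∈ GenusFam k K :=
    ⟨k'', inferInstance, inferInstance, K'', inferInstance, inferInstance, inferInstance,
      inferInstance, inferInstance, inferInstance, inferInstance, hb'', rfl⟩
  have h1 : sInf (GenusFam k K) ≤ genus k'' K'' := Nat.sInf_le hmem
  have h2 : genus k'' K'' ≤ genus k' K' := genus_scalarExt_le h'' hK' hK''
  have h3 : genus k' K' = sInf (GenusFam k K) := hmin K' h'
  have heq : genus k'' K'' = genus k' K' := le_antisymm h2 (h3 ▸ h1)
  haveI : FiniteDimensional K' K'' := finiteDimensional_of_productMap h''.2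
  haveI : Algebra.IsAlgebraic k' k'' := Algebra.IsAlgebraic.of_finite k' k''
  exact (ns_iff (F := k'') hK'.1 Q).mpr
    (fun z hz => nonsingular_of_genus_eq h'' hK' hK'' heq Q z hz)

end Groth.Agent.H55
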