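import Groth.Agent.H55.FFScalar
import Groth.Agent.H55.GeomField
import Groth.Agent.H55.FFOver
import Groth.Agent.H55.FFConstExt

/-!
# Finite separable extensions of geometric function fields are geometric.
-/

set_option autoImplicit false

universe u v

namespace Groth.Agent.H55

open FunFld Polynomial IntermediateField TensorProduct

namespace GeomSep

theorem isReduced_tensor_isField (k A κ : Type*) [Field k] [CommRing A] [Algebra k A]
    (hA : IsField A) [Field κ] [Algebra k κ] [Module.Finite k κ] [Algebra.IsSeparable k κ] :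
    IsReduced (A ⊗[k] κ) := by
  letI : Field A := hA.toField
  have h0 : Algebra.FormallyUnramified k κ := Algebra.FormallyUnramified.of_isSeparable k κ
  have : Algebra.FormallyUnramified A (A ⊗[k] κ) := inferInstance
  have : Algebra.EssFiniteType A (A ⊗[k] κ) := inferInstance
  exact Algebra.FormallyUnramified.isReduced_of_field A (A ⊗[k] κ)

section R

variable {k : Type u} {K₁ K' : Type v} [Field k] [Field K₁] [Field K'] [Algebra k K₁]
  [Algebra K₁ K'] [Algebra k K'] [IsScalarTower k K₁ K']

theorem isGeometric_of_finite_separable [FiniteDimensional K₁ K'] [Algebra.IsSeparable K₁ K']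
    (hg : FunFld.IsGeometric k K₁)
    (hclosed : ∀ y : K', IsAlgebraic k y → y ∈ Set.range (algebraMap k K')) :
    FunFld.IsGeometric k K' := by
  intro k'' _ _ hfd
  haveI := hfd
  haveI : Algebra.IsAlgebraic k k'' := Algebra.IsAlgebraic.of_finite k k''
  suffices h : IsField (K' ⊗[k] k'') from
    (Algebra.TensorProduct.comm k k'' K').toMulEquiv.isField h
  have hF₁ : IsField (K₁ ⊗[k] k'') :=
    (Algebra.TensorProduct.comm k K₁ k'').toMulEquiv.isField (hg k'' hfd)
  -- reducedness
  have hred : IsReduced (K' ⊗[k] k'') := by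
    haveI h1 : IsReduced ((K₁ ⊗[k] k'') ⊗[K₁] K') :=
      isReduced_tensor_isField K₁ (K₁ ⊗[k] k'') K' hF₁
    let e₁ : K' ⊗[K₁] (K₁ ⊗[k] k'') ≃ₐ[K₁] K' ⊗[k] k'' :=
      Algebra.TensorProduct.cancelBaseChange k K₁ K₁ K' k''
    let e₂ : (K₁ ⊗[k] k'') ⊗[K₁] K' ≃ₐ[K₁] K' ⊗[K₁] (K₁ ⊗[k] k'') :=
      Algebra.TensorProduct.comm K₁ _ _
    let e := (e₂.trans e₁).symm
    exact isReduced_of_injective e.toRingEquiv.toRingHom e.injective
  obtain ⟨p, hp⟩ := ExpChar.exists k
  haveI := hp
  haveI : ExpChar (K' ⊗[k] k'') p :=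
    expChar_of_injective_algebraMap (algebraMap k (K' ⊗[k] k'')).injective p
  haveI : ExpChar (separableClosure k k'') p :=
    expChar_of_injective_algebraMap (algebraMap k (separableClosure k k'')).injective p
  -- the separable part
  haveI : FiniteDimensional k (separableClosure k k'') := inferInstance
  obtain ⟨α, hα⟩ := Field.exists_primitive_element k (separableClosure k k'')
  have hKs : IsField (K' ⊗[k] (separableClosure k k'')) :=
    isField_tensor_of_simple (fun y hy => hclosed y hy.isAlgebraic) α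
      (Algebra.IsIntegral.isIntegral α) hα
  let ιs : K' ⊗[k] (separableClosure k k'') →ₐ[K'] K' ⊗[k] k'' :=
    Algebra.TensorProduct.map (AlgHom.id K' K') (separableClosure k k'').val
  have hpow : ∀ t : K' ⊗[k] k'', ∃ n : ℕ, t ^ p ^ n ∈ ιs.range := by
    intro t
    induction t using TensorProduct.induction_on with
    | zero => exact ⟨0, by rw [pow_zero, pow_one]; exact zero_mem _⟩
    | tmul z a =>
      obtain ⟨n, b, hb⟩ := IsPurelyInseparable.pow_mem (separableClosure k k'') p a
      refine ⟨n, (z ^ (p ^ n)) ⊗ₜ[k] b, ?_⟩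
      rw [Algebra.TensorProduct.tmul_pow, ← hb]
      rfl
    | add t₁ t₂ h₁ h₂ =>
      obtain ⟨n₁, hn₁⟩ := h₁
      obtain ⟨n₂, hn₂⟩ := h₂
      refine ⟨n₁ + n₂, ?_⟩
      rw [add_pow_expChar_pow]
      apply add_mem
      · rw [pow_add, pow_mul]; exact pow_mem hn₁ _
      · rw [add_comm n₁ n₂, pow_add, pow_mul]; exact pow_mem hn₂ _
  have hp1 : 1 ≤ p := (expChar_pos k p)
  haveI : Nontrivial (K' ⊗[k] k'') :=
    (Algebra.TensorProduct.includeLeft_injective (S := K') (A := K') (B := k'')
      (algebraMap k k'').injective).nontrivial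
  refine ⟨exists_pair_ne _, mul_comm, ?_⟩
  intro t ht
  obtain ⟨n, w, hw'⟩ := hpow t
  have hw : ιs w = t ^ p ^ n := hw'
  have htn : t ^ p ^ n ≠ 0 := pow_ne_zero _ ht
  have hw0 : w ≠ 0 := by
    rintro rfl
    rw [map_zero] at hw
    exact htn hw.symm
  obtain ⟨w', hw'⟩ := hKs.mul_inv_cancel hw0
  have hN : 1 ≤ p ^ n := Nat.one_le_pow _ _ hp1
  refine ⟨t ^ (p ^ n - 1) * ιs w', ?_⟩
  rw [← mul_assoc, ← pow_succ', Nat.sub_add_cancel hN, ← hw, ← map_mul, hw']
  exact ιs.toRingHom.map_one

end R

section Main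

variable {k k' : Type u} {K K' : Type v} [Field k] [Field k'] [Field K] [Field K']
    [Algebra k k'] [Algebra k K] [Algebra K K'] [Algebra k' K'] [Algebra k K']
    [IsScalarTower k k' K'] [IsScalarTower k K K']

theorem finiteDimensional_constants [FiniteDimensional K K'] (hK : FunFld.IsFunctionField k K)
    (hK' : FunFld.IsFunctionField k' K') : FiniteDimensional k k' := by
  obtain ⟨x', hx', -⟩ := id hK'.1
  obtain ⟨Q', -⟩ := G.exists_zero hK'.1 x' hx'
  have hK1' : G.IsFF1 k K' := isFF1_of_finite hK.1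
  have h1 := ConstExt.deg_toK (k := k) Q'
  have h2 := G.deg_pos hK1' (ConstExt.toK k Q')
  rw [h1] at h2
  exact Module.finite_of_finrank_pos
    (Nat.pos_of_ne_zero (fun h => by rw [h, zero_mul] at h2; exact lt_irrefl _ h2))

theorem isGeometric_of_separable [FiniteDimensional K K'] [Algebra.IsSeparable K K']
    (hK : FunFld.IsFunctionField k K) (hg : FunFld.IsGeometric k K)
    (hK' : FunFld.IsFunctionField k' K') : FunFld.IsGeometric k' K' := by
  haveI hfin : FiniteDimensional k k' := finiteDimensional_constants hK hK'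
  haveI : Algebra.IsAlgebraic k k' := Algebra.IsAlgebraic.of_finite k k'
  obtain ⟨K₁, hK₁def⟩ : ∃ K₁ : IntermediateField K K',
      K₁ = IntermediateField.adjoin K (Set.range (algebraMap k' K')) := ⟨_, rfl⟩
  have hk'mem : ∀ c : k', algebraMap k' K' c ∈ K₁ := fun c => by
    rw [hK₁def]; exact subset_adjoin _ _ ⟨c, rfl⟩
  letI algk'K₁ : Algebra k' K₁ := ((algebraMap k' K').codRestrict K₁ hk'mem).toAlgebra
  haveI : IsScalarTower k' K₁ K' := IsScalarTower.of_algebraMap_eq (fun c => rfl)
  haveI : IsScalarTower k k' K₁ := IsScalarTower.of_algebraMap_eq (fun c => by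
    apply Subtype.ext
    show algebraMap k K' c = algebraMap k' K' (algebraMap k k' c)
    rw [← IsScalarTower.algebraMap_apply])
  have hF : IsField (k' ⊗[k] K) := hg k' hfin
  have hpm : ∀ (c : k') (y : K),
      ((Algebra.TensorProduct.productMap (IsScalarTower.toAlgHom k k' K₁)
        (IsScalarTower.toAlgHom k K K₁) (c ⊗ₜ[k] y) : K₁) : K') =
        algebraMap k' K' c * algebraMap K K' y := by
    intro c y
    rw [Algebra.TensorProduct.productMap_apply_tmul]
    rfl
  have h : Function.Bijective (Algebra.TensorProduct.productMap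
      (IsScalarTower.toAlgHom k k' K₁) (IsScalarTower.toAlgHom k K K₁)) := by
    constructor
    · rw [injective_iff_map_eq_zero]
      intro t ht
      by_contra ht0
      obtain ⟨t', htt'⟩ := hF.mul_inv_cancel ht0
      have := congrArg (Algebra.TensorProduct.productMap
        (IsScalarTower.toAlgHom k k' K₁) (IsScalarTower.toAlgHom k K K₁)) htt'
      rw [map_mul, ht, zero_mul, map_one] at this
      exact zero_ne_one this
    · intro z
      have halgS : ∀ y ∈ Set.range (algebraMap k' K'), IsAlgebraic K y := by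
        rintro _ ⟨c, rfl⟩
        have : IsAlgebraic k (algebraMap k' K' c) :=
          (Algebra.IsAlgebraic.isAlgebraic c).algebraMap
        exact this.tower_top K
      have h1 : K₁.toSubalgebra = Algebra.adjoin K (Set.range (algebraMap k' K')) := by
        rw [hK₁def]; exact adjoin_toSubalgebra_of_isAlgebraic halgS
      have hz : (z : K') ∈ Algebra.adjoin K (Set.range (algebraMap k' K')) := by
        rw [← h1]; exact z.2
      have key : ∀ w ∈ Algebra.adjoin K (Set.range (algebraMap k' K')),
          ∃ t : k' ⊗[k] K, ((Algebra.TensorProduct.productMap (IsScalarTower.toAlgHom k k' K₁)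
            (IsScalarTower.toAlgHom k K K₁) t : K₁) : K') = w := by
        intro w hw
        induction hw using Algebra.adjoin_induction with
        | mem y hy =>
          obtain ⟨c, rfl⟩ := hy
          exact ⟨c ⊗ₜ[k] 1, by rw [hpm, map_one, mul_one]⟩
        | algebraMap r => exact ⟨1 ⊗ₜ[k] r, by rw [hpm, map_one, one_mul]⟩
        | add a b _ _ ha hb =>
          obtain ⟨ta, hta⟩ := ha
          obtain ⟨tb, htb⟩ := hb
          exact ⟨ta + tb, by rw [map_add, ← hta, ← htb]; rfl⟩
        | mul a b _ _ ha hb =>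
          obtain ⟨ta, hta⟩ := ha
          obtain ⟨tb, htb⟩ := hb
          exact ⟨ta * tb, by rw [map_mul, ← hta, ← htb]; rfl⟩
      obtain ⟨t, ht⟩ := key _ hz
      exact ⟨t, Subtype.ext ht⟩
  obtain ⟨-, hg₁⟩ := scalarExt_isFunctionField_isGeometric h hK hg
  exact GeomSep.isGeometric_of_finite_separable (k := k') (K₁ := K₁) (K' := K') hg₁ hK'.2

end Main

end GeomSep

end Groth.Agent.H55
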