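import Groth.Agent.H55.FFIntClosure
import Groth.Agent.H55.FFUnram
import Mathlib

/-!
Integral closure of the valuation ring of a place in a finite extension: the valuation criterion,
and localisation at a place above.
-/

set_option autoImplicit false

namespace Groth.Agent.H55

open FunFld WithZero Polynomial IntermediateField IsLocalRing

section IntOver

variable {k K K' : Type*} [Field k] [Field K] [Field K'] [Algebra k K] [Algebra K K']
  [Algebra k K'] [IsScalarTower k K K']

theorem algebraMap_O_eq (P : Place k K) [Algebra P.O K'] [IsScalarTower P.O K K'] (a : P.O) :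
    algebraMap P.O K' a = algebraMap K K' (a : K) := by
  rw [IsScalarTower.algebraMap_apply P.O K K']; rfl

/-- An element with no pole above `P` is integral over `O_P`. -/
theorem isIntegral_of_forall_over (hK : G.IsFF1 k K) [FiniteDimensional K K'] (P : Place k K)
    [Algebra P.O K'] [IsScalarTower P.O K K'] (w : K')
    (hw : ∀ Q' : Place k K', IsOver Q' P → Q'.1 w ≤ 1) : IsIntegral P.O w := by
  have hK' : G.IsFF1 k K' := isFF1_of_finite hK
  have h1 : w ∈ (integralClosure (Subring.closure (Set.range (algebraMap P.O K'))) K').toSubring := by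
    rw [← iInf_valuationSubring_superset, Subring.mem_iInf]
    rintro ⟨V, hV⟩
    change w ∈ V
    by_cases hall : ∀ y : K', y ∈ V
    · exact hall w
    push_neg at hall
    obtain ⟨y, hy⟩ := hall
    have hy0 : y ≠ 0 := by
      rintro rfl
      exact hy V.zero_mem
    have hyn : y⁻¹ ∈ V.nonunits := V.inv_mem_nonunits_iff.mpr (Or.inr hy)
    have hOV : ∀ a : K, P.1 a ≤ 1 → algebraMap K K' a ∈ V := by
      intro a ha
      have := hV ⟨(⟨a, (P.1.mem_valuationSubring_iff a).mpr ha⟩ : P.O), rfl⟩
      rwa [algebraMap_O_eq] at this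
    have hkV : ∀ c : k, algebraMap k K' c ∈ V := by
      intro c
      rw [IsScalarTower.algebraMap_apply k K K']
      exact hOV _ (P.2.1 c)
    obtain ⟨Q', hQ1, hQ2⟩ :=
      G.exists_place_of_valuationSubring V hkV hK' y⁻¹ (inv_ne_zero hy0) hyn
    obtain ⟨P'', e, he⟩ := exists_place_under hK Q'
    have hPP : P = P'' := by
      apply pl_eq_of_le
      intro x hx
      have h2 := hQ1 _ (hOV x hx)
      rw [he x] at h2
      by_contra hcon
      rw [not_le] at hcon
      exact absurd h2 (not_le.mpr (one_lt_pow₀ hcon (isOverWith_pos he).ne'))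
    subst hPP
    have hz := hw Q' ⟨e, he⟩
    by_contra hwV
    have hw0 : w ≠ 0 := by
      rintro rfl
      exact hwV V.zero_mem
    have h3 := hQ2 w⁻¹ (V.inv_mem_nonunits_iff.mpr (Or.inr hwV))
    rw [map_inv₀] at h3
    have hwpos : 0 < Q'.1 w := zero_lt_iff.mpr ((Q'.1.ne_zero_iff).mpr hw0)
    have h4 := (inv_lt_one₀ hwpos).mp h3
    exact absurd hz (not_le.mpr h4)
  have hcl : Subring.closure (Set.range (algebraMap P.O K')) = (algebraMap P.O K').range := by
    rw [← RingHom.coe_range, Subring.closure_eq]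
  rw [Subalgebra.mem_toSubring] at h1
  have h2 : IsIntegral (Subring.closure (Set.range (algebraMap P.O K'))) w := h1
  obtain ⟨p, hpm, hp⟩ := h2
  obtain ⟨φ, hφ⟩ : ∃ φ : P.O →+* (Subring.closure (Set.range (algebraMap P.O K'))),
      φ = (algebraMap P.O K').codRestrict (Subring.closure (Set.range (algebraMap P.O K')))
        (fun a => Subring.subset_closure ⟨a, rfl⟩) := ⟨_, rfl⟩
  have hsurj : Function.Surjective φ := by
    rintro ⟨b, hb⟩
    have hb' := hb
    rw [hcl] at hb'
    obtain ⟨a, rfl⟩ := hb'
    exact ⟨a, by rw [hφ]; rfl⟩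
  obtain ⟨q, hq1, -, hq3⟩ := Polynomial.lifts_and_natDegree_eq_and_monic (f := φ) (p := p)
    (Polynomial.mem_lifts_of_surjective hsurj p) hpm
  refine ⟨q, hq3, ?_⟩
  rw [← hq1, eval₂_map] at hp
  have hcomp : (algebraMap (Subring.closure (Set.range (algebraMap P.O K'))) K').comp φ =
      algebraMap P.O K' := by
    rw [hφ]; rfl
  rw [hcomp] at hp
  exact hp

/-- `O_Q` is a localisation of the integral closure of `O_P`: every element of `O_Q` has a
denominator `s`, a unit at `Q`, integral over `O_P`. -/
theorem exists_integral_denominator (hK : G.IsFF1 k K) [FiniteDimensional K K'] (P : Place k K)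
    [Algebra P.O K'] [IsScalarTower P.O K K'] (Q : Place k K') (z : K') (hz : Q.1 z ≤ 1) :
    ∃ s : K', Q.1 (s - 1) < 1 ∧ IsIntegral P.O s ∧ IsIntegral P.O (s * z) := by
  classical
  obtain ⟨hfin, -⟩ := G.sum_ramIdx_mul_deg (K' := K') hK P
  by_cases hz0 : z = 0
  · exact ⟨1, by simp, isIntegral_one, by rw [hz0, mul_zero]; exact isIntegral_zero⟩
  obtain ⟨s, hs⟩ := weak_approx (insert Q hfin.toFinset) (fun Q' => if Q' = Q then 1 else 0)
    (fun Q' => if Q' = Q then -1 else min 0 (Q'.ord z))
  have hsQ : Q.1 (s - 1) < 1 := by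
    have h1 := hs Q (Finset.mem_insert_self _ _)
    rw [if_pos rfl, if_pos rfl] at h1
    rw [h1, ← exp_zero, exp_lt_exp]
    norm_num
  have hsQ' : ∀ Q' : Place k K', IsOver Q' P → Q' ≠ Q → Q'.1 s = exp (min 0 (Q'.ord z)) := by
    intro Q' hQ' hne
    have h1 := hs Q' (Finset.mem_insert_of_mem ((Set.Finite.mem_toFinset hfin).mpr hQ'))
    rw [if_neg hne, if_neg hne, sub_zero] at h1
    exact h1
  have hsQ1 : Q.1 s = 1 := by
    have h1 : s = 1 + (s - 1) := by ring
    rw [h1, Valuation.map_add_eq_of_lt_left]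
    · exact map_one _
    · rw [map_one]; exact hsQ
  refine ⟨s, hsQ, ?_, ?_⟩
  · apply isIntegral_of_forall_over hK P
    intro Q' hQ'
    by_cases hne : Q' = Q
    · rw [hne, hsQ1]
    · rw [hsQ' Q' hQ' hne, ← exp_zero, exp_le_exp]
      exact min_le_left _ _
  · apply isIntegral_of_forall_over hK P
    intro Q' hQ'
    rw [map_mul]
    by_cases hne : Q' = Q
    · rw [hne, hsQ1, one_mul]; exact hz
    · rw [hsQ' Q' hQ' hne, pl_val_eq_exp_neg_ord Q' hz0, ← exp_add, ← exp_zero, exp_le_exp]
      have := min_le_right 0 (Q'.ord z)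
      omega

end IntOver

section ConstExt

open TensorProduct

variable {k k' K K' : Type*} [Field k] [Field k'] [Field K] [Field K']
  [Algebra k k'] [Algebra k K] [Algebra K K'] [Algebra k' K'] [Algebra k K']
  [IsScalarTower k k' K'] [IsScalarTower k K K']

/-- `K' = k' ⊗ K` is finite over `K`. -/
theorem finiteDimensional_of_productMap [FiniteDimensional k k']
    (h : Function.Surjective (Algebra.TensorProduct.productMap
      (IsScalarTower.toAlgHom k k' K') (IsScalarTower.toAlgHom k K K'))) :
    FiniteDimensional K K' := by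
  let g : K ⊗[k] k' →ₐ[K] K' :=
    Algebra.TensorProduct.productLeftAlgHom (Algebra.ofId K K') (IsScalarTower.toAlgHom k k' K')
  have hg : Function.Surjective g := by
    intro x
    obtain ⟨t, rfl⟩ := h x
    induction t using TensorProduct.induction_on with
    | zero => exact ⟨0, by simp⟩
    | tmul c a =>
      refine ⟨a ⊗ₜ c, ?_⟩
      simp [g, mul_comm]
    | add x y hx hy =>
      obtain ⟨x', hx'⟩ := hx
      obtain ⟨y', hy'⟩ := hy
      exact ⟨x' + y', by rw [map_add, hx', hy', map_add]⟩
  exact Module.Finite.of_surjective g.toLinearMap hg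

end ConstExt

end Groth.Agent.H55
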