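import Mathlib

/-!
(CritSS) for the S2499 squad: over a finite-dimensional semisimple algebra, idempotents whose
actions on all simple modules have equal ranks are equivalent.
-/

set_option autoImplicit false
set_option linter.style.haveILetI false
set_option linter.unusedSectionVars false
set_option linter.deprecated false

universe u

namespace Groth.Agent.H55.NDCritSS

section Hom

variable {k Λ : Type u} [Field k] [Ring Λ] [Algebra k Λ]

variable {M N L : Type u} [AddCommGroup M] [Module k M] [Module Λ M] [IsScalarTower k Λ M]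
  [AddCommGroup N] [Module k N] [Module Λ N] [IsScalarTower k Λ N]
  [AddCommGroup L] [Module k L] [Module Λ L] [IsScalarTower k Λ L]

instance homFinite [Module.Finite k M] [Module.Finite k L] : Module.Finite k (M →ₗ[Λ] L) := by
  let ι : (M →ₗ[Λ] L) →ₗ[k] (M →ₗ[k] L) :=
    { toFun := fun φ => φ.restrictScalars k
      map_add' := fun _ _ => rfl
      map_smul' := fun _ _ => rfl }
  have hι : Function.Injective ι := by
    intro φ ψ h
    apply LinearMap.ext
    intro x
    exact LinearMap.congr_fun h x
  exact Module.Finite.of_injective ι hι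

instance subFinite [Module.Finite k M] (p : Submodule Λ M) : Module.Finite k p :=
  (inferInstance : Module.Finite k (p.restrictScalars k))

theorem finrank_hom_congr (ε : M ≃ₗ[Λ] N) :
    Module.finrank k (M →ₗ[Λ] L) = Module.finrank k (N →ₗ[Λ] L) :=
  (LinearEquiv.congrLeft L k ε).finrank_eq

theorem finrank_hom_isCompl [Module.Finite k M] [Module.Finite k L] (p q : Submodule Λ M)
    (hc : IsCompl p q) :
    Module.finrank k (M →ₗ[Λ] L) =
      Module.finrank k (p →ₗ[Λ] L) + Module.finrank k (q →ₗ[Λ] L) := by
  rw [← finrank_hom_congr (k := k) (L := L) (Submodule.prodEquivOfIsCompl p q hc),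
    ← (LinearMap.coprodEquiv (R := Λ) (M := p) (M₂ := q) (M₃ := L) k).finrank_eq,
    Module.finrank_prod]

end Hom

section SSCrit

variable (k Λ : Type u) [Field k] [Ring Λ] [Algebra k Λ] [IsSemisimpleRing Λ]

theorem finrank_hom_pos_of_isCompl {M : Type u} [AddCommGroup M] [Module k M] [Module Λ M]
    [IsScalarTower k Λ M] [Module.Finite k M] (L C : Submodule Λ M) (hC : IsCompl L C)
    [Nontrivial L] : 0 < Module.finrank k (M →ₗ[Λ] L) := by
  rw [Module.finrank_pos_iff_exists_ne_zero]
  refine ⟨Submodule.projectionOnto L C hC, ?_⟩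
  intro h0
  obtain ⟨x, hx⟩ := exists_ne (0 : L)
  apply hx
  have := Submodule.projectionOnto_apply_left hC x
  rw [h0] at this
  exact this.symm

theorem sscrit : ∀ (n : ℕ) (M N : Type u) [AddCommGroup M] [Module k M] [Module Λ M]
    [IsScalarTower k Λ M] [Module.Finite k M] [AddCommGroup N] [Module k N] [Module Λ N]
    [IsScalarTower k Λ N] [Module.Finite k N], Module.finrank k M = n →
    (∀ (L : Type u) [AddCommGroup L] [Module k L] [Module Λ L] [IsScalarTower k Λ L]
      [Module.Finite k L] [IsSimpleModule Λ L],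
      Module.finrank k (M →ₗ[Λ] L) = Module.finrank k (N →ₗ[Λ] L)) →
    Nonempty (M ≃ₗ[Λ] N) := by
  intro n
  induction n using Nat.strong_induction_on with
  | _ n ih =>
    intro M N _ _ _ _ _ _ _ _ _ _ hn h
    by_cases hM : Subsingleton M
    · have hN : Subsingleton N := by
        by_contra hN
        rw [not_subsingleton_iff_nontrivial] at hN
        obtain ⟨L, hL⟩ := IsSemisimpleModule.exists_simple_submodule Λ N
        haveI := IsSimpleModule.nontrivial Λ L
        obtain ⟨C, hC⟩ := exists_isCompl L
        have h1 := h L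
        have h0 : Module.finrank k (M →ₗ[Λ] L) = 0 := Module.finrank_zero_of_subsingleton
        rw [h0] at h1
        have hpos := finrank_hom_pos_of_isCompl k Λ L C hC
        omega
      exact ⟨LinearEquiv.ofSubsingleton M N⟩
    · rw [not_subsingleton_iff_nontrivial] at hM
      obtain ⟨L, hL⟩ := IsSemisimpleModule.exists_simple_submodule Λ M
      haveI := IsSimpleModule.nontrivial Λ L
      obtain ⟨M₁, hc⟩ := exists_isCompl L
      have hposM := finrank_hom_pos_of_isCompl k Λ L M₁ hc
      have hposN : 0 < Module.finrank k (N →ₗ[Λ] L) := by rw [← h L]; exact hposM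
      obtain ⟨φ, hφ⟩ := Module.finrank_pos_iff_exists_ne_zero.mp hposN
      have hφs : Function.Surjective φ := by
        have := (eq_bot_or_eq_top (LinearMap.range φ)).resolve_left
          (fun h0 => hφ (LinearMap.range_eq_bot.mp h0))
        exact LinearMap.range_eq_top.mp this
      obtain ⟨C, hC⟩ := exists_isCompl (LinearMap.ker φ)
      have hinj : Function.Injective (φ.domRestrict C) := by
        rw [← LinearMap.ker_eq_bot, LinearMap.ker_eq_bot']
        intro x hx
        have h1 : (x : N) ∈ LinearMap.ker φ := hx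
        have h2 := Submodule.disjoint_def.mp hC.disjoint _ h1 x.2
        exact Subtype.ext h2
      have hsurj : Function.Surjective (φ.domRestrict C) := by
        intro y
        obtain ⟨x, rfl⟩ := hφs y
        have hx : x ∈ LinearMap.ker φ ⊔ C := by rw [hC.sup_eq_top]; trivial
        obtain ⟨a, ha, c, hcC, rfl⟩ := Submodule.mem_sup.mp hx
        refine ⟨⟨c, hcC⟩, ?_⟩
        rw [LinearMap.domRestrict_apply, map_add, LinearMap.mem_ker.mp ha, zero_add]
      let ε : C ≃ₗ[Λ] L := LinearEquiv.ofBijective (φ.domRestrict C) ⟨hinj, hsurj⟩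
      -- dimension count
      have hfr : Module.finrank k M = Module.finrank k L + Module.finrank k M₁ := by
        have e1 : (L × M₁) ≃ₗ[k] M :=
          { (Submodule.prodEquivOfIsCompl L M₁ hc) with
            map_smul' := by
              intro c x
              simp only [AddHom.toFun_eq_coe, LinearMap.coe_toAddHom, LinearEquiv.coe_coe,
                RingHom.id_apply]
              rw [← algebraMap_smul Λ c x, map_smul, algebraMap_smul] }
        rw [← e1.finrank_eq, Module.finrank_prod]
      have hLpos : 0 < Module.finrank k L := Module.finrank_pos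
      have hlt : Module.finrank k M₁ < n := by omega
      have hhom : ∀ (L'' : Type u) [AddCommGroup L''] [Module k L''] [Module Λ L'']
          [IsScalarTower k Λ L''] [Module.Finite k L''] [IsSimpleModule Λ L''],
          Module.finrank k (M₁ →ₗ[Λ] L'') = Module.finrank k (LinearMap.ker φ →ₗ[Λ] L'') := by
        intro L'' _ _ _ _ _ _
        have h1 := h L''
        have h2 := finrank_hom_isCompl (k := k) (L := L'') L M₁ hc
        have h3 := finrank_hom_isCompl (k := k) (L := L'') (LinearMap.ker φ) C hC
        have h4 := finrank_hom_congr (k := k) (L := L'') ε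
        omega
      obtain ⟨ψ⟩ := ih _ hlt M₁ (LinearMap.ker φ) rfl hhom
      exact ⟨(Submodule.prodEquivOfIsCompl L M₁ hc).symm ≪≫ₗ (LinearEquiv.prodCongr ε.symm ψ) ≪≫ₗ
        (Submodule.prodEquivOfIsCompl C (LinearMap.ker φ) hC.symm)⟩

end SSCrit

section Idem

variable {k Λ : Type u} [Field k] [Ring Λ] [Algebra k Λ]

/-- The left ideal `Λ e`. -/
abbrev P (e : Λ) : Submodule Λ Λ := Submodule.span Λ {e}

theorem self_mem_P (e : Λ) : e ∈ P e := Submodule.mem_span_singleton_self e

theorem mul_idem_of_mem_P {e : Λ} (he : IsIdempotentElem e) {x : Λ} (hx : x ∈ P e) :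
    x * e = x := by
  obtain ⟨a, rfl⟩ := Submodule.mem_span_singleton.mp hx
  rw [smul_eq_mul, mul_assoc, he.eq]

/-- `Hom_Λ(Λ e, L)` has the dimension of `e L`. -/
theorem finrank_hom_P {e : Λ} (he : IsIdempotentElem e) (L : Type u) [AddCommGroup L]
    [Module k L] [Module Λ L] [IsScalarTower k Λ L] :
    Module.finrank k (P e →ₗ[Λ] L) =
      Module.finrank k (LinearMap.range (Algebra.lsmul k k L e)) := by
  let E : P e := ⟨e, self_mem_P e⟩
  have hEE : e • E = E := Subtype.ext he.eq
  let Φ : (P e →ₗ[Λ] L) →ₗ[k] L :=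
    { toFun := fun φ => φ E
      map_add' := fun _ _ => rfl
      map_smul' := fun _ _ => rfl }
  have hΦ : Function.Injective Φ := by
    rw [← LinearMap.ker_eq_bot, LinearMap.ker_eq_bot']
    intro φ hφ
    have hφE : φ E = 0 := hφ
    apply LinearMap.ext
    intro x
    obtain ⟨a, ha⟩ := Submodule.mem_span_singleton.mp x.2
    have : x = a • E := Subtype.ext ha.symm
    rw [this, map_smul, hφE, smul_zero, LinearMap.zero_apply]
  have hrange : LinearMap.range Φ = LinearMap.range (Algebra.lsmul k k L e) := by
    apply le_antisymm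
    · rintro _ ⟨φ, rfl⟩
      refine ⟨φ E, ?_⟩
      show e • φ E = φ E
      rw [← map_smul, hEE]
    · rintro _ ⟨z, rfl⟩
      refine ⟨(LinearMap.toSpanSingleton Λ L (e • z)).domRestrict (P e), ?_⟩
      show (LinearMap.toSpanSingleton Λ L (e • z)) e = e • z
      rw [LinearMap.toSpanSingleton_apply, smul_smul, he.eq]
  rw [← hrange, LinearMap.finrank_range_of_inj hΦ]

/-- An isomorphism `Λ e ≃ Λ f` gives the equivalence data. -/
theorem exists_of_equiv {e f : Λ} (he : IsIdempotentElem e) (hf : IsIdempotentElem f)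
    (ψ : P e ≃ₗ[Λ] P f) :
    ∃ u v : Λ, u = f * u * e ∧ v = e * v * f ∧ v * u = e ∧ u * v = f := by
  let E : P e := ⟨e, self_mem_P e⟩
  let F : P f := ⟨f, self_mem_P f⟩
  have hEE : e • E = E := Subtype.ext he.eq
  have hFF : f • F = F := Subtype.ext hf.eq
  have hue : ((ψ.symm F : P e) : Λ) * e = ψ.symm F := mul_idem_of_mem_P he (ψ.symm F).2
  have hvf : ((ψ E : P f) : Λ) * f = ψ E := mul_idem_of_mem_P hf (ψ E).2
  have hfu : f * ((ψ.symm F : P e) : Λ) = ψ.symm F := by
    have : ψ.symm F = f • ψ.symm F := by rw [← map_smul, hFF]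
    exact (congrArg Subtype.val this).symm
  have hev : e * ((ψ E : P f) : Λ) = ψ E := by
    have : ψ E = e • ψ E := by rw [← map_smul, hEE]
    exact (congrArg Subtype.val this).symm
  have hvu : ((ψ E : P f) : Λ) * ((ψ.symm F : P e) : Λ) = e := by
    have h1 : ψ E = ((ψ E : P f) : Λ) • F := Subtype.ext hvf.symm
    have h2 : E = ψ.symm (ψ E) := (ψ.symm_apply_apply E).symm
    rw [h1, map_smul] at h2
    exact (congrArg Subtype.val h2).symm
  have huv : ((ψ.symm F : P e) : Λ) * ((ψ E : P f) : Λ) = f := by
    have h1 : ψ.symm F = ((ψ.symm F : P e) : Λ) • E := Subtype.ext hue.symm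
    have h2 : F = ψ (ψ.symm F) := (ψ.apply_symm_apply F).symm
    rw [h1, map_smul] at h2
    exact (congrArg Subtype.val h2).symm
  refine ⟨ψ.symm F, ψ E, ?_, ?_, hvu, huv⟩
  · rw [hfu, hue]
  · rw [hev, hvf]

end Idem

section Final

variable {k Λ : Type u} [Field k] [Ring Λ] [Algebra k Λ] [Module.Finite k Λ] [IsSemisimpleRing Λ]

/-- (CritSS) -/
theorem exists_equiv_of_finrank_ss (e f : Λ) (he : IsIdempotentElem e)
    (hf : IsIdempotentElem f)
    (h : ∀ (L : Type u) [AddCommGroup L] [Module k L] [Module Λ L] [IsScalarTower k Λ L]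
      [IsSimpleModule Λ L],
      Module.finrank k (LinearMap.range (Algebra.lsmul k k L e)) =
        Module.finrank k (LinearMap.range (Algebra.lsmul k k L f))) :
    ∃ u v : Λ, u = f * u * e ∧ v = e * v * f ∧ v * u = e ∧ u * v = f := by
  obtain ⟨ψ⟩ := sscrit k Λ _ (P e) (P f) rfl (by
    intro L _ _ _ _ _ _
    rw [finrank_hom_P he, finrank_hom_P hf]
    exact h L)
  exact exists_of_equiv he hf ψ

end Final

end Groth.Agent.H55.NDCritSS
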