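import Mathlib

/-!
(OZ) for helper83's S2499 route: an `E`-linear surjection `X → E/I` has kernel `≤ I • X`, given a
faithfully flat base change after which `X` becomes equivariantly isomorphic to `E`.
-/

set_option autoImplicit false
set_option linter.style.haveILetI false
set_option linter.unusedSectionVars false
set_option linter.deprecated false

open TensorProduct

universe u

namespace Groth.Agent.H55.NDOZ

/-- Orzech-type lemma: two surjections onto a finite module with comparable kernels have the same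
kernel. -/
theorem ker_le_of_surjective {R P Q : Type*} [CommRing R] [AddCommGroup P] [Module R P]
    [AddCommGroup Q] [Module R Q] [Module.Finite R Q] (f g : P →ₗ[R] Q)
    (hf : Function.Surjective f) (hg : Function.Surjective g)
    (h : LinearMap.ker g ≤ LinearMap.ker f) : LinearMap.ker f ≤ LinearMap.ker g := by
  let Φ : Q →ₗ[R] Q :=
    ((LinearMap.ker g).liftQ f h) ∘ₗ (LinearMap.quotKerEquivOfSurjective g hg).symm.toLinearMap
  have hΦ : ∀ p, Φ (g p) = f p := by
    intro p
    have : (LinearMap.quotKerEquivOfSurjective g hg).symm (g p) =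
        Submodule.Quotient.mk p := by
      rw [LinearEquiv.symm_apply_eq]
      rfl
    show ((LinearMap.ker g).liftQ f h) ((LinearMap.quotKerEquivOfSurjective g hg).symm (g p)) = _
    rw [this]
    rfl
  have hΦs : Function.Surjective Φ := by
    intro q
    obtain ⟨p, rfl⟩ := hf q
    exact ⟨g p, hΦ p⟩
  have hΦi := OrzechProperty.injective_of_surjective_endomorphism Φ hΦs
  intro p hp
  rw [LinearMap.mem_ker] at hp ⊢
  apply hΦi
  rw [hΦ, hp, _root_.map_zero]

variable {A A' : Type u} [CommRing A] [CommRing A'] [Algebra A A'] [Module.FaithfullyFlat A A']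
    {E : Type u} [Ring E] [Algebra A E] [Module.Finite A E]
    {X : Type u} [AddCommGroup X] [Module E X] [Module A X] [IsScalarTower A E X]
    [Module.Finite A X]

/-- (OZ) -/
theorem ker_le_smul_top_of_equiv
    (θ : A' ⊗[A] X ≃ₗ[A'] A' ⊗[A] E)
    (hθ : ∀ (φ : E) (y : A' ⊗[A] X),
      θ ((DistribSMul.toLinearMap A X φ).lTensor A' y) = (LinearMap.mulLeft A φ).lTensor A' (θ y))
    (I : Ideal E) [I.IsTwoSided] (π : X →ₗ[E] (E ⧸ I)) (hπ : Function.Surjective π) :
    LinearMap.ker π ≤ I • (⊤ : Submodule E X) := by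
  -- `A`-linear versions
  let NX : Submodule A X := (I • (⊤ : Submodule E X)).restrictScalars A
  let IA : Submodule A E := Submodule.restrictScalars A I
  let πA : X →ₗ[A] (E ⧸ I) := π.restrictScalars A
  let qE : E →ₗ[A] (E ⧸ I) := (Submodule.mkQ I).restrictScalars A
  let qX : X →ₗ[A] (X ⧸ NX) := NX.mkQ
  have hqE : Function.Surjective qE := Submodule.mkQ_surjective I
  have hqX : Function.Surjective qX := Submodule.mkQ_surjective NX
  have hπA : Function.Surjective πA := hπ
  haveI : Module.Finite A (E ⧸ I) := Module.Finite.of_surjective qE hqE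
  -- `NX ≤ ker πA`
  have hNXker : ∀ x ∈ NX, πA x = 0 := by
    intro x hx
    have hx' : x ∈ I • (⊤ : Submodule E X) := hx
    refine Submodule.smul_induction_on hx' ?_ ?_
    · intro φ hφ y _
      show π (φ • y) = 0
      rw [map_smul]
      obtain ⟨e, he⟩ := Submodule.mkQ_surjective I (π y)
      rw [← he, ← map_smul, Submodule.mkQ_apply, Submodule.Quotient.mk_eq_zero, smul_eq_mul]
      exact Ideal.mul_mem_right _ _ hφ
    · intro y z hy hz
      show π (y + z) = 0
      rw [map_add]
      have hy' : π y = 0 := hy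
      have hz' : π z = 0 := hz
      rw [hy', hz', add_zero]
  -- exactness after base change
  have hexE : Function.Exact (IA.subtype.lTensor A') (qE.lTensor A') := by
    apply lTensor_exact A' _ hqE
    intro e
    show qE e = 0 ↔ e ∈ Set.range IA.subtype
    have hr : Set.range IA.subtype = (IA : Set E) := by
      ext z
      constructor
      · rintro ⟨w, rfl⟩; exact w.2
      · intro hz; exact ⟨⟨z, hz⟩, rfl⟩
    rw [hr]
    show Submodule.Quotient.mk e = 0 ↔ e ∈ I
    exact Submodule.Quotient.mk_eq_zero I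
  have hexX : Function.Exact (NX.subtype.lTensor A') (qX.lTensor A') := by
    apply lTensor_exact A' _ hqX
    intro x
    show qX x = 0 ↔ x ∈ Set.range NX.subtype
    have hr : Set.range NX.subtype = (NX : Set X) := by
      ext z
      constructor
      · rintro ⟨w, rfl⟩; exact w.2
      · intro hz; exact ⟨⟨z, hz⟩, rfl⟩
    rw [hr]
    exact Submodule.Quotient.mk_eq_zero NX
  -- multiplication by `φ ∈ I` lands in `NX` after base change
  have hsmulX : ∀ φ ∈ I, ∀ y : A' ⊗[A] X,
      (DistribSMul.toLinearMap A X φ).lTensor A' y ∈ Set.range (NX.subtype.lTensor A') := by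
    intro φ hφ y
    let g : X →ₗ[A] NX := (DistribSMul.toLinearMap A X φ).codRestrict NX
      (fun x => Submodule.smul_mem_smul hφ Submodule.mem_top)
    have hg : DistribSMul.toLinearMap A X φ = NX.subtype ∘ₗ g := by
      ext x; rfl
    rw [hg, LinearMap.lTensor_comp]
    exact ⟨g.lTensor A' y, rfl⟩
  -- key: `θ⁻¹` maps `N'E` into `N'X`
  have hθsymm : ∀ (φ : E) (z : A' ⊗[A] E),
      θ.symm ((LinearMap.mulLeft A φ).lTensor A' z) =
        (DistribSMul.toLinearMap A X φ).lTensor A' (θ.symm z) := by
    intro φ z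
    rw [LinearEquiv.symm_apply_eq, hθ, LinearEquiv.apply_symm_apply]
  have key : ∀ z ∈ Set.range (IA.subtype.lTensor A'),
      θ.symm z ∈ Set.range (NX.subtype.lTensor A') := by
    rintro _ ⟨w, rfl⟩
    induction w using TensorProduct.induction_on with
    | zero =>
      rw [_root_.map_zero, _root_.map_zero]
      exact ⟨0, _root_.map_zero _⟩
    | tmul a φ =>
      have h1 : (IA.subtype.lTensor A') (a ⊗ₜ[A] φ) =
          (LinearMap.mulLeft A (φ : E)).lTensor A' (a ⊗ₜ[A] (1 : E)) := by
        rw [LinearMap.lTensor_tmul, LinearMap.lTensor_tmul]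
        simp
      rw [h1, hθsymm]
      exact hsmulX _ φ.2 _
    | add w₁ w₂ h₁ h₂ =>
      rw [map_add, map_add]
      obtain ⟨v₁, hv₁⟩ := h₁
      obtain ⟨v₂, hv₂⟩ := h₂
      exact ⟨v₁ + v₂, by rw [map_add, hv₁, hv₂]⟩
  -- the two surjections onto `A' ⊗ (E/I)`
  let g' : A' ⊗[A] E →ₗ[A'] A' ⊗[A] (E ⧸ I) := qE.baseChange A'
  let f' : A' ⊗[A] E →ₗ[A'] A' ⊗[A] (E ⧸ I) := (πA.baseChange A') ∘ₗ θ.symm.toLinearMap
  have hg'apply : ∀ z, g' z = qE.lTensor A' z := fun z => rfl
  have hf'apply : ∀ z, f' z = πA.lTensor A' (θ.symm z) := fun z => rfl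
  have hg's : Function.Surjective g' := by
    intro q
    obtain ⟨z, hz⟩ := LinearMap.lTensor_surjective A' hqE q
    exact ⟨z, hz⟩
  have hf's : Function.Surjective f' := by
    intro q
    obtain ⟨y, hy⟩ := LinearMap.lTensor_surjective A' hπA q
    exact ⟨θ y, by rw [hf'apply, LinearEquiv.symm_apply_apply]; exact hy⟩
  have hπNX : ∀ y ∈ Set.range (NX.subtype.lTensor A'), πA.lTensor A' y = 0 := by
    rintro _ ⟨w, rfl⟩
    rw [← LinearMap.comp_apply, ← LinearMap.lTensor_comp]
    have : πA ∘ₗ NX.subtype = 0 := by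
      ext x
      exact hNXker x x.2
    rw [this, LinearMap.lTensor_zero, LinearMap.zero_apply]
  have hker : LinearMap.ker g' ≤ LinearMap.ker f' := by
    intro z hz
    rw [LinearMap.mem_ker, hg'apply] at hz
    rw [LinearMap.mem_ker, hf'apply]
    exact hπNX _ (key z ((hexE z).mp hz))
  have hker' := ker_le_of_surjective f' g' hf's hg's hker
  -- conclusion
  intro x hx
  have hx0 : π x = 0 := hx
  have h1 : πA.lTensor A' ((1 : A') ⊗ₜ[A] x) = 0 := by
    rw [LinearMap.lTensor_tmul]
    show (1 : A') ⊗ₜ[A] (π x) = 0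
    rw [hx0, TensorProduct.tmul_zero]
  have h2 : θ ((1 : A') ⊗ₜ[A] x) ∈ LinearMap.ker f' := by
    rw [LinearMap.mem_ker, hf'apply, LinearEquiv.symm_apply_apply]
    exact h1
  have h3 := hker' h2
  rw [LinearMap.mem_ker, hg'apply] at h3
  have h4 := key _ ((hexE _).mp h3)
  rw [LinearEquiv.symm_apply_apply] at h4
  have h5 : qX.lTensor A' ((1 : A') ⊗ₜ[A] x) = 0 := (hexX _).mpr h4
  rw [LinearMap.lTensor_tmul] at h5
  have h6 : qX x = 0 := by
    apply Module.FaithfullyFlat.tensorProduct_mk_injective (A := A) (B := A') (X ⧸ NX)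
    rw [_root_.map_zero]
    exact h5
  exact (Submodule.Quotient.mk_eq_zero NX).mp h6

end Groth.Agent.H55.NDOZ
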