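import Mathlib

/-!
(RK) for helper76's S2499 squad: the rank of an idempotent acting on a module is insensitive
to field extension.
-/

set_option autoImplicit false
set_option linter.style.haveILetI false
set_option linter.unusedSectionVars false
set_option linter.deprecated false

open TensorProduct

universe u

namespace Groth.Agent.H55.NDRK

section Range

variable {k K : Type u} [Field k] [Field K] [Algebra k K]

/-- The range of a base-changed map has the same dimension. -/
theorem finrank_range_baseChange {L : Type u} [AddCommGroup L] [Module k L]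
    (φ : L →ₗ[k] L) :
    Module.finrank K (LinearMap.range (φ.baseChange K)) =
      Module.finrank k (LinearMap.range φ) := by
  -- `φ = subtype ∘ rangeRestrict`
  have h1 : φ = (LinearMap.range φ).subtype ∘ₗ φ.rangeRestrict := by
    ext x; rfl
  have hsurj : Function.Surjective (φ.rangeRestrict.baseChange K) := by
    rw [LinearMap.baseChange_eq_ltensor]
    exact LinearMap.lTensor_surjective _ φ.surjective_rangeRestrict
  have hinj : Function.Injective ((LinearMap.range φ).subtype.baseChange K) := by
    rw [LinearMap.baseChange_eq_ltensor]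
    exact Module.Flat.lTensor_preserves_injective_linearMap _ (Submodule.subtype_injective _)
  have h2 : φ.baseChange K =
      ((LinearMap.range φ).subtype.baseChange K) ∘ₗ (φ.rangeRestrict.baseChange K) := by
    rw [← LinearMap.baseChange_comp, ← h1]
  have h3 : LinearMap.range (φ.baseChange K) =
      LinearMap.range ((LinearMap.range φ).subtype.baseChange K) := by
    rw [h2, LinearMap.range_comp, LinearMap.range_eq_top.mpr hsurj, Submodule.map_top]
  rw [h3, LinearMap.finrank_range_of_inj hinj, Module.finrank_baseChange]

end Range

section Main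

variable {K : Type u} [Field K] {W : Type u} [AddCommGroup W] [Module K W]

theorem finrank_range_mul_le_left [Module.Finite K W] (A B : Module.End K W) :
    Module.finrank K (LinearMap.range (A * B)) ≤ Module.finrank K (LinearMap.range A) := by
  apply Submodule.finrank_mono
  rw [Module.End.mul_eq_comp]
  exact LinearMap.range_comp_le_range B A

theorem finrank_range_mul_le_right [Module.Finite K W] (A B : Module.End K W) :
    Module.finrank K (LinearMap.range (A * B)) ≤ Module.finrank K (LinearMap.range B) := by
  rw [Module.End.mul_eq_comp, LinearMap.range_comp]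
  exact Submodule.finrank_map_le A (LinearMap.range B)

/-- Abstract linear algebra: equivalent endomorphisms have ranges of equal dimension. -/
theorem finrank_range_eq_of_equiv [Module.Finite K W] (P Q X Y : Module.End K W)
    (hX : X = Q * X * P) (hY : Y = P * Y * Q) (hYX : Y * X = P) (hXY : X * Y = Q) :
    Module.finrank K (LinearMap.range P) = Module.finrank K (LinearMap.range Q) := by
  have key : ∀ (P Q X Y : Module.End K W), X = Q * X * P → Y * X = P →
      Module.finrank K (LinearMap.range P) ≤ Module.finrank K (LinearMap.range Q) := by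
    intro P Q X Y hX hYX
    calc Module.finrank K (LinearMap.range P)
        = Module.finrank K (LinearMap.range (Y * X)) := by rw [hYX]
      _ ≤ Module.finrank K (LinearMap.range X) := finrank_range_mul_le_right Y X
      _ = Module.finrank K (LinearMap.range (Q * (X * P))) := by rw [← mul_assoc, ← hX]
      _ ≤ Module.finrank K (LinearMap.range Q) := finrank_range_mul_le_left Q (X * P)
  exact le_antisymm (key P Q X Y hX hYX) (key Q P Y X hY hXY)

end Main

section Final

variable {k K Λ : Type u} [Field k] [Field K] [Algebra k K] [Ring Λ] [Algebra k Λ]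

variable (K) in
/-- The action of `K ⊗ Λ` on `K ⊗ L`. -/
noncomputable def Psi (L : Type u) [AddCommGroup L] [Module k L] [Module Λ L]
    [IsScalarTower k Λ L] : K ⊗[k] Λ →ₐ[K] Module.End K (K ⊗[k] L) :=
  (LinearMap.tensorProductEnd k K L).comp
    (Algebra.TensorProduct.map (AlgHom.id K K) (Algebra.lsmul k k L))

theorem Psi_one_tmul (L : Type u) [AddCommGroup L] [Module k L] [Module Λ L]
    [IsScalarTower k Λ L] (x : Λ) :
    Psi K L ((1 : K) ⊗ₜ[k] x) = (Algebra.lsmul k k L x).baseChange K := by
  unfold Psi
  rw [AlgHom.comp_apply, Algebra.TensorProduct.map_tmul]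
  apply LinearMap.ext
  intro z
  show (LinearMap.tensorProduct k K L L ((1 : K) ⊗ₜ[k] (Algebra.lsmul k k L) x)) z = _
  simp [LinearMap.tensorProduct]

/-- (RK) -/
theorem finrank_range_eq_of_baseChange (e f : Λ) (U V : K ⊗[k] Λ)
    (hU : U = (1 ⊗ₜ f) * U * (1 ⊗ₜ e)) (hV : V = (1 ⊗ₜ e) * V * (1 ⊗ₜ f))
    (hVU : V * U = 1 ⊗ₜ e) (hUV : U * V = 1 ⊗ₜ f)
    (L : Type u) [AddCommGroup L] [Module k L] [Module Λ L] [IsScalarTower k Λ L]
    [Module.Finite k L] :
    Module.finrank k (LinearMap.range (Algebra.lsmul k k L e)) =
      Module.finrank k (LinearMap.range (Algebra.lsmul k k L f)) := by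
  rw [← finrank_range_baseChange (K := K) (Algebra.lsmul k k L e),
    ← finrank_range_baseChange (K := K) (Algebra.lsmul k k L f),
    ← Psi_one_tmul, ← Psi_one_tmul]
  apply finrank_range_eq_of_equiv _ _ (Psi K L U) (Psi K L V)
  · rw [← map_mul, ← map_mul, ← hU]
  · rw [← map_mul, ← map_mul, ← hV]
  · rw [← map_mul, hVU]
  · rw [← map_mul, hUV]

end Final

end Groth.Agent.H55.NDRK
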