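import Groth.Agent.H55.NDCritSS

/-!
(SSCrit) for the S2499 squad (helper48's exact statement): finite-dimensional semisimple modules
are classified by the dimensions of their Hom-spaces to simple modules.
-/

set_option autoImplicit false
set_option linter.style.haveILetI false
set_option linter.unusedSectionVars false
set_option linter.deprecated false

universe u

namespace Groth.Agent.H55.NDSS

open Groth.Agent.H55.NDCritSS

section SSCrit

variable (k Λ : Type u) [Field k] [Ring Λ] [Algebra k Λ]

theorem finrank_hom_pos_of_isCompl' {M : Type u} [AddCommGroup M] [Module k M] [Module Λ M]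
    [IsScalarTower k Λ M] [Module.Finite k M] (L C : Submodule Λ M) (hC : IsCompl L C)
    [Nontrivial L] : 0 < Module.finrank k (M →ₗ[Λ] L) := by
  rw [Module.finrank_pos_iff_exists_ne_zero]
  refine ⟨Submodule.projectionOnto L C hC, ?_⟩
  intro h0
  obtain ⟨x, hx⟩ := exists_ne (0 : L)
  apply hx
  have := Submodule.projectionOnto_apply_left hC x
  rw [h0] at this
  exact this.symm

theorem sscrit' : ∀ (n : ℕ) (M N : Type u) [AddCommGroup M] [Module k M] [Module Λ M]
    [IsScalarTower k Λ M] [Module.Finite k M] [IsSemisimpleModule Λ M]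
    [AddCommGroup N] [Module k N] [Module Λ N]
    [IsScalarTower k Λ N] [Module.Finite k N] [IsSemisimpleModule Λ N],
    Module.finrank k M = n →
    (∀ (L : Type u) [AddCommGroup L] [Module k L] [Module Λ L] [IsScalarTower k Λ L]
      [Module.Finite k L] [IsSimpleModule Λ L],
      Module.finrank k (M →ₗ[Λ] L) = Module.finrank k (N →ₗ[Λ] L)) →
    Nonempty (M ≃ₗ[Λ] N) := by
  intro n
  induction n using Nat.strong_induction_on with
  | _ n ih =>
    intro M N _ _ _ _ _ _ _ _ _ _ _ _ hn h
    by_cases hM : Subsingleton M
    · have hN : Subsingleton N := by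
        by_contra hN
        rw [not_subsingleton_iff_nontrivial] at hN
        obtain ⟨L, hL⟩ := IsSemisimpleModule.exists_simple_submodule Λ N
        haveI := IsSimpleModule.nontrivial Λ L
        obtain ⟨C, hC⟩ := exists_isCompl L
        have h1 := h L
        have h0 : Module.finrank k (M →ₗ[Λ] L) = 0 := Module.finrank_zero_of_subsingleton
        rw [h0] at h1
        have hpos := finrank_hom_pos_of_isCompl' k Λ L C hC
        omega
      exact ⟨LinearEquiv.ofSubsingleton M N⟩
    · rw [not_subsingleton_iff_nontrivial] at hM
      obtain ⟨L, hL⟩ := IsSemisimpleModule.exists_simple_submodule Λ M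
      haveI := IsSimpleModule.nontrivial Λ L
      obtain ⟨M₁, hc⟩ := exists_isCompl L
      have hposM := finrank_hom_pos_of_isCompl' k Λ L M₁ hc
      have hposN : 0 < Module.finrank k (N →ₗ[Λ] L) := by rw [← h L]; exact hposM
      obtain ⟨φ, hφ⟩ := Module.finrank_pos_iff_exists_ne_zero.mp hposN
      have hφs : Function.Surjective φ := by
        have := (eq_bot_or_eq_top (LinearMap.range φ)).resolve_left
          (fun h0 => hφ (LinearMap.range_eq_bot.mp h0))
        exact LinearMap.range_eq_top.mp this
      obtain ⟨C, hC⟩ := exists_isCompl (LinearMap.ker φ)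
      have hinj : Function.Injective (φ.domRestrict C) := by
        rw [← LinearMap.ker_eq_bot, LinearMap.ker_eq_bot']
        intro x hx
        have h1 : (x : N) ∈ LinearMap.ker φ := hx
        have h2 := Submodule.disjoint_def.mp hC.disjoint _ h1 x.2
        exact Subtype.ext h2
      have hsurj : Function.Surjective (φ.domRestrict C) := by
        intro y
        obtain ⟨x, rfl⟩ := hφs y
        have hx : x ∈ LinearMap.ker φ ⊔ C := by rw [hC.sup_eq_top]; trivial
        obtain ⟨a, ha, c, hcC, rfl⟩ := Submodule.mem_sup.mp hx
        refine ⟨⟨c, hcC⟩, ?_⟩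
        rw [LinearMap.domRestrict_apply, map_add, LinearMap.mem_ker.mp ha, zero_add]
      let ε : C ≃ₗ[Λ] L := LinearEquiv.ofBijective (φ.domRestrict C) ⟨hinj, hsurj⟩
      -- dimension count
      have hfr : Module.finrank k M = Module.finrank k L + Module.finrank k M₁ := by
        have e1 : (L × M₁) ≃ₗ[k] M :=
          { (Submodule.prodEquivOfIsCompl L M₁ hc) with
            map_smul' := by
              intro c x
              simp only [AddHom.toFun_eq_coe, LinearMap.coe_toAddHom, LinearEquiv.coe_coe,
                RingHom.id_apply]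
              rw [← algebraMap_smul Λ c x, map_smul, algebraMap_smul] }
        rw [← e1.finrank_eq, Module.finrank_prod]
      have hLpos : 0 < Module.finrank k L := Module.finrank_pos
      have hlt : Module.finrank k M₁ < n := by omega
      have hhom : ∀ (L'' : Type u) [AddCommGroup L''] [Module k L''] [Module Λ L'']
          [IsScalarTower k Λ L''] [Module.Finite k L''] [IsSimpleModule Λ L''],
          Module.finrank k (M₁ →ₗ[Λ] L'') = Module.finrank k (LinearMap.ker φ →ₗ[Λ] L'') := by
        intro L'' _ _ _ _ _ _
        have h1 := h L''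
        have h2 := finrank_hom_isCompl (k := k) (L := L'') L M₁ hc
        have h3 := finrank_hom_isCompl (k := k) (L := L'') (LinearMap.ker φ) C hC
        have h4 := finrank_hom_congr (k := k) (L := L'') ε
        omega
      obtain ⟨ψ⟩ := ih _ hlt M₁ (LinearMap.ker φ) rfl hhom
      exact ⟨(Submodule.prodEquivOfIsCompl L M₁ hc).symm ≪≫ₗ (LinearEquiv.prodCongr ε.symm ψ) ≪≫ₗ
        (Submodule.prodEquivOfIsCompl C (LinearMap.ker φ) hC.symm)⟩

end SSCrit

/-- (SSCrit), helper48's exact statement. -/
theorem nonempty_linearEquiv_of_finrank_hom {k S : Type u} [Field k] [Ring S] [Algebra k S]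
    [Module.Finite k S]
    (M N : Type u) [AddCommGroup M] [Module k M] [Module S M] [IsScalarTower k S M]
    [Module.Finite k M] [IsSemisimpleModule S M]
    [AddCommGroup N] [Module k N] [Module S N] [IsScalarTower k S N]
    [Module.Finite k N] [IsSemisimpleModule S N]
    (h : ∀ (L : Type u) [AddCommGroup L] [Module k L] [Module S L] [IsScalarTower k S L]
      [IsSimpleModule S L],
      Module.finrank k (M →ₗ[S] L) = Module.finrank k (N →ₗ[S] L)) :
    Nonempty (M ≃ₗ[S] N) :=
  sscrit' k S _ M N rfl (fun L _ _ _ _ _ _ => h L)

end Groth.Agent.H55.NDSS
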