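import Mathlib

/-!
(LU) for helper88's S7797 squad: units of the Laurent polynomial ring over a field.
-/

set_option autoImplicit false
universe u
open Polynomial

namespace Groth.Agent.H55.P1LaurentUnit

theorem laurent_isUnit {k : Type u} [Field k] (f : LaurentPolynomial k) (hf : IsUnit f) :
    ∃ (c : k) (m : ℤ), c ≠ 0 ∧ f = LaurentPolynomial.C c * LaurentPolynomial.T m := by
  obtain ⟨g, hfg⟩ := hf.exists_right_inv
  obtain ⟨n, p, hp⟩ := LaurentPolynomial.exists_T_pow f
  obtain ⟨n', q, hq⟩ := LaurentPolynomial.exists_T_pow g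
  have h1 : Polynomial.toLaurent (p * q) = Polynomial.toLaurent (X ^ (n + n') : k[X]) := by
    rw [map_mul, hp, hq, Polynomial.toLaurent_X_pow]
    calc f * LaurentPolynomial.T ↑n * (g * LaurentPolynomial.T ↑n')
        = (f * g) * (LaurentPolynomial.T ↑n * LaurentPolynomial.T ↑n') := by ring
      _ = LaurentPolynomial.T ((n + n' : ℕ) : ℤ) := by
          rw [hfg, one_mul, ← LaurentPolynomial.T_add]; push_cast; rfl
  have h2 : p * q = X ^ (n + n') := Polynomial.toLaurent_injective h1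
  have h3 : p ∣ X ^ (n + n') := ⟨q, h2.symm⟩
  obtain ⟨i, _, hi⟩ := (dvd_prime_pow Polynomial.prime_X _).mp h3
  obtain ⟨u, hu⟩ := hi.symm
  obtain ⟨c, hc, hcu⟩ := Polynomial.isUnit_iff.mp u.isUnit
  refine ⟨c, (i : ℤ) - n, hc.ne_zero, ?_⟩
  have h4 : f * LaurentPolynomial.T ↑n = LaurentPolynomial.C c * LaurentPolynomial.T ↑i := by
    rw [← hp, ← hu, ← hcu, map_mul, Polynomial.toLaurent_X_pow, Polynomial.toLaurent_C, mul_comm]
  have h5 : f = f * LaurentPolynomial.T ↑n * LaurentPolynomial.T (-(n : ℤ)) := by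
    rw [LaurentPolynomial.mul_T_assoc, add_neg_cancel, LaurentPolynomial.T_zero, mul_one]
  rw [h5, h4, LaurentPolynomial.mul_T_assoc, sub_eq_add_neg]

end Groth.Agent.H55.P1LaurentUnit
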