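import Mathlib
import Groth.Agent.H55.P1LaurentUnit

/-!
(BK) for helper88's S7797 squad: Birkhoff factorisation of invertible matrices over `k[T, T⁻¹]`,
from row reduction of polynomial matrices.
-/

set_option autoImplicit false
set_option linter.style.haveILetI false
set_option linter.unusedSectionVars false
set_option linter.deprecated false
universe u
open Polynomial

namespace Groth.Agent.H55.P1Birkhoff

section Reflect

variable {k : Type u} [Field k]

/-- `X ↦ T⁻¹`. -/
noncomputable def iota : k[X] →+* LaurentPolynomial k :=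
  (LaurentPolynomial.invert (R := k)).toRingEquiv.toRingHom.comp Polynomial.toLaurent

theorem iota_apply (q : k[X]) :
    iota q = LaurentPolynomial.invert (Polynomial.toLaurent q) := rfl

theorem iota_injective : Function.Injective (iota (k := k)) := by
  intro a b h
  rw [iota_apply, iota_apply] at h
  exact Polynomial.toLaurent_injective (LaurentPolynomial.invert.injective h)

theorem iota_reflect_monomial (n i : ℕ) (hi : i ≤ n) (c : k) :
    iota (reflect n (monomial i c)) =
      LaurentPolynomial.T (-(n : ℤ)) * Polynomial.toLaurent (monomial i c) := by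
  rw [← C_mul_X_pow_eq_monomial, reflect_C_mul_X_pow, revAt_le hi, iota_apply,
    Polynomial.toLaurent_C_mul_X_pow, Polynomial.toLaurent_C_mul_X_pow, map_mul,
    LaurentPolynomial.invert_C, LaurentPolynomial.invert_T, mul_comm (LaurentPolynomial.T _),
    mul_assoc, ← LaurentPolynomial.T_add]
  congr 2
  push_cast [Nat.cast_sub hi]
  ring

theorem iota_reflect (n : ℕ) (f : k[X]) (hf : f.natDegree ≤ n) :
    iota (reflect n f) = LaurentPolynomial.T (-(n : ℤ)) * Polynomial.toLaurent f := by
  let φ : k[X] →+ LaurentPolynomial k :=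
    AddMonoidHom.mk' (fun g => iota (reflect n g)) (fun a b => by
      show iota (reflect n (a + b)) = _
      rw [reflect_add, map_add])
  have hφ : ∀ g, φ g = iota (reflect n g) := fun g => rfl
  have hsum := Polynomial.as_sum_range' f (n + 1) (by omega)
  rw [← hφ]
  conv_lhs => rw [hsum]
  conv_rhs => rw [hsum]
  rw [map_sum, map_sum, Finset.mul_sum]
  apply Finset.sum_congr rfl
  intro i hi
  rw [hφ]
  exact iota_reflect_monomial n i (by have := Finset.mem_range.mp hi; omega) _

end Reflect

section Abstract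

variable {L : Type u} [CommRing L] {r : ℕ}

/-- the abstract matrix manipulation behind Birkhoff factorisation -/
theorem abstract_factor (G UL BL QL PL Dm Dp : Matrix (Fin r) (Fin r) L) (t t' : L)
    (ht : t' * t = 1)
    (h1 : BL = Dm * UL * (t • G.transpose))
    (h2 : QL * BL.transpose = 1)
    (h3 : UL.transpose * PL = 1)
    (h4 : Dm * Dp = 1) (hDm : Dm.transpose = Dm) :
    QL * G = (t' • Dp) * PL := by
  have e1 : BL.transpose = t • (G * UL.transpose * Dm) := by
    rw [h1, Matrix.transpose_mul, Matrix.transpose_mul, Matrix.transpose_smul,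
      Matrix.transpose_transpose, hDm, Matrix.smul_mul, Matrix.mul_assoc]
  have e2 : t • (QL * G * UL.transpose * Dm) = 1 := by
    rw [← h2, e1, Matrix.mul_smul, Matrix.mul_assoc, Matrix.mul_assoc, Matrix.mul_assoc]
  have e3 : QL * G * UL.transpose * Dm = t' • (1 : Matrix (Fin r) (Fin r) L) := by
    rw [← e2, smul_smul, ht, one_smul]
  have e4 : QL * G * UL.transpose = t' • Dp := by
    have : QL * G * UL.transpose * Dm * Dp = t' • (1 : Matrix (Fin r) (Fin r) L) * Dp := by
      rw [e3]
    rwa [Matrix.mul_assoc, h4, Matrix.mul_one, Matrix.smul_mul, Matrix.one_mul] at this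
  calc QL * G = QL * G * (UL.transpose * PL) := by rw [h3, Matrix.mul_one]
    _ = (QL * G * UL.transpose) * PL := by rw [Matrix.mul_assoc, Matrix.mul_assoc, Matrix.mul_assoc]
    _ = (t' • Dp) * PL := by rw [e4]

end Abstract

section Clear

variable {k : Type u} [Field k] {r : ℕ}

/-- clearing denominators of a Laurent matrix (transposed) -/
theorem exists_clear (G : Matrix (Fin r) (Fin r) (LaurentPolynomial k)) :
    ∃ (N : ℕ) (A : Matrix (Fin r) (Fin r) k[X]),
      A.map (Polynomial.toLaurent (R := k)) =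
        (LaurentPolynomial.T (N : ℤ) : LaurentPolynomial k) • G.transpose := by
  have h : ∀ p : Fin r × Fin r, ∃ (n : ℕ) (f : k[X]),
      Polynomial.toLaurent f = G p.1 p.2 * LaurentPolynomial.T n :=
    fun p => LaurentPolynomial.exists_T_pow (G p.1 p.2)
  choose nn ff hff using h
  refine ⟨Finset.univ.sup nn, Matrix.of fun j i => ff (i, j) * X ^ (Finset.univ.sup nn - nn (i, j)),
    ?_⟩
  ext j i
  have hle : nn (i, j) ≤ Finset.univ.sup nn := Finset.le_sup (Finset.mem_univ _)
  rw [Matrix.map_apply, Matrix.of_apply, map_mul, hff, Polynomial.toLaurent_X_pow,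
    Matrix.smul_apply, Matrix.transpose_apply, smul_eq_mul, LaurentPolynomial.mul_T_assoc, mul_comm]
  congr 2
  push_cast [Nat.cast_sub hle]
  ring

end Clear

section SortSec

theorem exists_sort {r : ℕ} (d : Fin r → ℤ) : ∃ σ : Equiv.Perm (Fin r), Antitone (d ∘ σ) := by
  refine ⟨Tuple.sort (fun i => - d i), ?_⟩
  have h := Tuple.monotone_sort (fun i => - d i)
  intro i j hij
  have := h hij
  simp only [Function.comp_apply, neg_le_neg_iff] at this
  exact this

end SortSec

section Main

variable {k : Type u} [Field k] {r : ℕ}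

open LaurentPolynomial in
theorem isUnit_det_of_iota {f : k[X]} (hu : IsUnit (iota f)) (h0 : f.coeff 0 ≠ 0) : IsUnit f := by
  have hu' : IsUnit (Polynomial.toLaurent f) := by
    have := hu.map (LaurentPolynomial.invert (R := k)).symm
    rw [iota_apply] at this
    simpa using this
  obtain ⟨c, m, hc, hcm⟩ := Groth.Agent.H55.P1LaurentUnit.laurent_isUnit _ hu'
  cases m with
  | ofNat j =>
    have h1 : f = Polynomial.C c * X ^ j := by
      apply Polynomial.toLaurent_injective
      rw [hcm, Polynomial.toLaurent_C_mul_X_pow]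
      rfl
    have hj : j = 0 := by
      by_contra hj
      apply h0
      rw [h1, Polynomial.coeff_C_mul_X_pow]
      rw [if_neg (Ne.symm hj)]
    rw [h1, hj, pow_zero, mul_one]
    exact Polynomial.isUnit_C.mpr (isUnit_iff_ne_zero.mpr hc)
  | negSucc j =>
    exfalso
    have h1 : f * X ^ (j + 1) = Polynomial.C c := by
      apply Polynomial.toLaurent_injective
      rw [map_mul, hcm, Polynomial.toLaurent_X_pow, Polynomial.toLaurent_C,
        LaurentPolynomial.mul_T_assoc, Int.negSucc_eq]
      push_cast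
      rw [neg_add_cancel, LaurentPolynomial.T_zero, mul_one]
    have h2 := congrArg (fun g => Polynomial.coeff g 0) h1
    simp only [Polynomial.mul_coeff_zero, Polynomial.coeff_X_pow, Polynomial.coeff_C_zero] at h2
    rw [if_neg (by omega), mul_zero] at h2
    exact hc h2.symm

theorem isUnit_submatrix_perm {R : Type u} [CommRing R] (σ : Equiv.Perm (Fin r))
    (M : Matrix (Fin r) (Fin r) R) (hM : IsUnit M) : IsUnit (M.submatrix σ id) := by
  rw [Matrix.isUnit_iff_isUnit_det] at hM ⊢
  rw [Matrix.det_permute]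
  refine IsUnit.mul ?_ hM
  exact ((Equiv.Perm.sign σ).isUnit.map (Int.castRingHom R))

open LaurentPolynomial in
theorem birkhoff_of_rr
    (hRR : ∀ (A : Matrix (Fin r) (Fin r) k[X]), A.det ≠ 0 →
      ∃ (U : Matrix (Fin r) (Fin r) k[X]) (δ : Fin r → ℕ), IsUnit U ∧
        (∀ i j, ((U * A) i j).natDegree ≤ δ i) ∧
        IsUnit (Matrix.of fun i j => ((U * A) i j).coeff (δ i)))
    (G : Matrix (Fin r) (Fin r) (LaurentPolynomial k)) (hG : IsUnit G) :
    ∃ (P Q : Matrix (Fin r) (Fin r) k[X]) (d : Fin r → ℤ), IsUnit P ∧ IsUnit Q ∧ Antitone d ∧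
      (Q.map (fun q => LaurentPolynomial.invert (Polynomial.toLaurent q))) * G =
        Matrix.diagonal (fun i => LaurentPolynomial.T (d i)) * P.map Polynomial.toLaurent := by
  classical
  obtain ⟨N, A, hA⟩ := exists_clear G
  have hdetG : IsUnit G.det := (Matrix.isUnit_iff_isUnit_det G).mp hG
  have hdetA : Polynomial.toLaurent A.det = (T (N : ℤ) : LaurentPolynomial k) ^ r * G.det := by
    rw [RingHom.map_det]
    show (A.map (Polynomial.toLaurent (R := k))).det = _
    rw [hA, Matrix.det_smul, Matrix.det_transpose, Fintype.card_fin]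
  have hdetAu : IsUnit (Polynomial.toLaurent A.det) := by
    rw [hdetA]; exact ((isUnit_T (N : ℤ)).pow r).mul hdetG
  have hA0 : A.det ≠ 0 := by
    intro h0
    rw [h0, map_zero] at hdetAu
    exact not_isUnit_zero hdetAu
  obtain ⟨U, δ, hU, hdeg, hLc⟩ := hRR A hA0
  have hdetU : IsUnit U.det := (Matrix.isUnit_iff_isUnit_det U).mp hU
  obtain ⟨Bp, hBp⟩ : ∃ Bp : Matrix (Fin r) (Fin r) k[X],
      Bp = Matrix.of fun i j => reflect (δ i) ((U * A) i j) := ⟨_, rfl⟩
  obtain ⟨Dm, hDm⟩ : ∃ Dm : Matrix (Fin r) (Fin r) (LaurentPolynomial k),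
      Dm = Matrix.diagonal (fun i => T (-(δ i : ℤ))) := ⟨_, rfl⟩
  obtain ⟨Dp, hDp⟩ : ∃ Dp : Matrix (Fin r) (Fin r) (LaurentPolynomial k),
      Dp = Matrix.diagonal (fun i => T ((δ i : ℤ))) := ⟨_, rfl⟩
  have hBL : Bp.map iota = Dm * (U * A).map (Polynomial.toLaurent (R := k)) := by
    ext i j
    rw [hDm, Matrix.map_apply, hBp, Matrix.of_apply, iota_reflect _ _ (hdeg i j),
      Matrix.diagonal_mul, Matrix.map_apply]
  have hUA : (U * A).map (Polynomial.toLaurent (R := k)) =
      U.map (Polynomial.toLaurent (R := k)) * A.map (Polynomial.toLaurent (R := k)) :=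
    Matrix.map_mul
  -- `det Bp` is a unit
  have hDmDp : Dm * Dp = 1 := by
    rw [hDm, hDp, Matrix.diagonal_mul_diagonal]
    have : (fun i => (T (-(δ i : ℤ)) : LaurentPolynomial k) * T (δ i : ℤ)) = fun _ => 1 := by
      funext i
      rw [← T_add, neg_add_cancel, T_zero]
    rw [this, Matrix.diagonal_one]
  have hdetDm : IsUnit Dm.det := by
    have : Dm.det * Dp.det = 1 := by rw [← Matrix.det_mul, hDmDp, Matrix.det_one]
    exact IsUnit.of_mul_eq_one _ this
  have hdetBpι : IsUnit (iota Bp.det) := by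
    rw [RingHom.map_det]
    show IsUnit (Bp.map iota).det
    rw [hBL, Matrix.det_mul]
    refine hdetDm.mul ?_
    have : ((U * A).map (Polynomial.toLaurent (R := k))).det =
        Polynomial.toLaurent (U * A).det := by
      rw [RingHom.map_det]; rfl
    rw [this, Matrix.det_mul, map_mul]
    exact (hdetU.map _).mul hdetAu
  have hcoeff0 : Bp.det.coeff 0 ≠ 0 := by
    have h1 : Bp.det.coeff 0 = (Matrix.of fun i j => ((U * A) i j).coeff (δ i)).det := by
      rw [Polynomial.coeff_zero_eq_eval_zero, ← Polynomial.coe_evalRingHom, RingHom.map_det]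
      congr 1
      ext i j
      rw [RingHom.mapMatrix_apply, Matrix.map_apply, Polynomial.coe_evalRingHom,
        ← Polynomial.coeff_zero_eq_eval_zero, hBp, Matrix.of_apply, Matrix.of_apply,
        coeff_reflect, revAt_zero]
    rw [h1]
    exact ((Matrix.isUnit_iff_isUnit_det _).mp hLc).ne_zero
  have hdetBp : IsUnit Bp.det := isUnit_det_of_iota hdetBpι hcoeff0
  -- the inverses
  have hdetBpT : IsUnit Bp.transpose.det := by rw [Matrix.det_transpose]; exact hdetBp
  have hdetUT : IsUnit U.transpose.det := by rw [Matrix.det_transpose]; exact hdetU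
  obtain ⟨Q, hQ⟩ : ∃ Q : Matrix (Fin r) (Fin r) k[X], Q = Bp.transpose⁻¹ := ⟨_, rfl⟩
  obtain ⟨P, hP⟩ : ∃ P : Matrix (Fin r) (Fin r) k[X], P = U.transpose⁻¹ := ⟨_, rfl⟩
  have hQB : Q * Bp.transpose = 1 := by rw [hQ]; exact Matrix.nonsing_inv_mul _ hdetBpT
  have hUP : U.transpose * P = 1 := by rw [hP]; exact Matrix.mul_nonsing_inv _ hdetUT
  have hQu : IsUnit Q := by
    rw [hQ, Matrix.isUnit_nonsing_inv_iff, Matrix.isUnit_iff_isUnit_det]; exact hdetBpT
  have hPu : IsUnit P := by
    rw [hP, Matrix.isUnit_nonsing_inv_iff, Matrix.isUnit_iff_isUnit_det]; exact hdetUT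
  have key := abstract_factor G (U.map (Polynomial.toLaurent (R := k))) (Bp.map iota)
    (Q.map iota) (P.map (Polynomial.toLaurent (R := k))) Dm Dp (T (N : ℤ)) (T (-(N : ℤ)))
    (by rw [← T_add, neg_add_cancel, T_zero])
    (by rw [hBL, hUA, hA, Matrix.mul_assoc])
    (by
      rw [← Matrix.transpose_map, ← Matrix.map_mul, hQB, Matrix.map_one _ (map_zero _) (map_one _)])
    (by
      rw [← Matrix.transpose_map, ← Matrix.map_mul, hUP, Matrix.map_one _ (map_zero _) (map_one _)])
    hDmDp (by rw [hDm, Matrix.diagonal_transpose])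
  -- sort
  obtain ⟨σ, hσ⟩ := exists_sort (fun i => (δ i : ℤ) - N)
  refine ⟨P.submatrix σ id, Q.submatrix σ id, (fun i => (δ i : ℤ) - N) ∘ σ,
    isUnit_submatrix_perm σ P hPu, isUnit_submatrix_perm σ Q hQu, hσ, ?_⟩
  have key' : (Q.map iota * G) = Matrix.diagonal (fun i => T ((δ i : ℤ) - N)) *
      P.map (Polynomial.toLaurent (R := k)) := by
    rw [key, hDp, ← Matrix.diagonal_smul]
    congr 2
    funext i
    rw [Pi.smul_apply, smul_eq_mul, ← T_add]
    congr 1
    ring
  apply Matrix.ext
  intro i j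
  have h1 := congrFun (congrFun key' (σ i)) j
  rw [Matrix.diagonal_mul] at h1
  rw [Matrix.diagonal_mul, Matrix.mul_apply]
  rw [Matrix.mul_apply] at h1
  exact h1

end Main

end Groth.Agent.H55.P1Birkhoff
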