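import Groth.Agent.H55.P1Birkhoff
import Groth.Agent.H66.P1RowReduce

/-!
(BK) for helper88's S7797 squad, final form.
-/

set_option autoImplicit false
universe u
open Polynomial

namespace Groth.Agent.H55.P1Birkhoff

theorem birkhoff {k : Type u} [Field k] {r : ℕ}
    (G : Matrix (Fin r) (Fin r) (LaurentPolynomial k)) (hG : IsUnit G) :
    ∃ (P Q : Matrix (Fin r) (Fin r) k[X]) (d : Fin r → ℤ), IsUnit P ∧ IsUnit Q ∧ Antitone d ∧
      (Q.map (fun q => LaurentPolynomial.invert (Polynomial.toLaurent q))) * G =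
        Matrix.diagonal (fun i => LaurentPolynomial.T (d i)) * P.map Polynomial.toLaurent :=
  birkhoff_of_rr (fun A hA => Groth.Agent.H66.P1RowReduce.row_reduce A hA) G hG

end Groth.Agent.H55.P1Birkhoff
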