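import Mathlib

/-!
# Bounding complex numbers from a bound on their power sums.
-/

set_option autoImplicit false

namespace Groth.Agent.H55

namespace RHAnalytic

open Matrix

theorem norm_le_of_power_sums {ι : Type*} [Fintype ι] (β : ι → ℂ) (c C : ℝ) (hc : 0 < c)
    (t₀ : ℕ) (h : ∀ t : ℕ, t₀ ≤ t → ‖∑ i, β i ^ t‖ ≤ C * c ^ t) : ∀ i, ‖β i‖ ≤ c := by
  classical
  intro i₀
  set B : Finset ℂ := Finset.univ.image β with hB
  set m := B.card with hm
  let e : Fin m ≃ B := B.equivFin.symm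
  let b : Fin m → ℂ := fun j => (e j : ℂ)
  have hbinj : Function.Injective b := fun j j' hjj => e.injective (Subtype.ext hjj)
  let n : Fin m → ℕ := fun j => (Finset.univ.filter (fun i => β i = b j)).card
  have hn1 : ∀ j, 1 ≤ n j := by
    intro j
    have hmem : b j ∈ B := (e j).2
    rw [hB, Finset.mem_image] at hmem
    obtain ⟨i, -, hi⟩ := hmem
    exact Finset.card_pos.mpr ⟨i, Finset.mem_filter.mpr ⟨Finset.mem_univ _, hi⟩⟩
  set p : ℕ → ℂ := fun t => ∑ i, β i ^ t with hp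
  have hsum : ∀ t, p t = ∑ j, (n j : ℂ) * b j ^ t := by
    intro t
    rw [hp]
    show ∑ i, β i ^ t = _
    rw [Finset.sum_comp (fun y : ℂ => y ^ t) β, ← hB, ← Finset.sum_coe_sort B,
      ← Equiv.sum_comp e]
    refine Finset.sum_congr rfl fun j _ => ?_
    rw [nsmul_eq_mul]
  set V : Matrix (Fin m) (Fin m) ℂ := Matrix.vandermonde b with hV
  have hdet : V.det ≠ 0 := Matrix.det_vandermonde_ne_zero_iff.mpr hbinj
  have hunit : IsUnit V.det := hdet.isUnit
  set w : ℕ → Fin m → ℂ := fun t j => (n j : ℂ) * b j ^ t with hw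
  have hvm : ∀ t, Matrix.vecMul (w t) V = fun l : Fin m => p (t + l) := by
    intro t
    ext l
    rw [hsum]
    simp only [Matrix.vecMul, dotProduct, hV, Matrix.vandermonde_apply, hw]
    refine Finset.sum_congr rfl fun j _ => ?_
    rw [pow_add]; ring
  have hw_eq : ∀ t, w t = Matrix.vecMul (fun l : Fin m => p (t + l)) V⁻¹ := by
    intro t
    rw [← hvm, Matrix.vecMul_vecMul, Matrix.mul_nonsing_inv _ hunit, Matrix.vecMul_one]
  have hC0 : 0 ≤ C := by
    have := h t₀ le_rfl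
    have h2 : 0 ≤ C * c ^ t₀ := le_trans (norm_nonneg _) this
    by_contra hneg
    rw [not_le] at hneg
    have : C * c ^ t₀ < 0 := mul_neg_of_neg_of_pos hneg (pow_pos hc _)
    linarith
  -- the index of β i₀
  have hmem0 : β i₀ ∈ B := Finset.mem_image.mpr ⟨i₀, Finset.mem_univ _, rfl⟩
  set j₀ : Fin m := e.symm ⟨β i₀, hmem0⟩ with hj₀
  have hbj₀ : b j₀ = β i₀ := by
    show ((e (e.symm ⟨β i₀, hmem0⟩) : B) : ℂ) = β i₀
    rw [Equiv.apply_symm_apply]
  set D : ℝ := ∑ l : Fin m, C * c ^ (l : ℕ) * ‖V⁻¹ l j₀‖ with hD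
  have hbound : ∀ t : ℕ, t₀ ≤ t → ‖β i₀‖ ^ t ≤ D * c ^ t := by
    intro t ht
    have h1 : ‖w t j₀‖ ≤ D * c ^ t := by
      rw [hw_eq t]
      simp only [Matrix.vecMul, dotProduct]
      refine le_trans (norm_sum_le _ _) ?_
      rw [hD, Finset.sum_mul]
      refine Finset.sum_le_sum fun l _ => ?_
      rw [norm_mul]
      have h2 := h (t + l) (by omega)
      have h3 : C * c ^ (t + (l : ℕ)) = C * c ^ (l : ℕ) * c ^ t := by rw [pow_add]; ring
      rw [h3] at h2
      calc ‖p (t + l)‖ * ‖V⁻¹ l j₀‖ ≤ (C * c ^ (l : ℕ) * c ^ t) * ‖V⁻¹ l j₀‖ :=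
            mul_le_mul_of_nonneg_right h2 (norm_nonneg _)
        _ = C * c ^ (l : ℕ) * ‖V⁻¹ l j₀‖ * c ^ t := by ring
    have h4 : ‖w t j₀‖ = (n j₀ : ℝ) * ‖β i₀‖ ^ t := by
      simp only [hw]
      rw [norm_mul, norm_pow, hbj₀, Complex.norm_natCast]
    rw [h4] at h1
    have h5 : (1 : ℝ) ≤ n j₀ := by exact_mod_cast hn1 j₀
    have h6 : 0 ≤ ‖β i₀‖ ^ t := pow_nonneg (norm_nonneg _) _
    nlinarith
  by_contra hcon
  rw [not_le] at hcon
  have hr : 1 < ‖β i₀‖ / c := by rw [one_lt_div hc]; exact hcon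
  have hev := (tendsto_pow_atTop_atTop_of_one_lt hr).eventually_gt_atTop D
  obtain ⟨t, ht1, ht2⟩ := (hev.and (Filter.eventually_ge_atTop t₀)).exists
  have h7 := hbound t ht2
  rw [div_pow, lt_div_iff₀ (pow_pos hc _)] at ht1
  linarith

end RHAnalytic

end Groth.Agent.H55
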