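import Groth.Agent.H55.FrobCount

/-!
# The Bombieri–Stepanov estimate `N_{2s}(K) = q^{2s} + O(q^s)` from a Galois configuration.
-/

set_option autoImplicit false

namespace Groth.Agent.H55

open FunFld WithZero Polynomial IntermediateField IsLocalRing

open scoped Pointwise

namespace RHBound

open FrobCount

section One

variable {k F E : Type*} [Field k] [Finite k] [Field F] [Field E] [Algebra k F] [Algebra F E]
  [Algebra k E] [IsScalarTower k F E]

open scoped Classical in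
/-- Bombieri's bound for an element of a Galois group. -/
theorem sum_fix_le (hE : FunFld.IsFunctionField k E) (Q₀ : Place k E) (hQ₀ : Q₀.deg = 1) (s : ℕ)
    (hbig : (genus k E + 1) ^ 2 < Nat.card k ^ s) (σ : E ≃ₐ[F] E) (Us : Finset (Place k E)) :
    ∑ R ∈ Us.filter (fun R => FixAt (Nat.card k ^ (2 * s)) σ R), R.deg ≤
      (Nat.card k ^ s) ^ 2 + (2 * genus k E + 1) * Nat.card k ^ s := by
  apply Bombieri.sum_deg_le hE (σ.restrictScalars k) Q₀ hQ₀ s hbig
  intro R hR
  have h := (Finset.mem_filter.mp hR).2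
  have e : Nat.card k ^ (2 * s) = (Nat.card k ^ s) ^ 2 := by rw [mul_comm, pow_mul]
  intro z hz
  have := h z hz
  rw [e] at this
  exact this

open scoped Classical in
/-- Places of degree dividing `S` versus the unramified ones. -/
theorem placeSum_bounds [FiniteDimensional F E] [Algebra.IsSeparable F E] (hF : G.IsFF1 k F)
    {S : ℕ} (hS : 0 < S) (Ps : Finset (Place k F)) (hPs : ∀ P, P ∈ Ps ↔ P ∈ PS k F E S)
    (Rs : Finset (Place k F)) (hRs : ∀ P, P ∈ Rs ↔ ¬ ∃ R : Place k E, IsOverWith R P 1) :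
    ∑ P ∈ Ps, P.deg ≤ placeSum k F S ∧ placeSum k F S ≤ ∑ P ∈ Ps, P.deg + ∑ P ∈ Rs, P.deg := by
  set Ds := (G.places_deg_le_finite hF S).toFinset with hDs
  have hDm : ∀ P, P ∈ Ds ↔ P.deg ≤ S := fun P => by
    rw [hDs, Set.Finite.mem_toFinset]; rfl
  rw [placeSum_eq_sum (show 1 ≤ S from hS) le_rfl Ds hDm, ← Finset.sum_filter]
  have hsub : Ps ⊆ Ds.filter (fun P => P.deg ∣ S) := by
    intro P hP
    have := (hPs P).mp hP
    rw [Finset.mem_filter, hDm]
    exact ⟨Nat.le_of_dvd hS this.1, this.1⟩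
  refine ⟨Finset.sum_le_sum_of_subset hsub, ?_⟩
  have hsub2 : Ds.filter (fun P => P.deg ∣ S) ⊆ Ps ∪ Rs := by
    intro P hP
    rw [Finset.mem_filter] at hP
    rw [Finset.mem_union]
    by_cases h : ∃ R : Place k E, IsOverWith R P 1
    · left; rw [hPs]; exact ⟨hP.2, h⟩
    · right; rw [hRs]; exact h
  refine (Finset.sum_le_sum_of_subset hsub2).trans ?_
  have := Finset.sum_union_inter (s₁ := Ps) (s₂ := Rs) (f := fun P : Place k F => P.deg)
  omega

end One

section Two

variable {k L K E : Type*} [Field k] [Finite k] [Field L] [Field K] [Field E]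
  [Algebra k L] [Algebra k K] [Algebra k E] [Algebra L K] [Algebra L E] [Algebra K E]
  [IsScalarTower k L E] [IsScalarTower k K E] [IsScalarTower L K E]

theorem US_subset [FiniteDimensional K E] (hK : G.IsFF1 k K) {S : ℕ} {R : Place k E}
    (hR : R ∈ US k L E S) (τ : E ≃ₐ[K] E) (hfix : FixAt (Nat.card k ^ S) τ R) :
    R ∈ US k K E S := by
  obtain ⟨PL, heL, -⟩ := hR
  obtain ⟨PK, eK, heK⟩ := exists_place_under hK R
  have h1 := range_comap_eq heL
  have h2 := range_comap_eq heK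
  have hsub : Set.range (R.1.comap (algebraMap L E)) ⊆ Set.range (R.1.comap (algebraMap K E)) := by
    rintro _ ⟨z, rfl⟩
    refine ⟨algebraMap L K z, ?_⟩
    show R.1 (algebraMap K E (algebraMap L K z)) = R.1 (algebraMap L E z)
    rw [← IsScalarTower.algebraMap_apply]
  have h3 : Set.range (fun δ : WithZero (Multiplicative ℤ) => δ ^ 1) = Set.univ := by
    rw [Set.range_eq_univ]; intro γ; exact ⟨γ, pow_one γ⟩
  have h4 : Set.range (fun δ : WithZero (Multiplicative ℤ) => δ ^ eK) =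
      Set.range (fun δ : WithZero (Multiplicative ℤ) => δ ^ 1) := by
    rw [h3]
    apply Set.eq_univ_of_univ_subset
    rw [← h3, ← h1, ← h2]
    exact hsub
  have heK1 : eK = 1 := (pow_range_eq_iff (isOverWith_pos heK) one_pos).mp h4
  subst heK1
  exact ⟨PK, heK, FrobLift.deg_dvd_of_fix hK heK τ hfix⟩

open scoped Classical in
theorem main_ineq [FiniteDimensional L E] [IsGalois L E] (hL : G.IsFF1 k L) (hK : G.IsFF1 k K)
    (hE : FunFld.IsFunctionField k E) (Q₀ : Place k E) (hQ₀ : Q₀.deg = 1) (s : ℕ) (hs : 0 < s)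
    (hbig : (genus k E + 1) ^ 2 < Nat.card k ^ s)
    (PsL : Finset (Place k L)) (hPsL : ∀ P, P ∈ PsL ↔ P ∈ PS k L E (2 * s))
    (PsK : Finset (Place k K)) (hPsK : ∀ P, P ∈ PsK ↔ P ∈ PS k K E (2 * s)) :
    (∑ P ∈ PsK, P.deg ≤ (Nat.card k ^ s) ^ 2 + (2 * genus k E + 1) * Nat.card k ^ s) ∧
    Module.finrank L E * ∑ P ∈ PsL, P.deg ≤ Module.finrank K E * ∑ P ∈ PsK, P.deg +
      (Module.finrank L E - Module.finrank K E) *
        ((Nat.card k ^ s) ^ 2 + (2 * genus k E + 1) * Nat.card k ^ s) := by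
  haveI : FiniteDimensional K E := Module.Finite.right L K E
  haveI : IsGalois K E := IsGalois.tower_top_of_isGalois L K E
  have hS : 0 < 2 * s := by omega
  set U := (Nat.card k ^ s) ^ 2 + (2 * genus k E + 1) * Nat.card k ^ s with hU
  set UsL := (US_finite (E := E) hL hS).toFinset with hUsL
  set UsK := (US_finite (E := E) hK hS).toFinset with hUsK
  have hUsLm : ∀ R, R ∈ UsL ↔ R ∈ US k L E (2 * s) := fun R => by
    rw [hUsL, Set.Finite.mem_toFinset]
  have hUsKm : ∀ R, R ∈ UsK ↔ R ∈ US k K E (2 * s) := fun R => by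
    rw [hUsK, Set.Finite.mem_toFinset]
  have hcL : Fintype.card (E ≃ₐ[L] E) = Module.finrank L E := by
    rw [← Nat.card_eq_fintype_card]; exact IsGalois.card_aut_eq_finrank L E
  have hcK : Fintype.card (E ≃ₐ[K] E) = Module.finrank K E := by
    rw [← Nat.card_eq_fintype_card]; exact IsGalois.card_aut_eq_finrank K E
  have eqL := sum_fix_eq hL hS UsL hUsLm PsL hPsL
  have eqK := sum_fix_eq hK hS UsK hUsKm PsK hPsK
  have hnK : 0 < Module.finrank K E := Module.finrank_pos
  constructor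
  · have h1 : Module.finrank K E * ∑ P ∈ PsK, P.deg ≤ Module.finrank K E * U := by
      rw [← eqK, ← hcK, ← Finset.card_univ]
      have := Finset.sum_le_card_nsmul (Finset.univ : Finset (E ≃ₐ[K] E)) _ U
        (fun σ _ => sum_fix_le hE Q₀ hQ₀ s hbig σ UsK)
      rwa [smul_eq_mul] at this
    exact Nat.le_of_mul_le_mul_left h1 hnK
  · rw [← eqL, ← eqK]
    set j : (E ≃ₐ[K] E) → (E ≃ₐ[L] E) := AlgEquiv.restrictScalars L with hj
    have hjinj : Function.Injective j := AlgEquiv.restrictScalars_injective L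
    set I : Finset (E ≃ₐ[L] E) := Finset.univ.image j with hI
    rw [← Finset.sum_add_sum_compl I]
    have hIcard : I.card = Module.finrank K E := by
      rw [hI, Finset.card_image_of_injective _ hjinj, Finset.card_univ, hcK]
    apply add_le_add
    · rw [hI, Finset.sum_image (fun a _ b _ h => hjinj h)]
      refine Finset.sum_le_sum (fun τ _ => ?_)
      apply Finset.sum_le_sum_of_subset
      intro R hR
      rw [Finset.mem_filter] at hR ⊢
      have hfix : FixAt (Nat.card k ^ (2 * s)) τ R := hR.2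
      exact ⟨(hUsKm R).mpr (US_subset hK ((hUsLm R).mp hR.1) τ hfix), hfix⟩
    · have hcc : Iᶜ.card = Module.finrank L E - Module.finrank K E := by
        rw [Finset.card_compl, hIcard, hcL]
      rw [← hcc]
      have := Finset.sum_le_card_nsmul Iᶜ _ U
        (fun σ _ => sum_fix_le hE Q₀ hQ₀ s hbig σ UsL)
      rwa [smul_eq_mul] at this

open scoped Classical in
theorem config_bound [FiniteDimensional L E] [IsGalois L E] (hL : FunFld.IsFunctionField k L)
    (hK : FunFld.IsFunctionField k K) (hE : FunFld.IsFunctionField k E) (Q₀ : Place k E)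
    (hQ₀ : Q₀.deg = 1)
    (hNL : ∀ S : ℕ, 0 < S → placeSum k L S = Nat.card k ^ S + 1) :
    ∃ C : ℝ, ∀ s : ℕ, 0 < s → (genus k E + 1) ^ 2 < Nat.card k ^ s →
      |(placeSum k K (2 * s) : ℝ) - (Nat.card k : ℝ) ^ (2 * s) - 1| ≤
        C * (Nat.card k : ℝ) ^ s := by
  haveI : FiniteDimensional K E := Module.Finite.right L K E
  haveI : IsGalois K E := IsGalois.tower_top_of_isGalois L K E
  have hL1 : G.IsFF1 k L := G.isFF1_of_isFunctionField hL
  have hK1 : G.IsFF1 k K := G.isFF1_of_isFunctionField hK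
  set RsL := (ramified_finite (E := E) hL1).toFinset with hRsL
  set RsK := (ramified_finite (E := E) hK1).toFinset with hRsK
  have hRsLm : ∀ P, P ∈ RsL ↔ ¬ ∃ R : Place k E, IsOverWith R P 1 := fun P => by
    rw [hRsL, Set.Finite.mem_toFinset]; rfl
  have hRsKm : ∀ P, P ∈ RsK ↔ ¬ ∃ R : Place k E, IsOverWith R P 1 := fun P => by
    rw [hRsK, Set.Finite.mem_toFinset]; rfl
  set BL : ℕ := ∑ P ∈ RsL, P.deg with hBL
  set BK : ℕ := ∑ P ∈ RsK, P.deg with hBK
  set nL := Module.finrank L E with hnL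
  set nK := Module.finrank K E with hnK
  set g := genus k E with hg
  have hnK1 : 1 ≤ nK := Module.finrank_pos
  have hnKL : nK ≤ nL := by
    have h1 := Module.finrank_mul_finrank L K E
    have h2 : 1 ≤ Module.finrank L K := by
      haveI : FiniteDimensional L K := Module.Finite.left L K E
      exact Module.finrank_pos
    rw [hnK, hnL, ← h1]
    exact Nat.le_mul_of_pos_left _ h2
  refine ⟨(nL : ℝ) * (2 * g + 1) + nL * BL + (2 * g + 1) + BK, ?_⟩
  intro s hs hbig
  have hS : 0 < 2 * s := by omega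
  set PsL := (PS_finite (E := E) hL1 hS).toFinset with hPsL
  set PsK := (PS_finite (E := E) hK1 hS).toFinset with hPsK
  have hPsLm : ∀ P, P ∈ PsL ↔ P ∈ PS k L E (2 * s) := fun P => by
    rw [hPsL, Set.Finite.mem_toFinset]
  have hPsKm : ∀ P, P ∈ PsK ↔ P ∈ PS k K E (2 * s) := fun P => by
    rw [hPsK, Set.Finite.mem_toFinset]
  obtain ⟨hup, hlow⟩ := main_ineq hL1 hK1 hE Q₀ hQ₀ s hs hbig PsL hPsLm PsK hPsKm
  obtain ⟨hL_lo, hL_hi⟩ := placeSum_bounds (E := E) hL1 hS PsL hPsLm RsL hRsLm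
  obtain ⟨hK_lo, hK_hi⟩ := placeSum_bounds (E := E) hK1 hS PsK hPsKm RsK hRsKm
  rw [hNL _ hS] at hL_hi
  set a := ∑ P ∈ PsL, P.deg with ha
  set b := ∑ P ∈ PsK, P.deg with hb
  set NK := placeSum k K (2 * s) with hNK
  set t := Nat.card k ^ s with ht
  have hqS : Nat.card k ^ (2 * s) = t ^ 2 := by rw [ht, mul_comm, pow_mul]
  rw [hqS] at hL_hi
  have ht1 : 1 ≤ t := Nat.one_le_pow _ _ Nat.card_pos
  have hcast : ((Nat.card k : ℝ)) ^ (2 * s) = (t : ℝ) ^ 2 := by
    rw [ht]; push_cast; rw [mul_comm, pow_mul]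
  have hcast2 : ((Nat.card k : ℝ)) ^ s = (t : ℝ) := by rw [ht]; push_cast; rfl
  rw [hcast, hcast2]
  -- real versions
  have ht1r : (1 : ℝ) ≤ t := by exact_mod_cast ht1
  have hnK1r : (1 : ℝ) ≤ nK := by exact_mod_cast hnK1
  have hnKLr : (nK : ℝ) ≤ nL := by exact_mod_cast hnKL
  have hupr : (b : ℝ) ≤ (t : ℝ) ^ 2 + (2 * g + 1) * t := by exact_mod_cast hup
  have hlowr : (nL : ℝ) * a ≤ nK * b + ((nL : ℝ) - nK) * ((t : ℝ) ^ 2 + (2 * g + 1) * t) := by
    have := hlow
    have h2 : ((nL - nK : ℕ) : ℝ) = (nL : ℝ) - nK := Nat.cast_sub hnKL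
    rw [← h2]
    exact_mod_cast this
  have hLr : ((t : ℝ) ^ 2 + 1) ≤ a + BL := by exact_mod_cast hL_hi
  have hKlo : (b : ℝ) ≤ NK := by exact_mod_cast hK_lo
  have hKhi : (NK : ℝ) ≤ b + BK := by exact_mod_cast hK_hi
  have hg0 : (0 : ℝ) ≤ g := Nat.cast_nonneg _
  have hBL0 : (0 : ℝ) ≤ BL := Nat.cast_nonneg _
  have hBK0 : (0 : ℝ) ≤ BK := Nat.cast_nonneg _
  have hnL0 : (0 : ℝ) ≤ nL := Nat.cast_nonneg _
  rw [abs_le]
  constructor
  · -- lower bound
    set x : ℝ := (NK : ℝ) - (t : ℝ) ^ 2 - 1 with hx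
    set M : ℝ := (nL : ℝ) * (2 * g + 1) + nL * BL with hM
    have hM0 : 0 ≤ M := by positivity
    have key : -(M * t) ≤ nK * x := by
      have h1 : (nL : ℝ) * ((t : ℝ) ^ 2 + 1) ≤ nL * a + nL * BL := by nlinarith
      have h2 : (nK : ℝ) * b ≤ nK * NK := by nlinarith
      have h3 : ((nL : ℝ) - nK) * ((2 * g + 1) * t) ≤ nL * ((2 * g + 1) * t) := by
        apply mul_le_mul_of_nonneg_right _ (by positivity)
        linarith
      have h4 : (nL : ℝ) * BL ≤ nL * BL * t := by nlinarith [mul_nonneg hnL0 hBL0]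
      rw [hx, hM]
      nlinarith
    have hgoal : -(M * t) ≤ x := by
      by_cases hx0 : 0 ≤ x
      · have : 0 ≤ M * t := by positivity
        linarith
      · rw [not_le] at hx0
        have : (nK : ℝ) * x ≤ 1 * x := by
          apply mul_le_mul_of_nonpos_right hnK1r hx0.le
        linarith
    have hC : ((nL : ℝ) * (2 * g + 1) + nL * BL + (2 * g + 1) + BK) * t = M * t +
        ((2 * g + 1) + BK) * t := by rw [hM]; ring
    rw [hC]
    have : 0 ≤ ((2 * (g : ℝ) + 1) + BK) * t := by positivity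
    linarith
  · -- upper bound
    have h1 : (NK : ℝ) - (t : ℝ) ^ 2 - 1 ≤ (2 * g + 1) * t + BK := by linarith
    have h2 : (BK : ℝ) ≤ BK * t := by nlinarith
    have h3 : 0 ≤ ((nL : ℝ) * (2 * g + 1) + nL * BL) * t := by positivity
    nlinarith

end Two

end RHBound

end Groth.Agent.H55
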