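import Groth.Agent.H55.FrobLift
import Groth.Agent.H55.FFConstExt
import Groth.Agent.H55.GeomField
import Groth.Agent.H55.FFGeom4

/-!
# Constant field extensions of function fields over finite fields (abstract form).
-/

set_option autoImplicit false

namespace Groth.Agent.H55

open FunFld WithZero Polynomial IntermediateField IsLocalRing

namespace RHConst

section Base

variable {k k' K' : Type*} [Field k] [Field k'] [Field K'] [Algebra k k'] [Algebra k' K']
  [Algebra k K'] [IsScalarTower k k' K']

theorem isFF1_algebraic_base [Algebra.IsAlgebraic k k'] (h : G.IsFF1 k K') : G.IsFF1 k' K' := by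
  classical
  obtain ⟨x, hx, hfin⟩ := h
  refine ⟨x, ?_, ?_⟩
  · intro halg
    exact hx (halg.restrictScalars k)
  · obtain ⟨A, hA⟩ : ∃ A : IntermediateField k' K', A = k'⟮x⟯ := ⟨_, rfl⟩
    rw [← hA]
    have hmemk : ∀ r : K', r ∈ k⟮x⟯ → r ∈ A := by
      have h1 : k⟮x⟯ ≤ A.restrictScalars k := by
        rw [IntermediateField.adjoin_simple_le_iff]
        show x ∈ A
        rw [hA]
        exact IntermediateField.mem_adjoin_simple_self k' _
      exact fun r hr => h1 hr
    obtain ⟨s, hs⟩ := (Module.finite_def.mp hfin)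
    refine ⟨⟨s, ?_⟩⟩
    rw [eq_top_iff]
    rintro z -
    have hz : z ∈ Submodule.span k⟮x⟯ (s : Set K') := by rw [hs]; trivial
    induction hz using Submodule.span_induction with
    | mem b hb => exact Submodule.subset_span hb
    | zero => exact Submodule.zero_mem _
    | add a b _ _ ha hb => exact Submodule.add_mem _ ha hb
    | smul r a _ ha =>
      have h2 : r • a = (⟨(r : K'), hmemk r.1 r.2⟩ : A) • a := by
        rw [Algebra.smul_def, Algebra.smul_def]; rfl
      rw [h2]
      exact Submodule.smul_mem _ _ ha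

end Base

section CE

variable {k K k' K' : Type*} [Field k] [Finite k] [Field K] [Field k'] [Finite k'] [Field K']
  [Algebra k K] [Algebra k k'] [Algebra K K'] [Algebra k' K'] [Algebra k K']
  [IsScalarTower k k' K'] [IsScalarTower k K K']

theorem finrank_constExt (hK : FunFld.IsFunctionField k K)
    (hgen : Algebra.adjoin K (Set.range (algebraMap k' K')) = ⊤) :
    Module.finrank K K' = Module.finrank k k' := by
  haveI : Algebra.IsAlgebraic k k' := Algebra.IsAlgebraic.of_finite k k'
  haveI : Algebra.IsSeparable k k' := Algebra.IsAlgebraic.isSeparable_of_perfectField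
  obtain ⟨ζ, hζ⟩ := Field.exists_primitive_element k k'
  have hζint : IsIntegral k ζ := Algebra.IsIntegral.isIntegral ζ
  obtain ⟨ζ', hζ'⟩ : ∃ ζ' : K', ζ' = algebraMap k' K' ζ := ⟨_, rfl⟩
  have hirr : Irreducible ((minpoly k ζ).map (algebraMap k K)) :=
    irreducible_map_of_algClosed_in (fun y hy => hK.2 y hy.isAlgebraic) (minpoly.monic hζint)
      (minpoly.irreducible hζint)
  have haev : ∀ p : k[X], aeval ζ' (p.map (algebraMap k K)) = algebraMap k' K' (aeval ζ p) := by
    intro p
    rw [aeval_map_algebraMap, hζ', aeval_algebraMap_apply]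
  have hroot : aeval ζ' ((minpoly k ζ).map (algebraMap k K)) = 0 := by
    rw [haev, minpoly.aeval, map_zero]
  have hmin : minpoly K ζ' = (minpoly k ζ).map (algebraMap k K) :=
    (minpoly.eq_of_irreducible_of_monic hirr hroot ((minpoly.monic hζint).map _)).symm
  have hζ'int : IsIntegral K ζ' := ⟨_, (minpoly.monic hζint).map _, hroot⟩
  have htop : K⟮ζ'⟯ = ⊤ := by
    rw [eq_top_iff]
    intro z _
    have hz : z ∈ Algebra.adjoin K (Set.range (algebraMap k' K')) := by rw [hgen]; trivial
    have hle : Algebra.adjoin K (Set.range (algebraMap k' K')) ≤ K⟮ζ'⟯.toSubalgebra := by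
      apply Algebra.adjoin_le
      rintro _ ⟨c, rfl⟩
      have hc : c ∈ k⟮ζ⟯ := by rw [hζ]; trivial
      rw [← IntermediateField.mem_toSubalgebra,
        IntermediateField.adjoin_simple_toSubalgebra_of_isAlgebraic hζint.isAlgebraic,
        Algebra.adjoin_singleton_eq_range_aeval] at hc
      obtain ⟨p, rfl⟩ := hc
      show algebraMap k' K' (aeval ζ p) ∈ K⟮ζ'⟯.toSubalgebra
      rw [← haev]
      exact IntermediateField.algebra_adjoin_le_adjoin K _
        (Polynomial.aeval_mem_adjoin_singleton K ζ')
    exact hle hz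
  rw [← IntermediateField.finrank_top', ← htop, IntermediateField.adjoin.finrank hζ'int, hmin,
    (minpoly.monic hζint).natDegree_map, ← IntermediateField.adjoin.finrank hζint, hζ,
    IntermediateField.finrank_top']

theorem isFunctionField_constExt (hK : FunFld.IsFunctionField k K)
    (hgen : Algebra.adjoin K (Set.range (algebraMap k' K')) = ⊤) :
    FunFld.IsFunctionField k' K' := by
  haveI : Algebra.IsAlgebraic k k' := Algebra.IsAlgebraic.of_finite k k'
  have hrank := finrank_constExt hK hgen
  have hn : 0 < Module.finrank k k' := Module.finrank_pos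
  haveI : FiniteDimensional K K' := Module.finite_of_finrank_pos (by rw [hrank]; exact hn)
  have hK1 : G.IsFF1 k K' := isFF1_of_finite (G.isFF1_of_isFunctionField hK)
  refine ⟨isFF1_algebraic_base hK1, ?_⟩
  intro y hy
  have hyint : IsIntegral k' y := hy.isIntegral
  haveI hfd : FiniteDimensional k' k'⟮y⟯ := IntermediateField.adjoin.finiteDimensional hyint
  haveI : Finite k'⟮y⟯ := Module.finite_of_finite k'
  haveI : IsScalarTower k k'⟮y⟯ K' := IsScalarTower.of_algebraMap_eq (fun c => rfl)
  have hgen2 : Algebra.adjoin K (Set.range (algebraMap k'⟮y⟯ K')) = ⊤ := by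
    rw [eq_top_iff, ← hgen]
    apply Algebra.adjoin_mono
    rintro _ ⟨c, rfl⟩
    exact ⟨algebraMap k' k'⟮y⟯ c, rfl⟩
  have hrank2 := finrank_constExt (k' := k'⟮y⟯) hK hgen2
  have h3 := Module.finrank_mul_finrank k k' k'⟮y⟯
  have h4 : Module.finrank k' k'⟮y⟯ = 1 := by
    rw [hrank, ← h3] at hrank2
    have : Module.finrank k k' * 1 = Module.finrank k k' * Module.finrank k' k'⟮y⟯ := by
      rw [mul_one]; exact hrank2
    exact (Nat.eq_of_mul_eq_mul_left hn this).symm
  have h5 : k'⟮y⟯ = ⊥ := IntermediateField.finrank_eq_one_iff.mp h4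
  have h6 : y ∈ (⊥ : IntermediateField k' K') := by
    rw [← h5]; exact IntermediateField.mem_adjoin_simple_self k' y
  exact IntermediateField.mem_bot.mp h6

end CE

section Geom

universe u v

variable {k : Type u} {K : Type v} [Field k] [Finite k] [Field K] [Algebra k K]

theorem isGeometric_of_finite (hK : FunFld.IsFunctionField k K) : FunFld.IsGeometric k K := by
  intro k' _ _ hfd
  haveI := hfd
  haveI : Algebra.IsAlgebraic k k' := Algebra.IsAlgebraic.of_finite k k'
  haveI : Algebra.IsSeparable k k' := Algebra.IsAlgebraic.isSeparable_of_perfectField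
  obtain ⟨α, hα⟩ := Field.exists_primitive_element k k'
  have h := isField_tensor_of_simple (K := K) (fun y hy => hK.2 y hy.isAlgebraic) α
    (Algebra.IsIntegral.isIntegral α) hα
  exact (Algebra.TensorProduct.comm k k' K).toMulEquiv.isField h

end Geom

section Constants

variable {k k₁ E : Type*} [Field k] [Finite k] [Field k₁] [Field E] [Algebra k k₁]
  [Algebra k₁ E] [Algebra k E] [IsScalarTower k k₁ E]

theorem finite_constants [Algebra.IsAlgebraic k k₁] (hE : G.IsFF1 k E) : Finite k₁ := by
  obtain ⟨x, hx, -⟩ := id hE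
  obtain ⟨P, -⟩ := G.exists_zero hE x hx
  haveI := FrobLift.residueField_finite hE P
  have hle : ∀ c : k₁, algebraMap k₁ E c ∈ P.O := by
    intro c
    show P.1 (algebraMap k₁ E c) ≤ 1
    by_cases h0 : algebraMap k₁ E c = 0
    · rw [h0, map_zero]; exact zero_le'
    · have halg : IsAlgebraic k (algebraMap k₁ E c) :=
        (Algebra.IsAlgebraic.isAlgebraic c).algebraMap
      exact (G.val_eq_one_of_isAlgebraic P h0 halg).le
  let φ : k₁ →+* ResidueField P.O :=
    (IsLocalRing.residue P.O).comp ((algebraMap k₁ E).codRestrict P.O hle)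
  exact Finite.of_injective φ φ.injective

theorem isFunctionField_constants [Algebra.IsAlgebraic k k₁] (hE : G.IsFF1 k E)
    (hfull : ∀ y : E, IsAlgebraic k y → y ∈ Set.range (algebraMap k₁ E)) :
    FunFld.IsFunctionField k₁ E :=
  ⟨isFF1_algebraic_base hE, fun y hy => hfull y (hy.restrictScalars k)⟩

end Constants

section Sub

variable {k M E : Type*} [Field k] [Field M] [Field E] [Algebra k M] [Algebra M E] [Algebra k E]
  [IsScalarTower k M E]

theorem isFunctionField_sub [FiniteDimensional M E] (hE : FunFld.IsFunctionField k E) :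
    FunFld.IsFunctionField k M := by
  refine ⟨isFF1_of_finite_top (K' := E) hE.1, ?_⟩
  intro y hy
  have h1 : IsAlgebraic k (algebraMap M E y) := hy.algebraMap
  obtain ⟨c, hc⟩ := hE.2 _ h1
  refine ⟨c, ?_⟩
  apply (algebraMap M E).injective
  rw [← hc, ← IsScalarTower.algebraMap_apply]

end Sub

section Rational

variable {k K k' K' : Type*} [Field k] [Finite k] [Field K] [Field k'] [Finite k'] [Field K']
  [Algebra k K] [Algebra k k'] [Algebra K K'] [Algebra k' K'] [Algebra k K']
  [IsScalarTower k k' K'] [IsScalarTower k K K']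

theorem exists_rational_place (hK : FunFld.IsFunctionField k K)
    (hgen : Algebra.adjoin K (Set.range (algebraMap k' K')) = ⊤) (P : Place k K)
    (hP : P.deg = Module.finrank k k') : ∃ Q₀ : Place k' K', Q₀.deg = 1 := by
  haveI : Algebra.IsAlgebraic k k' := Algebra.IsAlgebraic.of_finite k k'
  have hrank := finrank_constExt hK hgen
  have hn : 0 < Module.finrank k k' := Module.finrank_pos
  haveI : FiniteDimensional K K' := Module.finite_of_finrank_pos (by rw [hrank]; exact hn)
  obtain ⟨Q, hQ⟩ := exists_place_over (K' := K') (G.isFF1_of_isFunctionField hK) P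
  have h1 := (ConstExt.splitting_law hK hgen hrank P).2 Q hQ
  refine ⟨ConstExt.ofK Q, ?_⟩
  have h2 := ConstExt.deg_toK (k := k) (ConstExt.ofK (k' := k') Q)
  rw [ConstExt.toK_ofK, h1, hP, Nat.lcm_self] at h2
  have : Module.finrank k k' * 1 = Module.finrank k k' * (ConstExt.ofK (k' := k') Q).deg := by
    rw [mul_one]; exact h2
  exact (Nat.eq_of_mul_eq_mul_left hn this).symm

end Rational

end RHConst

end Groth.Agent.H55
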