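import Groth.Agent.H55.RHAnalytic
import Groth.Agent.H55.FFZeta5

/-!
# Reduction of the Riemann hypothesis to the estimate `N_{2s} = q^{2s} + O(q^s)`.
-/

set_option autoImplicit false

namespace Groth.Agent.H55

open FunFld

namespace RHReduce

section

variable {k K : Type*} [Field k] [Finite k] [Field K] [Algebra k K]

/-- The estimate for `K/k`. -/
def Estimate (k K : Type*) [Field k] [Field K] [Algebra k K] : Prop :=
  ∃ (C : ℝ) (s₀ : ℕ), ∀ s : ℕ, s₀ ≤ s →
    |(placeSum k K (2 * s) : ℝ) - (Nat.card k : ℝ) ^ (2 * s) - 1| ≤ C * (Nat.card k : ℝ) ^ s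

theorem norm_sq_le_of_estimate (hK : FunFld.IsFunctionField k K) {ι : Type*} [Fintype ι]
    (α : ι → ℂ)
    (hα : PowerSeries.map (Int.castRingHom ℂ) (numerZ k K) =
      ((∏ i, (1 - Polynomial.C (α i) * Polynomial.X) : Polynomial ℂ) : PowerSeries ℂ))
    (hest : Estimate k K) : ∀ i, ‖α i‖ ^ 2 ≤ (Nat.card k : ℝ) := by
  obtain ⟨C, s₀, hC⟩ := hest
  have hq : (0 : ℝ) < Nat.card k := by exact_mod_cast Nat.card_pos
  have key := RHAnalytic.norm_le_of_power_sums (fun i => α i ^ 2) (Nat.card k : ℝ) C hq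
    (max s₀ 1) (by
      intro s hs
      have hs0 : s₀ ≤ s := le_trans (le_max_left _ _) hs
      have hs1 : 1 ≤ s := le_trans (le_max_right _ _) hs
      have h1 := placeSum_formula hK α hα (2 * s) (by omega)
      have h2 : ∑ i, (α i ^ 2) ^ s = ∑ i, α i ^ (2 * s) := by
        refine Finset.sum_congr rfl fun i _ => ?_
        rw [pow_mul]
      rw [h2]
      have h3 : ∑ i, α i ^ (2 * s) =
          (((1 : ℝ) + (Nat.card k : ℝ) ^ (2 * s) - (placeSum k K (2 * s) : ℝ) : ℝ) : ℂ) := by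
        push_cast
        rw [h1]; ring
      rw [h3, Complex.norm_real, Real.norm_eq_abs]
      have h4 := hC s hs0
      rw [abs_sub_comm] at h4
      have h5 : (1 : ℝ) + (Nat.card k : ℝ) ^ (2 * s) - (placeSum k K (2 * s) : ℝ) =
          1 - ((placeSum k K (2 * s) : ℝ) - (Nat.card k : ℝ) ^ (2 * s)) := by ring
      rw [h5]
      exact h4)
  intro i
  have := key i
  rwa [norm_pow] at this

end

section ConstExt

variable {k K k' K' : Type*} [Field k] [Finite k] [Field K] [Algebra k K] [Field k'] [Finite k']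
    [Field K'] [Algebra k k'] [Algebra K K'] [Algebra k' K']

theorem norm_sq_le_of_estimate_constExt (hK : FunFld.IsFunctionField k K)
    (hK' : FunFld.IsFunctionField k' K') (hce : FunFld.IsConstExt k K k' K')
    {ι : Type*} [Fintype ι] (α : ι → ℂ)
    (hα : PowerSeries.map (Int.castRingHom ℂ) (numerZ k K) =
      ((∏ i, (1 - Polynomial.C (α i) * Polynomial.X) : Polynomial ℂ) : PowerSeries ℂ))
    (hest : Estimate k' K') : ∀ i, ‖α i‖ ^ 2 ≤ (Nat.card k : ℝ) := by
  have hα' := numerZ_isConstExt hK hK' hce α hα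
  have h1 := norm_sq_le_of_estimate hK' (fun i => α i ^ Module.finrank k k') hα' hest
  have hn : 0 < Module.finrank k k' := Module.finrank_pos
  have hcard : (Nat.card k' : ℝ) = (Nat.card k : ℝ) ^ Module.finrank k k' := by
    have : Nat.card k' = Nat.card k ^ Module.finrank k k' := Module.natCard_eq_pow_finrank
    rw [this]; push_cast; rfl
  intro i
  have h2 := h1 i
  rw [norm_pow, ← pow_mul, mul_comm, pow_mul, hcard] at h2
  exact (pow_le_pow_iff_left₀ (by positivity) (by positivity) hn.ne').mp h2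

end ConstExt

section Final

variable {k K : Type*} [Field k] [Finite k] [Field K] [Algebra k K]

theorem norm_sq_eq (n : ℕ) (α : Fin n → ℂ) (q : ℝ) (hq : 0 < q)
    (hpair : ∀ i, α i * α (Fin.rev i) = (q : ℂ)) (hle : ∀ i, ‖α i‖ ^ 2 ≤ q) :
    ∀ i, ‖α i‖ ^ 2 = q := by
  intro i
  apply le_antisymm (hle i)
  have h1 : ‖α i‖ * ‖α (Fin.rev i)‖ = q := by
    rw [← norm_mul, hpair, Complex.norm_real, Real.norm_eq_abs, abs_of_pos hq]
  have h2 := hle (Fin.rev i)
  have h3 : 0 ≤ ‖α i‖ := norm_nonneg _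
  have h4 : 0 ≤ ‖α (Fin.rev i)‖ := norm_nonneg _
  by_contra hcon
  rw [not_le] at hcon
  have h5 : (‖α i‖ * ‖α (Fin.rev i)‖) ^ 2 < q * q := by
    rw [mul_pow]
    calc ‖α i‖ ^ 2 * ‖α (Fin.rev i)‖ ^ 2 ≤ ‖α i‖ ^ 2 * q :=
          mul_le_mul_of_nonneg_left h2 (by positivity)
      _ < q * q := mul_lt_mul_of_pos_right hcon hq
  rw [h1] at h5
  nlinarith

end Final

end RHReduce

end Groth.Agent.H55
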