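import Groth.Agent.H55.RHBound
import Groth.Agent.H55.RHReduce
import Groth.Agent.H55.RHConst
import Groth.Agent.H55.FFCons

/-!
# The Galois configuration for the Riemann hypothesis.
-/

set_option autoImplicit false

namespace Groth.Agent.H55

open FunFld WithZero Polynomial IntermediateField IsLocalRing

namespace RHConfig

section GT

variable {k k₂ E₀ E₂ : Type*} [Field k] [Field k₂] [Field E₀] [Field E₂]
  [Algebra k E₀] [Algebra k k₂] [Algebra k₂ E₂] [Algebra E₀ E₂] [Algebra k E₂]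
  [IsScalarTower k E₀ E₂] [IsScalarTower k k₂ E₂]

/-- Galois descent to the compositum with a bigger constant field. -/
theorem isGalois_top (x₀ : E₀)
    (hgen : Algebra.adjoin E₀ (Set.range (algebraMap k₂ E₂)) = ⊤)
    [FiniteDimensional k⟮x₀⟯ E₀] [IsGalois k⟮x₀⟯ E₀]
    [FiniteDimensional k₂⟮algebraMap E₀ E₂ x₀⟯ E₂] :
    IsGalois k₂⟮algebraMap E₀ E₂ x₀⟯ E₂ := by
  obtain ⟨L₂, hL₂⟩ : ∃ L₂ : IntermediateField k₂ E₂, L₂ = k₂⟮algebraMap E₀ E₂ x₀⟯ := ⟨_, rfl⟩
  rw [← hL₂]
  haveI hfd₂ : FiniteDimensional L₂ E₂ := by rw [hL₂]; infer_instance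
  set ι : E₀ →+* E₂ := algebraMap E₀ E₂ with hι
  have hmem : ∀ y : E₀, y ∈ k⟮x₀⟯ → ι y ∈ L₂ := by
    have h1 : k⟮x₀⟯ ≤ (L₂.restrictScalars k).comap (IsScalarTower.toAlgHom k E₀ E₂) := by
      rw [IntermediateField.adjoin_simple_le_iff]
      show algebraMap E₀ E₂ x₀ ∈ L₂
      rw [hL₂]
      exact IntermediateField.mem_adjoin_simple_self k₂ _
    exact fun y hy => h1 hy
  let φ : k⟮x₀⟯ →+* L₂ :=
    (ι.comp (algebraMap k⟮x₀⟯ E₀)).codRestrict L₂ (fun y => hmem y.1 y.2)
  have hφ : (algebraMap L₂ E₂).comp φ = ι.comp (algebraMap k⟮x₀⟯ E₀) := by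
    ext y; rfl
  have hel : ∀ y₀ : E₀, (minpoly L₂ (ι y₀)).Separable ∧
      ((minpoly L₂ (ι y₀)).map (algebraMap L₂ E₂)).Splits := by
    intro y₀
    set p := minpoly k⟮x₀⟯ y₀ with hp
    have hroot : aeval (ι y₀) (p.map φ) = 0 := by
      rw [aeval_def, Polynomial.eval₂_map, hφ, ← Polynomial.hom_eval₂, ← aeval_def, hp,
        minpoly.aeval, map_zero]
    have hdvd : minpoly L₂ (ι y₀) ∣ p.map φ := minpoly.dvd _ _ hroot
    have hsep0 : p.Separable := Algebra.IsSeparable.isSeparable k⟮x₀⟯ y₀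
    have hsep : (p.map φ).Separable := Polynomial.Separable.map hsep0
    have hp0 : p.map φ ≠ 0 :=
      (Polynomial.map_ne_zero_iff φ.injective).mpr (minpoly.ne_zero (Algebra.IsIntegral.isIntegral y₀))
    refine ⟨hsep.of_dvd hdvd, ?_⟩
    have hsp : ((p.map φ).map (algebraMap L₂ E₂)).Splits := by
      rw [Polynomial.map_map, hφ, ← Polynomial.map_map]
      exact (Normal.splits inferInstance y₀).map ι
    exact hsp.of_dvd ((Polynomial.map_ne_zero_iff (algebraMap L₂ E₂).injective).mpr hp0)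
      (Polynomial.map_dvd _ hdvd)
  have hadj : IntermediateField.adjoin L₂ (Set.range ι) = ⊤ := by
    rw [eq_top_iff]
    rintro z -
    have hz : z ∈ Algebra.adjoin E₀ (Set.range (algebraMap k₂ E₂)) := by rw [hgen]; trivial
    induction hz using Algebra.adjoin_induction with
    | mem y hy =>
      obtain ⟨c, rfl⟩ := hy
      have : algebraMap k₂ E₂ c = algebraMap L₂ E₂ (algebraMap k₂ L₂ c) := rfl
      rw [this]
      exact IntermediateField.algebraMap_mem _ _
    | algebraMap r => exact IntermediateField.subset_adjoin _ _ ⟨r, rfl⟩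
    | add a b _ _ ha hb => exact add_mem ha hb
    | mul a b _ _ ha hb => exact mul_mem ha hb
  haveI : Algebra.IsSeparable L₂ E₂ := by
    rw [← separableClosure.eq_top_iff, eq_top_iff, ← hadj, IntermediateField.adjoin_le_iff]
    rintro _ ⟨y₀, rfl⟩
    exact (hel y₀).1
  haveI : Normal L₂ E₂ := by
    refine normal_iff.mpr (fun z => ?_)
    refine ⟨Algebra.IsIntegral.isIntegral z, ?_⟩
    have hS : ∀ y ∈ Set.range ι, IsIntegral L₂ y ∧
        ((minpoly L₂ y).map (algebraMap L₂ E₂)).Splits := by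
      rintro _ ⟨y₀, rfl⟩
      exact ⟨Algebra.IsIntegral.isIntegral _, (hel y₀).2⟩
    have hz : z ∈ IntermediateField.adjoin L₂ (Set.range ι) := by rw [hadj]; trivial
    exact IntermediateField.splits_of_mem_adjoin (F := L₂) (K := E₂) (L := E₂) hS hz
  exact {}

end GT

section X

theorem placeSum_genus_zero {k L : Type*} [Field k] [Finite k] [Field L] [Algebra k L]
    (hL : FunFld.IsFunctionField k L) (hg : genus k L = 0) (S : ℕ) (hS : 0 < S) :
    placeSum k L S = Nat.card k ^ S + 1 := by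
  obtain ⟨α, -, hα, -⟩ := exists_reciprocal_roots hL
  have h := placeSum_formula hL α hα S hS.ne'
  haveI : IsEmpty (Fin (2 * genus k L)) := by rw [hg]; exact Fin.isEmpty'
  rw [Finset.univ_eq_empty, Finset.sum_empty, sub_zero] at h
  have : (placeSum k L S : ℂ) = ((Nat.card k ^ S + 1 : ℕ) : ℂ) := by rw [h]; push_cast; ring
  exact_mod_cast this

variable {k K k₂ E₂ : Type*} [Field k] [Finite k] [Field K] [Field k₂] [Finite k₂] [Field E₂]
  [Algebra k K] [Algebra k k₂] [Algebra K E₂] [Algebra k₂ E₂] [Algebra k E₂]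
  [IsScalarTower k K E₂] [IsScalarTower k k₂ E₂]

theorem norm_sq_le_of_top (hK : FunFld.IsFunctionField k K)
    (hE₂ : FunFld.IsFunctionField k₂ E₂) (Q₀ : Place k₂ E₂) (hQ₀ : Q₀.deg = 1) (x : K)
    (hx : Transcendental k x) (hgal : IsGalois k₂⟮algebraMap K E₂ x⟯ E₂)
    {ι : Type*} [Fintype ι] (α : ι → ℂ)
    (hα : PowerSeries.map (Int.castRingHom ℂ) (numerZ k K) =
      ((∏ i, (1 - Polynomial.C (α i) * Polynomial.X) : Polynomial ℂ) : PowerSeries ℂ)) :
    ∀ i, ‖α i‖ ^ 2 ≤ (Nat.card k : ℝ) := by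
  classical
  haveI : Algebra.IsAlgebraic k k₂ := Algebra.IsAlgebraic.of_finite k k₂
  have hx₂ : Transcendental k₂ (algebraMap K E₂ x) := by
    intro halg
    have h1 : IsAlgebraic k (algebraMap K E₂ x) := halg.restrictScalars k
    exact hx ((isAlgebraic_algebraMap_iff (algebraMap K E₂).injective).mp h1)
  obtain ⟨L₂, hL₂⟩ : ∃ L₂ : IntermediateField k₂ E₂, L₂ = k₂⟮algebraMap K E₂ x⟯ := ⟨_, rfl⟩
  haveI : IsGalois L₂ E₂ := by rw [hL₂]; exact hgal
  haveI : FiniteDimensional L₂ E₂ := by rw [hL₂]; exact G.ff_finite hE₂.1 hx₂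
  have hxL : algebraMap K E₂ x ∈ L₂ := by rw [hL₂]; exact mem_adjoin_simple_self k₂ _
  obtain ⟨K₂, hK₂def⟩ : ∃ K₂ : IntermediateField K E₂,
      K₂ = IntermediateField.adjoin K (Set.range (algebraMap k₂ E₂)) := ⟨_, rfl⟩
  have hk₂mem : ∀ c : k₂, algebraMap k₂ E₂ c ∈ K₂ := fun c => by
    rw [hK₂def]; exact subset_adjoin _ _ ⟨c, rfl⟩
  letI algk₂K₂ : Algebra k₂ K₂ := ((algebraMap k₂ E₂).codRestrict K₂ hk₂mem).toAlgebra
  haveI : IsScalarTower k₂ K₂ E₂ := IsScalarTower.of_algebraMap_eq (fun c => rfl)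
  have hLK : ∀ y : E₂, y ∈ L₂ → y ∈ K₂ := by
    have h1 : L₂ ≤ K₂.toSubfield.toIntermediateField hk₂mem := by
      rw [hL₂, adjoin_simple_le_iff]
      exact K₂.algebraMap_mem x
    exact fun y hy => h1 hy
  letI algL₂K₂ : Algebra L₂ K₂ :=
    ((algebraMap L₂ E₂).codRestrict K₂ (fun y => hLK y.1 y.2)).toAlgebra
  haveI : IsScalarTower L₂ K₂ E₂ := IsScalarTower.of_algebraMap_eq (fun c => rfl)
  haveI : FiniteDimensional K₂ E₂ := Module.Finite.right L₂ K₂ E₂
  have hL₂ff : FunFld.IsFunctionField k₂ L₂ := RHConst.isFunctionField_sub hE₂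
  have hK₂ff : FunFld.IsFunctionField k₂ K₂ := RHConst.isFunctionField_sub hE₂
  haveI : IsScalarTower k k₂ K₂ := IsScalarTower.of_algebraMap_eq (fun c => by
    apply Subtype.ext
    show algebraMap k E₂ c = algebraMap k₂ E₂ (algebraMap k k₂ c)
    rw [← IsScalarTower.algebraMap_apply])
  have hgenK₂ : Algebra.adjoin K (Set.range (algebraMap k₂ K₂)) = ⊤ := by
    have halgS : ∀ y ∈ Set.range (algebraMap k₂ E₂), IsAlgebraic K y := by
      rintro _ ⟨c, rfl⟩
      have : IsAlgebraic k (algebraMap k₂ E₂ c) :=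
        (Algebra.IsAlgebraic.isAlgebraic c).algebraMap
      exact this.tower_top K
    have h1 : K₂.toSubalgebra = Algebra.adjoin K (Set.range (algebraMap k₂ E₂)) := by
      rw [hK₂def]; exact adjoin_toSubalgebra_of_isAlgebraic halgS
    apply Subalgebra.map_injective (f := K₂.val) Subtype.val_injective
    rw [Algebra.map_top, AlgHom.map_adjoin, IntermediateField.range_val, h1, ← Set.range_comp]
    rfl
  have hce : FunFld.IsConstExt k K k₂ K₂ := by
    refine ⟨fun c => ?_, hgenK₂, RHConst.finrank_constExt hK hgenK₂⟩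
    apply Subtype.ext
    show algebraMap K E₂ (algebraMap k K c) = algebraMap k₂ E₂ (algebraMap k k₂ c)
    rw [← IsScalarTower.algebraMap_apply, ← IsScalarTower.algebraMap_apply]
  have hgenus : genus k₂ L₂ = 0 := by
    apply genus_eq_zero_of_adjoin_eq_top hL₂ff (x := ⟨algebraMap K E₂ x, hxL⟩)
    apply IntermediateField.map_injective L₂.val
    rw [IntermediateField.adjoin_map, Set.image_singleton, ← AlgHom.fieldRange_eq_map,
      IntermediateField.fieldRange_val]
    exact hL₂.symm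
  obtain ⟨C, hC⟩ := RHBound.config_bound (k := k₂) (L := L₂) (K := K₂) (E := E₂) hL₂ff hK₂ff hE₂
    Q₀ hQ₀ (fun S hS => placeSum_genus_zero hL₂ff hgenus S hS)
  have hest : RHReduce.Estimate k₂ K₂ := by
    refine ⟨C, (genus k₂ E₂ + 1) ^ 2 + 1, fun s hs => hC s (by omega) ?_⟩
    have h2 : 2 ≤ Nat.card k₂ := Finite.one_lt_card
    calc (genus k₂ E₂ + 1) ^ 2 < s := by omega
      _ < 2 ^ s := Nat.lt_two_pow_self
      _ ≤ Nat.card k₂ ^ s := Nat.pow_le_pow_left h2 s
  exact RHReduce.norm_sq_le_of_estimate_constExt hK hK₂ff hce α hα hest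

end X

section W

variable {k K k₁ E₀ : Type*} [Field k] [Finite k] [Field K] [Field k₁] [Finite k₁] [Field E₀]
  [Algebra k K] [Algebra k k₁] [Algebra K E₀] [Algebra k₁ E₀] [Algebra k E₀]
  [IsScalarTower k K E₀] [IsScalarTower k k₁ E₀]

theorem norm_sq_le_of_mid (hK : FunFld.IsFunctionField k K)
    (hE₀ : FunFld.IsFunctionField k₁ E₀) (x : K) (hx : Transcendental k x)
    [FiniteDimensional k⟮algebraMap K E₀ x⟯ E₀] [IsGalois k⟮algebraMap K E₀ x⟯ E₀]
    {ι : Type*} [Fintype ι] (α : ι → ℂ)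
    (hα : PowerSeries.map (Int.castRingHom ℂ) (numerZ k K) =
      ((∏ i, (1 - Polynomial.C (α i) * Polynomial.X) : Polynomial ℂ) : PowerSeries ℂ)) :
    ∀ i, ‖α i‖ ^ 2 ≤ (Nat.card k : ℝ) := by
  classical
  obtain ⟨y, hy, -⟩ := id hE₀.1
  obtain ⟨P, -⟩ := G.exists_zero hE₀.1 y hy
  have hd : 0 < P.deg := G.deg_pos hE₀.1 P
  obtain ⟨f, hfm, hfi, hfd, -⟩ := ConstExt.exists_irreducible k₁ P.deg hd
  haveI : Fact (Irreducible f) := ⟨hfi⟩
  have hfi' : Irreducible (f.map (algebraMap k₁ E₀)) :=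
    irreducible_map_of_algClosed_in (fun y hy => hE₀.2 y hy.isAlgebraic) hfm hfi
  haveI : Fact (Irreducible (f.map (algebraMap k₁ E₀))) := ⟨hfi'⟩
  haveI hfdim : FiniteDimensional k₁ (AdjoinRoot f) := (AdjoinRoot.powerBasis hfi.ne_zero).finite
  haveI : Finite (AdjoinRoot f) := Module.finite_of_finite k₁
  have hrank : Module.finrank k₁ (AdjoinRoot f) = P.deg := by
    rw [(AdjoinRoot.powerBasis hfi.ne_zero).finrank, AdjoinRoot.powerBasis_dim, hfd]
  -- the algebra structure `k₂ → E₂`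
  have hev : f.eval₂ ((AdjoinRoot.of (f.map (algebraMap k₁ E₀))).comp (algebraMap k₁ E₀))
      (AdjoinRoot.root (f.map (algebraMap k₁ E₀))) = 0 := by
    rw [← Polynomial.eval₂_map]; exact AdjoinRoot.eval₂_root _
  letI alg₂ : Algebra (AdjoinRoot f) (AdjoinRoot (f.map (algebraMap k₁ E₀))) :=
    (AdjoinRoot.lift ((AdjoinRoot.of (f.map (algebraMap k₁ E₀))).comp (algebraMap k₁ E₀))
      (AdjoinRoot.root (f.map (algebraMap k₁ E₀))) hev).toAlgebra
  have halg₂ : ∀ z : AdjoinRoot f, algebraMap (AdjoinRoot f)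
      (AdjoinRoot (f.map (algebraMap k₁ E₀))) z =
      AdjoinRoot.lift ((AdjoinRoot.of (f.map (algebraMap k₁ E₀))).comp (algebraMap k₁ E₀))
      (AdjoinRoot.root (f.map (algebraMap k₁ E₀))) hev z := fun z => rfl
  haveI : IsScalarTower k₁ (AdjoinRoot f) (AdjoinRoot (f.map (algebraMap k₁ E₀))) :=
    IsScalarTower.of_algebraMap_eq (fun c => by
      rw [halg₂, AdjoinRoot.algebraMap_eq, AdjoinRoot.lift_of]; rfl)
  haveI : IsScalarTower k₁ E₀ (AdjoinRoot (f.map (algebraMap k₁ E₀))) :=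
    IsScalarTower.of_algebraMap_eq (fun c => rfl)
  haveI : IsScalarTower k E₀ (AdjoinRoot (f.map (algebraMap k₁ E₀))) :=
    IsScalarTower.of_algebraMap_eq (fun c => rfl)
  haveI : IsScalarTower K E₀ (AdjoinRoot (f.map (algebraMap k₁ E₀))) :=
    IsScalarTower.of_algebraMap_eq (fun c => rfl)
  haveI : IsScalarTower k K (AdjoinRoot (f.map (algebraMap k₁ E₀))) :=
    IsScalarTower.of_algebraMap_eq (fun c => by
      show AdjoinRoot.of _ (algebraMap k E₀ c) = AdjoinRoot.of _ (algebraMap K E₀ (algebraMap k K c))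
      rw [← IsScalarTower.algebraMap_apply])
  haveI : IsScalarTower k (AdjoinRoot f) (AdjoinRoot (f.map (algebraMap k₁ E₀))) :=
    IsScalarTower.of_algebraMap_eq (fun c => by
      have e1 : algebraMap k (AdjoinRoot f) c = AdjoinRoot.of f (algebraMap k k₁ c) := rfl
      rw [halg₂, e1, AdjoinRoot.lift_of]
      show AdjoinRoot.of _ (algebraMap k E₀ c) =
        AdjoinRoot.of _ (algebraMap k₁ E₀ (algebraMap k k₁ c))
      rw [← IsScalarTower.algebraMap_apply])
  have hgen : Algebra.adjoin E₀ (Set.range (algebraMap (AdjoinRoot f)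
      (AdjoinRoot (f.map (algebraMap k₁ E₀))))) = ⊤ := by
    rw [eq_top_iff, ← AdjoinRoot.adjoinRoot_eq_top]
    apply Algebra.adjoin_mono
    rintro _ rfl
    exact ⟨AdjoinRoot.root f, by rw [halg₂, AdjoinRoot.lift_root]⟩
  have hE₂ : FunFld.IsFunctionField (AdjoinRoot f) (AdjoinRoot (f.map (algebraMap k₁ E₀))) :=
    RHConst.isFunctionField_constExt (k := k₁) (K := E₀) hE₀ hgen
  obtain ⟨Q₀, hQ₀⟩ := RHConst.exists_rational_place (k := k₁) (K := E₀) hE₀ hgen P hrank.symm
  haveI : Algebra.IsAlgebraic k (AdjoinRoot f) := Algebra.IsAlgebraic.of_finite k _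
  have hx₂ : Transcendental (AdjoinRoot f)
      (algebraMap E₀ (AdjoinRoot (f.map (algebraMap k₁ E₀))) (algebraMap K E₀ x)) := by
    intro halg
    have h1 : IsAlgebraic k
        (algebraMap E₀ (AdjoinRoot (f.map (algebraMap k₁ E₀))) (algebraMap K E₀ x)) :=
      halg.restrictScalars k
    rw [← IsScalarTower.algebraMap_apply K E₀] at h1
    exact hx ((isAlgebraic_algebraMap_iff
      (algebraMap K (AdjoinRoot (f.map (algebraMap k₁ E₀)))).injective).mp h1)
  haveI : FiniteDimensional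
      (AdjoinRoot f)⟮algebraMap E₀ (AdjoinRoot (f.map (algebraMap k₁ E₀))) (algebraMap K E₀ x)⟯
      (AdjoinRoot (f.map (algebraMap k₁ E₀))) := G.ff_finite hE₂.1 hx₂
  have hgal₂ := isGalois_top (k := k) (k₂ := AdjoinRoot f)
    (E₂ := AdjoinRoot (f.map (algebraMap k₁ E₀))) (algebraMap K E₀ x) hgen
  exact norm_sq_le_of_top (k₂ := AdjoinRoot f) (E₂ := AdjoinRoot (f.map (algebraMap k₁ E₀)))
    hK hE₂ Q₀ hQ₀ x hx hgal₂ α hα

end W

section V

variable {k K E₀ : Type*} [Field k] [Finite k] [Field K] [Field E₀]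
  [Algebra k K] [Algebra K E₀] [Algebra k E₀] [IsScalarTower k K E₀]

theorem norm_sq_le_of_closure [FiniteDimensional K E₀] (hK : FunFld.IsFunctionField k K)
    (x : K) (hx : Transcendental k x)
    [FiniteDimensional k⟮algebraMap K E₀ x⟯ E₀] [IsGalois k⟮algebraMap K E₀ x⟯ E₀]
    {ι : Type*} [Fintype ι] (α : ι → ℂ)
    (hα : PowerSeries.map (Int.castRingHom ℂ) (numerZ k K) =
      ((∏ i, (1 - Polynomial.C (α i) * Polynomial.X) : Polynomial ℂ) : PowerSeries ℂ)) :
    ∀ i, ‖α i‖ ^ 2 ≤ (Nat.card k : ℝ) := by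
  have hE₀1 : G.IsFF1 k E₀ := isFF1_of_finite hK.1
  haveI : Finite (algebraicClosure k E₀) :=
    RHConst.finite_constants (k₁ := algebraicClosure k E₀) hE₀1
  have hE₀ : FunFld.IsFunctionField (algebraicClosure k E₀) E₀ :=
    RHConst.isFunctionField_constants hE₀1
      (fun y hy => ⟨⟨y, mem_algebraicClosure_iff.mpr hy⟩, rfl⟩)
  exact norm_sq_le_of_mid (k₁ := algebraicClosure k E₀) hK hE₀ x hx α hα

end V

section U

variable {k L K : Type*} [Field k] [Finite k] [Field L] [Field K] [Algebra k L] [Algebra L K]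
  [Algebra k K] [IsScalarTower k L K]

theorem norm_sq_le_of_separating [FiniteDimensional L K] [Algebra.IsSeparable L K]
    (hK : FunFld.IsFunctionField k K) (x : K) (hx : Transcendental k x)
    (hL : Set.range (algebraMap L K) = (k⟮x⟯ : Set K))
    {ι : Type*} [Fintype ι] (α : ι → ℂ)
    (hα : PowerSeries.map (Int.castRingHom ℂ) (numerZ k K) =
      ((∏ i, (1 - Polynomial.C (α i) * Polynomial.X) : Polynomial ℂ) : PowerSeries ℂ)) :
    ∀ i, ‖α i‖ ^ 2 ≤ (Nat.card k : ℝ) := by
  haveI : Algebra.IsSeparable L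
      (IntermediateField.normalClosure L K (AlgebraicClosure K)) := by
    rw [← le_separableClosure_iff]
    apply normalClosure_le_iff.2
    intro f
    rintro _ ⟨y, rfl⟩
    rw [mem_separableClosure_iff]
    show (minpoly L (f y)).Separable
    rw [minpoly.algHom_eq f f.injective]
    exact Algebra.IsSeparable.isSeparable L y
  haveI : IsGalois L (IntermediateField.normalClosure L K (AlgebraicClosure K)) := {}
  haveI : IsScalarTower k K (IntermediateField.normalClosure L K (AlgebraicClosure K)) := by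
    refine IsScalarTower.of_algebraMap_eq (fun c => Subtype.ext ?_)
    show algebraMap k (AlgebraicClosure K) c =
      algebraMap K (AlgebraicClosure K) (algebraMap k K c)
    rw [← IsScalarTower.algebraMap_apply]
  haveI : FiniteDimensional K (IntermediateField.normalClosure L K (AlgebraicClosure K)) :=
    Module.Finite.right L K _
  have hE₀1 : G.IsFF1 k (IntermediateField.normalClosure L K (AlgebraicClosure K)) :=
    isFF1_of_finite hK.1
  have hx₀ : Transcendental k
      (algebraMap K (IntermediateField.normalClosure L K (AlgebraicClosure K)) x) :=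
    (transcendental_algebraMap_iff (algebraMap K _).injective).mpr hx
  haveI : FiniteDimensional
      k⟮algebraMap K (IntermediateField.normalClosure L K (AlgebraicClosure K)) x⟯
      (IntermediateField.normalClosure L K (AlgebraicClosure K)) := G.ff_finite hE₀1 hx₀
  have hmap : (k⟮x⟯).map (IsScalarTower.toAlgHom k K
      (IntermediateField.normalClosure L K (AlgebraicClosure K))) =
      k⟮algebraMap K (IntermediateField.normalClosure L K (AlgebraicClosure K)) x⟯ := by
    rw [IntermediateField.adjoin_map, Set.image_singleton]; rfl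
  have hrange : (IsScalarTower.toAlgHom k L
      (IntermediateField.normalClosure L K (AlgebraicClosure K))).fieldRange =
      k⟮algebraMap K (IntermediateField.normalClosure L K (AlgebraicClosure K)) x⟯ := by
    rw [← hmap]
    ext z
    constructor
    · rintro ⟨y, rfl⟩
      refine ⟨algebraMap L K y, ?_, ?_⟩
      · have : algebraMap L K y ∈ Set.range (algebraMap L K) := ⟨y, rfl⟩
        rw [hL] at this; exact this
      · show algebraMap K _ (algebraMap L K y) = algebraMap L _ y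
        rw [← IsScalarTower.algebraMap_apply]
    · rintro ⟨w, hw, rfl⟩
      have hw' : w ∈ Set.range (algebraMap L K) := by rw [hL]; exact hw
      obtain ⟨y, rfl⟩ := hw'
      refine ⟨y, ?_⟩
      show algebraMap L _ y = algebraMap K _ (algebraMap L K y)
      rw [← IsScalarTower.algebraMap_apply]
  haveI : IsGalois
      k⟮algebraMap K (IntermediateField.normalClosure L K (AlgebraicClosure K)) x⟯
      (IntermediateField.normalClosure L K (AlgebraicClosure K)) := by
    let e : L ≃ₐ[k]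
        k⟮algebraMap K (IntermediateField.normalClosure L K (AlgebraicClosure K)) x⟯ :=
      (AlgEquiv.ofInjectiveField (IsScalarTower.toAlgHom k L
        (IntermediateField.normalClosure L K (AlgebraicClosure K)))).trans
        (IntermediateField.equivOfEq hrange)
    exact IsGalois.of_equiv_equiv (F := L)
      (E := IntermediateField.normalClosure L K (AlgebraicClosure K))
      (f := e.toRingEquiv) (g := RingEquiv.refl _) (by ext y; rfl)
  exact norm_sq_le_of_closure
    (E₀ := IntermediateField.normalClosure L K (AlgebraicClosure K)) hK x hx α hα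

end U

section Final

variable {k K : Type*} [Field k] [Finite k] [Field K] [Algebra k K]

theorem norm_sq_le (hK : FunFld.IsFunctionField k K)
    {ι : Type*} [Fintype ι] (α : ι → ℂ)
    (hα : PowerSeries.map (Int.castRingHom ℂ) (numerZ k K) =
      ((∏ i, (1 - Polynomial.C (α i) * Polynomial.X) : Polynomial ℂ) : PowerSeries ℂ)) :
    ∀ i, ‖α i‖ ^ 2 ≤ (Nat.card k : ℝ) := by
  obtain ⟨x, hx, hsep⟩ := exists_separating hK (RHConst.isGeometric_of_finite hK)
  haveI := hsep
  haveI : FiniteDimensional k⟮x⟯ K := G.ff_finite hK.1 hx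
  refine norm_sq_le_of_separating (L := k⟮x⟯) hK x hx ?_ α hα
  ext z
  constructor
  · rintro ⟨y, rfl⟩; exact y.2
  · intro hz; exact ⟨⟨z, hz⟩, rfl⟩

/-- The Riemann hypothesis for function fields over finite fields. -/
theorem riemann_hypothesis (hK : FunFld.IsFunctionField k K)
    (α : Fin (2 * genus k K) → ℂ)
    (hα : PowerSeries.map (Int.castRingHom ℂ) (numerZ k K) =
      ((∏ i, (1 - Polynomial.C (α i) * Polynomial.X) : Polynomial ℂ) : PowerSeries ℂ))
    (hpair : ∀ i, α i * α (Fin.rev i) = (Nat.card k : ℂ)) :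
    ∀ i, ‖α i‖ ^ 2 = (Nat.card k : ℝ) := by
  have hq : (0 : ℝ) < Nat.card k := by exact_mod_cast Nat.card_pos
  exact RHReduce.norm_sq_eq _ α _ hq (fun i => by rw [hpair]; push_cast; rfl)
    (norm_sq_le hK α hα)

end Final

end RHConfig

end Groth.Agent.H55
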