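import Mathlib

/-!
Products over roots of unity.
-/

set_option autoImplicit false

namespace Groth.Agent.H55

open Polynomial

theorem prod_nthRootsFinset (ζ : ℂ) (n : ℕ) (hn : 0 < n) (hζ : IsPrimitiveRoot ζ n)
    (f : ℂ → ℂ) :
    ∏ θ ∈ nthRootsFinset n (1 : ℂ), f θ = ∏ j ∈ Finset.range n, f (ζ ^ j) := by
  classical
  haveI : NeZero n := ⟨hn.ne'⟩
  have h1 : nthRootsFinset n (1 : ℂ) = (Finset.range n).image (fun j => ζ ^ j) := by
    ext θ
    rw [mem_nthRootsFinset hn, Finset.mem_image]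
    constructor
    · intro hθ
      obtain ⟨i, hi, rfl⟩ := hζ.eq_pow_of_pow_eq_one hθ
      exact ⟨i, Finset.mem_range.mpr hi, rfl⟩
    · rintro ⟨j, -, rfl⟩
      rw [← pow_mul, mul_comm, pow_mul, hζ.pow_eq_one, one_pow]
  rw [h1, Finset.prod_image]
  intro i hi j hj hij
  exact hζ.pow_inj (Finset.mem_range.mp hi) (Finset.mem_range.mp hj) hij

theorem prod_range_mul_periodic (F : ℕ → ℂ) (m g : ℕ) (hper : ∀ j, F (j + m) = F j) :
    ∏ j ∈ Finset.range (g * m), F j = (∏ j ∈ Finset.range m, F j) ^ g := by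
  have hper' : ∀ a j, F (a * m + j) = F j := by
    intro a
    induction a with
    | zero => intro j; rw [zero_mul, zero_add]
    | succ a ih =>
      intro j
      rw [add_mul, one_mul, add_assoc, add_comm m j, ← add_assoc, hper, ih]
  induction g with
  | zero => rw [zero_mul, Finset.range_zero, Finset.prod_empty, pow_zero]
  | succ g ih =>
    rw [add_mul, one_mul, Finset.prod_range_add, ih, pow_succ]
    congr 1
    exact Finset.prod_congr rfl (fun j _ => hper' g j)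

theorem one_sub_pow_eq_prod (n d : ℕ) (hn : 0 < n) (hd : 0 < d) :
    ((1 : Polynomial ℂ) - Polynomial.X ^ (n * d / Nat.gcd n d)) ^ Nat.gcd n d =
      ∏ θ ∈ Polynomial.nthRootsFinset n (1 : ℂ),
        (1 - Polynomial.C (θ ^ d) * Polynomial.X ^ d) := by
  classical
  obtain ⟨ζ, hζ⟩ : ∃ ζ : ℂ, IsPrimitiveRoot ζ n := ⟨_, Complex.isPrimitiveRoot_exp n hn.ne'⟩
  obtain ⟨g, hg⟩ : ∃ g, g = Nat.gcd n d := ⟨_, rfl⟩
  rw [← hg]
  have hgpos : 0 < g := hg ▸ Nat.gcd_pos_of_pos_left d hn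
  obtain ⟨m, hm⟩ : g ∣ n := hg ▸ Nat.gcd_dvd_left n d
  have hmpos : 0 < m := by
    rcases Nat.eq_zero_or_pos m with h | h
    · rw [h, mul_zero] at hm; omega
    · exact h
  have hexp : n * d / g = m * d := by
    rw [hm, mul_assoc, Nat.mul_div_cancel_left _ hgpos]
  have hη : IsPrimitiveRoot (ζ ^ d) m := by
    have h1 := IsPrimitiveRoot.orderOf (ζ ^ d)
    have h2 : orderOf (ζ ^ d) = m := by
      rw [orderOf_pow' ζ hd.ne', ← hζ.eq_orderOf, ← hg]
      rw [hm, Nat.mul_div_cancel_left _ hgpos]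
    rwa [h2] at h1
  apply Polynomial.funext
  intro t
  simp only [eval_pow, eval_sub, eval_one, eval_X, eval_prod, eval_mul, eval_C]
  rw [hexp, prod_nthRootsFinset ζ n hn hζ (fun θ => 1 - θ ^ d * t ^ d)]
  have hF : ∀ j ∈ Finset.range n, (1 - (ζ ^ j) ^ d * t ^ d) = 1 - (ζ ^ d) ^ j * t ^ d :=
    fun j _ => by rw [← pow_mul, ← pow_mul, mul_comm j d]
  rw [Finset.prod_congr rfl hF, hm,
    prod_range_mul_periodic (fun j => 1 - (ζ ^ d) ^ j * t ^ d) m g (fun j => by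
      show 1 - (ζ ^ d) ^ (j + m) * t ^ d = 1 - (ζ ^ d) ^ j * t ^ d
      rw [pow_add, hη.pow_eq_one, mul_one])]
  congr 1
  rw [← prod_nthRootsFinset (ζ ^ d) m hmpos hη (fun θ => 1 - θ * t ^ d),
    ← hη.pow_sub_pow_eq_prod_sub_mul 1 (t ^ d) hmpos, one_pow, ← pow_mul, mul_comm d m]

end Groth.Agent.H55
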