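import Mathlib

/-!
# Semi-valuation rings: descent of flatness (S17899, part 1)

`O → A` injective, `A` local, every element of `A` is in `O` or is a unit with inverse in `O`
(so `O` is the preimage in `A` of a valuation ring of the residue field of `A`).
If `C` is an `O`-module (algebra) with `C → A ⊗ C` injective and `A ⊗ C` flat over `A`, then
`C` is flat over `O`.
-/

set_option autoImplicit false
set_option linter.style.haveILetI false
set_option linter.deprecated false

universe u

open TensorProduct IsLocalRing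

namespace Groth.Agent.H55.SemiVal

section Basic

variable {O A : Type u} [CommRing O] [CommRing A] [IsLocalRing A] [Algebra O A]
  (H : ∀ a : A, a ∈ Set.range (algebraMap O A) ∨ ∃ o : O, a * algebraMap O A o = 1)

include H

/-- comparison of two elements, the second a unit. -/
theorem compare (a b : A) (hb : IsUnit b) :
    (∃ o : O, a = algebraMap O A o * b) ∨ (IsUnit a ∧ ∃ o : O, b = algebraMap O A o * a) := by
  obtain ⟨b', hb'⟩ := hb.exists_right_inv
  rcases H (a * b') with ⟨o, ho⟩ | ⟨o, ho⟩
  · left
    refine ⟨o, ?_⟩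
    rw [ho]
    calc a = a * (b * b') := by rw [hb', mul_one]
      _ = a * b' * b := by ring
  · right
    have h1 : a * (b' * algebraMap O A o) = 1 := by rw [← ho]; ring
    refine ⟨IsUnit.of_mul_eq_one _ h1, o, ?_⟩
    calc b = b * (a * b' * algebraMap O A o) := by rw [ho, mul_one]
      _ = algebraMap O A o * a * (b * b') := by ring
      _ = algebraMap O A o * a := by rw [hb', mul_one]

/-- the maximal ideal of `A` lies in `O`. -/
theorem mem_range_of_mem_maximalIdeal (a : A) (ha : a ∈ maximalIdeal A) :
    a ∈ Set.range (algebraMap O A) := by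
  rcases H a with h | ⟨o, ho⟩
  · exact h
  · exact absurd (IsUnit.of_mul_eq_one _ ho) ((mem_maximalIdeal a).mp ha)

/-- every element of `A` is a fraction with denominator in `O` a unit of `A`. -/
theorem exists_frac (a : A) :
    ∃ a₀ u : O, IsUnit (algebraMap O A u) ∧ a * algebraMap O A u = algebraMap O A a₀ := by
  rcases H a with ⟨o, ho⟩ | ⟨o, ho⟩
  · exact ⟨o, 1, by simp, by rw [map_one, mul_one, ho]⟩
  · exact ⟨1, o, IsUnit.of_mul_eq_one _ (by rw [mul_comm]; exact ho), by rw [map_one]; exact ho⟩

/-- a finite family containing a unit has a unit member dividing (over `O`) all others. -/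
theorem exists_max {ι₀ : Type*} [DecidableEq ι₀] (α : ι₀ → A) (s : Finset ι₀)
    (hs : ∃ i ∈ s, IsUnit (α i)) :
    ∃ i₀ ∈ s, IsUnit (α i₀) ∧ ∀ i ∈ s, ∃ o : O, α i = algebraMap O A o * α i₀ := by
  induction s using Finset.induction_on with
  | empty => obtain ⟨i, hi, -⟩ := hs; simp at hi
  | insert i' s hi' ih =>
    by_cases hsu : ∃ i ∈ s, IsUnit (α i)
    · obtain ⟨i₀, hi₀, hu₀, hmax⟩ := ih hsu
      rcases compare H (α i') (α i₀) hu₀ with ⟨o, ho⟩ | ⟨hu', o, ho⟩
      · refine ⟨i₀, Finset.mem_insert_of_mem hi₀, hu₀, ?_⟩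
        intro i hi
        rcases Finset.mem_insert.mp hi with rfl | hi
        · exact ⟨o, ho⟩
        · exact hmax i hi
      · refine ⟨i', Finset.mem_insert_self _ _, hu', ?_⟩
        intro i hi
        rcases Finset.mem_insert.mp hi with rfl | hi
        · exact ⟨1, by simp⟩
        · obtain ⟨o', ho'⟩ := hmax i hi
          exact ⟨o' * o, by rw [ho', ho, map_mul]; ring⟩
    · push Not at hsu
      obtain ⟨i, hi, hu⟩ := hs
      rcases Finset.mem_insert.mp hi with rfl | hi
      · refine ⟨i, Finset.mem_insert_self _ _, hu, ?_⟩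
        intro j hj
        rcases Finset.mem_insert.mp hj with rfl | hj
        · exact ⟨1, by simp⟩
        · obtain ⟨b', hb'⟩ := hu.exists_right_inv
          have hjm : α j * b' ∈ maximalIdeal A :=
            Ideal.mul_mem_right _ _ ((mem_maximalIdeal _).mpr (hsu j hj))
          obtain ⟨o, ho⟩ := mem_range_of_mem_maximalIdeal H _ hjm
          refine ⟨o, ?_⟩
          rw [ho]
          calc α j = α j * (α i * b') := by rw [hb', mul_one]
            _ = α j * b' * α i := by ring
      · exact absurd hu (hsu i hi)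

end Basic

section Flat

variable {O A : Type u} [CommRing O] [CommRing A] [IsLocalRing A] [Algebra O A]
  (hinj : Function.Injective (algebraMap O A))
  (H : ∀ a : A, a ∈ Set.range (algebraMap O A) ∨ ∃ o : O, a * algebraMap O A o = 1)
  {C : Type u} [AddCommGroup C] [Module O C]
  (hadm : Function.Injective (fun c : C => (1 : A) ⊗ₜ[O] c))

omit [IsLocalRing A] in
theorem algebraMap_smul_one_tmul (o : O) (c : C) :
    algebraMap O A o • ((1 : A) ⊗ₜ[O] c) = (1 : A) ⊗ₜ[O] (o • c) := by
  rw [TensorProduct.smul_tmul', smul_eq_mul, mul_one, ← TensorProduct.smul_tmul,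
    Algebra.smul_def, mul_one]

include H in
/-- every element of `A ⊗ C` is a pure tensor `1 ⊗ c` up to a unit of `A` coming from `O`. -/
theorem exists_smul_eq_one_tmul (z : A ⊗[O] C) :
    ∃ (u : O) (c : C), IsUnit (algebraMap O A u) ∧ algebraMap O A u • z = (1 : A) ⊗ₜ[O] c := by
  induction z using TensorProduct.induction_on with
  | zero => exact ⟨1, 0, by simp, by simp⟩
  | tmul a c =>
    obtain ⟨a₀, u, hu, h⟩ := exists_frac H a
    refine ⟨u, a₀ • c, hu, ?_⟩
    rw [TensorProduct.smul_tmul', smul_eq_mul, mul_comm, h, ← algebraMap_smul_one_tmul,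
      TensorProduct.smul_tmul', smul_eq_mul, mul_one]
  | add z w hz hw =>
    obtain ⟨u, c, hu, h⟩ := hz
    obtain ⟨u', c', hu', h'⟩ := hw
    refine ⟨u * u', u' • c + u • c', by rw [map_mul]; exact hu.mul hu', ?_⟩
    rw [smul_add, map_mul, TensorProduct.tmul_add]
    congr 1
    · rw [mul_comm, mul_smul, h, algebraMap_smul_one_tmul]
    · rw [mul_smul, h', algebraMap_smul_one_tmul]

include hadm in
omit [IsLocalRing A] in
theorem eq_zero_of_unit_smul (u : O) (hu : IsUnit (algebraMap O A u)) (c : C) (h : u • c = 0) :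
    c = 0 := by
  apply hadm
  change (1 : A) ⊗ₜ[O] c = (1 : A) ⊗ₜ[O] (0 : C)
  rw [TensorProduct.tmul_zero]
  have h1 : algebraMap O A u • ((1 : A) ⊗ₜ[O] c) = 0 := by
    rw [algebraMap_smul_one_tmul, h, TensorProduct.tmul_zero]
  obtain ⟨v, hv⟩ := hu.exists_left_inv
  calc (1 : A) ⊗ₜ[O] c = (v * algebraMap O A u) • ((1 : A) ⊗ₜ[O] c) := by rw [hv, one_smul]
    _ = 0 := by rw [mul_smul, h1, smul_zero]

include hinj H hadm in
theorem trivial_aux [Module.Flat A (A ⊗[O] C)] {l : ℕ} (n : ℕ) :
    ∀ (s : Finset (Fin l)), s.card = n → ∀ (f : Fin l → O) (x : Fin l → C),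
      ∑ i ∈ s, f i • x i = 0 →
      ∃ (k : ℕ) (a : Fin l → Fin k → O) (y : Fin k → C),
        (∀ i ∈ s, x i = ∑ j, a i j • y j) ∧ ∀ j, ∑ i ∈ s, f i * a i j = 0 := by
  classical
  induction n with
  | zero =>
    intro s hs f x _
    rw [Finset.card_eq_zero] at hs
    subst hs
    exact ⟨0, fun _ => Fin.elim0, Fin.elim0, by simp, fun j => Fin.elim0 j⟩
  | succ n ih =>
    intro s hs f x hrel
    let ft : Fin l → A := fun i => if i ∈ s then algebraMap O A (f i) else 0
    let xt : Fin l → A ⊗[O] C := fun i => (1 : A) ⊗ₜ[O] x i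
    have hrelA : ∑ i, ft i • xt i = 0 := by
      rw [← Finset.sum_subset (Finset.subset_univ s) (fun i _ hi => by simp [ft, hi])]
      have : ∀ i ∈ s, ft i • xt i = (1 : A) ⊗ₜ[O] (f i • x i) := by
        intro i hi
        simp only [ft, xt, if_pos hi]
        exact algebraMap_smul_one_tmul _ _
      rw [Finset.sum_congr rfl this, ← TensorProduct.tmul_sum, hrel, TensorProduct.tmul_zero]
    obtain ⟨k, a, y, hxy, hfa⟩ := Module.Flat.isTrivialRelation_of_sum_smul_eq_zero hrelA
    choose u m hu hum using fun j => exists_smul_eq_one_tmul H (y j)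
    choose v hv using fun j => (hu j).exists_left_inv
    have hy : ∀ j, y j = v j • ((1 : A) ⊗ₜ[O] m j) := by
      intro j
      rw [← hum j, smul_smul, hv j, one_smul]
    let a' : Fin l → Fin k → A := fun i j => a i j * v j
    have hx' : ∀ i, xt i = ∑ j, a' i j • ((1 : A) ⊗ₜ[O] m j) := by
      intro i
      rw [hxy i]
      refine Finset.sum_congr rfl (fun j _ => ?_)
      rw [hy j, smul_smul]
    have hfa' : ∀ j, ∑ i ∈ s, algebraMap O A (f i) * a' i j = 0 := by
      intro j
      have h1 := hfa j
      rw [← Finset.sum_subset (Finset.subset_univ s) (fun i _ hi => by simp [ft, hi])] at h1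
      have h2 : ∑ i ∈ s, algebraMap O A (f i) * a' i j = (∑ i ∈ s, ft i * a i j) * v j := by
        rw [Finset.sum_mul]
        refine Finset.sum_congr rfl (fun i hi => ?_)
        simp only [ft, a', if_pos hi]
        ring
      rw [h2, h1, zero_mul]
    by_cases hall : ∀ i ∈ s, ∀ j, a' i j ∈ Set.range (algebraMap O A)
    · let b : Fin l → Fin k → O := fun i j =>
        if h : a' i j ∈ Set.range (algebraMap O A) then h.choose else 0
      have hb : ∀ i ∈ s, ∀ j, algebraMap O A (b i j) = a' i j := by
        intro i hi j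
        simp only [b, dif_pos (hall i hi j)]
        exact (hall i hi j).choose_spec
      refine ⟨k, b, m, ?_, ?_⟩
      · intro i hi
        apply hadm
        change xt i = (1 : A) ⊗ₜ[O] (∑ j, b i j • m j)
        rw [TensorProduct.tmul_sum, hx' i]
        refine Finset.sum_congr rfl (fun j _ => ?_)
        rw [← hb i hi j, algebraMap_smul_one_tmul]
      · intro j
        apply hinj
        rw [map_sum, map_zero, ← hfa' j]
        refine Finset.sum_congr rfl (fun i hi => ?_)
        rw [map_mul, hb i hi j]
    · push Not at hall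
      obtain ⟨i₁, hi₁, j₀, hnot⟩ := hall
      have hu₁ : IsUnit (a' i₁ j₀) := by
        rcases H (a' i₁ j₀) with h | ⟨o, ho⟩
        · exact absurd h hnot
        · exact IsUnit.of_mul_eq_one _ ho
      obtain ⟨i₀, hi₀, hu₀, hmax⟩ := exists_max H (fun i => a' i j₀) s ⟨i₁, hi₁, hu₁⟩
      choose! b hb using hmax
      have hb0 : b i₀ = 1 := by
        apply hinj
        have h1 := hb i₀ hi₀
        obtain ⟨w, hw⟩ := hu₀.exists_right_inv
        rw [map_one]
        calc algebraMap O A (b i₀) = algebraMap O A (b i₀) * (a' i₀ j₀ * w) := by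
              rw [hw, mul_one]
          _ = (algebraMap O A (b i₀) * a' i₀ j₀) * w := by ring
          _ = a' i₀ j₀ * w := by rw [← h1]
          _ = 1 := hw
      have hfb : ∑ i ∈ s, f i * b i = 0 := by
        apply hinj
        rw [map_sum, map_zero]
        obtain ⟨w, hw⟩ := hu₀.exists_right_inv
        have h1 : (∑ i ∈ s, algebraMap O A (f i * b i)) * a' i₀ j₀ = 0 := by
          rw [Finset.sum_mul, ← hfa' j₀]
          refine Finset.sum_congr rfl (fun i hi => ?_)
          rw [map_mul, mul_assoc, ← hb i hi]
        calc ∑ i ∈ s, algebraMap O A (f i * b i)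
            = (∑ i ∈ s, algebraMap O A (f i * b i)) * (a' i₀ j₀ * w) := by rw [hw, mul_one]
          _ = ((∑ i ∈ s, algebraMap O A (f i * b i)) * a' i₀ j₀) * w := by ring
          _ = 0 := by rw [h1, zero_mul]
      let x'' : Fin l → C := fun i => x i - b i • x i₀
      have hrel'' : ∑ i ∈ s.erase i₀, f i • x'' i = 0 := by
        have e1 := Finset.add_sum_erase s (fun i => f i • x i) hi₀
        have e2 := Finset.add_sum_erase s (fun i => f i * b i) hi₀
        rw [hrel] at e1
        rw [hfb] at e2
        simp only [hb0, mul_one] at e2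
        have e3 : ∑ i ∈ s.erase i₀, f i * b i = - f i₀ := by linear_combination e2
        have e4 : ∑ i ∈ s.erase i₀, f i • x i = - (f i₀ • x i₀) := eq_neg_of_add_eq_zero_right e1
        simp only [x'', smul_sub, Finset.sum_sub_distrib, smul_smul]
        rw [← Finset.sum_smul, e3, e4, neg_smul]
        abel
      obtain ⟨k', c, y', hxc, hfc⟩ := ih (s.erase i₀)
        (by rw [Finset.card_erase_of_mem hi₀, hs]; rfl) f x'' hrel''
      refine ⟨k' + 1, fun i => Fin.cons (b i) (if i = i₀ then 0 else c i),
        Fin.cons (x i₀) y', ?_, ?_⟩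
      · intro i hi
        rw [Fin.sum_univ_succ]
        simp only [Fin.cons_zero, Fin.cons_succ]
        by_cases hii : i = i₀
        · subst hii
          simp [hb0]
        · have h1 := hxc i (Finset.mem_erase.mpr ⟨hii, hi⟩)
          simp only [if_neg hii]
          rw [← h1]
          simp [x'']
      · intro j
        refine Fin.cases ?_ (fun j' => ?_) j
        · simp only [Fin.cons_zero]
          exact hfb
        · simp only [Fin.cons_succ]
          rw [← Finset.add_sum_erase s _ hi₀]
          simp only [if_true, Pi.zero_apply, mul_zero, zero_add]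
          rw [← hfc j']
          refine Finset.sum_congr rfl (fun i hi => ?_)
          rw [if_neg (Finset.ne_of_mem_erase hi)]

include hinj H hadm in
/-- **Descent of flatness along a semi-valuation ring.** -/
theorem flat_of_semival [Module.Flat A (A ⊗[O] C)] : Module.Flat O C := by
  apply Module.Flat.of_forall_isTrivialRelation
  intro l f x hrel
  obtain ⟨k, a, y, h1, h2⟩ := trivial_aux hinj H hadm (Finset.univ : Finset (Fin l)).card
    Finset.univ rfl f x hrel
  exact ⟨k, a, y, fun i => h1 i (Finset.mem_univ i), h2⟩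

end Flat

end Groth.Agent.H55.SemiVal
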