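import Mathlib
import Groth.Agent.H55.SemiVal
import Groth.Agent.Lead.NagataVal

/-!
# Semi-valuation rings: descent of finite presentation (S17899, part 2)
-/

set_option autoImplicit false
set_option linter.style.haveILetI false
set_option linter.deprecated false

universe u

open TensorProduct IsLocalRing MvPolynomial

namespace Groth.Agent.H55.SemiVal

section FP

variable {O A : Type u} [CommRing O] [CommRing A] [IsLocalRing A] [Algebra O A]
  (hinj : Function.Injective (algebraMap O A))
  (H : ∀ a : A, a ∈ Set.range (algebraMap O A) ∨ ∃ o : O, a * algebraMap O A o = 1)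
  {B : Type u} [CommRing B] [Algebra O B]
  (hadm : Function.Injective (fun c : B => (1 : A) ⊗ₜ[O] c))
  {n : ℕ} (ψ : MvPolynomial (Fin n) O →ₐ[O] B) (hψ : Function.Surjective ψ)

/-- the base change of the presentation `ψ` to `A`. -/
noncomputable def psiA : MvPolynomial (Fin n) A →ₐ[A] A ⊗[O] B :=
  MvPolynomial.aeval (fun i => (1 : A) ⊗ₜ[O] ψ (X i))

omit [IsLocalRing A] in
theorem psiA_map (q : MvPolynomial (Fin n) O) :
    psiA (A := A) ψ (MvPolynomial.map (algebraMap O A) q) = (1 : A) ⊗ₜ[O] ψ q := by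
  induction q using MvPolynomial.induction_on with
  | C o =>
    rw [MvPolynomial.map_C, psiA, MvPolynomial.aeval_C, Algebra.TensorProduct.algebraMap_apply,
      MvPolynomial.algHom_C, Algebra.algebraMap_eq_smul_one o (A := B), ← TensorProduct.smul_tmul,
      Algebra.smul_def, mul_one]
    rfl
  | add p q hp hq => rw [map_add, map_add, map_add, hp, hq, TensorProduct.tmul_add]
  | mul_X p i hp =>
    rw [map_mul, map_mul, hp, MvPolynomial.map_X, map_mul]
    have : psiA (A := A) ψ (X i) = (1 : A) ⊗ₜ[O] ψ (X i) := by simp [psiA]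
    rw [this, Algebra.TensorProduct.tmul_mul_tmul, mul_one]

include H in
/-- clearing denominators of a polynomial over `A`. -/
theorem exists_clear (q : MvPolynomial (Fin n) A) :
    ∃ (u : O) (q₀ : MvPolynomial (Fin n) O), IsUnit (algebraMap O A u) ∧
      C (algebraMap O A u) * q = MvPolynomial.map (algebraMap O A) q₀ := by
  induction q using MvPolynomial.induction_on with
  | C a =>
    obtain ⟨a₀, u, hu, h⟩ := exists_frac H a
    exact ⟨u, C a₀, hu, by rw [← C_mul, mul_comm, h, MvPolynomial.map_C]⟩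
  | add p q hp hq =>
    obtain ⟨u, p₀, hu, h⟩ := hp
    obtain ⟨u', q₀, hu', h'⟩ := hq
    refine ⟨u * u', C u' * p₀ + C u * q₀, by rw [map_mul]; exact hu.mul hu', ?_⟩
    have e1 : MvPolynomial.map (algebraMap O A) (C u' * p₀ + C u * q₀) =
        C (algebraMap O A u') * (C (algebraMap O A u) * p) +
          C (algebraMap O A u) * (C (algebraMap O A u') * q) := by
      rw [map_add, map_mul, map_mul, MvPolynomial.map_C, MvPolynomial.map_C, h, h']
    rw [e1, map_mul, C_mul]
    ring
  | mul_X p i hp =>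
    obtain ⟨u, p₀, hu, h⟩ := hp
    exact ⟨u, p₀ * X i, hu, by rw [map_mul, MvPolynomial.map_X, ← h]; ring⟩

include H hψ in
theorem psiA_surjective : Function.Surjective (psiA (A := A) ψ) := by
  intro z
  obtain ⟨u, c, hu, h⟩ := exists_smul_eq_one_tmul H z
  obtain ⟨q, rfl⟩ := hψ c
  obtain ⟨v, hv⟩ := hu.exists_left_inv
  refine ⟨v • MvPolynomial.map (algebraMap O A) q, ?_⟩
  rw [map_smul, psiA_map, ← h, smul_smul, hv, one_smul]

include hadm in
omit [IsLocalRing A] in
theorem mem_ker_of_psiA_map_eq_zero (q₀ : MvPolynomial (Fin n) O)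
    (h : psiA (A := A) ψ (MvPolynomial.map (algebraMap O A) q₀) = 0) : ψ q₀ = 0 := by
  rw [psiA_map] at h
  apply hadm
  change (1 : A) ⊗ₜ[O] ψ q₀ = (1 : A) ⊗ₜ[O] (0 : B)
  rw [h, TensorProduct.tmul_zero]

end FP

end Groth.Agent.H55.SemiVal
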