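import Mathlib
import Groth.Agent.H55.SemiVal2

/-!
# Semi-valuation rings: descent of finite presentation (S17899, part 3)
-/

set_option autoImplicit false
set_option linter.style.haveILetI false
set_option linter.deprecated false

universe u

open TensorProduct IsLocalRing MvPolynomial

namespace Groth.Agent.H55.SemiVal

section Nagata

/-- a ring map out of a polynomial ring over a valuation ring whose image is torsion-free has
finitely generated kernel (Nagata). -/
theorem ker_fg_of_torsionFree {R' : Type*} [CommRing R'] [IsDomain R'] [ValuationRing R']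
    {T : Type*} [CommRing T] {n : ℕ} (Ψ : MvPolynomial (Fin n) R' →+* T)
    (htf : ∀ (r : R') (x : MvPolynomial (Fin n) R'), r ≠ 0 → Ψ (C r * x) = 0 → Ψ x = 0) :
    (RingHom.ker Ψ).FG := by
  let J : Ideal (MvPolynomial (Fin n) R') := RingHom.ker Ψ
  haveI : Module.FinitePresentation (MvPolynomial (Fin n) R') (MvPolynomial (Fin n) R' ⧸ J) := by
    apply Groth.Agent.Lead.NagataVal.finitePresentation_of_torsionFree (σ := Fin n)
      (MvPolynomial (Fin n) R' ⧸ J)
    intro r x hr hx
    obtain ⟨x, rfl⟩ := Ideal.Quotient.mk_surjective x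
    have h1 : r • (Ideal.Quotient.mk J x) = Ideal.Quotient.mk J (C r * x) := by
      rw [← MvPolynomial.smul_eq_C_mul]
      rfl
    rw [h1, Ideal.Quotient.eq_zero_iff_mem, RingHom.mem_ker] at hx
    rw [Ideal.Quotient.eq_zero_iff_mem, RingHom.mem_ker]
    exact htf r x hr hx
  have := Module.FinitePresentation.fg_ker (Submodule.mkQ J) (Submodule.mkQ_surjective J)
  rwa [Submodule.ker_mkQ] at this

end Nagata

section FP

variable {O A : Type u} [CommRing O] [CommRing A] [IsLocalRing A] [Algebra O A]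
  (hinj : Function.Injective (algebraMap O A))
  (H : ∀ a : A, a ∈ Set.range (algebraMap O A) ∨ ∃ o : O, a * algebraMap O A o = 1)
  {B : Type u} [CommRing B] [Algebra O B]
  (hadm : Function.Injective (fun c : B => (1 : A) ⊗ₜ[O] c))
  {n : ℕ} (ψ : MvPolynomial (Fin n) O →ₐ[O] B) (hψ : Function.Surjective ψ)

include hinj H hadm hψ in
/-- (★): a finite subset of `ker ψ` whose span contains `𝔪 · ker ψ`. -/
theorem exists_finset_mul_mem [Algebra.FinitePresentation A (A ⊗[O] B)] :
    ∃ Hfin : Finset (MvPolynomial (Fin n) O), (∀ h ∈ Hfin, ψ h = 0) ∧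
      ∀ j, ψ j = 0 → ∀ π : O, algebraMap O A π ∈ maximalIdeal A →
        C π * j ∈ Ideal.span (Hfin : Set (MvPolynomial (Fin n) O)) := by
  classical
  have hK : (RingHom.ker (psiA (A := A) ψ).toRingHom).FG :=
    Algebra.FinitePresentation.ker_fG_of_surjective (psiA ψ) (psiA_surjective H ψ hψ)
  obtain ⟨SA, hSA⟩ := hK
  choose uu qq huu hqq using fun h' : MvPolynomial (Fin n) A => exists_clear (n := n) H h'
  refine ⟨SA.image qq, ?_, ?_⟩
  · intro h hh
    obtain ⟨h', hh', rfl⟩ := Finset.mem_image.mp hh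
    apply mem_ker_of_psiA_map_eq_zero hadm ψ
    rw [← hqq h', map_mul]
    have h0 : h' ∈ RingHom.ker (psiA (A := A) ψ).toRingHom := by
      rw [← hSA]; exact Ideal.subset_span hh'
    have h1 : psiA (A := A) ψ h' = 0 := h0
    rw [h1, mul_zero]
  · intro j hj π hπ
    have hjA : MvPolynomial.map (algebraMap O A) j ∈ Ideal.span (SA : Set _) := by
      rw [hSA]
      change psiA (A := A) ψ (MvPolynomial.map (algebraMap O A) j) = 0
      rw [psiA_map, hj, TensorProduct.tmul_zero]
    obtain ⟨α, -, hα⟩ := Submodule.mem_span_finset.mp hjA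
    choose vv hvv using fun h' => (huu h').exists_left_inv
    have hβ : ∀ h', ∃ β₀ : MvPolynomial (Fin n) O,
        MvPolynomial.map (algebraMap O A) β₀ = C (algebraMap O A π * vv h') * α h' := by
      intro h'
      have : C (algebraMap O A π * vv h') * α h' ∈
          Set.range (MvPolynomial.map (σ := Fin n) (algebraMap O A)) := by
        rw [MvPolynomial.mem_range_map_iff_coeffs_subset]
        intro c hc
        rw [Finset.mem_coe, MvPolynomial.mem_coeffs_iff] at hc
        obtain ⟨m, -, rfl⟩ := hc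
        rw [MvPolynomial.coeff_C_mul]
        apply mem_range_of_mem_maximalIdeal H
        rw [mul_assoc]
        exact Ideal.mul_mem_right _ _ hπ
      exact this
    choose β hβ using hβ
    have hsum : C π * j = ∑ h' ∈ SA, β h' * qq h' := by
      apply MvPolynomial.map_injective _ hinj
      rw [map_mul, MvPolynomial.map_C, map_sum, ← hα, Finset.mul_sum]
      refine Finset.sum_congr rfl (fun h' _ => ?_)
      rw [map_mul, hβ, ← hqq h', smul_eq_mul]
      have e : (C (vv h') : MvPolynomial (Fin n) A) * C (algebraMap O A (uu h')) = 1 := by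
        rw [← C_mul, hvv, C_1]
      rw [C_mul]
      linear_combination (-(C (algebraMap O A π) * α h' * h')) * e
    rw [hsum]
    exact Ideal.sum_mem _ (fun h' hh' => Ideal.mul_mem_left _ _
      (Ideal.subset_span (Finset.mem_coe.mpr (Finset.mem_image_of_mem _ hh'))))


variable (O A) in
/-- the prime of `O` below the maximal ideal of `A`. -/
abbrev pO : Ideal O := (maximalIdeal A).comap (algebraMap O A)

include hinj H in
theorem valuationRing_quot : ValuationRing (O ⧸ pO O A) := by
  haveI : PreValuationRing (O ⧸ pO O A) := ⟨fun a b => by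
    obtain ⟨a, rfl⟩ := Ideal.Quotient.mk_surjective a
    obtain ⟨b, rfl⟩ := Ideal.Quotient.mk_surjective b
    by_cases hb : algebraMap O A b ∈ maximalIdeal A
    · refine ⟨0, Or.inl ?_⟩
      rw [mul_zero, eq_comm, Ideal.Quotient.eq_zero_iff_mem]
      exact hb
    · have hbu : IsUnit (algebraMap O A b) := by
        by_contra h
        exact hb ((mem_maximalIdeal _).mpr h)
      rcases compare H (algebraMap O A a) (algebraMap O A b) hbu with ⟨o, ho⟩ | ⟨-, o, ho⟩
      · refine ⟨Ideal.Quotient.mk _ o, Or.inr ?_⟩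
        rw [← map_mul]
        congr 1
        apply hinj
        rw [map_mul, ho]
        ring
      · refine ⟨Ideal.Quotient.mk _ o, Or.inl ?_⟩
        rw [← map_mul]
        congr 1
        apply hinj
        rw [map_mul, ho]
        ring⟩
  exact ValuationRing.mk

include hinj H in
/-- dividing an element of `pO B` by a unit. -/
theorem exists_smul_of_mem_pB (z : B) (hz : z ∈ (pO O A).map (algebraMap O B)) (r : O)
    (hr : IsUnit (algebraMap O A r)) :
    ∃ z' ∈ (pO O A).map (algebraMap O B), z = r • z' := by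
  rw [Ideal.map, Ideal.span] at hz
  induction hz using Submodule.span_induction with
  | mem z hz =>
    obtain ⟨p, hp, rfl⟩ := hz
    obtain ⟨w, hw⟩ := hr.exists_left_inv
    have hm : algebraMap O A p * w ∈ maximalIdeal A := Ideal.mul_mem_right _ _ hp
    obtain ⟨p', hp'⟩ := mem_range_of_mem_maximalIdeal H _ hm
    refine ⟨algebraMap O B p', Ideal.mem_map_of_mem _ ?_, ?_⟩
    · change algebraMap O A p' ∈ maximalIdeal A
      rw [hp']
      exact hm
    · rw [Algebra.smul_def, ← map_mul]
      congr 1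
      apply hinj
      rw [map_mul, hp']
      calc algebraMap O A p = algebraMap O A p * (w * algebraMap O A r) := by rw [hw, mul_one]
        _ = algebraMap O A r * (algebraMap O A p * w) := by ring
  | zero => exact ⟨0, Ideal.zero_mem _, by simp⟩
  | add x y _ _ hx hy =>
    obtain ⟨x', hx', rfl⟩ := hx
    obtain ⟨y', hy', rfl⟩ := hy
    exact ⟨x' + y', Ideal.add_mem _ hx' hy', by rw [smul_add]⟩
  | smul b x _ hx =>
    obtain ⟨x', hx', rfl⟩ := hx
    exact ⟨b * x', Ideal.mul_mem_left _ _ hx', by rw [smul_eq_mul, mul_smul_comm]⟩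

include hψ in
omit [IsLocalRing A] in
theorem exists_of_mem_pB [IsLocalRing A] (z : B) (hz : z ∈ (pO O A).map (algebraMap O B)) :
    ∃ q : MvPolynomial (Fin n) O, ψ q = z ∧
      MvPolynomial.map (Ideal.Quotient.mk (pO O A)) q = 0 := by
  rw [Ideal.map, Ideal.span] at hz
  induction hz using Submodule.span_induction with
  | mem z hz =>
    obtain ⟨p, hp, rfl⟩ := hz
    refine ⟨C p, ?_, ?_⟩
    · exact ψ.commutes p
    · rw [MvPolynomial.map_C, Ideal.Quotient.eq_zero_iff_mem.mpr hp, C_0]
  | zero => exact ⟨0, map_zero _, map_zero _⟩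
  | add x y _ _ hx hy =>
    obtain ⟨qx, rfl, hqx⟩ := hx
    obtain ⟨qy, rfl, hqy⟩ := hy
    exact ⟨qx + qy, map_add _ _ _, by rw [map_add, hqx, hqy, add_zero]⟩
  | smul b x _ hx =>
    obtain ⟨qx, rfl, hqx⟩ := hx
    obtain ⟨qb, rfl⟩ := hψ b
    exact ⟨qb * qx, by rw [map_mul, smul_eq_mul], by rw [map_mul, hqx, mul_zero]⟩

/-- reduction of the presentation modulo `pO`. -/
noncomputable def psiBar :
    MvPolynomial (Fin n) (O ⧸ pO O A) →+* B ⧸ (pO O A).map (algebraMap O B) :=
  MvPolynomial.eval₂Hom (Ideal.quotientMap _ (algebraMap O B) Ideal.le_comap_map)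
    (fun i => Ideal.Quotient.mk _ (ψ (X i)))

theorem psiBar_map (q : MvPolynomial (Fin n) O) :
    psiBar (A := A) ψ (MvPolynomial.map (Ideal.Quotient.mk (pO O A)) q) =
      Ideal.Quotient.mk _ (ψ q) := by
  induction q using MvPolynomial.induction_on with
  | C o =>
    rw [MvPolynomial.map_C, psiBar, MvPolynomial.coe_eval₂Hom, MvPolynomial.eval₂_C,
      Ideal.quotientMap_mk]
    congr 1
    exact (ψ.commutes o).symm
  | add p q hp hq => rw [map_add, map_add, hp, hq, map_add, map_add]
  | mul_X p i hp =>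
    rw [map_mul, map_mul, hp, MvPolynomial.map_X, map_mul, map_mul]
    congr 1
    simp [psiBar]

include hinj H hadm in
theorem psiBar_torsionFree (r : O ⧸ pO O A) (x : MvPolynomial (Fin n) (O ⧸ pO O A)) (hr : r ≠ 0)
    (h : psiBar (A := A) ψ (C r * x) = 0) : psiBar (A := A) ψ x = 0 := by
  obtain ⟨r, rfl⟩ := Ideal.Quotient.mk_surjective r
  obtain ⟨x, rfl⟩ := MvPolynomial.map_surjective _ Ideal.Quotient.mk_surjective x
  have hru : IsUnit (algebraMap O A r) := by
    by_contra hn
    exact hr (Ideal.Quotient.eq_zero_iff_mem.mpr ((mem_maximalIdeal _).mpr hn))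
  rw [← MvPolynomial.map_C, ← map_mul, psiBar_map, Ideal.Quotient.eq_zero_iff_mem] at h
  obtain ⟨z', hz', hz⟩ := exists_smul_of_mem_pB hinj H _ h r hru
  have hx : ψ x = z' := by
    have h2 : r • (ψ x - z') = 0 := by
      rw [smul_sub, ← hz, ← MvPolynomial.smul_eq_C_mul, map_smul, sub_self]
    exact sub_eq_zero.mp (eq_zero_of_unit_smul hadm r hru _ h2)
  rw [psiBar_map, Ideal.Quotient.eq_zero_iff_mem, hx]
  exact hz'

include hinj H hadm hψ in
/-- (★★): a finite subset of `ker ψ` generating it modulo `pO`. -/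
theorem exists_finset_sub_mem :
    ∃ Gfin : Finset (MvPolynomial (Fin n) O), (∀ g ∈ Gfin, ψ g = 0) ∧
      ∀ j, ψ j = 0 → ∃ g ∈ Ideal.span (Gfin : Set (MvPolynomial (Fin n) O)),
        MvPolynomial.map (Ideal.Quotient.mk (pO O A)) (j - g) = 0 := by
  classical
  haveI := valuationRing_quot hinj H
  obtain ⟨S', hS'⟩ := ker_fg_of_torsionFree (psiBar (A := A) ψ)
    (fun r x hr h => psiBar_torsionFree hinj H hadm ψ r x hr h)
  have hlift : ∀ s' : MvPolynomial (Fin n) (O ⧸ pO O A), ∃ g : MvPolynomial (Fin n) O,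
      s' ∈ S' → (ψ g = 0 ∧ MvPolynomial.map (Ideal.Quotient.mk (pO O A)) g = s') := by
    intro s'
    obtain ⟨s, rfl⟩ := MvPolynomial.map_surjective _ Ideal.Quotient.mk_surjective s'
    by_cases hs : MvPolynomial.map (Ideal.Quotient.mk (pO O A)) s ∈ S'
    · have h0 : psiBar (A := A) ψ (MvPolynomial.map (Ideal.Quotient.mk (pO O A)) s) = 0 := by
        have : MvPolynomial.map (Ideal.Quotient.mk (pO O A)) s ∈
            RingHom.ker (psiBar (A := A) ψ) := by
          rw [← hS']
          exact Ideal.subset_span hs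
        exact this
      rw [psiBar_map, Ideal.Quotient.eq_zero_iff_mem] at h0
      obtain ⟨q, hq, hq0⟩ := exists_of_mem_pB ψ hψ _ h0
      exact ⟨s - q, fun _ => ⟨by rw [map_sub, hq, sub_self], by rw [map_sub, hq0, sub_zero]⟩⟩
    · exact ⟨0, fun h => absurd h hs⟩
  choose g hg using hlift
  refine ⟨S'.image g, ?_, ?_⟩
  · intro x hx
    obtain ⟨s', hs', rfl⟩ := Finset.mem_image.mp hx
    exact (hg s' hs').1
  · intro j hj
    have hjm : MvPolynomial.map (Ideal.Quotient.mk (pO O A)) j ∈ Ideal.span (S' : Set _) := by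
      rw [hS']
      change psiBar (A := A) ψ (MvPolynomial.map (Ideal.Quotient.mk (pO O A)) j) = 0
      rw [psiBar_map, hj, map_zero]
    obtain ⟨α, -, hα⟩ := Submodule.mem_span_finset.mp hjm
    choose a ha using fun s' =>
      MvPolynomial.map_surjective _ Ideal.Quotient.mk_surjective (α s')
    refine ⟨∑ s' ∈ S', a s' * g s', Ideal.sum_mem _ (fun s' hs' => Ideal.mul_mem_left _ _
      (Ideal.subset_span (Finset.mem_coe.mpr (Finset.mem_image_of_mem _ hs')))), ?_⟩
    rw [map_sub, map_sum, ← hα, sub_eq_zero]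
    refine Finset.sum_congr rfl (fun s' hs' => ?_)
    rw [map_mul, ha, (hg s' hs').2, smul_eq_mul]


include hinj H hadm hψ in
/-- (iii): elements of `ker ψ` with coefficients in `pO` are in the span of `Hfin`. -/
theorem mem_span_of_map_eq_zero [Module.Flat A (A ⊗[O] B)]
    (Hfin : Finset (MvPolynomial (Fin n) O))
    (hH : ∀ j, ψ j = 0 → ∀ π : O, algebraMap O A π ∈ maximalIdeal A →
        C π * j ∈ Ideal.span (Hfin : Set (MvPolynomial (Fin n) O)))
    (j' : MvPolynomial (Fin n) O) (hj' : ψ j' = 0)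
    (h0 : MvPolynomial.map (Ideal.Quotient.mk (pO O A)) j' = 0) :
    j' ∈ Ideal.span (Hfin : Set (MvPolynomial (Fin n) O)) := by
  classical
  haveI : Module.Flat O B := flat_of_semival hinj H hadm
  have hcoef : ∀ μ, algebraMap O A (coeff μ j') ∈ maximalIdeal A := by
    intro μ
    have := congrArg (coeff μ) h0
    rw [MvPolynomial.coeff_map, coeff_zero, Ideal.Quotient.eq_zero_iff_mem] at this
    exact this
  have hdecomp : j' = ∑ μ ∈ j'.support, C (coeff μ j') * monomial μ 1 := by
    conv_lhs => rw [← MvPolynomial.support_sum_monomial_coeff j']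
    refine Finset.sum_congr rfl (fun μ _ => ?_)
    rw [MvPolynomial.C_mul_monomial, mul_one]
  have hrel : ∑ μ : ↥j'.support, coeff μ.1 j' • ψ (monomial μ.1 1) = 0 := by
    rw [Finset.sum_coe_sort j'.support (fun μ => coeff μ j' • ψ (monomial μ 1))]
    rw [← hj']
    conv_rhs => rw [hdecomp]
    rw [map_sum]
    refine Finset.sum_congr rfl (fun μ _ => ?_)
    rw [← MvPolynomial.smul_eq_C_mul, map_smul]
  obtain ⟨k, a, y, hxy, hfa⟩ := Module.Flat.isTrivialRelation_of_sum_smul_eq_zero (R := O) (M := B)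
    (ι := ↥j'.support) (f := fun μ => coeff μ.1 j') (x := fun μ => ψ (monomial μ.1 1)) hrel
  choose q hq using fun ν => hψ (y ν)
  let jj : ↥j'.support → MvPolynomial (Fin n) O :=
    fun μ => monomial μ.1 1 - ∑ ν, C (a μ ν) * q ν
  have hjj : ∀ μ, ψ (jj μ) = 0 := by
    intro μ
    have hxy' : ψ (monomial μ.1 1) = ∑ ν, a μ ν • y ν := hxy μ
    simp only [jj, map_sub, map_sum]
    rw [hxy', sub_eq_zero]
    refine Finset.sum_congr rfl (fun ν _ => ?_)
    rw [← MvPolynomial.smul_eq_C_mul, map_smul, hq]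
  have hsum : j' = ∑ μ : ↥j'.support, C (coeff μ.1 j') * jj μ := by
    have e1 : ∑ μ : ↥j'.support, C (coeff μ.1 j') * monomial μ.1 1 = j' := by
      rw [Finset.sum_coe_sort j'.support (fun μ => C (coeff μ j') * monomial μ 1)]
      exact hdecomp.symm
    have e2 : ∑ μ : ↥j'.support, C (coeff μ.1 j') * ∑ ν, C (a μ ν) * q ν = 0 := by
      simp only [Finset.mul_sum]
      rw [Finset.sum_comm]
      refine Finset.sum_eq_zero (fun ν _ => ?_)
      have : ∀ μ : ↥j'.support, C (coeff μ.1 j') * (C (a μ ν) * q ν) =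
          C (coeff μ.1 j' * a μ ν) * q ν := by
        intro μ
        rw [C_mul, mul_assoc]
      have hfa' : ∑ μ : ↥j'.support, coeff μ.1 j' * a μ ν = 0 := hfa ν
      rw [Finset.sum_congr rfl (fun μ _ => this μ), ← Finset.sum_mul, ← map_sum, hfa', C_0,
        zero_mul]
    simp only [jj, mul_sub, Finset.sum_sub_distrib]
    rw [e1, e2, sub_zero]
  rw [hsum]
  exact Ideal.sum_mem _ (fun μ _ => hH _ (hjj μ) _ (hcoef μ.1))

include hinj H hadm hψ in
/-- **Descent of finite presentation along a semi-valuation ring**: the kernel of a presentation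
is finitely generated. -/
theorem ker_fg_of_semival [Module.Flat A (A ⊗[O] B)] [Algebra.FinitePresentation A (A ⊗[O] B)] :
    (RingHom.ker ψ.toRingHom).FG := by
  classical
  obtain ⟨Hfin, hH0, hH⟩ := exists_finset_mul_mem hinj H hadm ψ hψ
  obtain ⟨Gfin, hG0, hG⟩ := exists_finset_sub_mem hinj H hadm ψ hψ
  refine ⟨Gfin ∪ Hfin, le_antisymm ?_ ?_⟩
  · rw [Ideal.span_le]
    intro x hx
    rcases Finset.mem_union.mp (Finset.mem_coe.mp hx) with hx | hx
    · exact hG0 x hx
    · exact hH0 x hx
  · intro j hj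
    have hj0 : ψ j = 0 := hj
    obtain ⟨g, hg, hjg⟩ := hG j hj0
    have hg0 : ψ g = 0 := by
      have : Ideal.span (Gfin : Set (MvPolynomial (Fin n) O)) ≤ RingHom.ker ψ.toRingHom := by
        rw [Ideal.span_le]
        intro x hx
        exact hG0 x hx
      exact this hg
    have h1 : j - g ∈ Ideal.span (Hfin : Set (MvPolynomial (Fin n) O)) :=
      mem_span_of_map_eq_zero hinj H hadm ψ hψ Hfin hH (j - g)
        (by rw [map_sub, hj0, hg0, sub_zero]) hjg
    have h2 : j = g + (j - g) := by ring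
    rw [h2]
    refine Ideal.add_mem _ ?_ ?_
    · exact Ideal.span_mono (by rw [Finset.coe_union]; exact Set.subset_union_left) hg
    · exact Ideal.span_mono (by rw [Finset.coe_union]; exact Set.subset_union_right) h1

include hinj H hadm in
/-- **Descent of flatness and finite presentation along a semi-valuation ring.** -/
theorem flat_and_fp_of_semival [Algebra.FiniteType O B] [Module.Flat A (A ⊗[O] B)]
    [Algebra.FinitePresentation A (A ⊗[O] B)] :
    Module.Flat O B ∧ Algebra.FinitePresentation O B := by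
  refine ⟨flat_of_semival hinj H hadm, ?_⟩
  obtain ⟨n, ψ, hψ⟩ := Algebra.FiniteType.iff_quotient_mvPolynomial''.1
    (inferInstance : Algebra.FiniteType O B)
  exact ⟨n, ψ, hψ, ker_fg_of_semival hinj H hadm ψ hψ⟩

end FP

end Groth.Agent.H55.SemiVal
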