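import Groth.Agent.H55.FFUnram
import Groth.Agent.H55.FFGeom4
import Groth.Agent.H55.FFConstExt
import Groth.Agent.H55.FFHyper
import Groth.Agent.H55.FrobLift
import Mathlib

/-!
A geometric function field has infinitely many places with separable residue field.
-/

set_option autoImplicit false

namespace Groth.Agent.H55

open FunFld WithZero Polynomial IntermediateField IsLocalRing

open scoped Pointwise

section SepPlaces

variable {k K K' : Type*} [Field k] [Field K] [Field K'] [Algebra k K] [Algebra K K']
  [Algebra k K'] [IsScalarTower k K K']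

/-- If the inertia group of `Q` is trivial then the residue field extension is Galois. -/
theorem isGalois_residue_of_inertia_eq_bot [FiniteDimensional K K'] [IsGalois K K']
    (hK : G.IsFF1 k K) {Q : Place k K'} {P : Place k K} {e : ℕ} (he : IsOverWith Q P e)
    (hI : (Q.O).inertiaSubgroup K = ⊥) :
    @IsGalois (ResidueField P.O) _ (ResidueField Q.O) _ (resExt he).toAlgebra := by
  classical
  have hK' : G.IsFF1 k K' := isFF1_of_finite hK
  have hfin : FiniteDimensional k (ResidueField Q.O) := G.residue_finiteDimensional hK' Q
  letI : Algebra (ResidueField P.O) (ResidueField Q.O) := (resExt he).toAlgebra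
  have htower : IsScalarTower k (ResidueField P.O) (ResidueField Q.O) :=
    IsScalarTower.of_algebraMap_eq (fun c => (resExt_algebraMap he c).symm)
  haveI hfin2 : FiniteDimensional (ResidueField P.O) (ResidueField Q.O) :=
    @Module.Finite.right k (ResidueField P.O) (ResidueField Q.O) _ _ _ _ _ _ htower hfin
  have hmul : Q.deg = P.deg * Module.finrank (ResidueField P.O) (ResidueField Q.O) :=
    (@Module.finrank_mul_finrank k (ResidueField P.O) (ResidueField Q.O) _ _ _ _ _ _ htower
      _ _ _ _).symm
  obtain ⟨ρ, hρ⟩ : ∃ ρ : (Q.O).decompositionSubgroup K →* RingAut (ResidueField Q.O),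
      ρ = MulSemiringAction.toRingAut ((Q.O).decompositionSubgroup K) (ResidueField Q.O) :=
    ⟨_, rfl⟩
  have hker : (Q.O).inertiaSubgroup K = ρ.ker := by rw [hρ]; rfl
  have h1 : Nat.card ((Q.O).decompositionSubgroup K) = Nat.card ρ.range * Nat.card ρ.ker := by
    rw [Subgroup.card_eq_card_quotient_mul_card_subgroup ρ.ker]
    congr 1
    exact Nat.card_congr (QuotientGroup.quotientKerEquivRange ρ).toEquiv
  have hfixP : ∀ (g : (Q.O).decompositionSubgroup K) (a : ResidueField P.O),
      ρ g (algebraMap (ResidueField P.O) (ResidueField Q.O) a)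
        = algebraMap (ResidueField P.O) (ResidueField Q.O) a := by
    intro g a
    obtain ⟨a₀, rfl⟩ := residue_surjective a
    rw [hρ]
    show g • residue Q.O (incO he a₀) = residue Q.O (incO he a₀)
    rw [← ResidueField.residue_smul]
    congr 1
    apply Subtype.ext
    show (g : K' ≃ₐ[K] K') (algebraMap K K' a₀) = algebraMap K K' a₀
    exact (g : K' ≃ₐ[K] K').commutes a₀
  have h2 : Nat.card ρ.range ≤
      Nat.card ((ResidueField Q.O) ≃ₐ[ResidueField P.O] (ResidueField Q.O)) := by
    let Ψ : ρ.range → ((ResidueField Q.O) ≃ₐ[ResidueField P.O] (ResidueField Q.O)) := fun r =>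
      AlgEquiv.ofRingEquiv (f := (r.1 : ResidueField Q.O ≃+* ResidueField Q.O)) (by
        obtain ⟨g, hg⟩ := r.2
        intro a
        rw [← hg]
        exact hfixP g a)
    have hΨ : Function.Injective Ψ := by
      intro r r' h
      apply Subtype.ext
      ext z
      exact congrArg (fun f : (ResidueField Q.O) ≃ₐ[ResidueField P.O] (ResidueField Q.O) => f z) h
    exact Nat.card_le_card_of_injective Ψ hΨ
  have h3 : Nat.card ((ResidueField Q.O) ≃ₐ[ResidueField P.O] (ResidueField Q.O)) ≤
      Module.finrank (ResidueField P.O) (ResidueField Q.O) := by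
    rw [Nat.card_eq_fintype_card]
    exact AlgEquiv.card_le
  have hker1 : Nat.card ρ.ker = 1 := by
    rw [← hker, hI]; exact Subgroup.card_bot
  have hD := G.card_decomposition_mul_deg hK Q P e he
  have hepos := isOverWith_pos he
  have hPpos := G.deg_pos hK P
  have hDf : Module.finrank (ResidueField P.O) (ResidueField Q.O) ≤
      Nat.card ((Q.O).decompositionSubgroup K) := by
    rw [hmul] at hD
    have h4 : Nat.card ((Q.O).decompositionSubgroup K) * P.deg =
        (e * Module.finrank (ResidueField P.O) (ResidueField Q.O)) * P.deg := by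
      rw [hD]; ring
    have h5 := Nat.eq_of_mul_eq_mul_right hPpos h4
    rw [h5]
    exact Nat.le_mul_of_pos_left _ hepos
  apply IsGalois.of_card_aut_eq_finrank
  rw [h1, hker1, mul_one] at hDf
  omega

/-- Trivial inertia over a rational place: the residue field is separable over `k`. -/
theorem isSeparable_residue_of_inertia_eq_bot [FiniteDimensional K K'] [IsGalois K K']
    (hK : G.IsFF1 k K) {Q : Place k K'} {P : Place k K} {e : ℕ} (he : IsOverWith Q P e)
    (hI : (Q.O).inertiaSubgroup K = ⊥) (hP : P.deg = 1) :
    Algebra.IsSeparable k (ResidueField Q.O) := by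
  have hgal := isGalois_residue_of_inertia_eq_bot hK he hI
  letI : Algebra (ResidueField P.O) (ResidueField Q.O) := (resExt he).toAlgebra
  have htower : IsScalarTower k (ResidueField P.O) (ResidueField Q.O) :=
    IsScalarTower.of_algebraMap_eq (fun c => (resExt_algebraMap he c).symm)
  haveI : Algebra.IsSeparable (ResidueField P.O) (ResidueField Q.O) := hgal.to_isSeparable
  haveI : Algebra.IsSeparable k (ResidueField P.O) := by
    have h1 : Module.finrank k (ResidueField P.O) = 1 := hP
    have h2 : (⊥ : Subalgebra k (ResidueField P.O)) = ⊤ :=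
      Subalgebra.bot_eq_top_of_finrank_eq_one h1
    refine ⟨fun z => ?_⟩
    have hz : z ∈ (⊥ : Subalgebra k (ResidueField P.O)) := by rw [h2]; trivial
    obtain ⟨c, rfl⟩ := Algebra.mem_bot.mp hz
    exact isSeparable_algebraMap c
  exact Algebra.IsSeparable.trans k (ResidueField P.O) (ResidueField Q.O)

/-- In a rational function field `k(x)` the zero of `x - c` has degree one. -/
theorem deg_eq_one_of_adjoin_eq_top (hK : G.IsFF1 k K) {x : K} (hx : Transcendental k x)
    (htop : k⟮x⟯ = ⊤) (c : k) (P : Place k K) (hP : P.1 (x - algebraMap k K c) < 1) :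
    P.deg = 1 := by
  classical
  have hx0 : x - algebraMap k K c ≠ 0 := by
    intro h0
    apply hx
    rw [sub_eq_zero.mp h0]
    exact isAlgebraic_algebraMap c
  have htop' : k⟮x - algebraMap k K c⟯ = ⊤ := by
    rw [← htop]
    apply le_antisymm
    · rw [adjoin_simple_le_iff]
      exact sub_mem (mem_adjoin_simple_self k x) (IntermediateField.algebraMap_mem _ c)
    · rw [adjoin_simple_le_iff]
      have h1 : (x - algebraMap k K c) + algebraMap k K c ∈ k⟮x - algebraMap k K c⟯ :=
        add_mem (mem_adjoin_simple_self k _) (IntermediateField.algebraMap_mem _ c)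
      rwa [sub_add_cancel] at h1
  have h1 := G.sum_ord_mul_deg_le hK (x - algebraMap k K c) hx0 {P}
    (fun P' hP' => by rw [Finset.mem_singleton.mp hP']; exact hP)
  rw [Finset.sum_singleton, htop', IntermediateField.finrank_top] at h1
  have h2 : 0 < P.ord (x - algebraMap k K c) := (pl_val_lt_one_iff P hx0).mp hP
  have h3 := G.deg_pos hK P
  have h4 : (P.deg : ℤ) ≤ 1 := by
    have h5 : (1 : ℤ) ≤ P.ord (x - algebraMap k K c) := h2
    have h6 : (0 : ℤ) ≤ (P.deg : ℤ) := Int.natCast_nonneg _
    calc (P.deg : ℤ) = 1 * (P.deg : ℤ) := (one_mul _).symm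
      _ ≤ P.ord (x - algebraMap k K c) * (P.deg : ℤ) := mul_le_mul_of_nonneg_right h5 h6
      _ ≤ 1 := by exact_mod_cast h1
  omega

end SepPlaces

section Aux

variable {k F K L : Type*} [Field k] [Field F] [Field K] [Field L]
  [Algebra k F] [Algebra k K] [Algebra k L] [Algebra F K] [Algebra F L] [Algebra K L]
  [IsScalarTower k F K] [IsScalarTower k F L] [IsScalarTower k K L] [IsScalarTower F K L]

theorem val_const_sub_eq_one (P : Place k K) {c c' : k} (h : c ≠ c') :
    P.1 (algebraMap k K c - algebraMap k K c') = 1 := by
  rw [← map_sub]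
  apply G.val_eq_one_of_isAlgebraic P
  · rw [Ne, map_eq_zero_iff _ (algebraMap k K).injective]
    exact sub_ne_zero.mpr h
  · exact isAlgebraic_algebraMap _

theorem infinite_sep_aux [Infinite k] [FiniteDimensional F K] [FiniteDimensional F L]
    [IsGalois F L] (hF : G.IsFF1 k F) (x : F) (hx : Transcendental k x) (htop : k⟮x⟯ = ⊤) :
    {P : Place k K | Algebra.IsSeparable k (ResidueField P.O)}.Infinite := by
  classical
  haveI : FiniteDimensional K L := FiniteDimensional.right F K L
  have hK : G.IsFF1 k K := isFF1_of_finite hF
  have hL : G.IsFF1 k L := isFF1_of_finite hF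
  have hbad := finite_inertia_ne_bot (K := F) hL
  have htr : ∀ c : k, Transcendental k (x - algebraMap k F c) := by
    intro c h
    apply hx
    have h1 : x = (x - algebraMap k F c) + algebraMap k F c := by ring
    rw [h1]
    exact h.add (isAlgebraic_algebraMap c)
  choose Pc hPc using fun c : k => G.exists_zero hF (x - algebraMap k F c) (htr c)
  choose Rc hRc using fun c : k => exists_place_over (K' := L) hF (Pc c)
  choose ec hec using hRc
  choose Qc e2 hQc using fun c : k => exists_place_under (K' := L) hK (Rc c)
  have hRval : ∀ c, (Rc c).1 (algebraMap F L (x - algebraMap k F c)) < 1 := by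
    intro c
    rw [hec c]
    exact pow_lt_one₀ zero_le' (hPc c) (isOverWith_pos (hec c)).ne'
  have hQval : ∀ c, (Qc c).1 (algebraMap F K (x - algebraMap k F c)) < 1 := by
    intro c
    have h1 := hRval c
    rw [IsScalarTower.algebraMap_apply F K L, hQc c] at h1
    by_contra hcon
    rw [not_lt] at hcon
    exact absurd h1 (not_lt.mpr (one_le_pow₀ hcon))
  have hRinj : Function.Injective Rc := by
    intro c c' h
    by_contra hne
    have h1 := hRval c
    have h2 := hRval c'
    rw [← h] at h2
    have h3 : (Rc c).1 (algebraMap F L (x - algebraMap k F c') -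
        algebraMap F L (x - algebraMap k F c)) < 1 :=
      lt_of_le_of_lt (Valuation.map_sub _ _ _) (max_lt h2 h1)
    have h4 : algebraMap F L (x - algebraMap k F c') - algebraMap F L (x - algebraMap k F c)
        = algebraMap k L c - algebraMap k L c' := by
      rw [IsScalarTower.algebraMap_apply k F L, IsScalarTower.algebraMap_apply k F L,
        map_sub, map_sub]
      ring
    rw [h4, val_const_sub_eq_one (Rc c) hne] at h3
    exact lt_irrefl _ h3
  have hQinj : Function.Injective Qc := by
    intro c c' h
    by_contra hne
    have h1 := hQval c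
    have h2 := hQval c'
    rw [← h] at h2
    have h3 : (Qc c).1 (algebraMap F K (x - algebraMap k F c') -
        algebraMap F K (x - algebraMap k F c)) < 1 :=
      lt_of_le_of_lt (Valuation.map_sub _ _ _) (max_lt h2 h1)
    have h4 : algebraMap F K (x - algebraMap k F c') - algebraMap F K (x - algebraMap k F c)
        = algebraMap k K c - algebraMap k K c' := by
      rw [IsScalarTower.algebraMap_apply k F K, IsScalarTower.algebraMap_apply k F K,
        map_sub, map_sub]
      ring
    rw [h4, val_const_sub_eq_one (Qc c) hne] at h3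
    exact lt_irrefl _ h3
  have hS : {c : k | ((Rc c).O).inertiaSubgroup F = ⊥}.Infinite := by
    have h1 : {c : k | ((Rc c).O).inertiaSubgroup F ≠ ⊥}.Finite :=
      hbad.preimage (hRinj.injOn)
    have h2 := h1.infinite_compl
    refine h2.mono ?_
    intro c hc
    simpa using hc
  refine (hS.image hQinj.injOn).mono ?_
  rintro _ ⟨c, hc, rfl⟩
  have hdeg : (Pc c).deg = 1 := deg_eq_one_of_adjoin_eq_top hF hx htop c (Pc c) (hPc c)
  haveI hsepR : Algebra.IsSeparable k (ResidueField (Rc c).O) :=
    isSeparable_residue_of_inertia_eq_bot hF (hec c) hc hdeg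
  show Algebra.IsSeparable k (ResidueField (Qc c).O)
  exact Algebra.IsSeparable.of_algHom k (ResidueField (Rc c).O) (resExtAlg (hQc c))

end Aux

section Main

theorem adjoin_gen_eq_top {k K : Type*} [Field k] [Field K] [Algebra k K] (t : K) :
    k⟮AdjoinSimple.gen k t⟯ = (⊤ : IntermediateField k k⟮t⟯) := by
  rw [eq_top_iff]
  rintro ⟨z, hz⟩ -
  have h1 : (k⟮AdjoinSimple.gen k t⟯ : IntermediateField k k⟮t⟯).map (k⟮t⟯.val) = k⟮t⟯ := by
    rw [IntermediateField.adjoin_map, Set.image_singleton]
    rfl
  have h2 : z ∈ (k⟮AdjoinSimple.gen k t⟯ : IntermediateField k k⟮t⟯).map (k⟮t⟯.val) := by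
    rw [h1]; exact hz
  obtain ⟨w, hw, hwz⟩ := h2
  have h3 : w = ⟨z, hz⟩ := Subtype.ext hwz
  rw [← h3]
  exact hw

variable {k F K : Type*} [Field k] [Field F] [Field K] [Algebra k F] [Algebra F K] [Algebra k K]
  [IsScalarTower k F K]

theorem infinite_sep_of_separable [Infinite k] [FiniteDimensional F K] [Algebra.IsSeparable F K]
    (hF : G.IsFF1 k F) (x : F) (hx : Transcendental k x) (htop : k⟮x⟯ = ⊤) :
    {P : Place k K | Algebra.IsSeparable k (ResidueField P.O)}.Infinite := by
  haveI : Algebra.IsSeparable F
      (IntermediateField.normalClosure F K (AlgebraicClosure K)) := by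
    rw [← le_separableClosure_iff]
    apply normalClosure_le_iff.2
    intro f
    rintro _ ⟨y, rfl⟩
    rw [mem_separableClosure_iff]
    show (minpoly F (f y)).Separable
    rw [minpoly.algHom_eq f f.injective]
    exact Algebra.IsSeparable.isSeparable F y
  haveI : IsGalois F (IntermediateField.normalClosure F K (AlgebraicClosure K)) := {}
  haveI : IsScalarTower k K (IntermediateField.normalClosure F K (AlgebraicClosure K)) := by
    refine IsScalarTower.of_algebraMap_eq (fun c => Subtype.ext ?_)
    show algebraMap k (AlgebraicClosure K) c =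
      algebraMap K (AlgebraicClosure K) (algebraMap k K c)
    rw [← IsScalarTower.algebraMap_apply]
  exact infinite_sep_aux (L := IntermediateField.normalClosure F K (AlgebraicClosure K))
    hF x hx htop

end Main

section Fin

variable {k K : Type*} [Field k] [Field K] [Algebra k K]

theorem infinite_places_of_finite [Finite k] (hK : G.IsFF1 k K) :
    (Set.univ : Set (Place k K)).Infinite := by
  classical
  obtain ⟨x, hx, -⟩ := id hK
  choose f hfm hfi hfd _ using fun m : ℕ => ConstExt.exists_irreducible k (m + 1) m.succ_pos
  have htr : ∀ m, Transcendental k (aeval x (f m)) := by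
    intro m
    apply hx.aeval
    · rw [hfd m]; exact m.succ_ne_zero
    · rw [(hfm m).leadingCoeff]; exact one_mem _
  choose Q hQ using fun m : ℕ => G.exists_zero hK (aeval x (f m)) (htr m)
  have hinj : Function.Injective Q := by
    intro m m' h
    by_contra hne
    have hcop : IsCoprime (f m) (f m') := by
      rw [(hfi m).coprime_iff_not_dvd]
      intro hdvd
      have h1 := (hfi m).associated_of_dvd (hfi m') hdvd
      have h2 := Polynomial.eq_of_monic_of_associated (hfm m) (hfm m') h1
      have h3 := congrArg Polynomial.natDegree h2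
      rw [hfd m, hfd m'] at h3
      exact hne (Nat.succ_injective h3)
    obtain ⟨a, b, hab⟩ := hcop
    have hx1 : (Q m).1 x ≤ 1 := val_le_one_of_val_aeval_lt_one (Q m) (hfi m).ne_zero (hQ m)
    have h2 := hQ m'
    rw [← h] at h2
    have h3 : (Q m).1 (aeval x a * aeval x (f m) + aeval x b * aeval x (f m')) < 1 := by
      refine lt_of_le_of_lt (Valuation.map_add _ _ _) (max_lt ?_ ?_)
      · rw [map_mul]
        exact mul_lt_one_of_nonneg_of_lt_one_right (val_aeval_le_one (Q m) hx1 a) zero_le' (hQ m)
      · rw [map_mul]
        exact mul_lt_one_of_nonneg_of_lt_one_right (val_aeval_le_one (Q m) hx1 b) zero_le' h2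
    rw [← map_mul, ← map_mul, ← map_add, hab, map_one, map_one] at h3
    exact lt_irrefl _ h3
  exact Set.infinite_of_injective_forall_mem hinj (fun m => Set.mem_univ _)

/-- A geometric function field has infinitely many places with separable residue field. -/
theorem infinite_separable_places (hK : FunFld.IsFunctionField k K)
    (hg : FunFld.IsGeometric k K) :
    {P : Place k K | Algebra.IsSeparable k (ResidueField P.O)}.Infinite := by
  rcases finite_or_infinite k with hfin | hinf
  · have h1 := infinite_places_of_finite (k := k) (K := K) hK.1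
    refine h1.mono ?_
    intro P _
    exact FrobLift.isSeparable_residue hK.1 P
  · obtain ⟨t, ht, hsep⟩ := exists_separating hK hg
    haveI := G.ff_finite hK.1 ht
    have hgen : Transcendental k (AdjoinSimple.gen k t) := by
      intro h
      apply ht
      have := h.algebraMap (A := K)
      rwa [AdjoinSimple.algebraMap_gen] at this
    have htop := adjoin_gen_eq_top (k := k) t
    have hF : G.IsFF1 k k⟮t⟯ := by
      refine ⟨AdjoinSimple.gen k t, hgen, ?_⟩
      rw [htop]
      apply Module.finite_of_finrank_pos
      rw [IntermediateField.finrank_top]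
      exact Nat.one_pos
    exact infinite_sep_of_separable (F := k⟮t⟯) hF (AdjoinSimple.gen k t) hgen htop

end Fin

end Groth.Agent.H55
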