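import Mathlib
import Groth.Prelude.Def_LefPen
import Groth.Agent.H55.DimCount

/-!
# A general hypersurface containing a small linear space is smooth (S14373, part 2)
-/

set_option autoImplicit false
set_option linter.style.haveILetI false
set_option linter.deprecated false

universe u

open MvPolynomial

namespace Groth.Agent.H55.SmoothGen

open Groth.Agent.H55.NoPlane Groth.Agent.H55.DimCount

section Basics

variable {k : Type u} [Field k] {n : ℕ}

/-- the linear form with coefficient vector `a`. -/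
noncomputable def lf : (Fin (n + 1) → k) →ₗ[k] MvPolynomial (Fin (n + 1)) k :=
  ∑ i, (LinearMap.proj i : (Fin (n + 1) → k) →ₗ[k] k).smulRight (X i)

theorem lf_apply (a : Fin (n + 1) → k) : lf a = ∑ i, C (a i) * X i := by
  simp [lf, MvPolynomial.smul_eq_C_mul]

theorem eval_lf (v a : Fin (n + 1) → k) : MvPolynomial.eval v (lf a) = ∑ i, a i * v i := by
  simp [lf_apply]

theorem pderiv_lf (i : Fin (n + 1)) (a : Fin (n + 1) → k) : pderiv i (lf a) = C (a i) := by
  classical
  rw [lf_apply, map_sum, Finset.sum_eq_single i]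
  · rw [Derivation.leibniz, pderiv_C, pderiv_X_self]
    simp
  · intro j _ hj
    rw [Derivation.leibniz, pderiv_C, pderiv_X_of_ne hj]
    simp
  · intro h; exact absurd (Finset.mem_univ i) h

theorem isHomogeneous_lf (a : Fin (n + 1) → k) : (lf a).IsHomogeneous 1 := by
  rw [lf_apply]
  exact IsHomogeneous.sum _ _ _ (fun i _ => isHomogeneous_C_mul_X _ _)

theorem lf_injective : Function.Injective (lf : (Fin (n + 1) → k) →ₗ[k] _) := by
  rw [← LinearMap.ker_eq_bot, LinearMap.ker_eq_bot']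
  intro a ha
  funext i
  have := congrArg (pderiv i) ha
  rw [pderiv_lf, map_zero] at this
  exact MvPolynomial.C_injective (Fin (n + 1)) k (this.trans C_0.symm)

/-- the coefficient vector of a linear functional. -/
def vec (φ : Module.Dual k (Fin (n + 1) → k)) : Fin (n + 1) → k := fun i => φ (Pi.single i 1)

theorem sum_vec_mul (φ : Module.Dual k (Fin (n + 1) → k)) (v : Fin (n + 1) → k) :
    ∑ i, vec φ i * v i = φ v := by
  classical
  rw [LinearMap.pi_apply_eq_sum_univ φ v]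
  refine Finset.sum_congr rfl (fun i _ => ?_)
  rw [smul_eq_mul, mul_comm, vec]
  congr 2
  funext j
  rw [Pi.single_apply]
  simp [eq_comm]

theorem eval_lf_vec (φ : Module.Dual k (Fin (n + 1) → k)) (v : Fin (n + 1) → k) :
    MvPolynomial.eval v (lf (vec φ)) = φ v := by
  rw [eval_lf, sum_vec_mul]

/-- scaling a point in a homogeneous polynomial. -/
theorem eval_smul_of_isHomogeneous {d : ℕ} {G : MvPolynomial (Fin (n + 1)) k}
    (hG : G.IsHomogeneous d) (t : k) (v : Fin (n + 1) → k) :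
    MvPolynomial.eval (t • v) G = t ^ d * MvPolynomial.eval v G := by
  classical
  rw [MvPolynomial.eval_eq', MvPolynomial.eval_eq', Finset.mul_sum]
  refine Finset.sum_congr rfl (fun μ hμ => ?_)
  have hdeg : μ.degree = d := by
    rw [Finsupp.degree_eq_weight_one]
    exact hG (MvPolynomial.mem_support_iff.mp hμ)
  have h1 : ∏ i, (t • v) i ^ μ i = t ^ d * ∏ i, v i ^ μ i := by
    simp only [Pi.smul_apply, smul_eq_mul, mul_pow, Finset.prod_mul_distrib]
    congr 1
    rw [Finset.prod_pow_eq_pow_sum, ← hdeg, Finsupp.degree_eq_sum]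
  rw [h1]
  ring

theorem bad_smul {d : ℕ} {G : MvPolynomial (Fin (n + 1)) k}
    (hG : G.IsHomogeneous d) (t : k) (v : Fin (n + 1) → k) (h : Bad G v) : Bad G (t • v) := by
  refine ⟨?_, fun i => ?_⟩
  · rw [eval_smul_of_isHomogeneous hG, h.1, mul_zero]
  · rw [eval_smul_of_isHomogeneous (hG.pderiv (i := i)), h.2 i, mul_zero]

end Basics

section Affine

variable {k : Type u} [Field k] {n : ℕ}

theorem vz_eq {q : ℕ} (v₀ : Fin (n + 1) → k) (e : Fin q → Fin (n + 1) → k) (z : Fin q → k) :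
    vz v₀ e z = v₀ + ∑ b, z b • e b := by
  funext i
  simp [vz, Finset.sum_apply]

theorem finrank_inf_ker (U' : Submodule k (Fin (n + 1) → k))
    (ψ' : Module.Dual k (Fin (n + 1) → k)) (v₁ : Fin (n + 1) → k) (hv₁ : v₁ ∈ U')
    (h1 : ψ' v₁ ≠ 0) :
    Module.finrank k ↥(U' ⊓ LinearMap.ker ψ') + 1 = Module.finrank k ↥U' := by
  have h2 := LinearMap.finrank_range_add_finrank_ker (ψ'.domRestrict U')
  have hsurj : LinearMap.range (ψ'.domRestrict U') = ⊤ := by
    rw [LinearMap.range_eq_top]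
    intro t
    refine ⟨(t * (ψ' v₁)⁻¹) • ⟨v₁, hv₁⟩, ?_⟩
    rw [map_smul, LinearMap.domRestrict_apply, smul_eq_mul, mul_assoc, inv_mul_cancel₀ h1, mul_one]
  rw [hsurj, finrank_top, Module.finrank_self] at h2
  have hker : LinearMap.ker (ψ'.domRestrict U') =
      Submodule.comap U'.subtype (U' ⊓ LinearMap.ker ψ') := by
    ext x
    simp [LinearMap.domRestrict_apply]
  have e1 := (Submodule.comapSubtypeEquivOfLe (p := U' ⊓ LinearMap.ker ψ') (q := U')
    inf_le_left).finrank_eq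
  rw [hker, e1] at h2
  omega

/-- parametrisation of the affine hyperplane `ψ' = 1` of `U'`. -/
theorem exists_affine_param (U' : Submodule k (Fin (n + 1) → k))
    (ψ' : Module.Dual k (Fin (n + 1) → k)) (v₁ : Fin (n + 1) → k) (hv₁ : v₁ ∈ U')
    (h1 : ψ' v₁ ≠ 0) :
    ∃ (q : ℕ) (v₀ : Fin (n + 1) → k) (e : Fin q → Fin (n + 1) → k),
      q + 1 = Module.finrank k ↥U' ∧ (∀ z, vz v₀ e z ∈ U' ∧ ψ' (vz v₀ e z) = 1) ∧
      ∀ v ∈ U', ψ' v = 1 → ∃ z, v = vz v₀ e z := by
  set K := U' ⊓ LinearMap.ker ψ' with hK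
  let eB := Module.finBasis k ↥K
  have hv₀U : (ψ' v₁)⁻¹ • v₁ ∈ U' := Submodule.smul_mem _ _ hv₁
  have hv₀1 : ψ' ((ψ' v₁)⁻¹ • v₁) = 1 := by
    rw [map_smul, smul_eq_mul, inv_mul_cancel₀ h1]
  refine ⟨Module.finrank k ↥K, (ψ' v₁)⁻¹ • v₁, fun b => (eB b : Fin (n + 1) → k),
    finrank_inf_ker U' ψ' v₁ hv₁ h1, ?_, ?_⟩
  · intro z
    rw [vz_eq]
    have hmem : ∑ b, z b • (eB b : Fin (n + 1) → k) ∈ K :=
      Submodule.sum_mem _ (fun b _ => Submodule.smul_mem _ _ (eB b).2)
    refine ⟨Submodule.add_mem _ hv₀U hmem.1, ?_⟩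
    rw [map_add, hv₀1, LinearMap.mem_ker.mp hmem.2, add_zero]
  · intro v hv hv1
    have hmem : v - (ψ' v₁)⁻¹ • v₁ ∈ K := by
      refine ⟨Submodule.sub_mem _ hv hv₀U, ?_⟩
      change v - (ψ' v₁)⁻¹ • v₁ ∈ LinearMap.ker ψ'
      rw [LinearMap.mem_ker, map_sub, hv1, hv₀1, sub_self]
    refine ⟨fun b => eB.repr ⟨_, hmem⟩ b, ?_⟩
    rw [vz_eq]
    have h2 := eB.sum_repr ⟨_, hmem⟩
    have h3 := congrArg (fun x : ↥K => (x : Fin (n + 1) → k)) h2
    simp only [Submodule.coe_sum, Submodule.coe_smul] at h3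
    rw [h3]
    abel

end Affine

section Setting

variable {k : Type u} [Field k] {n d : ℕ}
  {V : Type u} [AddCommGroup V] [Module k V]
  (ι : V →ₗ[k] MvPolynomial (Fin (n + 1)) k) (hι : Function.Injective ι)

/-- lifting a linear map into `V` through the embedding `ι`. -/
noncomputable def liftV {p : ℕ} (θ' : (Fin p → k) →ₗ[k] MvPolynomial (Fin (n + 1)) k)
    (h : ∀ c, θ' c ∈ LinearMap.range ι) : (Fin p → k) →ₗ[k] V :=
  (LinearEquiv.ofInjective ι hι).symm.toLinearMap ∘ₗ LinearMap.codRestrict (LinearMap.range ι) θ' h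

theorem iota_liftV {p : ℕ} (θ' : (Fin p → k) →ₗ[k] MvPolynomial (Fin (n + 1)) k)
    (h : ∀ c, θ' c ∈ LinearMap.range ι) (c : Fin p → k) : ι (liftV ι hι θ' h c) = θ' c := by
  have h1 : LinearEquiv.ofInjective ι hι (liftV ι hι θ' h c) = ⟨θ' c, h c⟩ := by
    rw [liftV, LinearMap.comp_apply]
    exact (LinearEquiv.ofInjective ι hι).apply_symm_apply _
  have h2 := congrArg (fun x : LinearMap.range ι => (x : MvPolynomial (Fin (n + 1)) k)) h1
  exact h2

theorem exists_fin_basis (k : Type*) (V : Type*) [Field k] [AddCommGroup V] [Module k V]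
    [Module.Finite k V] : ∃ (N : ℕ), Nonempty (Module.Basis (Fin N) k V) :=
  ⟨_, ⟨Module.finBasis k V⟩⟩

end Setting

section ChartTwo

variable {k : Type u} [Field k] {n d : ℕ} (U : Submodule k (Fin (n + 1) → k))
  {V : Type u} [AddCommGroup V] [Module k V]
  (ι : V →ₗ[k] MvPolynomial (Fin (n + 1)) k) (hι : Function.Injective ι)
  (hhom : ∀ G, (ι G).IsHomogeneous d)
  (hsurj : ∀ g : MvPolynomial (Fin (n + 1)) k, g.IsHomogeneous d →
    (∀ u ∈ U, MvPolynomial.eval u g = 0) → g ∈ LinearMap.range ι)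
  (hd : 2 ≤ d)
  (φ : Module.Dual k (Fin (n + 1) → k)) (hφU : φ ∈ U.dualAnnihilator)

/-- `c ↦ ℓ^(d-1) · lf c`. -/
noncomputable def theta2' : (Fin (n + 1) → k) →ₗ[k] MvPolynomial (Fin (n + 1)) k :=
  (LinearMap.mulLeft k (lf (vec φ) ^ (d - 1))) ∘ₗ lf

theorem theta2'_apply (c : Fin (n + 1) → k) :
    theta2' (d := d) φ c = lf (vec φ) ^ (d - 1) * lf c := rfl

include hd in
theorem theta2'_hom (c : Fin (n + 1) → k) : (theta2' (d := d) φ c).IsHomogeneous d := by
  rw [theta2'_apply]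
  have := ((isHomogeneous_lf (vec φ)).pow (d - 1)).mul (isHomogeneous_lf c)
  have e : 1 * (d - 1) + 1 = d := by omega
  rwa [e] at this

include hd hφU in
theorem theta2'_vanish (c : Fin (n + 1) → k) (u : Fin (n + 1) → k) (hu : u ∈ U) :
    MvPolynomial.eval u (theta2' (d := d) φ c) = 0 := by
  rw [theta2'_apply, map_mul, map_pow, eval_lf_vec,
    (Submodule.mem_dualAnnihilator φ).mp hφU u hu, zero_pow (by omega), zero_mul]

/-- the map `θ` of the chart at points outside `U`. -/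
noncomputable def theta2 : (Fin (n + 1) → k) →ₗ[k] V :=
  liftV ι hι (theta2' (d := d) φ)
    (fun c => hsurj _ (theta2'_hom hd φ c) (theta2'_vanish U hd φ hφU c))

theorem iota_theta2 (c : Fin (n + 1) → k) :
    ι (theta2 U ι hι hsurj hd φ hφU c) = lf (vec φ) ^ (d - 1) * lf c := by
  rw [theta2, iota_liftV, theta2'_apply]

theorem theta2_injective (hφ : φ ≠ 0) : Function.Injective (theta2 U ι hι hsurj hd φ hφU) := by
  intro c c' h
  have h1 := congrArg ι h
  rw [iota_theta2, iota_theta2] at h1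
  have hne : lf (vec φ) ≠ 0 := by
    intro h0
    apply hφ
    refine LinearMap.ext (fun v => ?_)
    rw [← eval_lf_vec, h0, map_zero, LinearMap.zero_apply]
  exact lf_injective (mul_left_cancel₀ (pow_ne_zero _ hne) h1)

/-- coefficient data of the chart. -/
def alpha2 : Fin (n + 1) → Fin (n + 1) → k := fun s i => if i = s then -1 else 0

/-- coefficient data of the chart. -/
def beta2 : Fin (n + 1) → k := fun s => ((d - 1 : ℕ) : k) * vec φ s

theorem cf2 (s : Fin (n + 1)) (v : Fin (n + 1) → k) (g : MvPolynomial (Fin (n + 1)) k) :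
    cf (alpha2 (k := k)) (beta2 (d := d) φ) s v g =
      - MvPolynomial.eval v (pderiv s g) + ((d - 1 : ℕ) : k) * vec φ s * MvPolynomial.eval v g := by
  classical
  rw [cf]
  congr 1
  simp [alpha2]

include hd in
theorem H2 (v : Fin (n + 1) → k) (hv : φ v = 1) (G' : V) (c : Fin (n + 1) → k)
    (hbad : Bad (ι (G' + theta2 U ι hι hsurj hd φ hφU c)) v) (s : Fin (n + 1)) :
    c s = cf (alpha2 (k := k)) (beta2 (d := d) φ) s v (ι G') := by
  rw [cf2]
  rw [map_add, iota_theta2] at hbad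
  obtain ⟨h0, h1⟩ := hbad
  have hL : MvPolynomial.eval v (lf (vec φ)) = 1 := by rw [eval_lf_vec, hv]
  rw [map_add, map_mul, map_pow, hL, one_pow, one_mul] at h0
  have h2 := h1 s
  rw [map_add, Derivation.leibniz, Derivation.leibniz_pow, pderiv_lf, pderiv_lf] at h2
  simp only [map_add, smul_eq_mul, map_mul, map_pow, hL, one_pow, one_mul,
    nsmul_eq_mul, MvPolynomial.eval_C, map_natCast] at h2
  have h3 : MvPolynomial.eval v (lf c) = - MvPolynomial.eval v (ι G') := by
    linear_combination h0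
  rw [h3] at h2
  linear_combination h2

include hd hhom hφU hι hsurj in
theorem chart2 [Module.Finite k V] {N : ℕ} (b : Module.Basis (Fin N) k V) (hφ : φ ≠ 0) :
    ∃ P : MvPolynomial (Fin N) k, P ≠ 0 ∧ ∀ (G : V) (v : Fin (n + 1) → k), φ v ≠ 0 →
      Bad (ι G) v → MvPolynomial.eval (fun t => b.repr G t) P = 0 := by
  have hex : ∃ v₁, φ v₁ ≠ 0 := by
    by_contra hcon
    push Not at hcon
    exact hφ (LinearMap.ext hcon)
  obtain ⟨v₁, hv₁⟩ := hex
  obtain ⟨q, v₀, e, hq, hP1, hP2⟩ := exists_affine_param ⊤ φ v₁ Submodule.mem_top hv₁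
  rw [finrank_top, Module.finrank_fin_fun] at hq
  have hqp : q < n + 1 := by omega
  obtain ⟨P, hP0, hP⟩ := chart_lemma v₀ e (alpha2 (k := k)) (beta2 (d := d) φ) ι
    (theta2 U ι hι hsurj hd φ hφU) hι b hqp (theta2_injective U ι hι hsurj hd φ hφU hφ)
    (fun z G' c hbad s => H2 U ι hι hsurj hd φ hφU (vz v₀ e z) (hP1 z).2 G' c hbad s)
  refine ⟨P, hP0, ?_⟩
  intro G v hv hbad
  have h1 : φ ((φ v)⁻¹ • v) = 1 := by rw [map_smul, smul_eq_mul, inv_mul_cancel₀ hv]
  obtain ⟨z, hz⟩ := hP2 _ Submodule.mem_top h1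
  have hbad' := bad_smul (hhom G) (φ v)⁻¹ v hbad
  rw [hz] at hbad'
  exact hP G z hbad'

end ChartTwo

section ChartOne

variable {k : Type u} [Field k] {n d : ℕ} (U : Submodule k (Fin (n + 1) → k))
  {V : Type u} [AddCommGroup V] [Module k V]
  (ι : V →ₗ[k] MvPolynomial (Fin (n + 1)) k) (hι : Function.Injective ι)
  (hhom : ∀ G, (ι G).IsHomogeneous d)
  (hsurj : ∀ g : MvPolynomial (Fin (n + 1)) k, g.IsHomogeneous d →
    (∀ u ∈ U, MvPolynomial.eval u g = 0) → g ∈ LinearMap.range ι)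
  (hd : 2 ≤ d) (j : Fin (n + 1))

/-- the coefficient vector as a linear map. -/
def vecL : Module.Dual k (Fin (n + 1) → k) →ₗ[k] (Fin (n + 1) → k) :=
  LinearMap.pi (fun i => Module.Dual.eval k _ (Pi.single i 1))

theorem vecL_apply (φ : Module.Dual k (Fin (n + 1) → k)) : vecL φ = vec φ := rfl

theorem vecL_injective : Function.Injective (vecL (k := k) (n := n)) := by
  rw [← LinearMap.ker_eq_bot, LinearMap.ker_eq_bot']
  intro φ hφ
  refine LinearMap.ext (fun v => ?_)
  rw [← sum_vec_mul, ← vecL_apply, hφ]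
  simp

variable {p : ℕ} (δ : Module.Basis (Fin p) k U.dualAnnihilator)

/-- coordinates on the annihilator to coefficient vectors. -/
noncomputable def AA : (Fin p → k) →ₗ[k] (Fin (n + 1) → k) :=
  vecL ∘ₗ U.dualAnnihilator.subtype ∘ₗ δ.equivFun.symm.toLinearMap

theorem AA_apply (c : Fin p → k) :
    AA U δ c = vec ((δ.equivFun.symm c : U.dualAnnihilator) : Module.Dual k (Fin (n + 1) → k)) :=
  rfl

theorem AA_injective : Function.Injective (AA U δ) := by
  intro c c' h
  have h1 := vecL_injective h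
  have h2 := Subtype.ext h1
  exact δ.equivFun.symm.injective h2

theorem eval_lf_AA (c : Fin p → k) (u : Fin (n + 1) → k) (hu : u ∈ U) :
    MvPolynomial.eval u (lf (AA U δ c)) = 0 := by
  rw [AA_apply, eval_lf_vec]
  exact (Submodule.mem_dualAnnihilator _).mp (δ.equivFun.symm c).2 u hu

/-- `c ↦ lf (A c) · X_j^(d-1)`. -/
noncomputable def theta1' : (Fin p → k) →ₗ[k] MvPolynomial (Fin (n + 1)) k :=
  (LinearMap.mulRight k (X j ^ (d - 1))) ∘ₗ lf ∘ₗ AA U δ

theorem theta1'_apply (c : Fin p → k) :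
    theta1' (d := d) U j δ c = lf (AA U δ c) * X j ^ (d - 1) := rfl

include hd in
theorem theta1'_hom (c : Fin p → k) : (theta1' (d := d) U j δ c).IsHomogeneous d := by
  rw [theta1'_apply]
  have := (isHomogeneous_lf (AA U δ c)).mul ((isHomogeneous_X k j).pow (d - 1))
  have e : 1 + 1 * (d - 1) = d := by omega
  rwa [e] at this

theorem theta1'_vanish (c : Fin p → k) (u : Fin (n + 1) → k) (hu : u ∈ U) :
    MvPolynomial.eval u (theta1' (d := d) U j δ c) = 0 := by
  rw [theta1'_apply, map_mul, eval_lf_AA U δ c u hu, zero_mul]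

/-- the map `θ` of the chart at points of `U`. -/
noncomputable def theta1 : (Fin p → k) →ₗ[k] V :=
  liftV ι hι (theta1' (d := d) U j δ)
    (fun c => hsurj _ (theta1'_hom U hd j δ c) (theta1'_vanish U j δ c))

theorem iota_theta1 (c : Fin p → k) :
    ι (theta1 U ι hι hsurj hd j δ c) = lf (AA U δ c) * X j ^ (d - 1) := by
  rw [theta1, iota_liftV, theta1'_apply]

theorem theta1_injective : Function.Injective (theta1 U ι hι hsurj hd j δ) := by
  intro c c' h
  have h1 := congrArg ι h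
  rw [iota_theta1, iota_theta1] at h1
  have hne : (X j : MvPolynomial (Fin (n + 1)) k) ^ (d - 1) ≠ 0 := pow_ne_zero _ (X_ne_zero j)
  exact AA_injective U δ (lf_injective (mul_right_cancel₀ hne h1))

variable (ε : (Fin (n + 1) → k) →ₗ[k] (Fin p → k))

/-- coefficient data of the chart. -/
def alpha1 : Fin p → Fin (n + 1) → k :=
  fun s i => - (ε (fun j' => if i = j' then 1 else 0) s)

include hd in
theorem H1 (hε : ∀ c, ε (AA U δ c) = c) (v : Fin (n + 1) → k) (hvU : v ∈ U) (hvj : v j = 1)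
    (G' : V) (c : Fin p → k)
    (hbad : Bad (ι (G' + theta1 U ι hι hsurj hd j δ c)) v) (s : Fin p) :
    c s = cf (alpha1 ε) (0 : Fin p → k) s v (ι G') := by
  rw [map_add, iota_theta1] at hbad
  have hA : ∀ i, AA U δ c i = - MvPolynomial.eval v (pderiv i (ι G')) := by
    intro i
    have h2 := hbad.2 i
    rw [map_add, Derivation.leibniz, pderiv_lf] at h2
    simp only [map_add, smul_eq_mul, map_mul, map_pow, MvPolynomial.eval_X, hvj, one_pow, one_mul,
      eval_lf_AA U δ c v hvU, zero_mul, zero_add, MvPolynomial.eval_C] at h2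
    linear_combination h2
  have h3 : c = ε (fun i => - MvPolynomial.eval v (pderiv i (ι G'))) := by
    rw [← funext hA, hε]
  rw [cf]
  simp only [Pi.zero_apply, zero_mul, add_zero]
  conv_lhs => rw [h3, LinearMap.pi_apply_eq_sum_univ ε]
  rw [Finset.sum_apply]
  refine Finset.sum_congr rfl (fun i _ => ?_)
  rw [Pi.smul_apply, smul_eq_mul, alpha1]
  ring

include hd hhom hι hsurj in
theorem chart1 [Module.Finite k V] (hU2 : 2 * Module.finrank k ↥U ≤ n + 1) {N : ℕ}
    (b : Module.Basis (Fin N) k V)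
    (v₁ : Fin (n + 1) → k) (hv₁U : v₁ ∈ U) (hv₁ : v₁ j ≠ 0) :
    ∃ P : MvPolynomial (Fin N) k, P ≠ 0 ∧ ∀ (G : V) (v : Fin (n + 1) → k), v ∈ U → v j ≠ 0 →
      Bad (ι G) v → MvPolynomial.eval (fun t => b.repr G t) P = 0 := by
  obtain ⟨p, ⟨δ⟩⟩ := exists_fin_basis k ↥U.dualAnnihilator
  have hp : Module.finrank k ↥U.dualAnnihilator = p := by
    rw [Module.finrank_eq_card_basis δ, Fintype.card_fin]
  have hDU := Subspace.finrank_add_finrank_dualAnnihilator_eq U
  rw [Module.finrank_fin_fun, hp] at hDU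
  obtain ⟨q, v₀, e, hq, hP1, hP2⟩ := exists_affine_param U
    (LinearMap.proj j : (Fin (n + 1) → k) →ₗ[k] k) v₁ hv₁U hv₁
  have hqp : q < p := by omega
  obtain ⟨ε, hε⟩ := LinearMap.exists_leftInverse_of_injective (AA U δ)
    (LinearMap.ker_eq_bot.mpr (AA_injective U δ))
  have hε' : ∀ c, ε (AA U δ c) = c := fun c => LinearMap.congr_fun hε c
  obtain ⟨P, hP0, hP⟩ := chart_lemma v₀ e (alpha1 ε) (0 : Fin p → k) ι
    (theta1 U ι hι hsurj hd j δ) hι b hqp (theta1_injective U ι hι hsurj hd j δ)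
    (fun z G' c hbad s => H1 U ι hι hsurj hd j δ ε hε' (vz v₀ e z) (hP1 z).1 (hP1 z).2 G' c hbad s)
  refine ⟨P, hP0, ?_⟩
  intro G v hvU hvj hbad
  have h1 : (LinearMap.proj j : (Fin (n + 1) → k) →ₗ[k] k) ((v j)⁻¹ • v) = 1 := by
    rw [map_smul, smul_eq_mul, LinearMap.proj_apply, inv_mul_cancel₀ hvj]
  obtain ⟨z, hz⟩ := hP2 _ (Submodule.smul_mem _ _ hvU) h1
  have hbad' := bad_smul (hhom G) (v j)⁻¹ v hbad
  rw [hz] at hbad'
  exact hP G z hbad'

end ChartOne

section Final

variable {k : Type u} [Field k] [Infinite k] {n d : ℕ} (U : Submodule k (Fin (n + 1) → k))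
  {V : Type u} [AddCommGroup V] [Module k V] [Module.Finite k V]
  (ι : V →ₗ[k] MvPolynomial (Fin (n + 1)) k) (hι : Function.Injective ι)
  (hhom : ∀ G, (ι G).IsHomogeneous d)
  (hsurj : ∀ g : MvPolynomial (Fin (n + 1)) k, g.IsHomogeneous d →
    (∀ u ∈ U, MvPolynomial.eval u g = 0) → g ∈ LinearMap.range ι)

include hι hhom hsurj in
/-- **A general hypersurface containing a linear space `P(U)` with `2 dim U ≤ n + 1` is smooth.** -/
theorem main_abstract (hd : 2 ≤ d) (hU2 : 2 * Module.finrank k ↥U ≤ n + 1) :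
    LefPen.IsGeneric k {G : V | ∀ v : Fin (n + 1) → k, v ≠ 0 → MvPolynomial.eval v (ι G) = 0 →
      ∃ i : Fin (n + 1), MvPolynomial.eval v (pderiv i (ι G)) ≠ 0} := by
  classical
  obtain ⟨N, ⟨b⟩⟩ := exists_fin_basis k V
  obtain ⟨p, ⟨δ⟩⟩ := exists_fin_basis k ↥U.dualAnnihilator
  have h2 : ∀ s : Fin p, ∃ P : MvPolynomial (Fin N) k, P ≠ 0 ∧ ∀ (G : V) (v : Fin (n + 1) → k),
      (δ s : Module.Dual k (Fin (n + 1) → k)) v ≠ 0 → Bad (ι G) v →
        MvPolynomial.eval (fun t => b.repr G t) P = 0 :=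
    fun s => chart2 U ι hι hhom hsurj hd (δ s : Module.Dual k (Fin (n + 1) → k)) (δ s).2 b
      (by intro h0; exact δ.ne_zero s (Subtype.ext h0))
  choose P2 hP20 hP2 using h2
  have h1 : ∀ j : Fin (n + 1), ∃ P : MvPolynomial (Fin N) k, P ≠ 0 ∧
      ∀ (G : V) (v : Fin (n + 1) → k), v ∈ U → v j ≠ 0 → Bad (ι G) v →
        MvPolynomial.eval (fun t => b.repr G t) P = 0 := by
    intro j
    by_cases hj : ∃ v₁ ∈ U, v₁ j ≠ 0
    · obtain ⟨v₁, hv₁U, hv₁⟩ := hj
      exact chart1 U ι hι hhom hsurj hd j hU2 b v₁ hv₁U hv₁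
    · push Not at hj
      exact ⟨1, one_ne_zero, fun G v hvU hvj _ => absurd (hj v hvU) hvj⟩
  choose P1 hP10 hP1 using h1
  have hP0 : (∏ s, P2 s) * ∏ j, P1 j ≠ 0 :=
    mul_ne_zero (Finset.prod_ne_zero_iff.mpr fun s _ => hP20 s)
      (Finset.prod_ne_zero_iff.mpr fun j _ => hP10 j)
  refine ⟨fun G => MvPolynomial.eval (fun t => b.repr G t) ((∏ s, P2 s) * ∏ j, P1 j), ?_, ?_, ?_⟩
  · exact isPolyFun_eval_coord (fun t => b.coord t) _
  · obtain ⟨y, hy⟩ : ∃ y : Fin N → k, MvPolynomial.eval y ((∏ s, P2 s) * ∏ j, P1 j) ≠ 0 := by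
      by_contra hcon
      push Not at hcon
      exact hP0 (MvPolynomial.funext (fun y => by rw [hcon y, map_zero]))
    refine ⟨b.equivFun.symm y, ?_⟩
    have : (fun t => b.repr (b.equivFun.symm y) t) = y := by
      funext t
      have h5 := congrFun (b.equivFun.apply_symm_apply y) t
      rwa [Module.Basis.equivFun_apply] at h5
    change MvPolynomial.eval (fun t => b.repr (b.equivFun.symm y) t) _ ≠ 0
    rw [this]
    exact hy
  · intro G hG v hv0 hGv
    by_contra hcon
    push Not at hcon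
    apply hG
    have hbad : Bad (ι G) v := ⟨hGv, hcon⟩
    change MvPolynomial.eval (fun t => b.repr G t) ((∏ s, P2 s) * ∏ j, P1 j) = 0
    rw [map_mul, map_prod, map_prod]
    by_cases hvU : v ∈ U
    · obtain ⟨j, hj⟩ : ∃ j, v j ≠ 0 := by
        by_contra h
        push Not at h
        exact hv0 (funext h)
      rw [Finset.prod_eq_zero (Finset.mem_univ j) (hP1 j G v hvU hj hbad), mul_zero]
    · have : ∃ s, (δ s : Module.Dual k (Fin (n + 1) → k)) v ≠ 0 := by
        by_contra h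
        push Not at h
        apply hvU
        rw [← Subspace.forall_mem_dualAnnihilator_apply_eq_zero_iff]
        intro φ hφ
        have h3 := δ.sum_repr ⟨φ, hφ⟩
        have h4 := congrArg (fun x : ↥U.dualAnnihilator =>
          (x : Module.Dual k (Fin (n + 1) → k)) v) h3
        simp only [Submodule.coe_sum, Submodule.coe_smul, LinearMap.sum_apply,
          LinearMap.smul_apply, h, smul_zero, Finset.sum_const_zero] at h4
        exact h4.symm
      obtain ⟨s, hs⟩ := this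
      rw [Finset.prod_eq_zero (Finset.mem_univ s) (hP2 s G v hs hbad), zero_mul]

end Final

end Groth.Agent.H55.SmoothGen
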