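import Groth.Agent.H55.FFScalarAlg
import Groth.Agent.H55.FFConstExt
import Mathlib

/-!
Scalar extension of a geometric function field to an algebraic extension of the constants,
and places in algebraic extensions.
-/

set_option autoImplicit false

universe u v

namespace Groth.Agent.H55

open FunFld IntermediateField TensorProduct WithZero

section TensorField

variable {k : Type u} {K : Type v} [Field k] [Field K] [Algebra k K]

/-- For a geometric `K/k` and an algebraic extension `kb/k`, `kb ⊗ K` is a field. -/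
theorem isField_tensor_algebraic (kb : Type u) [Field kb] [Algebra k kb] [Algebra.IsAlgebraic k kb]
    (hg : FunFld.IsGeometric k K) : IsField (kb ⊗[k] K) := by
  classical
  have key : ∀ x : kb ⊗[k] K, ∃ (k₁ : IntermediateField k kb), FiniteDimensional k k₁ ∧
      ∃ x₁ : k₁ ⊗[k] K, Algebra.TensorProduct.map k₁.val (AlgHom.id k K) x₁ = x := by
    intro x
    obtain ⟨S, rfl⟩ := TensorProduct.exists_finset x
    refine ⟨IntermediateField.adjoin k ((S.image Prod.fst : Finset kb) : Set kb), ?_, ?_⟩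
    · apply IntermediateField.finiteDimensional_adjoin
      intro c _
      exact (Algebra.IsAlgebraic.isAlgebraic c).isIntegral
    · refine ⟨∑ i ∈ S.attach, (⟨i.1.1, IntermediateField.subset_adjoin k _ (by
        rw [Finset.coe_image]; exact ⟨i.1, i.2, rfl⟩)⟩ :
          IntermediateField.adjoin k ((S.image Prod.fst : Finset kb) : Set kb)) ⊗ₜ[k] i.1.2, ?_⟩
      rw [map_sum, ← Finset.sum_attach S]
      refine Finset.sum_congr rfl fun i _ => ?_
      rw [Algebra.TensorProduct.map_tmul]
      rfl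
  have hinj : ∀ (k₁ : IntermediateField k kb),
      Function.Injective (Algebra.TensorProduct.map k₁.val (AlgHom.id k K)) := by
    intro k₁
    have h1 : Function.Injective (LinearMap.rTensor K (k₁.val.toLinearMap)) :=
      Module.Flat.rTensor_preserves_injective_linearMap _ (Subtype.val_injective)
    intro a b hab
    apply h1
    have h2 : ∀ t : k₁ ⊗[k] K, LinearMap.rTensor K (k₁.val.toLinearMap) t =
        Algebra.TensorProduct.map k₁.val (AlgHom.id k K) t := by
      intro t
      induction t using TensorProduct.induction_on with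
      | zero => simp
      | tmul c a => simp
      | add x y hx hy => rw [map_add, map_add, hx, hy]
    rw [h2, h2, hab]
  refine ⟨⟨0, 1, ?_⟩, mul_comm, ?_⟩
  · intro h01
    have h1 := hg (⊥ : IntermediateField k kb) inferInstance
    obtain ⟨a, b, hab⟩ := h1.exists_pair_ne
    have h2 : (0 : (⊥ : IntermediateField k kb) ⊗[k] K) = 1 := by
      apply hinj ⊥
      rw [map_zero, map_one]
      exact h01
    exact hab (by rw [← mul_one a, ← mul_one b, ← h2, mul_zero, mul_zero])
  · intro x hx
    obtain ⟨k₁, hfin, x₁, rfl⟩ := key x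
    have hx₁ : x₁ ≠ 0 := by
      rintro rfl
      exact hx (map_zero _)
    obtain ⟨y₁, hy₁⟩ := (hg k₁ hfin).mul_inv_cancel hx₁
    refine ⟨Algebra.TensorProduct.map k₁.val (AlgHom.id k K) y₁, ?_⟩
    rw [← map_mul, hy₁, map_one]

end TensorField

section Bij

variable {k kb : Type*} {K Kb : Type*} [Field k] [Field kb] [Field K] [Field Kb]
    [Algebra k kb] [Algebra k K] [Algebra K Kb] [Algebra kb Kb] [Algebra k Kb]
    [IsScalarTower k kb Kb] [IsScalarTower k K Kb]

theorem productMap_bijective_of_isField (hF : IsField (kb ⊗[k] K))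
    (hgen : ∀ z : Kb, z ∈ Algebra.adjoin K (Set.range (algebraMap kb Kb))) :
    Function.Bijective (Algebra.TensorProduct.productMap
      (IsScalarTower.toAlgHom k kb Kb) (IsScalarTower.toAlgHom k K Kb)) := by
  constructor
  · rw [injective_iff_map_eq_zero]
    intro z hz
    by_contra hne
    obtain ⟨w, hw⟩ := hF.mul_inv_cancel hne
    have h0 := congrArg (Algebra.TensorProduct.productMap
      (IsScalarTower.toAlgHom k kb Kb) (IsScalarTower.toAlgHom k K Kb)) hw
    rw [map_mul, hz, zero_mul, map_one] at h0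
    exact zero_ne_one h0
  · intro z
    have hz := hgen z
    induction hz using Algebra.adjoin_induction with
    | mem x hx =>
      obtain ⟨c, rfl⟩ := hx
      exact ⟨c ⊗ₜ 1, by simp⟩
    | algebraMap a => exact ⟨1 ⊗ₜ a, by simp⟩
    | add x y _ _ hx hy =>
      obtain ⟨a, rfl⟩ := hx
      obtain ⟨b, rfl⟩ := hy
      exact ⟨a + b, map_add _ _ _⟩
    | mul x y _ _ hx hy =>
      obtain ⟨a, rfl⟩ := hx
      obtain ⟨b, rfl⟩ := hy
      exact ⟨a * b, map_mul _ _ _⟩

end Bij

section Real

variable (k : Type u) (K : Type v) [Field k] [Field K] [Algebra k K]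

/-- An embedding of the algebraic closure of `k` into that of `K`. -/
noncomputable def kbEmb : AlgebraicClosure k →ₐ[k] AlgebraicClosure K := IsAlgClosed.lift

/-- The compositum `k̄ K` inside an algebraic closure of `K` (a model of `k̄ ⊗ K` in the universe
of `K`). -/
noncomputable def KbarField : IntermediateField K (AlgebraicClosure K) :=
  IntermediateField.adjoin K (Set.range (kbEmb k K))

noncomputable instance kbAlg : Algebra (AlgebraicClosure k) (KbarField k K) :=
  RingHom.toAlgebra ((kbEmb k K).toRingHom.codRestrict (KbarField k K)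
    (fun c => IntermediateField.subset_adjoin K _ ⟨c, rfl⟩))

instance kbTower : IsScalarTower k (AlgebraicClosure k) (KbarField k K) :=
  IsScalarTower.of_algebraMap_eq (fun c => Subtype.ext (by
    show algebraMap k (AlgebraicClosure K) c = kbEmb k K (algebraMap k _ c)
    rw [AlgHom.commutes]))

theorem kbAlg_apply (c : AlgebraicClosure k) :
    ((algebraMap (AlgebraicClosure k) (KbarField k K) c : KbarField k K) : AlgebraicClosure K) =
      kbEmb k K c := rfl

theorem kbar_gen (z : KbarField k K) :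
    z ∈ Algebra.adjoin K (Set.range (algebraMap (AlgebraicClosure k) (KbarField k K))) := by
  obtain ⟨z, hz⟩ := z
  have halg : ∀ x ∈ Set.range (kbEmb k K), IsAlgebraic K x := by
    rintro _ ⟨c, rfl⟩
    have h1 : IsAlgebraic k c := Algebra.IsAlgebraic.isAlgebraic c
    have h2 : IsAlgebraic k (kbEmb k K c) := h1.algHom (kbEmb k K)
    exact h2.tower_top K
  have h1 : z ∈ (IntermediateField.adjoin K (Set.range (kbEmb k K))).toSubalgebra := hz
  rw [IntermediateField.adjoin_toSubalgebra_of_isAlgebraic halg] at h1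
  have key : ∀ x ∈ Algebra.adjoin K (Set.range (kbEmb k K)),
      ∃ hx : x ∈ KbarField k K, (⟨x, hx⟩ : KbarField k K) ∈
        Algebra.adjoin K (Set.range (algebraMap (AlgebraicClosure k) (KbarField k K))) := by
    intro x hx
    induction hx using Algebra.adjoin_induction with
    | mem x hx =>
      obtain ⟨c, rfl⟩ := hx
      exact ⟨IntermediateField.subset_adjoin K _ ⟨c, rfl⟩, Algebra.subset_adjoin ⟨c, rfl⟩⟩
    | algebraMap a =>
      exact ⟨(KbarField k K).algebraMap_mem a, Subalgebra.algebraMap_mem _ a⟩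
    | add x y _ _ hx hy =>
      obtain ⟨hx1, hx2⟩ := hx
      obtain ⟨hy1, hy2⟩ := hy
      exact ⟨add_mem hx1 hy1, add_mem hx2 hy2⟩
    | mul x y _ _ hx hy =>
      obtain ⟨hx1, hx2⟩ := hx
      obtain ⟨hy1, hy2⟩ := hy
      exact ⟨mul_mem hx1 hy1, mul_mem hx2 hy2⟩
  obtain ⟨_, h2⟩ := key z h1
  exact h2

theorem kbar_bijective (hg : FunFld.IsGeometric k K) :
    Function.Bijective (Algebra.TensorProduct.productMap
      (IsScalarTower.toAlgHom k (AlgebraicClosure k) (KbarField k K))
      (IsScalarTower.toAlgHom k K (KbarField k K))) :=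
  productMap_bijective_of_isField (isField_tensor_algebraic (AlgebraicClosure k) hg)
    (kbar_gen k K)

end Real

section PlacesAlg

variable {k K K' : Type*} [Field k] [Field K] [Field K'] [Algebra k K] [Algebra K K']

/-- A surjective-valued valuation dominated by a place is a power of it. -/
theorem val_eq_pow_of_dominates (P : Place k K) (w : Valuation K (WithZero (Multiplicative ℤ)))
    (hle : ∀ z : K, w z ≤ 1 → P.1 z ≤ 1) (hlt : ∀ z : K, w z < 1 → P.1 z < 1) :
    ∃ e : ℕ, 0 < e ∧ ∀ x : K, w x = P.1 x ^ e := by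
  have hone : ∀ z : K, z ≠ 0 → P.1 z = 1 → w z = 1 := by
    intro z hz0 hz
    rcases lt_trichotomy (w z) 1 with h | h | h
    · exact absurd (hlt z h) (by rw [hz]; exact lt_irrefl _)
    · exact h
    · have hne : w z ≠ 0 := (w.ne_zero_iff).mpr hz0
      have h1 : w z⁻¹ < 1 := by
        rw [map_inv₀]; exact (inv_lt_one₀ (zero_lt_iff.mpr hne)).mpr h
      have h2 := hlt z⁻¹ h1
      rw [map_inv₀, hz, inv_one] at h2
      exact absurd h2 (lt_irrefl _)
  obtain ⟨t, ht0, ht⟩ := pl_exists_val_eq_exp P (-1)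
  have hwt0 : w t ≠ 0 := (w.ne_zero_iff).mpr ht0
  have hwt : w t < 1 := by
    by_contra hcon
    rw [not_lt] at hcon
    have h1 : w t⁻¹ ≤ 1 := by
      rw [map_inv₀]; exact (inv_le_one₀ (zero_lt_iff.mpr hwt0)).mpr hcon
    have h2 := hle t⁻¹ h1
    rw [map_inv₀, ht, ← exp_neg, neg_neg, ← exp_zero, exp_le_exp] at h2
    omega
  have hlog : log (w t) < 0 := by
    have h1 : w t = exp (log (w t)) := (exp_log hwt0).symm
    have h2 := hwt
    rw [h1, ← exp_zero, exp_lt_exp] at h2
    exact h2
  set e : ℕ := (-(log (w t))).toNat with he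
  have hecast : (e : ℤ) = -(log (w t)) := by
    rw [he, Int.toNat_of_nonneg (by omega)]
  have hwte : w t = exp (-(e : ℤ)) := by
    rw [hecast, neg_neg, exp_log hwt0]
  have he0 : 0 < e := by
    have : (0 : ℤ) < e := by rw [hecast]; omega
    exact_mod_cast this
  refine ⟨e, he0, fun x => ?_⟩
  by_cases hx : x = 0
  · subst hx; rw [map_zero, map_zero, zero_pow he0.ne']
  · have hPx : P.1 x = exp (-(P.ord x)) := pl_val_eq_exp_neg_ord P hx
    have hu0 : x * t ^ (-(P.ord x)) ≠ 0 := mul_ne_zero hx (zpow_ne_zero _ ht0)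
    have hPu : P.1 (x * t ^ (-(P.ord x))) = 1 := by
      rw [map_mul, map_zpow₀, hPx, ht, ← exp_zsmul, ← exp_add]
      simp
    have hwu : w (x * t ^ (-(P.ord x))) = 1 := hone _ hu0 hPu
    have hxu : x = (x * t ^ (-(P.ord x))) * t ^ (P.ord x) := by
      rw [mul_assoc, ← zpow_add₀ ht0, neg_add_cancel, zpow_zero, mul_one]
    have h3 : w x = w (x * t ^ (-(P.ord x))) * w t ^ (P.ord x) := by
      conv_lhs => rw [hxu]
      rw [map_mul, map_zpow₀]
    rw [h3, hwu, one_mul, hwte, hPx, ← exp_zsmul, ← exp_nsmul]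
    congr 1
    simp only [smul_eq_mul, nsmul_eq_mul]
    ring

/-- Restriction of a discrete valuation of an algebraic extension `K'/K` (trivial on `k`) to `K`
is a power of a place of `K`. -/
theorem exists_place_under_alg [Algebra.IsAlgebraic K K'] (hK : G.IsFF1 k K)
    (v : Valuation K' (WithZero (Multiplicative ℤ))) (hv : Function.Surjective v)
    (hvk : ∀ c : k, v (algebraMap K K' (algebraMap k K c)) ≤ 1) :
    ∃ (P : Place k K) (e : ℕ), 0 < e ∧ ∀ x : K, v (algebraMap K K' x) = P.1 x ^ e := by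
  classical
  set w : Valuation K (WithZero (Multiplicative ℤ)) := v.comap (algebraMap K K') with hw
  have hwv : ∀ y : K, w y = v (algebraMap K K' y) := fun y => rfl
  have hnt : ∃ y₀ : K, y₀ ≠ 0 ∧ w y₀ < 1 := by
    by_contra hcon
    push_neg at hcon
    have hKO : ∀ y : K, algebraMap K K' y ∈ v.valuationSubring := by
      intro y
      rw [Valuation.mem_valuationSubring_iff]
      by_cases hy : y = 0
      · subst hy; simp
      · have h1 := hcon y⁻¹ (inv_ne_zero hy)
        rw [hwv, map_inv₀, map_inv₀] at h1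
        have hne : v (algebraMap K K' y) ≠ 0 :=
          (v.ne_zero_iff).mpr ((_root_.map_ne_zero _).mpr hy)
        exact (one_le_inv₀ (zero_lt_iff.mpr hne)).mp h1
    obtain ⟨z, hz⟩ := hv (exp (1 : ℤ))
    have hzO : z ∈ v.valuationSubring :=
      G.vs_mem_of_isAlgebraic (k := K) v.valuationSubring hKO (Algebra.IsAlgebraic.isAlgebraic z)
    rw [Valuation.mem_valuationSubring_iff, hz, ← exp_zero, exp_le_exp] at hzO
    omega
  obtain ⟨y₀, hy₀, hy₀w⟩ := hnt
  set A : ValuationSubring K := w.valuationSubring with hA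
  have hkA : ∀ c : k, algebraMap k K c ∈ A := by
    intro c
    rw [hA, Valuation.mem_valuationSubring_iff, hwv]
    exact hvk c
  have hAle : ∀ z : K, z ∈ A ↔ w z ≤ 1 := fun z => Valuation.mem_valuationSubring_iff _ _
  have hAnon : ∀ z : K, z ∈ A.nonunits ↔ w z < 1 := by
    intro z
    rw [ValuationSubring.mem_nonunits_iff]
    exact ((Valuation.isEquiv_valuation_valuationSubring w).lt_one_iff_lt_one).symm
  obtain ⟨P, hP1, hP2⟩ :=
    G.exists_place_of_valuationSubring A hkA hK y₀ hy₀ ((hAnon y₀).mpr hy₀w)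
  have hle : ∀ z : K, w z ≤ 1 → P.1 z ≤ 1 := fun z hz => hP1 z ((hAle z).mpr hz)
  have hlt : ∀ z : K, w z < 1 → P.1 z < 1 := fun z hz => hP2 z ((hAnon z).mpr hz)
  obtain ⟨e, he0, he⟩ := val_eq_pow_of_dominates P w hle hlt
  exact ⟨P, e, he0, fun x => he x⟩

end PlacesAlg

section PlaceOver

variable {k' kb K' Kb : Type*} [Field k'] [Field kb] [Field K'] [Field Kb]
    [Algebra k' kb] [Algebra k' K'] [Algebra K' Kb] [Algebra kb Kb] [Algebra k' Kb]
    [IsScalarTower k' kb Kb] [IsScalarTower k' K' Kb]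

/-- Every place of `K'/k'` extends to a place of `Kb/kb` (`kb/k'` algebraic). -/
theorem exists_place_over_alg [Algebra.IsAlgebraic k' kb] (hKb : G.IsFF1 kb Kb)
    (Q : Place k' K') :
    ∃ (Qb : Place kb Kb) (e : ℕ), 0 < e ∧ ∀ x : K', Qb.1 (algebraMap K' Kb x) = Q.1 x ^ e := by
  classical
  let f : Q.O →+* Kb := (algebraMap K' Kb).comp Q.O.subtype
  obtain ⟨B, hB, hloc⟩ := IsLocalRing.exists_factor_valuationRing f
  have hfB : ∀ z : K', Q.1 z ≤ 1 → algebraMap K' Kb z ∈ B := fun z hz =>
    hB ⟨z, (Q.1.mem_valuationSubring_iff z).mpr hz⟩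
  have hk'B : ∀ c : k', algebraMap k' Kb c ∈ B := by
    intro c
    rw [IsScalarTower.algebraMap_apply k' K' Kb]
    exact hfB _ (Q.2.1 c)
  have hkbB : ∀ c : kb, algebraMap kb Kb c ∈ B := by
    intro c
    apply G.vs_mem_of_isAlgebraic (k := k') B hk'B
    have h1 : IsAlgebraic k' c := Algebra.IsAlgebraic.isAlgebraic c
    exact h1.algHom (IsScalarTower.toAlgHom k' kb Kb)
  have hnon : ∀ z : K', Q.1 z < 1 → algebraMap K' Kb z ∈ B.nonunits := by
    intro z hz
    have hzO : z ∈ Q.O := (Q.1.mem_valuationSubring_iff z).mpr hz.le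
    rw [ValuationSubring.mem_nonunits_iff_exists_mem_maximalIdeal]
    refine ⟨hfB z hz.le, ?_⟩
    rw [IsLocalRing.mem_maximalIdeal, mem_nonunits_iff]
    intro hu
    have h1 : IsUnit (f.codRestrict B.toSubring hB ⟨z, hzO⟩) := hu
    have h2 : IsUnit (⟨z, hzO⟩ : Q.O) := hloc.map_nonunit _ h1
    have h3 : (⟨z, hzO⟩ : Q.O) ∈ IsLocalRing.maximalIdeal Q.O := by
      rw [mem_maximalIdeal_iff]
      exact hz
    exact (IsLocalRing.mem_maximalIdeal _).mp h3 h2
  obtain ⟨t, ht0, ht⟩ := pl_exists_val_eq_exp Q (-1)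
  have htlt : Q.1 t < 1 := by
    rw [ht, ← exp_zero, exp_lt_exp]; omega
  obtain ⟨Qb, hQb1, hQb2⟩ := G.exists_place_of_valuationSubring B hkbB hKb
    (algebraMap K' Kb t) ((_root_.map_ne_zero _).mpr ht0) (hnon t htlt)
  set w : Valuation K' (WithZero (Multiplicative ℤ)) := Qb.1.comap (algebraMap K' Kb) with hw
  have hwle : ∀ z : K', Q.1 z ≤ 1 → w z ≤ 1 := fun z hz => hQb1 _ (hfB z hz)
  have hwlt : ∀ z : K', Q.1 z < 1 → w z < 1 := fun z hz => hQb2 _ (hnon z hz)
  have hle : ∀ z : K', w z ≤ 1 → Q.1 z ≤ 1 := by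
    intro z hz
    by_contra hcon
    rw [not_le] at hcon
    have hz0 : z ≠ 0 := by
      rintro rfl
      rw [map_zero] at hcon
      exact absurd hcon (by simp)
    have h1 : Q.1 z⁻¹ < 1 := by
      rw [map_inv₀]; exact (inv_lt_one₀ (lt_trans zero_lt_one hcon)).mpr hcon
    have h2 := hwlt _ h1
    rw [map_inv₀] at h2
    have hwz : 0 < w z := zero_lt_iff.mpr ((w.ne_zero_iff).mpr hz0)
    exact absurd hz (not_le.mpr ((inv_lt_one₀ hwz).mp h2))
  have hlt : ∀ z : K', w z < 1 → Q.1 z < 1 := by
    intro z hz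
    by_contra hcon
    rw [not_lt] at hcon
    have hz0 : z ≠ 0 := by
      rintro rfl
      rw [map_zero] at hcon
      exact absurd hcon (by simp)
    have h1 : Q.1 z⁻¹ ≤ 1 := by
      rw [map_inv₀]; exact (inv_le_one₀ (lt_of_lt_of_le zero_lt_one hcon)).mpr hcon
    have h2 := hwle _ h1
    rw [map_inv₀] at h2
    have hwz : 0 < w z := zero_lt_iff.mpr ((w.ne_zero_iff).mpr hz0)
    exact absurd hz (not_lt.mpr ((inv_le_one₀ hwz).mp h2))
  obtain ⟨e, he0, he⟩ := val_eq_pow_of_dominates Q w hle hlt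
  exact ⟨Qb, e, he0, fun x => he x⟩

end PlaceOver

end Groth.Agent.H55
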