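import Groth.Agent.H55.SplitB
import Mathlib

/-!
Existence of a finite splitting field for a place of a geometric function field.
-/

set_option autoImplicit false

universe u v

namespace Groth.Agent.H55

open FunFld IntermediateField TensorProduct WithZero

theorem exists_finite_splitting (k : Type u) (K : Type v) [Field k] [Field K] [Algebra k K]
    (hK : FunFld.IsFunctionField k K) (hg : FunFld.IsGeometric k K) (P : FunFld.Place k K) :
    ∃ (k' : IntermediateField k (AlgebraicClosure k)), FiniteDimensional k k' ∧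
      ∀ (K' : Type v) [Field K'] [Algebra K K'] [Algebra k' K'] [Algebra k K']
        [IsScalarTower k k' K'] [IsScalarTower k K K'],
        Function.Bijective (Algebra.TensorProduct.productMap
          (IsScalarTower.toAlgHom k k' K') (IsScalarTower.toAlgHom k K K')) →
        ∀ Q : FunFld.Place k' K', P.1.HasExtension Q.1 → Q.deg = 1 := by
  classical
  have hbij := kbar_bijective k K hg
  have hKb1 : G.IsFF1 (AlgebraicClosure k) (KbarField k K) := isFF1_scalarExt_algebraic hbij hK
  obtain ⟨z₀, hz₀t, hz₀P, hz₀only⟩ := G.exists_only_zero hK.1 P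
  have hz₀ne : z₀ ≠ 0 := by
    rintro rfl
    exact hz₀t isAlgebraic_zero
  have hZfin : {Qb : Place (AlgebraicClosure k) (KbarField k K) |
      Qb.1 (algebraMap K (KbarField k K) z₀) < 1}.Finite :=
    G.zeros_finite hKb1 _ ((_root_.map_ne_zero _).mpr hz₀ne)
  choose kf hkf1 hkf2 hkf3 using fun Qb : Place (AlgebraicClosure k) (KbarField k K) =>
    place_defined_over_finite hbij hK Qb
  obtain ⟨k', hk'⟩ : ∃ k' : IntermediateField k (AlgebraicClosure k),
    k' = ⨆ Qb ∈ hZfin.toFinset, kf Qb := ⟨_, rfl⟩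
  have hfin : FiniteDimensional k k' := by
    rw [hk']
    exact IntermediateField.finiteDimensional_iSup_of_finset' (fun Qb _ => hkf1 Qb)
  have hle : ∀ Qb ∈ hZfin.toFinset, kf Qb ≤ k' := by
    intro Qb hQb
    rw [hk']
    exact le_iSup₂_of_le Qb hQb le_rfl
  refine ⟨k', hfin, ?_⟩
  intro K' _ _ _ _ _ _ hK'bij Q hQP
  obtain ⟨hK'ff, hK'g⟩ := scalarExt_isFunctionField_isGeometric hK'bij hK hg
  -- the embedding of `K'` into `Kb`
  let ι' : k' →ₐ[k] KbarField k K :=
    (IsScalarTower.toAlgHom k (AlgebraicClosure k) (KbarField k K)).comp k'.val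
  let ψ₀ : k' ⊗[k] K →ₐ[k] KbarField k K :=
    Algebra.TensorProduct.productMap ι' (IsScalarTower.toAlgHom k K (KbarField k K))
  let e' : k' ⊗[k] K ≃ₐ[k'] K' := scalarExtEquiv hK'bij
  let ψ : K' →+* KbarField k K := ψ₀.toRingHom.comp e'.symm.toAlgHom.toRingHom
  have hψ1 : ∀ c : k', ψ (algebraMap k' K' c) = algebraMap k' (KbarField k K) c := by
    intro c
    have h1 : e'.symm (algebraMap k' K' c) = algebraMap k' (k' ⊗[k] K) c := e'.symm.commutes c
    show ψ₀ (e'.symm (algebraMap k' K' c)) = _
    rw [h1, Algebra.TensorProduct.algebraMap_apply, Algebra.TensorProduct.productMap_apply_tmul]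
    simp [ι']
    rfl
  have hψ2 : ∀ a : K, ψ (algebraMap K K' a) = algebraMap K (KbarField k K) a := by
    intro a
    have h1 : e'.symm (algebraMap K K' a) = (1 : k') ⊗ₜ[k] a := by
      rw [AlgEquiv.symm_apply_eq]
      show _ = Algebra.TensorProduct.productMap (IsScalarTower.toAlgHom k k' K')
        (IsScalarTower.toAlgHom k K K') ((1 : k') ⊗ₜ[k] a)
      rw [Algebra.TensorProduct.productMap_apply_tmul]
      simp
    show ψ₀ (e'.symm (algebraMap K K' a)) = _
    rw [h1, Algebra.TensorProduct.productMap_apply_tmul]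
    simp
  letI : Algebra K' (KbarField k K) := ψ.toAlgebra
  haveI : IsScalarTower k' K' (KbarField k K) :=
    IsScalarTower.of_algebraMap_eq (fun c => (hψ1 c).symm)
  haveI : IsScalarTower K K' (KbarField k K) :=
    IsScalarTower.of_algebraMap_eq (fun a => (hψ2 a).symm)
  -- `Kb = kb ⊗[k'] K'`
  have hF' : IsField (AlgebraicClosure k ⊗[k'] K') :=
    isField_tensor_algebraic (AlgebraicClosure k) hK'g
  have hgen' : ∀ z : KbarField k K, z ∈ Algebra.adjoin K'
      (Set.range (algebraMap (AlgebraicClosure k) (KbarField k K))) := by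
    intro z
    have hz := kbar_gen k K z
    induction hz using Algebra.adjoin_induction with
    | mem x hx => exact Algebra.subset_adjoin hx
    | algebraMap a =>
      rw [IsScalarTower.algebraMap_apply K K' (KbarField k K)]
      exact Subalgebra.algebraMap_mem _ _
    | add x y _ _ hx hy => exact add_mem hx hy
    | mul x y _ _ hx hy => exact mul_mem hx hy
  have hbij' : Function.Bijective (Algebra.TensorProduct.productMap
      (IsScalarTower.toAlgHom k' (AlgebraicClosure k) (KbarField k K))
      (IsScalarTower.toAlgHom k' K' (KbarField k K))) :=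
    productMap_bijective_of_isField hF' hgen'
  -- a place above `Q`
  obtain ⟨Qb, e, he0, hQb⟩ := exists_place_over_alg (k' := k') (kb := AlgebraicClosure k) hKb1 Q
  have hQz₀ : Q.1 (algebraMap K K' z₀) < 1 :=
    (Valuation.HasExtension.val_map_lt_one_iff P.1 Q.1 z₀).mpr hz₀P
  have hQbZ : Qb ∈ hZfin.toFinset := by
    rw [Set.Finite.mem_toFinset, Set.mem_setOf_eq,
      IsScalarTower.algebraMap_apply K K' (KbarField k K), hQb]
    exact pow_lt_one₀ zero_le' hQz₀ he0.ne'
  have hkfle := hle Qb hQbZ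
  have hrange : ∀ z ∈ Algebra.adjoin K (Set.range fun c : kf Qb =>
      algebraMap (AlgebraicClosure k) (KbarField k K) c),
      ∃ z' : K', algebraMap K' (KbarField k K) z' = z := by
    intro z hz
    induction hz using Algebra.adjoin_induction with
    | mem x hx =>
      obtain ⟨c, rfl⟩ := hx
      refine ⟨algebraMap k' K' ⟨c, hkfle c.2⟩, ?_⟩
      rw [← IsScalarTower.algebraMap_apply k' K' (KbarField k K)]
      rfl
    | algebraMap a =>
      exact ⟨algebraMap K K' a, (IsScalarTower.algebraMap_apply K K' (KbarField k K) a).symm⟩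
    | add x y _ _ hx hy =>
      obtain ⟨a, rfl⟩ := hx
      obtain ⟨b, rfl⟩ := hy
      exact ⟨a + b, map_add _ _ _⟩
    | mul x y _ _ hx hy =>
      obtain ⟨a, rfl⟩ := hx
      obtain ⟨b, rfl⟩ := hy
      exact ⟨a * b, map_mul _ _ _⟩
  -- `e = 1`
  have he1 : e = 1 := by
    obtain ⟨z, hzA, hz⟩ := hkf2 Qb
    obtain ⟨z', rfl⟩ := hrange z hzA
    rw [hQb] at hz
    have hz'0 : z' ≠ 0 := by
      rintro rfl
      rw [map_zero, zero_pow he0.ne'] at hz
      exact absurd hz.symm (by simp)
    rw [pl_val_eq_exp_neg_ord Q hz'0, ← exp_nsmul, exp_inj] at hz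
    have h1 : (e : ℤ) * (-(Q.ord z')) = -1 := by
      rw [← hz]; simp
    have h2 : (e : ℤ) ∣ 1 := ⟨Q.ord z', by linarith⟩
    have h3 : (e : ℤ) = 1 := Int.eq_one_of_dvd_one (by positivity) h2
    exact_mod_cast h3
  subst he1
  simp only [pow_one] at hQb
  haveI : IsAlgClosed (AlgebraicClosure k) := inferInstance
  apply deg_eq_one_of_unique_over (k' := k') (kb := AlgebraicClosure k) hbij' hK'ff Q Qb hQb
  rintro Qb' ⟨e', he'0, hQb'⟩
  apply hkf3 Qb Qb'
  refine ⟨e', fun z hz => ?_⟩
  obtain ⟨z', rfl⟩ := hrange z hz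
  rw [hQb', hQb]

end Groth.Agent.H55
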