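import Groth.Agent.H55.NSing
import Groth.Agent.H55.FFConstExt
import Groth.Agent.H55.FFFrobPlace
import Groth.Agent.H55.FFIndep
import Mathlib

/-!
Places above a nonsingular place in a splitting field: residues, the induced embedding of the
residue field, and bounds for the number of places and the ramification index.
-/

set_option autoImplicit false

namespace Groth.Agent.H55

open FunFld WithZero Polynomial IntermediateField IsLocalRing TensorProduct
open ConstExt FrobPlace

section Red

variable {k' K' : Type*} [Field k'] [Field K'] [Algebra k' K']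

/-- `c` is the residue of `x` at the place `Q`. -/
def Red (Q : Place k' K') (x : K') (c : k') : Prop := Q.1 (x - algebraMap k' K' c) < 1

variable {Q : Place k' K'} {x y : K'} {c d : k'}

theorem Red.val_le (h : Red Q x c) : Q.1 x ≤ 1 := by
  have h1 : x = (x - algebraMap k' K' c) + algebraMap k' K' c := by ring
  rw [h1]
  exact (Q.1.map_add _ _).trans (max_le h.le (Q.2.1 c))

theorem red_const (Q : Place k' K') (c : k') : Red Q (algebraMap k' K' c) c := by
  unfold Red
  rw [sub_self, map_zero]
  exact zero_lt_one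

theorem Red.add (hx : Red Q x c) (hy : Red Q y d) : Red Q (x + y) (c + d) := by
  unfold Red at *
  have h1 : x + y - algebraMap k' K' (c + d) =
      (x - algebraMap k' K' c) + (y - algebraMap k' K' d) := by rw [map_add]; ring
  rw [h1]
  exact lt_of_le_of_lt (Q.1.map_add _ _) (max_lt hx hy)

theorem Red.mul (hx : Red Q x c) (hy : Red Q y d) : Red Q (x * y) (c * d) := by
  have hy1 := hy.val_le
  unfold Red at *
  have h1 : x * y - algebraMap k' K' (c * d) =
      (x - algebraMap k' K' c) * y + algebraMap k' K' c * (y - algebraMap k' K' d) := by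
    rw [map_mul]; ring
  rw [h1]
  refine lt_of_le_of_lt (Q.1.map_add _ _) (max_lt ?_ ?_)
  · rw [map_mul]
    exact (mul_le_mul' le_rfl hy1).trans_lt (by rwa [mul_one])
  · rw [map_mul]
    exact (mul_le_mul' (Q.2.1 c) le_rfl).trans_lt (by rwa [one_mul])

theorem Red.pow (hx : Red Q x c) (n : ℕ) : Red Q (x ^ n) (c ^ n) := by
  induction n with
  | zero =>
    simp only [pow_zero]
    have := red_const Q (1 : k')
    rwa [map_one] at this
  | succ n ih =>
    rw [pow_succ, pow_succ]
    exact ih.mul hx

theorem Red.unique {c' : k'} (hx : Red Q x c) (hx' : Red Q x c') : c = c' := by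
  by_contra hne
  have h1 : Q.1 (algebraMap k' K' (c' - c)) < 1 := by
    have h2 : algebraMap k' K' (c' - c) =
        (x - algebraMap k' K' c) - (x - algebraMap k' K' c') := by rw [map_sub]; ring
    rw [h2]
    exact lt_of_le_of_lt (Q.1.map_sub _ _) (max_lt hx hx')
  have h2 : Q.1 (algebraMap k' K' (c' - c)) = 1 :=
    pl_val_const Q (sub_ne_zero.mpr (Ne.symm hne))
  rw [h2] at h1
  exact lt_irrefl _ h1

theorem Red.aeval (hx : Red Q x c) (p : k'[X]) : Red Q (aeval x p) (p.eval c) := by
  induction p using Polynomial.induction_on' with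
  | add p q hp hq =>
    rw [map_add, eval_add]
    exact hp.add hq
  | monomial n a =>
    rw [aeval_monomial, eval_monomial]
    exact (red_const Q a).mul (hx.pow n)

theorem Red.val_eq_one (hx : Red Q x c) (hc : c ≠ 0) : Q.1 x = 1 := by
  have h1 : x = (x - algebraMap k' K' c) + algebraMap k' K' c := by ring
  have h2 : Q.1 (algebraMap k' K' c) = 1 := pl_val_const Q hc
  rw [h1, Valuation.map_add_eq_of_lt_right _ (by rw [h2]; exact hx), h2]

end Red

section Sigma

variable {k k' K K' : Type*} [Field k] [Field k'] [Field K] [Field K']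
  [Algebra k k'] [Algebra k K] [Algebra K K'] [Algebra k' K'] [Algebra k K']
  [IsScalarTower k k' K'] [IsScalarTower k K K']

/-- A degree one place `Q` of `K'/k'` above `P` induces a `k`-embedding of the residue field of
`P` into `k'`. -/
theorem exists_sigma (P : Place k K) (Q : Place k' K') (hdeg : Q.deg = 1) {e : ℕ} (he0 : 0 < e)
    (he : ∀ z : K, Q.1 (algebraMap K K' z) = P.1 z ^ e) :
    ∃ σ : ResidueField P.O →ₐ[k] k',
      ∀ a : P.O, Red Q (algebraMap K K' (a : K)) (σ (residue P.O a)) := by
  classical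
  have hle : ∀ a : P.O, Q.1 (algebraMap K K' (a : K)) ≤ 1 := fun a => by
    rw [he]
    exact pow_le_one₀ zero_le' ((P.1.mem_valuationSubring_iff _).mp a.2)
  choose f hf using fun a : P.O => exists_const_of_deg_one hdeg (hle a)
  have hf' : ∀ a : P.O, Red Q (algebraMap K K' (a : K)) (f a) := hf
  let ρ : P.O →+* k' :=
    { toFun := f
      map_one' := (hf' 1).unique (by
        have := red_const Q (1 : k')
        rw [map_one] at this
        simpa using this)
      map_mul' := fun a b => (hf' (a * b)).unique (by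
        have := (hf' a).mul (hf' b)
        rw [← map_mul] at this
        exact this)
      map_zero' := (hf' 0).unique (by
        have := red_const Q (0 : k')
        rw [map_zero] at this
        simpa using this)
      map_add' := fun a b => (hf' (a + b)).unique (by
        have := (hf' a).add (hf' b)
        rw [← map_add] at this
        exact this) }
  have hker : ∀ a ∈ maximalIdeal P.O, ρ a = 0 := by
    intro a ha
    refine (hf' a).unique ?_
    unfold Red
    rw [map_zero, sub_zero, he]
    exact pow_lt_one₀ zero_le' ((mem_maximalIdeal_iff P a).mp ha) he0.ne'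
  let σ₀ : ResidueField P.O →+* k' := Ideal.Quotient.lift (maximalIdeal P.O) ρ hker
  have hσ₀ : ∀ a : P.O, σ₀ (residue P.O a) = f a := fun a => Ideal.Quotient.lift_mk _ _ _
  refine ⟨{ σ₀ with commutes' := fun c => ?_ }, fun a => ?_⟩
  · show σ₀ (residue P.O (algebraMap k P.O c)) = algebraMap k k' c
    rw [hσ₀]
    refine (hf' _).unique ?_
    have h1 : algebraMap K K' ((algebraMap k P.O c : P.O) : K) =
        algebraMap k' K' (algebraMap k k' c) := by
      show algebraMap K K' (algebraMap k K c) = _
      rw [← IsScalarTower.algebraMap_apply, ← IsScalarTower.algebraMap_apply]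
    rw [h1]
    exact red_const Q _
  · show Red Q _ (σ₀ (residue P.O a))
    rw [hσ₀]
    exact hf' a

omit [IsScalarTower k k' K'] in
/-- Two places above `P` inducing the same residue embedding are equal (for `P` nonsingular). -/
theorem sigma_injective (hK1 : G.IsFF1 k K) [FiniteDimensional K K'] [Algebra.IsAlgebraic k k']
    [IsScalarTower k k' K'] (P : Place k K)
    (hns : ∀ z : K', (∀ Q : Place k K', IsOver Q P → Q.1 z ≤ 1) →
      z ∈ Algebra.adjoin (SO P K') (Set.range (algebraMap k' K')))
    (Q₁ Q₂ : Place k' K') (h₁ : IsOver (toK k Q₁) P)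
    (σ : ResidueField P.O →ₐ[k] k')
    (hσ₁ : ∀ a : P.O, Red Q₁ (algebraMap K K' (a : K)) (σ (residue P.O a)))
    (hσ₂ : ∀ a : P.O, Red Q₂ (algebraMap K K' (a : K)) (σ (residue P.O a))) : Q₁ = Q₂ := by
  classical
  by_contra hne
  obtain ⟨hfin, -⟩ := G.sum_ramIdx_mul_deg (K' := K') hK1 P
  have hne' : toK k Q₂ ≠ toK k Q₁ := by
    intro h
    apply hne
    have := congrArg (ofK (k' := k')) h
    rw [ofK_toK, ofK_toK] at this
    exact this.symm
  obtain ⟨y, hy⟩ := weak_approx (insert (toK k Q₂) hfin.toFinset)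
    (fun Q => if Q = toK k Q₁ then 0 else 1) (fun _ => -1)
  have hy₁ : Q₁.1 y < 1 := by
    have := hy (toK k Q₁) (Finset.mem_insert_of_mem (by
      rw [Set.Finite.mem_toFinset]; exact h₁))
    rw [if_pos rfl, sub_zero] at this
    show (toK k Q₁).1 y < 1
    rw [this, ← exp_zero, exp_lt_exp]; omega
  have hy₂ : Q₂.1 (y - 1) < 1 := by
    have := hy (toK k Q₂) (Finset.mem_insert_self _ _)
    rw [if_neg hne'] at this
    show (toK k Q₂).1 (y - 1) < 1
    rw [this, ← exp_zero, exp_lt_exp]; omega
  have hyall : ∀ Q : Place k K', IsOver Q P → Q.1 y ≤ 1 := by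
    intro Q hQ
    have := hy Q (Finset.mem_insert_of_mem (by rw [Set.Finite.mem_toFinset]; exact hQ))
    by_cases hQ1 : Q = toK k Q₁
    · rw [if_pos hQ1, sub_zero] at this
      rw [this, ← exp_zero, exp_le_exp]; omega
    · rw [if_neg hQ1] at this
      have h1 : y = (y - 1) + 1 := by ring
      rw [h1]
      refine (Q.1.map_add _ _).trans (max_le ?_ (by rw [map_one]))
      rw [this, ← exp_zero, exp_le_exp]; omega
  have hymem := hns y hyall
  have key : ∀ x ∈ Algebra.adjoin (SO P K') (Set.range (algebraMap k' K')),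
      ∃ c : k', Red Q₁ x c ∧ Red Q₂ x c := by
    intro x hx
    induction hx using Algebra.adjoin_induction with
    | mem x hx =>
      obtain ⟨c, rfl⟩ := hx
      exact ⟨c, red_const Q₁ c, red_const Q₂ c⟩
    | algebraMap r =>
      obtain ⟨a, ha, har⟩ := (mem_SO_iff P r.1).mp r.2
      refine ⟨σ (residue P.O ⟨a, (P.1.mem_valuationSubring_iff a).mpr ha⟩), ?_, ?_⟩
      · have := hσ₁ ⟨a, (P.1.mem_valuationSubring_iff a).mpr ha⟩
        show Red Q₁ (r : K') _
        rw [← har]
        exact this
      · have := hσ₂ ⟨a, (P.1.mem_valuationSubring_iff a).mpr ha⟩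
        show Red Q₂ (r : K') _
        rw [← har]
        exact this
    | add x y _ _ hx hy =>
      obtain ⟨c, hc1, hc2⟩ := hx
      obtain ⟨d, hd1, hd2⟩ := hy
      exact ⟨c + d, hc1.add hd1, hc2.add hd2⟩
    | mul x y _ _ hx hy =>
      obtain ⟨c, hc1, hc2⟩ := hx
      obtain ⟨d, hd1, hd2⟩ := hy
      exact ⟨c * d, hc1.mul hd1, hc2.mul hd2⟩
  obtain ⟨c, hc1, hc2⟩ := key y hymem
  have h0 : c = 0 := hc1.unique (by unfold Red; rw [map_zero, sub_zero]; exact hy₁)
  have h1 : c = 1 := hc2.unique (by unfold Red; rw [map_one]; exact hy₂)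
  rw [h0] at h1
  exact zero_ne_one h1

omit [IsScalarTower k k' K'] in
/-- For a nonsingular place, some element `a - σ(ā)` is a local parameter at `Q`. -/
theorem exists_param (hK1 : G.IsFF1 k K) [FiniteDimensional K K'] [Algebra.IsAlgebraic k k']
    [IsScalarTower k k' K'] (P : Place k K)
    (hns : ∀ z : K', (∀ Q : Place k K', IsOver Q P → Q.1 z ≤ 1) →
      z ∈ Algebra.adjoin (SO P K') (Set.range (algebraMap k' K')))
    (Q : Place k' K') (h₁ : IsOver (toK k Q) P)
    (σ : ResidueField P.O →ₐ[k] k')
    (hσ : ∀ a : P.O, Red Q (algebraMap K K' (a : K)) (σ (residue P.O a))) :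
    ∃ a : P.O, Q.1 (algebraMap K K' (a : K) - algebraMap k' K' (σ (residue P.O a))) =
      exp (-1 : ℤ) := by
  classical
  by_contra hcon
  push_neg at hcon
  have hall : ∀ a : P.O, Q.1 (algebraMap K K' (a : K) -
      algebraMap k' K' (σ (residue P.O a))) ≤ exp (-2 : ℤ) := by
    intro a
    have h1 : Q.1 (algebraMap K K' (a : K) - algebraMap k' K' (σ (residue P.O a))) < 1 := hσ a
    have h2 := hcon a
    by_cases h0 : algebraMap K K' (a : K) - algebraMap k' K' (σ (residue P.O a)) = 0
    · rw [h0, map_zero]; exact zero_le'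
    · rw [pl_val_eq_exp_neg_ord Q h0] at h1 h2 ⊢
      rw [← exp_zero, exp_lt_exp] at h1
      rw [exp_le_exp]
      have h3 : -(Q.ord (algebraMap K K' (a : K) -
          algebraMap k' K' (σ (residue P.O a)))) ≠ -1 := fun h => h2 (by rw [h])
      omega
  obtain ⟨hfin, -⟩ := G.sum_ramIdx_mul_deg (K' := K') hK1 P
  obtain ⟨π, hπ0, hπ⟩ := pl_exists_val_eq_exp Q (-1)
  obtain ⟨y, hy⟩ := weak_approx hfin.toFinset
    (fun Q' => if Q' = toK k Q then π else 0) (fun _ => -2)
  have hyQ : Q.1 y = exp (-1 : ℤ) := by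
    have := hy (toK k Q) (by rw [Set.Finite.mem_toFinset]; exact h₁)
    rw [if_pos rfl] at this
    have h1 : (toK k Q).1 (y - π) = Q.1 (y - π) := rfl
    rw [h1] at this
    have h2 : y = (y - π) + π := by ring
    rw [h2, Valuation.map_add_eq_of_lt_right _ (by rw [this, hπ, exp_lt_exp]; omega), hπ]
  have hyall : ∀ Q' : Place k K', IsOver Q' P → Q'.1 y ≤ 1 := by
    intro Q' hQ'
    have := hy Q' (by rw [Set.Finite.mem_toFinset]; exact hQ')
    by_cases hQ1 : Q' = toK k Q
    · subst hQ1
      show Q.1 y ≤ 1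
      rw [hyQ, ← exp_zero, exp_le_exp]; omega
    · rw [if_neg hQ1, sub_zero] at this
      rw [this, ← exp_zero, exp_le_exp]; omega
  have hymem := hns y hyall
  have key : ∀ x ∈ Algebra.adjoin (SO P K') (Set.range (algebraMap k' K')),
      ∃ c : k', Q.1 (x - algebraMap k' K' c) ≤ exp (-2 : ℤ) := by
    intro x hx
    induction hx using Algebra.adjoin_induction with
    | mem x hx =>
      obtain ⟨c, rfl⟩ := hx
      exact ⟨c, by rw [sub_self, map_zero]; exact zero_le'⟩
    | algebraMap r =>
      obtain ⟨a, ha, har⟩ := (mem_SO_iff P r.1).mp r.2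
      refine ⟨σ (residue P.O ⟨a, (P.1.mem_valuationSubring_iff a).mpr ha⟩), ?_⟩
      have := hall ⟨a, (P.1.mem_valuationSubring_iff a).mpr ha⟩
      show Q.1 ((r : K') - _) ≤ _
      rw [← har]
      exact this
    | add x y _ _ hx hy =>
      obtain ⟨c, hc⟩ := hx
      obtain ⟨d, hd⟩ := hy
      refine ⟨c + d, ?_⟩
      have h1 : x + y - algebraMap k' K' (c + d) =
          (x - algebraMap k' K' c) + (y - algebraMap k' K' d) := by rw [map_add]; ring
      rw [h1]
      exact (Q.1.map_add _ _).trans (max_le hc hd)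
    | mul x y _ _ hx hy =>
      obtain ⟨c, hc⟩ := hx
      obtain ⟨d, hd⟩ := hy
      refine ⟨c * d, ?_⟩
      have hy1 : Q.1 y ≤ 1 := by
        have h2 : y = (y - algebraMap k' K' d) + algebraMap k' K' d := by ring
        rw [h2]
        refine (Q.1.map_add _ _).trans (max_le (hd.trans ?_) (Q.2.1 d))
        rw [← exp_zero, exp_le_exp]; omega
      have h1 : x * y - algebraMap k' K' (c * d) =
          (x - algebraMap k' K' c) * y + algebraMap k' K' c * (y - algebraMap k' K' d) := by
        rw [map_mul]; ring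
      rw [h1]
      refine (Q.1.map_add _ _).trans (max_le ?_ ?_)
      · rw [map_mul]
        exact (mul_le_mul' hc hy1).trans (by rw [mul_one])
      · rw [map_mul]
        exact (mul_le_mul' (Q.2.1 c) hd).trans (by rw [one_mul])
  obtain ⟨c, hc⟩ := key y hymem
  have hc0 : c = 0 := by
    by_contra hne
    have h1 : Q.1 (algebraMap k' K' c) = 1 := pl_val_const Q hne
    have h2 : Q.1 (y - algebraMap k' K' c) = 1 := by
      rw [sub_eq_add_neg, Valuation.map_add_eq_of_lt_right _ (by
        rw [Valuation.map_neg, h1, hyQ, ← exp_zero, exp_lt_exp]; omega), Valuation.map_neg, h1]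
    rw [h2, ← exp_zero, exp_le_exp] at hc
    omega
  rw [hc0, map_zero, sub_zero, hyQ, exp_le_exp] at hc
  omega

omit [IsScalarTower k k' K'] in
/-- The ramification index above a nonsingular place in a splitting field is at most the
inseparable degree of the residue field. -/
theorem ramIdx_le_insep (hK1 : G.IsFF1 k K) [FiniteDimensional K K'] [Algebra.IsAlgebraic k k']
    [IsScalarTower k k' K'] (P : Place k K)
    (hns : ∀ z : K', (∀ Q : Place k K', IsOver Q P → Q.1 z ≤ 1) →
      z ∈ Algebra.adjoin (SO P K') (Set.range (algebraMap k' K')))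
    (Q : Place k' K') (hdeg : Q.deg = 1) {e : ℕ} (he0 : 0 < e)
    (he : ∀ z : K, Q.1 (algebraMap K K' z) = P.1 z ^ e) :
    e ≤ Module.finrank (separableClosure k (ResidueField P.O)) (ResidueField P.O) := by
  classical
  have h₁ : IsOver (toK k Q) P := ⟨e, he⟩
  obtain ⟨σ, hσ⟩ := exists_sigma P Q hdeg he0 he
  obtain ⟨a, ha⟩ := exists_param hK1 P hns Q h₁ σ hσ
  haveI hFfin : @Module.Finite k (ResidueField P.O) _ _ (Place.algRes P).toModule :=
    G.residue_finiteDimensional hK1 P
  haveI : Algebra.IsAlgebraic k (ResidueField P.O) := Algebra.IsAlgebraic.of_finite k _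
  haveI : IsPurelyInseparable (separableClosure k (ResidueField P.O)) (ResidueField P.O) :=
    separableClosure.isPurelyInseparable k _
  obtain ⟨p, hp⟩ := ExpChar.exists k
  haveI := hp
  haveI : ExpChar (separableClosure k (ResidueField P.O)) p :=
    expChar_of_injective_algebraMap (algebraMap k _).injective p
  haveI : ExpChar K' p := expChar_of_injective_algebraMap (algebraMap k K').injective p
  obtain ⟨n, y, hmin⟩ := IsPurelyInseparable.minpoly_eq_X_pow_sub_C
    (separableClosure k (ResidueField P.O)) p (residue P.O a)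
  have hpn : p ^ n ≤ Module.finrank (separableClosure k (ResidueField P.O)) (ResidueField P.O) := by
    have := minpoly.natDegree_le (A := separableClosure k (ResidueField P.O)) (residue P.O a)
    rw [hmin, natDegree_X_pow_sub_C] at this
    exact this
  have hay : (residue P.O a) ^ p ^ n = (y : ResidueField P.O) := by
    have := minpoly.aeval (separableClosure k (ResidueField P.O)) (residue P.O a)
    rw [hmin, map_sub, map_pow, aeval_X, aeval_C, sub_eq_zero] at this
    exact this
  obtain ⟨b, hbdef⟩ : ∃ b : P.O, b = a ^ p ^ n := ⟨_, rfl⟩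
  have hb : residue P.O b = (y : ResidueField P.O) := by rw [hbdef, map_pow, hay]
  have hsep : IsSeparable k (y : ResidueField P.O) := mem_separableClosure_iff.mp y.2
  obtain ⟨g, hgdef⟩ : ∃ g : k[X], g = minpoly k (y : ResidueField P.O) := ⟨_, rfl⟩
  have hgsep : g.Separable := by rw [hgdef]; exact hsep
  have hPg : P.1 (aeval (b : K) g) < 1 := by
    haveI : IsScalarTower k P.O K := IsScalarTower.of_algebraMap_eq (fun c => rfl)
    have h1 : residue P.O (aeval b g) = 0 := by
      have h2 : residue P.O (aeval b g) = aeval (residue P.O b) g := by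
        rw [aeval_def, aeval_def, Polynomial.hom_eval₂]
        rfl
      rw [h2, hb, hgdef, minpoly.aeval]
    have h3 : aeval b g ∈ maximalIdeal P.O := (residue_eq_zero_iff _).mp h1
    rw [mem_maximalIdeal_iff] at h3
    have h4 : ((aeval b g : P.O) : K) = aeval (b : K) g :=
      (Polynomial.aeval_algebraMap_apply K b g).symm
    rwa [h4] at h3
  have hQg : Q.1 (algebraMap K K' (aeval (b : K) g)) ≤ exp (-(e : ℤ)) := by
    rw [he]
    by_cases h0 : aeval (b : K) g = 0
    · rw [h0, map_zero, zero_pow he0.ne']; exact zero_le'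
    · rw [pl_val_eq_exp_neg_ord P h0] at hPg ⊢
      rw [← exp_zero, exp_lt_exp] at hPg
      rw [← exp_nsmul, exp_le_exp, nsmul_eq_mul]
      nlinarith
  obtain ⟨g', hg'def⟩ : ∃ g' : k'[X], g' = g.map (algebraMap k k') := ⟨_, rfl⟩
  have h5 : algebraMap K K' (aeval (b : K) g) = aeval (algebraMap K K' (b : K)) g' := by
    rw [hg'def, aeval_map_algebraMap, aeval_algebraMap_apply]
  obtain ⟨cb, hcbdef⟩ : ∃ cb : k', cb = σ (residue P.O b) := ⟨_, rfl⟩
  have hroot : g'.IsRoot cb := by
    rw [IsRoot.def, hg'def, eval_map_algebraMap, hcbdef, hb, aeval_algHom_apply, hgdef,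
      minpoly.aeval, map_zero]
  have hfac : (X - C cb) * (g' /ₘ (X - C cb)) = g' := mul_divByMonic_eq_iff_isRoot.mpr hroot
  obtain ⟨h, hhdef⟩ : ∃ h : k'[X], h = g' /ₘ (X - C cb) := ⟨_, rfl⟩
  rw [← hhdef] at hfac
  have hh : h.eval cb ≠ 0 := by
    intro h0
    obtain ⟨r, hr⟩ : (X - C cb) ∣ h := dvd_iff_isRoot.mpr h0
    have h7 : (X - C cb) * (X - C cb) ∣ g' := ⟨r, by rw [← hfac, hr]; ring⟩
    have hsq : Squarefree g' := by
      rw [hg'def]
      exact (hgsep.map).squarefree
    exact not_isUnit_X_sub_C cb (hsq _ h7)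
  have hred : Red Q (algebraMap K K' (b : K)) cb := by
    rw [hcbdef]; exact hσ b
  have h8 : aeval (algebraMap K K' (b : K)) g' =
      (algebraMap K K' (b : K) - algebraMap k' K' cb) * aeval (algebraMap K K' (b : K)) h := by
    conv_lhs => rw [← hfac]
    rw [map_mul, map_sub, aeval_X, aeval_C]
  have h9 : Q.1 (aeval (algebraMap K K' (b : K)) h) = 1 := (hred.aeval h).val_eq_one hh
  have h10 : Q.1 (algebraMap K K' (b : K) - algebraMap k' K' cb) ≤ exp (-(e : ℤ)) := by
    have := hQg
    rw [h5, h8, map_mul, h9, mul_one] at this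
    exact this
  have h11 : algebraMap K K' (b : K) - algebraMap k' K' cb =
      (algebraMap K K' (a : K) - algebraMap k' K' (σ (residue P.O a))) ^ p ^ n := by
    rw [sub_pow_expChar_pow, ← map_pow, ← map_pow, ← map_pow, ← map_pow, hcbdef, hbdef]
    rfl
  rw [h11, map_pow, ha, ← exp_nsmul, exp_le_exp, nsmul_eq_mul] at h10
  have h12 : (e : ℤ) ≤ ((p ^ n : ℕ) : ℤ) := by
    push_cast at h10 ⊢
    linarith
  have h13 : e ≤ p ^ n := by exact_mod_cast h12
  exact h13.trans hpn

end Sigma

end Groth.Agent.H55
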