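import Groth.Agent.H55.SplitD
import Mathlib

/-!
The number of places above a nonsingular place in a splitting field.
-/

set_option autoImplicit false

universe u v

namespace Groth.Agent.H55

open FunFld WithZero Polynomial IntermediateField IsLocalRing TensorProduct
open ConstExt FrobPlace

section Rank

variable {k k' K K' : Type*} [Field k] [Field k'] [Field K] [Field K']
  [Algebra k k'] [Algebra k K] [Algebra K K'] [Algebra k' K'] [Algebra k K']
  [IsScalarTower k k' K'] [IsScalarTower k K K']

theorem finrank_of_productMap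
    (h : Function.Bijective (Algebra.TensorProduct.productMap
      (IsScalarTower.toAlgHom k k' K') (IsScalarTower.toAlgHom k K K'))) :
    Module.finrank K K' = Module.finrank k k' := by
  let g : K ⊗[k] k' →ₐ[K] K' :=
    Algebra.TensorProduct.productLeftAlgHom (Algebra.ofId K K') (IsScalarTower.toAlgHom k k' K')
  have hg : ∀ t : K ⊗[k] k', g t = Algebra.TensorProduct.productMap
      (IsScalarTower.toAlgHom k k' K') (IsScalarTower.toAlgHom k K K')
      (Algebra.TensorProduct.comm k K k' t) := by
    intro t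
    induction t using TensorProduct.induction_on with
    | zero => simp
    | tmul a c => simp [g, mul_comm, Algebra.ofId_apply]
    | add x y hx hy => rw [map_add, map_add, map_add, hx, hy]
  have hbij : Function.Bijective g := by
    have h1 : (g : K ⊗[k] k' → K') = (Algebra.TensorProduct.productMap
      (IsScalarTower.toAlgHom k k' K') (IsScalarTower.toAlgHom k K K')) ∘
      (Algebra.TensorProduct.comm k K k') := funext hg
    rw [h1]
    exact h.comp (Algebra.TensorProduct.comm k K k').bijective
  rw [← (LinearEquiv.ofBijective g.toLinearMap hbij).finrank_eq, Module.finrank_baseChange]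

end Rank

theorem card_places_over_nonsingular (k k' : Type u) (K K' : Type v) [Field k] [Field k']
    [Field K] [Field K']
    [Algebra k k'] [FiniteDimensional k k'] [Algebra k K] [Algebra K K'] [Algebra k' K']
    [Algebra k K'] [IsScalarTower k k' K'] [IsScalarTower k K K']
    (h : Function.Bijective (Algebra.TensorProduct.productMap
      (IsScalarTower.toAlgHom k k' K') (IsScalarTower.toAlgHom k K K')))
    (hK : FunFld.IsFunctionField k K) (P : FunFld.Place k K)
    (hns : integralClosure (P.O.toSubring.map (algebraMap K K')) K' =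
        Algebra.adjoin (P.O.toSubring.map (algebraMap K K')) (Set.range (algebraMap k' K')))
    (hsplit : ∀ Q : FunFld.Place k' K',
      (∃ e : ℕ, ∀ z : K, Q.1 (algebraMap K K' z) = P.1 z ^ e) → Q.deg = 1) :
    {Q : FunFld.Place k' K' | ∃ e : ℕ, ∀ z : K, Q.1 (algebraMap K K' z) = P.1 z ^ e}.Finite ∧
    {Q : FunFld.Place k' K' | ∃ e : ℕ, ∀ z : K, Q.1 (algebraMap K K' z) = P.1 z ^ e}.ncard =
      Field.finSepDegree k (IsLocalRing.ResidueField P.O) ∧
    ∀ Q : FunFld.Place k' K', (∃ e : ℕ, ∀ z : K, Q.1 (algebraMap K K' z) = P.1 z ^ e) →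
      ∀ z : K, Q.1 (algebraMap K K' z) = P.1 z ^
        Module.finrank (separableClosure k (IsLocalRing.ResidueField P.O))
          (IsLocalRing.ResidueField P.O) := by
  classical
  haveI : FiniteDimensional K K' := finiteDimensional_of_productMap h.2
  haveI : Algebra.IsAlgebraic k k' := Algebra.IsAlgebraic.of_finite k k'
  have hK1 : G.IsFF1 k K := hK.1
  have hns' := (ns_iff (F := k') hK1 P).mp hns
  obtain ⟨hTfin, hTsum⟩ := G.sum_ramIdx_mul_deg (K' := K') hK1 P
  obtain ⟨S, hSdef⟩ : ∃ S : Set (Place k' K'),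
    S = {Q | ∃ e : ℕ, ∀ z : K, Q.1 (algebraMap K K' z) = P.1 z ^ e} := ⟨_, rfl⟩
  rw [← hSdef]
  have hmem : ∀ Q : Place k' K', Q ∈ S ↔ IsOver (toK k Q) P := by
    intro Q; rw [hSdef]; exact Iff.rfl
  have htoK_inj : Function.Injective (toK k : Place k' K' → Place k K') := fun Q₁ Q₂ hQ => by
    have := congrArg (ofK (k' := k')) hQ
    rwa [ofK_toK, ofK_toK] at this
  have hSfin : S.Finite := Set.Finite.of_injOn (f := toK k) (t := {Q | IsOver Q P})
    (fun Q hQ => (hmem Q).mp hQ) htoK_inj.injOn hTfin
  have hdeg : ∀ Q ∈ S, Q.deg = 1 := fun Q hQ => hsplit Q (by rw [hSdef] at hQ; exact hQ)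
  have hover : ∀ Q ∈ S, IsOverWith (toK k Q) P (ramIdx (toK k Q) P) :=
    fun Q hQ => isOverWith_ramIdx ((hmem Q).mp hQ)
  have hepos : ∀ Q ∈ S, 0 < ramIdx (toK k Q) P := fun Q hQ => isOverWith_pos (hover Q hQ)
  haveI hFfin : @Module.Finite k (ResidueField P.O) _ _ (Place.algRes P).toModule :=
    G.residue_finiteDimensional hK1 P
  haveI : Algebra.IsAlgebraic k (ResidueField P.O) := Algebra.IsAlgebraic.of_finite k _
  obtain ⟨q, hqdef⟩ : ∃ q : ℕ, q = Module.finrank (separableClosure k (ResidueField P.O))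
    (ResidueField P.O) := ⟨_, rfl⟩
  rw [← hqdef]
  have hele : ∀ Q ∈ S, ramIdx (toK k Q) P ≤ q := fun Q hQ => by
    rw [hqdef]
    exact ramIdx_le_insep hK1 P hns' Q (hdeg Q hQ) (hepos Q hQ) (hover Q hQ)
  have hrank : Module.finrank K K' = Module.finrank k k' := finrank_of_productMap h
  have hsum : ∑ Q ∈ hSfin.toFinset, ramIdx (toK k Q) P = P.deg := by
    have h1 := hTsum (hSfin.toFinset.image (toK k)) (fun Q => by
      rw [Finset.mem_image]
      constructor
      · rintro ⟨Q', hQ', rfl⟩
        exact (hmem Q').mp ((Set.Finite.mem_toFinset _).mp hQ')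
      · intro hQ
        exact ⟨ofK Q, (Set.Finite.mem_toFinset _).mpr ((hmem _).mpr (by rw [toK_ofK]; exact hQ)),
          toK_ofK Q⟩)
    rw [Finset.sum_image (fun a _ b _ hab => htoK_inj hab)] at h1
    have h2 : ∀ Q ∈ hSfin.toFinset, ramIdx (toK k Q) P * (toK k Q).deg =
        Module.finrank k k' * ramIdx (toK k Q) P := by
      intro Q hQ
      rw [deg_toK, hdeg Q ((Set.Finite.mem_toFinset _).mp hQ), mul_one, mul_comm]
    rw [Finset.sum_congr rfl h2, ← Finset.mul_sum, hrank] at h1
    exact Nat.eq_of_mul_eq_mul_left Module.finrank_pos h1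
  have hcard : S.ncard ≤ Field.finSepDegree k (ResidueField P.O) := by
    have hσex : ∀ Q : S, ∃ σ : ResidueField P.O →ₐ[k] k',
        ∀ a : P.O, Red Q.1 (algebraMap K K' (a : K)) (σ (residue P.O a)) :=
      fun Q => exists_sigma P Q.1 (hdeg Q.1 Q.2) (hepos Q.1 Q.2) (hover Q.1 Q.2)
    choose σ hσ using hσex
    let j : k' →ₐ[k] AlgebraicClosure (ResidueField P.O) := IsAlgClosed.lift
    let Φ : S → Field.Emb k (ResidueField P.O) := fun Q => j.comp (σ Q)
    have hΦ : Function.Injective Φ := by
      intro Q₁ Q₂ h12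
      have h3 : σ Q₁ = σ Q₂ := by
        ext x
        have h4 : j (σ Q₁ x) = j (σ Q₂ x) := DFunLike.congr_fun h12 x
        exact j.injective h4
      apply Subtype.ext
      refine sigma_injective hK1 P hns' Q₁.1 Q₂.1 ((hmem _).mp Q₁.2) (σ Q₁) (hσ Q₁) ?_
      rw [h3]
      exact hσ Q₂
    haveI : Finite (Field.Emb k (ResidueField P.O)) :=
      Fintype.finite <| minpoly.AlgHom.fintype _ _ _
    have := Nat.card_le_card_of_injective Φ hΦ
    rw [Nat.card_coe_set_eq] at this
    exact this
  have hq : 0 < q := by rw [hqdef]; exact Module.finrank_pos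
  have hds : Field.finSepDegree k (ResidueField P.O) * q = P.deg := by
    rw [hqdef]
    exact Field.finSepDegree_mul_finInsepDegree k (ResidueField P.O)
  have h5 : ∑ Q ∈ hSfin.toFinset, ramIdx (toK k Q) P ≤ hSfin.toFinset.card * q := by
    have := Finset.sum_le_card_nsmul hSfin.toFinset (fun Q => ramIdx (toK k Q) P) q
      (fun Q hQ => hele Q ((Set.Finite.mem_toFinset _).mp hQ))
    rwa [smul_eq_mul] at this
  have hcard' : hSfin.toFinset.card = S.ncard := (Set.ncard_eq_toFinset_card S hSfin).symm
  have h6 : S.ncard * q ≤ Field.finSepDegree k (ResidueField P.O) * q :=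
    Nat.mul_le_mul_right q hcard
  have h7 : S.ncard * q = Field.finSepDegree k (ResidueField P.O) * q := by
    apply le_antisymm h6
    rw [hds, ← hsum, ← hcard']
    exact h5
  have h8 : S.ncard = Field.finSepDegree k (ResidueField P.O) :=
    Nat.eq_of_mul_eq_mul_right hq h7
  have h9 : ∑ Q ∈ hSfin.toFinset, ramIdx (toK k Q) P = ∑ _Q ∈ hSfin.toFinset, q := by
    rw [Finset.sum_const, smul_eq_mul, hsum, ← hds, ← h8, hcard']
  have h10 := (Finset.sum_eq_sum_iff_of_le
    (fun Q hQ => hele Q ((Set.Finite.mem_toFinset _).mp hQ))).mp h9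
  refine ⟨hSfin, h8, fun Q hQ z => ?_⟩
  have hQS : Q ∈ S := by rw [hSdef]; exact hQ
  have h11 := hover Q hQS z
  rw [h10 Q ((Set.Finite.mem_toFinset _).mpr hQS)] at h11
  exact h11

end Groth.Agent.H55
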