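import Mathlib

set_option linter.style.haveILetI false
set_option linter.deprecated false

/-! Helper lemmas for S17785 (index of the twisted diagonal hypersurface over a DVR fraction field). -/

namespace Groth.Agent.H55.TwistedDiag

open Polynomial

universe u

/-- In a valued field, if a finite sum vanishes and some term is nonzero, two distinct nonzero
terms have the same valuation. -/
theorem exists_pair_val_eq {F Γ : Type*} [Field F] [LinearOrderedCommGroupWithZero Γ]
    (w : Valuation F Γ) {ι : Type*} [DecidableEq ι] (s : Finset ι) (T : ι → F)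
    (hsum : ∑ i ∈ s, T i = 0) (hne : ∃ i ∈ s, T i ≠ 0) :
    ∃ i ∈ s, ∃ j ∈ s, i ≠ j ∧ T i ≠ 0 ∧ T j ≠ 0 ∧ w (T i) = w (T j) := by
  obtain ⟨i₀, hi₀, hT₀⟩ := hne
  obtain ⟨i, hi, hmax⟩ := Finset.exists_max_image s (fun i => w (T i)) ⟨i₀, hi₀⟩
  have hTi : T i ≠ 0 := by
    intro h
    have h1 := hmax i₀ hi₀
    simp only [h, map_zero, le_zero_iff] at h1
    exact hT₀ ((map_eq_zero w).1 h1)
  have hwi : w (T i) ≠ 0 := (map_ne_zero w).2 hTi
  by_contra hcon
  push Not at hcon
  have hlt : ∀ j ∈ s.erase i, w (T j) < w (T i) := by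
    intro j hj
    have hji : j ≠ i := (Finset.mem_erase.1 hj).1
    have hjs : j ∈ s := (Finset.mem_erase.1 hj).2
    refine lt_of_le_of_ne (hmax j hjs) ?_
    intro heq
    have hTj : T j ≠ 0 := by
      intro h0
      rw [h0, map_zero] at heq
      exact hwi heq.symm
    exact hcon i hi j hjs (Ne.symm hji) hTi hTj heq.symm
  have h2 : w (∑ j ∈ s.erase i, T j) < w (T i) := w.map_sum_lt hwi hlt
  have h3 : T i = -∑ j ∈ s.erase i, T j := by
    rw [← Finset.add_sum_erase s T hi] at hsum
    exact eq_neg_of_add_eq_zero_left hsum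
  rw [h3, Valuation.map_neg] at h2
  exact lt_irrefl _ h2

/-- The index `I(d, N)`. -/
noncomputable def idx (d N : ℕ) : ℕ := ((Finset.Icc 1 N).filter (fun δ => δ ∣ d)).gcd (fun δ => d / δ)

theorem idx_dvd {d N δ : ℕ} (h1 : 1 ≤ δ) (h2 : δ ≤ N) (h3 : δ ∣ d) : idx d N ∣ d / δ :=
  Finset.gcd_dvd (f := fun δ => d / δ) (Finset.mem_filter.2 ⟨Finset.mem_Icc.2 ⟨h1, h2⟩, h3⟩)

/-- Arithmetic core: from `e q (j - i) = d m` deduce `I(d,N) ∣ q e`. -/
theorem idx_dvd_of_eq {d N e q s : ℕ} (hd : 1 ≤ d) (hs1 : 1 ≤ s) (hsN : s ≤ N) (m : ℤ)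
    (h : (e : ℤ) * q * s = d * m) : idx d N ∣ q * e := by
  set g := Nat.gcd d s with hg
  have hgpos : 0 < g := Nat.gcd_pos_of_pos_left _ hd
  have hgd : g ∣ d := Nat.gcd_dvd_left _ _
  have hgs : g ∣ s := Nat.gcd_dvd_right _ _
  have h1 : idx d N ∣ d / g :=
    idx_dvd hgpos ((Nat.le_of_dvd hs1 hgs).trans hsN) hgd
  refine h1.trans ?_
  have hcop : Nat.Coprime (d / g) (s / g) := Nat.coprime_div_gcd_div_gcd hgpos
  have hd' : d = d / g * g := (Nat.div_mul_cancel hgd).symm
  have hs' : s = s / g * g := (Nat.div_mul_cancel hgs).symm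
  have h2 : ((d / g : ℕ) : ℤ) ∣ ((q * e : ℕ) : ℤ) * ((s / g : ℕ) : ℤ) := by
    refine ⟨m, ?_⟩
    have hg0 : (g : ℤ) ≠ 0 := by exact_mod_cast hgpos.ne'
    apply mul_right_cancel₀ hg0
    have e1 : ((d : ℕ) : ℤ) = ((d / g : ℕ) : ℤ) * g := by exact_mod_cast hd'
    have e2 : ((s : ℕ) : ℤ) = ((s / g : ℕ) : ℤ) * g := by exact_mod_cast hs'
    calc ((q * e : ℕ) : ℤ) * ((s / g : ℕ) : ℤ) * g = (e : ℤ) * q * (((s / g : ℕ) : ℤ) * g) := by
          push_cast; ring
      _ = (e : ℤ) * q * s := by rw [← e2]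
      _ = d * m := h
      _ = ((d / g : ℕ) : ℤ) * g * m := by rw [← e1]
      _ = ((d / g : ℕ) : ℤ) * m * g := by ring
  have h3 : IsCoprime ((d / g : ℕ) : ℤ) ((s / g : ℕ) : ℤ) := Nat.isCoprime_iff_coprime.2 hcop
  have h4 : ((d / g : ℕ) : ℤ) ∣ ((q * e : ℕ) : ℤ) := h3.dvd_of_dvd_mul_right h2
  exact_mod_cast h4


open WithZero in
/-- Per-valuation divisibility: a nonzero solution of the `q`-twisted equation in a field with a
`ℤᵐ⁰`-valued valuation `w` with `w π = exp (-e)` forces `I(d,N) ∣ q e`. -/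
theorem idx_dvd_of_solution {F : Type*} [Field F] (w : Valuation F ℤᵐ⁰) (π' : F) (e : ℕ)
    (hw : w π' = exp (-(e : ℤ))) (d N q : ℕ) (hd : 1 ≤ d)
    (X : Fin (N + 1) → F) (hX0 : X ≠ 0)
    (hX : X 0 ^ d = ∑ i : Fin N, π' ^ (((i : ℕ) + 1) * q) * X i.succ ^ d) :
    idx d N ∣ q * e := by
  classical
  have hπ0 : π' ≠ 0 := by
    intro h
    rw [h, map_zero] at hw
    exact exp_ne_zero hw.symm
  -- the terms
  set T : Fin (N + 1) → F := fun j => if j = 0 then -(X 0 ^ d) else π' ^ ((j : ℕ) * q) * X j ^ d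
    with hT
  have hT0 : T 0 = -(X 0 ^ d) := by simp [hT]
  have hTs : ∀ i : Fin N, T i.succ = π' ^ (((i : ℕ) + 1) * q) * X i.succ ^ d := by
    intro i
    simp [hT, Fin.succ_ne_zero]
  have hsum : ∑ j ∈ (Finset.univ : Finset (Fin (N + 1))), T j = 0 := by
    rw [Fin.sum_univ_succ, hT0]
    simp_rw [hTs]
    rw [← hX]; ring
  have hTne : ∀ j : Fin (N + 1), T j ≠ 0 ↔ X j ≠ 0 := by
    intro j
    have hd0 : d ≠ 0 := by omega
    by_cases hj : j = 0
    · subst hj
      rw [hT0, neg_ne_zero]
      exact pow_ne_zero_iff hd0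
    · simp only [hT, if_neg hj]
      rw [mul_ne_zero_iff]
      constructor
      · intro h; exact (pow_ne_zero_iff hd0).1 h.2
      · intro h; exact ⟨pow_ne_zero _ hπ0, pow_ne_zero _ h⟩
  have hwT : ∀ j : Fin (N + 1), w (T j) = exp (-((e : ℤ) * (j : ℕ) * q)) * w (X j) ^ d := by
    intro j
    by_cases hj : j = 0
    · subst hj
      rw [hT0, Valuation.map_neg, Valuation.map_pow]
      simp
    · simp only [hT, if_neg hj]
      rw [Valuation.map_mul, Valuation.map_pow, Valuation.map_pow, hw, ← exp_nsmul]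
      congr 2
      simp only [nsmul_eq_mul, Nat.cast_mul]
      ring
  have hex : ∃ j ∈ (Finset.univ : Finset (Fin (N + 1))), T j ≠ 0 := by
    by_contra hcon
    push Not at hcon
    apply hX0
    funext j
    by_contra hj
    exact ((hTne j).2 hj) (hcon j (Finset.mem_univ j))
  obtain ⟨i, -, j, -, hij, hTi, hTj, hwij⟩ := exists_pair_val_eq w Finset.univ T hsum hex
  -- symmetric core
  have core : ∀ i j : Fin (N + 1), i < j → T i ≠ 0 → T j ≠ 0 → w (T i) = w (T j) →
      idx d N ∣ q * e := by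
    intro i j hlt hTi hTj hwij
    have hXi : X i ≠ 0 := (hTne i).1 hTi
    have hXj : X j ≠ 0 := (hTne j).1 hTj
    have hwi : w (X i) ≠ 0 := (map_ne_zero w).2 hXi
    have hwj : w (X j) ≠ 0 := (map_ne_zero w).2 hXj
    rw [hwT i, hwT j, ← exp_log hwi, ← exp_log hwj, ← exp_nsmul, ← exp_nsmul, ← exp_add,
      ← exp_add, exp_inj] at hwij
    simp only [nsmul_eq_mul] at hwij
    have hlt' : (i : ℕ) < (j : ℕ) := hlt
    have hjN : (j : ℕ) ≤ N := Nat.lt_succ_iff.1 j.2
    refine idx_dvd_of_eq (s := (j : ℕ) - (i : ℕ)) hd (by omega) (by omega)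
      (log (w (X j)) - log (w (X i))) ?_
    have hc : (((j : ℕ) - (i : ℕ) : ℕ) : ℤ) = (j : ℕ) - (i : ℕ) := by
      rw [Nat.cast_sub hlt'.le]
    rw [hc]
    linear_combination hwij
  rcases lt_or_gt_of_ne hij with h | h
  · exact core i j h hTi hTj hwij
  · exact core j i h hTj hTi hwij.symm


open IsDedekindDomain WithZero in
/-- Separable case: divisibility of `q * e_P` for every prime gives divisibility of `q * [F:K]`. -/
theorem dvd_mul_finrank_of_sep (R K F : Type*) [CommRing R] [IsDomain R]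
    [IsDiscreteValuationRing R] [Field K] [Algebra R K] [IsFractionRing R K] [Field F]
    [Algebra K F] [Algebra R F] [IsScalarTower R K F] [FiniteDimensional K F]
    [Algebra.IsSeparable K F] (ϖ : R) (hϖ : Irreducible ϖ) (c q : ℕ)
    (h : ∀ (w : Valuation F ℤᵐ⁰) (e : ℕ), 0 < e →
      w (algebraMap R F ϖ) = WithZero.exp (-(e : ℤ)) → c ∣ q * e) :
    c ∣ q * Module.finrank K F := by
  classical
  let S := integralClosure R F
  haveI : IsDedekindDomain S := integralClosure.isDedekindDomain R K F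
  haveI : Module.Finite R S := IsIntegralClosure.finite R K F S
  haveI : IsFractionRing S F := integralClosure.isFractionRing_of_finite_extension K F
  haveI : Module.IsTorsionFree R F := by
    rw [Module.isTorsionFree_iff_algebraMap_injective, IsScalarTower.algebraMap_eq R K F]
    exact (algebraMap K F).injective.comp (IsFractionRing.injective R K)
  haveI : Module.IsTorsionFree R S := inferInstance
  set p : Ideal R := IsLocalRing.maximalIdeal R with hp
  have hp0 : p ≠ ⊥ := IsDiscreteValuationRing.not_a_field R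
  have hsum := Ideal.sum_ramification_inertia S K F hp0
  rw [← hsum, Finset.mul_sum]
  refine Finset.dvd_sum fun P hP => ?_
  rw [← mul_assoc]
  refine Dvd.dvd.mul_right ?_ _
  rw [IsDedekindDomain.mem_primesOverFinset_iff hp0] at hP
  haveI hPprime : P.IsPrime := hP.1
  haveI hPover : P.LiesOver p := hP.2
  have hPne : P ≠ ⊥ := Ideal.ne_bot_of_liesOver_of_ne_bot hp0 P
  let wS : HeightOneSpectrum S := ⟨P, hPprime, hPne⟩
  let vR : HeightOneSpectrum R := ⟨p, inferInstance, hp0⟩
  haveI : wS.asIdeal.LiesOver vR.asIdeal := hPover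
  have hval := HeightOneSpectrum.valuation_liesOver F vR wS (algebraMap R K ϖ)
  have hv : vR.valuation K (algebraMap R K ϖ) = WithZero.exp (-1 : ℤ) := by
    rw [HeightOneSpectrum.valuation_of_algebraMap]
    exact HeightOneSpectrum.intValuation_singleton vR hϖ.ne_zero hϖ.maximalIdeal_eq
  have he0 : p.ramificationIdx' P ≠ 0 :=
    Ideal.IsDedekindDomain.ramificationIdx'_ne_zero_of_liesOver P hp0
  refine h (wS.valuation F) (p.ramificationIdx' P) (Nat.pos_of_ne_zero he0) ?_
  have hre : vR.asIdeal.ramificationIdx' wS.asIdeal = p.ramificationIdx' P := rfl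
  rw [hre] at hval
  rw [IsScalarTower.algebraMap_apply R K F, ← hval, hv, ← WithZero.exp_nsmul]
  simp


open IntermediateField in
/-- In a finite purely inseparable extension, the `[E:F]`-th power of any element lies in `F`. -/
theorem pow_finrank_mem_range (F E : Type*) [Field F] [Field E] [Algebra F E]
    [IsPurelyInseparable F E] [FiniteDimensional F E] (x : E) :
    x ^ Module.finrank F E ∈ (algebraMap F E).range := by
  obtain ⟨q, hq⟩ := ExpChar.exists F
  obtain ⟨m, y, hm⟩ := IsPurelyInseparable.minpoly_eq_X_pow_sub_C F q x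
  have hx : IsIntegral F x := Algebra.IsIntegral.isIntegral x
  have h1 : Module.finrank F F⟮x⟯ = q ^ m := by
    rw [IntermediateField.adjoin.finrank hx, hm, natDegree_sub_C, natDegree_X_pow]
  have h2 : x ^ (q ^ m) = algebraMap F E y := by
    have := minpoly.aeval F x
    rw [hm] at this
    simpa [sub_eq_zero] using this
  have h3 : Module.finrank F E = q ^ m * Module.finrank F⟮x⟯ E := by
    rw [← h1, Module.finrank_mul_finrank]
  rw [h3, pow_mul, h2, ← map_pow]
  exact ⟨_, rfl⟩

/-- The finrank of a finite purely inseparable extension is a power of the exponential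
characteristic, so the `[E:F]`-th power map is additive. -/
theorem sum_pow_finrank (F E : Type*) [Field F] [Field E] [Algebra F E]
    [IsPurelyInseparable F E] [FiniteDimensional F E] {ι : Type*} (s : Finset ι) (f : ι → E) :
    (∑ i ∈ s, f i) ^ Module.finrank F E = ∑ i ∈ s, f i ^ Module.finrank F E := by
  obtain ⟨q, hq⟩ := ExpChar.exists F
  obtain ⟨n, hn⟩ := IsPurelyInseparable.finrank_eq_pow F E q
  haveI : ExpChar E q := expChar_of_injective_algebraMap (algebraMap F E).injective q
  rw [hn]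
  have := map_sum (iterateFrobenius E q n) f s
  simp only [iterateFrobenius_def] at this
  exact this


/-- The `≤` direction: `I(d,N)` divides the degree of every finite extension with a point. -/
theorem idx_dvd_finrank (R : Type u) [CommRing R] [IsDomain R] [IsDiscreteValuationRing R]
    (K : Type u) [Field K] [Algebra R K] [IsFractionRing R K] (ϖ : R) (hϖ : Irreducible ϖ)
    (d N : ℕ) (hd : 1 ≤ d) (L : Type u) [Field L] [Algebra K L] [FiniteDimensional K L]
    (x : Fin (N + 1) → L) (hx0 : x ≠ 0)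
    (hx : x 0 ^ d =
      ∑ i : Fin N, algebraMap K L (algebraMap R K (ϖ ^ ((i : ℕ) + 1))) * x i.succ ^ d) :
    idx d N ∣ Module.finrank K L := by
  classical
  let E := separableClosure K L
  haveI : IsPurelyInseparable E L := separableClosure.isPurelyInseparable K L
  haveI : Algebra.IsSeparable K E := separableClosure.isSeparable K L
  set q := Module.finrank E L with hq
  have hfin : Module.finrank K L = Module.finrank K E * q :=
    (Module.finrank_mul_finrank K E L).symm
  have hmem : ∀ y : L, y ^ q ∈ (algebraMap E L).range := pow_finrank_mem_range E L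
  choose Xf hXf using fun j : Fin (N + 1) => hmem (x j)
  letI : Algebra R E := ((algebraMap K E).comp (algebraMap R K)).toAlgebra
  haveI : IsScalarTower R K E := IsScalarTower.of_algebraMap_eq (fun _ => rfl)
  have hqpos : 0 < q := Module.finrank_pos
  have hX0 : Xf ≠ 0 := by
    intro h
    apply hx0
    funext j
    have h1 : algebraMap E L (Xf j) = 0 := by rw [h]; simp
    rw [hXf j] at h1
    simpa using (pow_eq_zero_iff hqpos.ne').1 h1
  have hπ : algebraMap E L (algebraMap R E ϖ) = algebraMap K L (algebraMap R K ϖ) := by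
    have : algebraMap R E ϖ = algebraMap K E (algebraMap R K ϖ) := rfl
    rw [this, ← IsScalarTower.algebraMap_apply K E L]
  have hXeq : Xf 0 ^ d =
      ∑ i : Fin N, (algebraMap R E ϖ) ^ (((i : ℕ) + 1) * q) * Xf i.succ ^ d := by
    apply (algebraMap E L).injective
    rw [map_pow, hXf, map_sum]
    simp_rw [map_mul, map_pow, hXf, hπ]
    rw [← pow_mul, mul_comm q d, pow_mul, hx, sum_pow_finrank E L]
    refine Finset.sum_congr rfl fun i _ => ?_
    rw [mul_pow, map_pow, map_pow, ← pow_mul, ← pow_mul, ← pow_mul, mul_comm d q]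
  rw [hfin, mul_comm]
  exact dvd_mul_finrank_of_sep R K E ϖ hϖ (idx d N) q
    (fun w e _ hw => idx_dvd_of_solution w _ e hw d N q hd Xf hX0 hXeq)


/-- Eisenstein: `X^n - ϖ` is irreducible over the fraction field. -/
theorem irreducible_X_pow_sub (R K : Type*) [CommRing R] [IsDomain R] [IsDiscreteValuationRing R]
    [Field K] [Algebra R K] [IsFractionRing R K] (ϖ : R) (hϖ : Irreducible ϖ) (n : ℕ) (hn : 1 ≤ n) :
    Irreducible ((X ^ n - C (algebraMap R K ϖ)) : K[X]) := by
  have hn0 : n ≠ 0 := by omega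
  have hmonic : (X ^ n - C ϖ : R[X]).Monic := monic_X_pow_sub_C ϖ hn0
  have hdeg : (X ^ n - C ϖ : R[X]).natDegree = n := natDegree_X_pow_sub_C
  have hPtop : IsLocalRing.maximalIdeal R ≠ ⊤ := Ideal.IsPrime.ne_top'
  have hEis : (X ^ n - C ϖ : R[X]).IsEisensteinAt (IsLocalRing.maximalIdeal R) := by
    refine hmonic.isEisensteinAt_of_mem_of_notMem hPtop ?_ ?_
    · intro i hi
      rw [hdeg] at hi
      rw [coeff_sub, coeff_X_pow, if_neg hi.ne, coeff_C]
      split_ifs
      · rw [zero_sub, neg_mem_iff, hϖ.maximalIdeal_eq]; exact Ideal.mem_span_singleton_self ϖ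
      · simp
    · rw [coeff_sub, coeff_X_pow, if_neg (Ne.symm hn0), coeff_C_zero, zero_sub, neg_mem_iff,
        hϖ.maximalIdeal_eq, Ideal.span_singleton_pow, Ideal.mem_span_singleton]
      intro hdvd
      obtain ⟨c, hc⟩ := hdvd
      have : ϖ * 1 = ϖ * (ϖ * c) := by rw [mul_one, ← mul_assoc, ← sq]; exact hc
      have h1 : 1 = ϖ * c := mul_left_cancel₀ hϖ.ne_zero this
      exact hϖ.not_isUnit (IsUnit.of_mul_eq_one c h1.symm)
  have hirr : Irreducible (X ^ n - C ϖ : R[X]) :=
    hEis.irreducible (IsLocalRing.maximalIdeal.isMaximal R).isPrime hmonic.isPrimitive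
      (by rw [hdeg]; omega)
  have := (hmonic.irreducible_iff_irreducible_map_fraction_map (K := K)).1 hirr
  simpa using this

/-- For every divisor `δ ≤ N` of `d` there is an extension of degree `d/δ` with a point. -/
theorem exists_ext_of_divisor (R : Type u) [CommRing R] [IsDomain R] [IsDiscreteValuationRing R]
    (K : Type u) [Field K] [Algebra R K] [IsFractionRing R K] (ϖ : R) (hϖ : Irreducible ϖ)
    (d N : ℕ) (hd : 1 ≤ d) (δ : ℕ) (h1 : 1 ≤ δ) (h2 : δ ≤ N) (h3 : δ ∣ d) :
    ∃ (L : Type u) (_ : Field L) (_ : Algebra K L),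
        FiniteDimensional K L ∧ ((d / δ : ℕ) : ℤ) = (Module.finrank K L : ℤ) ∧
        ∃ x : Fin (N + 1) → L, x ≠ 0 ∧
          x 0 ^ d = ∑ i : Fin N, algebraMap K L (algebraMap R K (ϖ ^ ((i : ℕ) + 1))) *
            x i.succ ^ d := by
  classical
  set n := d / δ with hn
  have hnδ : n * δ = d := Nat.div_mul_cancel h3
  have hn1 : 1 ≤ n := by
    rcases Nat.eq_zero_or_pos n with h | h
    · rw [h, zero_mul] at hnδ; omega
    · exact h
  set g : K[X] := X ^ n - C (algebraMap R K ϖ) with hg
  have hirr : Irreducible g := irreducible_X_pow_sub R K ϖ hϖ n hn1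
  haveI : Fact (Irreducible g) := ⟨hirr⟩
  have hg0 : g ≠ 0 := hirr.ne_zero
  have hgdeg : g.natDegree = n := natDegree_X_pow_sub_C
  refine ⟨AdjoinRoot g, inferInstance, inferInstance, (AdjoinRoot.powerBasis hg0).finite, ?_, ?_⟩
  · rw [(AdjoinRoot.powerBasis hg0).finrank, AdjoinRoot.powerBasis_dim, hgdeg]
  set t : AdjoinRoot g := AdjoinRoot.root g with ht
  have htn : t ^ n = algebraMap K (AdjoinRoot g) (algebraMap R K ϖ) := by
    have := AdjoinRoot.eval₂_root g
    rw [hg, eval₂_sub, eval₂_pow, eval₂_X, eval₂_C, sub_eq_zero] at this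
    rw [AdjoinRoot.algebraMap_eq]
    exact this
  have hδN : δ < N + 1 := by omega
  refine ⟨fun j => if (j : ℕ) = 0 then t else if (j : ℕ) = δ then 1 else 0, ?_, ?_⟩
  · intro h
    have := congrFun h ⟨δ, hδN⟩
    simp only [Pi.zero_apply] at this
    have hδ0 : δ ≠ 0 := by omega
    simp [hδ0] at this
  · have hi0 : δ - 1 < N := by omega
    rw [Finset.sum_eq_single (⟨δ - 1, hi0⟩ : Fin N)]
    · simp only [Fin.val_zero, if_true, Fin.val_succ]
      rw [if_neg (by omega), if_pos (by omega), one_pow, mul_one, ← hnδ, pow_mul, htn,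
        ← map_pow, ← map_pow]
      congr 3
      omega
    · intro i _ hi
      have hne : (i : ℕ) + 1 ≠ δ := by
        intro h
        apply hi
        ext
        simp only
        omega
      simp only [Fin.val_succ]
      rw [if_neg (by omega), if_neg hne, zero_pow (by omega), mul_zero]
    · intro h; exact absurd (Finset.mem_univ _) h

end Groth.Agent.H55.TwistedDiag
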