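import Groth.Agent.H55.ValEt2
import Groth.Agent.H47.EtaleNormal

/-!
# Étale-local extensions of valuation rings (S1963)
-/

set_option autoImplicit false
set_option linter.style.haveILetI false
set_option linter.deprecated false

universe u v

open Polynomial IsLocalRing

namespace Groth.Agent.H55.ValEt

theorem valuationRing_of_flat (A D : Type*) [CommRing A] [IsDomain A] [ValuationRing A]
    [CommRing D] [IsDomain D] [IsLocalRing D] [Algebra A D]
    (hinj : Function.Injective (algebraMap A D))
    [Algebra.FormallyUnramified A D] [Algebra.EssFiniteType A D] : ValuationRing D := by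
  rw [ValuationRing.iff_local_bezout_domain]
  refine ⟨inferInstance, ?_⟩
  rw [IsBezout.iff_span_pair_isPrincipal]
  intro x y
  set I : Ideal D := Ideal.span {x, y} with hI
  have htors : Submodule.torsion A I = ⊥ := by
    rw [eq_bot_iff]
    rintro m ⟨⟨r, hr⟩, h⟩
    have hr0 : r ≠ 0 := nonZeroDivisors.ne_zero hr
    have h1 : algebraMap A D r * (m : D) = 0 := by
      have := congrArg (Subtype.val) h
      simpa [Algebra.smul_def] using this
    rcases mul_eq_zero.mp h1 with h2 | h2
    · exact absurd (hinj (by rw [h2, map_zero])) hr0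
    · exact Subtype.ext h2
  haveI : Module.Flat A I := Module.Flat.flat_iff_torsion_eq_bot_of_isBezout.mpr htors
  haveI : Module.Flat D I := Algebra.FormallyUnramified.flat_of_restrictScalars (R := A) (S := D) I
  haveI : Module.Finite D I := Module.Finite.of_fg (Submodule.fg_span (Set.toFinite _))
  haveI : Module.Free D I := Module.free_of_flat_of_isLocalRing
  let b := Module.Free.chooseBasis D I
  have hsub : ∀ i j : Module.Free.ChooseBasisIndex D I, i = j := by
    intro i j
    by_contra hij
    have hli := b.linearIndependent
    rw [linearIndependent_iff'] at hli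
    have := hli {i, j} (fun k => if k = i then ((b j : I) : D) else -((b i : I) : D)) (by
      rw [Finset.sum_pair hij]
      simp only [if_true, if_neg (Ne.symm hij)]
      apply Subtype.ext
      simp [mul_comm]) i (by simp)
    simp only [if_true] at this
    exact b.ne_zero j (Subtype.ext this)
  have htop := b.span_eq
  by_cases hne : Nonempty (Module.Free.ChooseBasisIndex D I)
  · obtain ⟨i⟩ := hne
    refine ⟨⟨((b i : I) : D), ?_⟩⟩
    apply le_antisymm
    · intro m hm
      have h1 : (⟨m, hm⟩ : I) ∈ Submodule.span D (Set.range b) := by rw [htop]; trivial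
      have hr : Set.range b = {b i} := by
        ext z
        constructor
        · rintro ⟨j, rfl⟩; rw [hsub j i]; rfl
        · rintro rfl; exact ⟨i, rfl⟩
      rw [hr, Submodule.mem_span_singleton] at h1
      obtain ⟨c, hc⟩ := h1
      rw [Submodule.mem_span_singleton]
      refine ⟨c, ?_⟩
      have := congrArg Subtype.val hc
      simpa using this
    · rw [Submodule.span_singleton_le_iff_mem]
      exact (b i).2
  · refine ⟨⟨0, ?_⟩⟩
    rw [Submodule.span_zero_singleton, eq_bot_iff]
    intro m hm
    have h1 : (⟨m, hm⟩ : I) ∈ Submodule.span D (Set.range b) := by rw [htop]; trivial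
    have hr : Set.range b = ∅ := by
      rw [Set.range_eq_empty_iff]
      exact not_nonempty_iff.mp hne
    rw [hr, Submodule.span_empty, Submodule.mem_bot] at h1
    have := congrArg Subtype.val h1
    simpa using this

section Etale

variable (A B : Type u) [CommRing A] [IsDomain A] [ValuationRing A]
  [CommRing B] [Algebra A B] [Algebra.Etale A B] (m : Ideal B) [m.IsPrime]

theorem isLocalHom_atPrime (hm : m.comap (algebraMap A B) = maximalIdeal A) :
    IsLocalHom (algebraMap A (Localization.AtPrime m)) := by
  refine ⟨fun a ha => ?_⟩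
  rw [IsScalarTower.algebraMap_apply A B (Localization.AtPrime m),
    IsLocalization.AtPrime.isUnit_to_map_iff _ m] at ha
  by_contra hnu
  have : a ∈ m.comap (algebraMap A B) := by rw [hm]; exact hnu
  exact ha this

theorem exists_setup [IsDomain (Localization.AtPrime m)] :
    ∃ (θ : Localization.AtPrime m) (f : A[X]), f.Monic ∧ aeval θ f = 0 ∧
      IsUnit (aeval θ (derivative f)) ∧
      ∀ d : Localization.AtPrime m, ∃ r s : A[X], IsUnit (aeval θ s) ∧
        d * aeval θ s = aeval θ r := by
  haveI : Algebra.FormallyEtale B (Localization.AtPrime m) :=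
    Algebra.FormallyEtale.of_isLocalization m.primeCompl
  haveI : Algebra.IsEtaleAt A m := Algebra.FormallyEtale.comp A B (Localization.AtPrime m)
  obtain ⟨g, hg, hstd⟩ := Algebra.IsEtaleAt.exists_isStandardEtale (R := A) m
  have hgu : IsUnit (algebraMap B (Localization.AtPrime m) g) :=
    (IsLocalization.AtPrime.isUnit_to_map_iff _ m g).mpr hg
  let ψ₀ : Localization.Away g →+* Localization.AtPrime m := IsLocalization.Away.lift g hgu
  have hψ₀ : ∀ b : B, ψ₀ (algebraMap B (Localization.Away g) b) =
      algebraMap B (Localization.AtPrime m) b := fun b => IsLocalization.Away.lift_eq g hgu b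
  let ψ : Localization.Away g →ₐ[A] Localization.AtPrime m :=
    { ψ₀ with
      commutes' := by
        intro a
        change ψ₀ (algebraMap A (Localization.Away g) a) = _
        rw [IsScalarTower.algebraMap_apply A B (Localization.Away g), hψ₀,
          ← IsScalarTower.algebraMap_apply] }
  have hψ : ∀ b : B, ψ (algebraMap B (Localization.Away g) b) =
      algebraMap B (Localization.AtPrime m) b := hψ₀
  obtain ⟨P⟩ := hstd.nonempty_standardEtalePresentation
  have hev : ∀ p : A[X], aeval (ψ P.x) p = ψ (aeval P.x p) := fun p =>
    Polynomial.aeval_algHom_apply ψ P.x p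
  have hγ : IsUnit (aeval (ψ P.x) P.g) := by rw [hev]; exact P.hasMap.2.map ψ
  refine ⟨ψ P.x, P.f, P.monic_f, ?_, ?_, ?_⟩
  · rw [hev, P.hasMap.1, map_zero]
  · rw [hev]; exact P.hasMap.isUnit_derivative_f.map ψ
  · intro d
    obtain ⟨b, s, rfl⟩ := IsLocalization.exists_mk'_eq m.primeCompl d
    obtain ⟨p₁, n₁, h1⟩ := P.exists_mul_aeval_x_g_pow_eq_aeval_x (algebraMap B _ b)
    obtain ⟨p₂, n₂, h2⟩ := P.exists_mul_aeval_x_g_pow_eq_aeval_x (algebraMap B _ (s : B))
    have h1' := congrArg ψ h1
    have h2' := congrArg ψ h2
    rw [map_mul, map_pow, hψ, ← hev, ← hev] at h1' h2'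
    refine ⟨p₁ * P.g ^ n₂, p₂ * P.g ^ n₁, ?_, ?_⟩
    · rw [map_mul, map_pow, ← h2']
      exact ((IsLocalization.map_units _ s).mul (hγ.pow _)).mul (hγ.pow _)
    · rw [map_mul, map_pow, map_mul, map_pow, ← h2', ← h1']
      have := IsLocalization.mk'_spec (Localization.AtPrime m) b s
      linear_combination (aeval (ψ P.x) P.g ^ n₂ * aeval (ψ P.x) P.g ^ n₁) * this


/-- **S1963**: étale-local extensions of valuation rings are valuation rings with the same value
group. -/
theorem etale_local (hm : m.comap (algebraMap A B) = maximalIdeal A) :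
    IsDomain (Localization.AtPrime m) ∧
    (∀ _ : IsDomain (Localization.AtPrime m), ValuationRing (Localization.AtPrime m)) ∧
    Function.Injective (algebraMap A (Localization.AtPrime m)) ∧
    IsLocalHom (algebraMap A (Localization.AtPrime m)) ∧
    ∀ b : Localization.AtPrime m, b ≠ 0 → ∃ (a : A) (u : (Localization.AtPrime m)ˣ),
      b = u * algebraMap A (Localization.AtPrime m) a := by
  obtain ⟨hdom, -⟩ := Groth.Agent.H47.EtaleNormal.isDomain_isIntegrallyClosed_atPrime A B m
    (Localization.AtPrime m)
  haveI := hdom
  haveI : Module.Flat B (Localization.AtPrime m) := IsLocalization.flat _ m.primeCompl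
  haveI : Module.Flat A (Localization.AtPrime m) := Module.Flat.trans A B _
  have hinj : Function.Injective (algebraMap A (Localization.AtPrime m)) :=
    Module.isTorsionFree_iff_algebraMap_injective.mp inferInstance
  have hloc := isLocalHom_atPrime A B m hm
  haveI : Algebra.FormallyUnramified B (Localization.AtPrime m) :=
    Algebra.FormallyUnramified.of_isLocalization m.primeCompl
  haveI : Algebra.FormallyUnramified A (Localization.AtPrime m) :=
    Algebra.FormallyUnramified.comp A B _
  haveI : Algebra.EssFiniteType B (Localization.AtPrime m) :=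
    Algebra.EssFiniteType.of_isLocalization _ m.primeCompl
  haveI : Algebra.EssFiniteType A (Localization.AtPrime m) := Algebra.EssFiniteType.comp A B _
  have hval : ValuationRing (Localization.AtPrime m) :=
    valuationRing_of_flat A (Localization.AtPrime m) hinj
  refine ⟨hdom, fun _ => hval, hinj, hloc, ?_⟩
  haveI := hval
  obtain ⟨θ, f, hmonic, hroot, hder, hgen⟩ := exists_setup A B m
  exact main (θ := θ) (f := f) ⟨hinj, hloc, hmonic, hroot, hder, hgen⟩

end Etale

end Groth.Agent.H55.ValEt
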