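import Mathlib
import Groth.Agent.H55.ValEt3
import Groth.Agent.Lead.NagataVal

/-!
# Composite of étale extensions of valuation rings (S15283)

`A → D` an injective local homomorphism of valuation rings, `P` a prime of `D` over `p`.
If `A_p → D_P` and `A/p → D/P` are étale then `A → D` is étale.
-/

set_option autoImplicit false
set_option linter.style.haveILetI false
set_option linter.deprecated false

universe u

open IsLocalRing

namespace Groth.Agent.H55.ValComp

/-- a quotient of a valuation ring by a prime ideal is a valuation ring. -/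
instance valuationRing_quotient {A : Type*} [CommRing A] [IsDomain A] [ValuationRing A]
    (p : Ideal A) [p.IsPrime] : ValuationRing (A ⧸ p) := by
  haveI : PreValuationRing (A ⧸ p) := ⟨fun a b => by
    obtain ⟨a, rfl⟩ := Ideal.Quotient.mk_surjective a
    obtain ⟨b, rfl⟩ := Ideal.Quotient.mk_surjective b
    obtain ⟨c, hc | hc⟩ := ValuationRing.cond a b
    · exact ⟨Ideal.Quotient.mk p c, Or.inl (by rw [← map_mul, hc])⟩
    · exact ⟨Ideal.Quotient.mk p c, Or.inr (by rw [← map_mul, hc])⟩⟩
  exact ValuationRing.mk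

section Quot

variable {A D : Type u} [CommRing A] [IsDomain A] [ValuationRing A]
  [CommRing D] [IsDomain D] [ValuationRing D] [Algebra A D]
  [IsLocalHom (algebraMap A D)]
  (p : Ideal A) [p.IsPrime] (P : Ideal D) [P.IsPrime]
  [Algebra (A ⧸ p) (D ⧸ P)] [IsScalarTower A (A ⧸ p) (D ⧸ P)]
  [Algebra.Etale (A ⧸ p) (D ⧸ P)]

omit [IsDomain A] [ValuationRing A] [IsDomain D] [ValuationRing D] [IsLocalHom (algebraMap A D)]
  [p.IsPrime] [P.IsPrime] [Algebra.Etale (A ⧸ p) (D ⧸ P)] in
theorem algebraMap_quot_mk (a : A) :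
    algebraMap (A ⧸ p) (D ⧸ P) (Ideal.Quotient.mk p a) =
      Ideal.Quotient.mk P (algebraMap A D a) := by
  have h1 := IsScalarTower.algebraMap_apply A (A ⧸ p) (D ⧸ P) a
  have h2 := IsScalarTower.algebraMap_apply A D (D ⧸ P) a
  rw [h1] at h2
  exact h2

/-- value group equality for `A/p → D/P` lifted to `D`: every `t ∉ P` is a unit times the image
of some `a ∉ p`. -/
theorem exists_unit_mul_of_notMem (t : D) (ht : t ∉ P) :
    ∃ (a : A) (u : Dˣ), a ∉ p ∧ t = u * algebraMap A D a := by
  haveI : IsLocalRing (D ⧸ P) := .of_surjective' _ Ideal.Quotient.mk_surjective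
  haveI : IsLocalRing (A ⧸ p) := .of_surjective' _ Ideal.Quotient.mk_surjective
  haveI hlD : IsLocalHom (Ideal.Quotient.mk P) := .of_surjective _ Ideal.Quotient.mk_surjective
  haveI hlA : IsLocalHom (Ideal.Quotient.mk p) := .of_surjective _ Ideal.Quotient.mk_surjective
  haveI hloc : IsLocalHom (algebraMap (A ⧸ p) (D ⧸ P)) := by
    refine ⟨fun x hx => ?_⟩
    obtain ⟨a, rfl⟩ := Ideal.Quotient.mk_surjective x
    rw [algebraMap_quot_mk] at hx
    have h1 : IsUnit (algebraMap A D a) := hlD.map_nonunit _ hx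
    have h2 : IsUnit a := IsLocalHom.map_nonunit (f := algebraMap A D) a h1
    exact h2.map _
  have hm : (maximalIdeal (D ⧸ P)).comap (algebraMap (A ⧸ p) (D ⧸ P)) = maximalIdeal (A ⧸ p) :=
    IsLocalRing.maximalIdeal_comap _
  obtain ⟨-, -, -, -, hrep⟩ := Groth.Agent.H55.ValEt.etale_local (A ⧸ p) (D ⧸ P)
    (maximalIdeal (D ⧸ P)) hm
  -- transfer from the localization at the maximal ideal back to `D ⧸ P`
  let e : (D ⧸ P) ≃ₐ[D ⧸ P] Localization.AtPrime (maximalIdeal (D ⧸ P)) :=
    IsLocalization.atUnits (D ⧸ P) (maximalIdeal (D ⧸ P)).primeCompl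
      (fun x hx => IsLocalRing.notMem_maximalIdeal.mp hx)
  have he : ∀ x : D ⧸ P, e x = algebraMap (D ⧸ P) _ x := fun x => by
    have := e.commutes x
    simpa using this
  have ht0 : Ideal.Quotient.mk P t ≠ 0 := fun h => ht (Ideal.Quotient.eq_zero_iff_mem.mp h)
  have hb0 : e (Ideal.Quotient.mk P t) ≠ 0 := fun h => ht0 (by simpa using h)
  obtain ⟨abar, u, hu⟩ := hrep _ hb0
  obtain ⟨a, rfl⟩ := Ideal.Quotient.mk_surjective abar
  have hap : a ∉ p := by
    intro ha
    apply hb0
    rw [hu, Ideal.Quotient.eq_zero_iff_mem.mpr ha, map_zero, mul_zero]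
  -- pull back along `e`
  have h1 : Ideal.Quotient.mk P t = e.symm (u : Localization.AtPrime (maximalIdeal (D ⧸ P))) *
      Ideal.Quotient.mk P (algebraMap A D a) := by
    have h2 := congrArg e.symm hu
    rw [AlgEquiv.symm_apply_apply, map_mul,
      IsScalarTower.algebraMap_apply (A ⧸ p) (D ⧸ P) (Localization.AtPrime (maximalIdeal (D ⧸ P))),
      ← he, AlgEquiv.symm_apply_apply, algebraMap_quot_mk] at h2
    exact h2
  have hvu : IsUnit (e.symm (u : Localization.AtPrime (maximalIdeal (D ⧸ P)))) :=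
    u.isUnit.map e.symm
  obtain ⟨w, hw⟩ := Ideal.Quotient.mk_surjective
    (e.symm (u : Localization.AtPrime (maximalIdeal (D ⧸ P))))
  have hwu : IsUnit w := hlD.map_nonunit _ (by rw [hw]; exact hvu)
  rw [← hw, ← map_mul] at h1
  have hq : t - w * algebraMap A D a ∈ P := by
    rw [← Ideal.Quotient.eq_zero_iff_mem, map_sub, h1, sub_self]
  have hwa : w * algebraMap A D a ∉ P := by
    intro h
    apply ht0
    rw [h1]
    exact Ideal.Quotient.eq_zero_iff_mem.mpr h
  rcases ValuationRing.dvd_total (t - w * algebraMap A D a) (w * algebraMap A D a) with h | h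
  · exact absurd (Ideal.mem_of_dvd P h hq) hwa
  · obtain ⟨r, hr⟩ := h
    have hrP : r ∈ P := by
      rw [hr] at hq
      exact (Ideal.IsPrime.mem_or_mem ‹P.IsPrime› hq).resolve_left hwa
    have hPle : P ≤ maximalIdeal D := IsLocalRing.le_maximalIdeal (Ideal.IsPrime.ne_top ‹_›)
    have h1r : IsUnit (1 + r) := by
      apply IsLocalRing.notMem_maximalIdeal.mp
      intro h
      have : (1 : D) ∈ maximalIdeal D := by
        have := Ideal.sub_mem _ h (hPle hrP)
        simpa using this
      exact (Ideal.ne_top_iff_one _).mp (maximalIdeal.isMaximal D).ne_top this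
    refine ⟨a, hwu.unit * h1r.unit, hap, ?_⟩
    rw [Units.val_mul, IsUnit.unit_spec, IsUnit.unit_spec]
    linear_combination hr

end Quot

/-- elements of `pD`, `p` an ideal of a valuation ring `A`, are single multiples `π d`. -/
theorem exists_of_mem_map {A D : Type*} [CommRing A] [IsDomain A] [ValuationRing A]
    [CommRing D] [Algebra A D] (p : Ideal A) (y : D) (hy : y ∈ p.map (algebraMap A D)) :
    ∃ π ∈ p, ∃ d : D, y = algebraMap A D π * d := by
  refine Submodule.span_induction (p := fun y _ => ∃ π ∈ p, ∃ d : D, y = algebraMap A D π * d)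
    ?_ ?_ ?_ ?_ hy
  · rintro _ ⟨π, hπ, rfl⟩
    exact ⟨π, hπ, 1, (mul_one _).symm⟩
  · exact ⟨0, p.zero_mem, 0, by simp⟩
  · rintro x y _ _ ⟨π₁, h₁, d₁, rfl⟩ ⟨π₂, h₂, d₂, rfl⟩
    rcases ValuationRing.dvd_total π₁ π₂ with ⟨c, rfl⟩ | ⟨c, rfl⟩
    · exact ⟨π₁, h₁, d₁ + algebraMap A D c * d₂, by rw [map_mul]; ring⟩
    · exact ⟨π₂, h₂, algebraMap A D c * d₁ + d₂, by rw [map_mul]; ring⟩
  · rintro a x _ ⟨π, h, d, rfl⟩
    exact ⟨π, h, a * d, by rw [smul_eq_mul]; ring⟩

section Loc

variable {A D : Type u} [CommRing A] [IsDomain A] [ValuationRing A]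
  [CommRing D] [IsDomain D] [ValuationRing D] [Algebra A D]
  (p : Ideal A) [p.IsPrime] (P : Ideal D) [P.IsPrime]
  [Algebra (Localization.AtPrime p) (Localization.AtPrime P)]
  [IsScalarTower A (Localization.AtPrime p) (Localization.AtPrime P)]

omit [IsDomain A] [ValuationRing A] [IsDomain D] [ValuationRing D] in
theorem isLocalHom_loc (hpP : P.comap (algebraMap A D) = p) :
    IsLocalHom (algebraMap (Localization.AtPrime p) (Localization.AtPrime P)) := by
  refine ⟨fun x hx => ?_⟩
  obtain ⟨a, s, rfl⟩ := IsLocalization.exists_mk'_eq p.primeCompl x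
  rw [IsLocalization.AtPrime.isUnit_mk'_iff (Localization.AtPrime p) p]
  intro ha'
  have h1 : algebraMap _ (Localization.AtPrime P)
      (IsLocalization.mk' (Localization.AtPrime p) a s) *
      algebraMap _ _ (algebraMap A (Localization.AtPrime p) (s : A)) =
      algebraMap _ _ (algebraMap A (Localization.AtPrime p) a) := by
    rw [← map_mul, IsLocalization.mk'_spec]
  have h2 : IsUnit (algebraMap (Localization.AtPrime p) (Localization.AtPrime P)
      (algebraMap A _ a)) := by
    rw [← h1]; exact hx.mul ((IsLocalization.map_units _ s).map _)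
  rw [← IsScalarTower.algebraMap_apply, IsScalarTower.algebraMap_apply A D (Localization.AtPrime P),
    IsLocalization.AtPrime.isUnit_to_map_iff _ P] at h2
  exact h2 (by rw [← hpP] at ha'; exact ha')

variable [Algebra.FormallyUnramified (Localization.AtPrime p) (Localization.AtPrime P)]
  [Algebra.EssFiniteType (Localization.AtPrime p) (Localization.AtPrime P)]

/-- `P = pD`, elementwise. -/
theorem exists_of_mem_prime (hinj : Function.Injective (algebraMap A D))
    (hpP : P.comap (algebraMap A D) = p)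
    (hF : ∀ t : D, t ∉ P → ∃ (a : A) (u : Dˣ), a ∉ p ∧ t = u * algebraMap A D a)
    (x : D) (hx : x ∈ P) : ∃ π ∈ p, ∃ d : D, x = algebraMap A D π * d := by
  haveI := isLocalHom_loc p P hpP
  have hmax := Algebra.FormallyUnramified.map_maximalIdeal (R := Localization.AtPrime p)
    (S := Localization.AtPrime P)
  have h1 : algebraMap D (Localization.AtPrime P) x ∈ maximalIdeal (Localization.AtPrime P) :=
    (IsLocalization.AtPrime.to_map_mem_maximal_iff _ P x).mpr hx
  rw [← hmax, ← Localization.AtPrime.map_eq_maximalIdeal, Ideal.map_map,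
    ← IsScalarTower.algebraMap_eq A (Localization.AtPrime p) (Localization.AtPrime P),
    IsScalarTower.algebraMap_eq A D (Localization.AtPrime P), ← Ideal.map_map,
    IsLocalization.mem_map_algebraMap_iff P.primeCompl] at h1
  obtain ⟨⟨⟨y, hy⟩, t⟩, hyt⟩ := h1
  have hxt : x * t = y := by
    apply IsLocalization.injective (Localization.AtPrime P) P.primeCompl_le_nonZeroDivisors
    simpa using hyt
  obtain ⟨π, hπ, d, hd⟩ := exists_of_mem_map p y hy
  obtain ⟨a, u, hap, hta⟩ := hF t t.2
  rcases ValuationRing.dvd_total a π with ⟨π', rfl⟩ | ⟨c, rfl⟩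
  · have hπ' : π' ∈ p := (Ideal.IsPrime.mem_or_mem ‹p.IsPrime› hπ).resolve_left hap
    have ha0 : algebraMap A D a ≠ 0 := by
      intro h
      apply hap
      rw [(map_eq_zero_iff _ hinj).mp h]
      exact p.zero_mem
    refine ⟨π', hπ', (↑u⁻¹ : D) * d, ?_⟩
    have h3 : algebraMap A D a * (x * u) = algebraMap A D a * (algebraMap A D π' * d) := by
      rw [← hxt, hta, map_mul] at hd
      linear_combination hd
    have h4 : x * u = algebraMap A D π' * d := mul_left_cancel₀ ha0 h3
    have h5 : (u : D) * ↑u⁻¹ = 1 := Units.mul_inv u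
    linear_combination (↑u⁻¹ : D) * h4 - x * h5
  · exact absurd (p.mul_mem_right c hπ) hap

end Loc

section FiniteType

/-- lifting generators of `D ⧸ P` to `D`. -/
theorem exists_fg_mod {A D : Type*} [CommRing A] [CommRing D] [Algebra A D] (P : Ideal D)
    [Algebra.FiniteType A (D ⧸ P)] :
    ∃ B₁ : Subalgebra A D, B₁.FG ∧ ∀ d : D, ∃ b ∈ B₁, d - b ∈ P := by
  classical
  obtain ⟨n, f, hf⟩ := Algebra.FiniteType.iff_quotient_mvPolynomial''.mp
    (inferInstance : Algebra.FiniteType A (D ⧸ P))
  choose x hx using fun i => Ideal.Quotient.mk_surjective (f (MvPolynomial.X i))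
  refine ⟨Algebra.adjoin A (Set.range x), ?_, fun d => ?_⟩
  · have : Set.range x = ((Finset.univ.image x : Finset D) : Set D) := by simp
    rw [this]
    exact Subalgebra.fg_adjoin_finset _
  · obtain ⟨q, hq⟩ := hf (Ideal.Quotient.mk P d)
    refine ⟨MvPolynomial.aeval x q, ?_, ?_⟩
    · rw [Algebra.adjoin_range_eq_range_aeval]
      exact ⟨q, rfl⟩
    · have hcomp : (Ideal.Quotient.mkₐ A P).comp (MvPolynomial.aeval x) = f := by
        apply MvPolynomial.algHom_ext
        intro i
        simp [hx i]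
      have h1 : Ideal.Quotient.mk P (MvPolynomial.aeval x q) = f q := by
        rw [← hcomp]; rfl
      rw [← Ideal.Quotient.eq_zero_iff_mem, map_sub, h1, hq, sub_self]

variable {A D : Type u} [CommRing A] [IsDomain A] [ValuationRing A]
  [CommRing D] [IsDomain D] [Algebra A D]
  (p : Ideal A) [p.IsPrime] (P : Ideal D) [P.IsPrime]
  [Algebra (Localization.AtPrime p) (Localization.AtPrime P)]
  [IsScalarTower A (Localization.AtPrime p) (Localization.AtPrime P)]
  [Algebra.FiniteType (Localization.AtPrime p) (Localization.AtPrime P)]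

omit [IsDomain A] [ValuationRing A] in
/-- generators of `D_P` over `A_p` can be taken in `D`, and then every element of `D` is in the
generated subalgebra up to a denominator in `A ∖ p`. -/
theorem exists_fg_loc
    (hF : ∀ t : D, t ∉ P → ∃ (a : A) (u : Dˣ), a ∉ p ∧ t = u * algebraMap A D a) :
    ∃ B₂ : Subalgebra A D, B₂.FG ∧ ∀ d : D, ∃ a : A, a ∉ p ∧ algebraMap A D a * d ∈ B₂ := by
  classical
  obtain ⟨S, hS⟩ := (Algebra.FiniteType.out :
    (⊤ : Subalgebra (Localization.AtPrime p) (Localization.AtPrime P)).FG)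
  have hz : ∀ z : Localization.AtPrime P, ∃ (y : D) (a : A), a ∉ p ∧
      algebraMap A (Localization.AtPrime P) a * z = algebraMap D (Localization.AtPrime P) y := by
    intro z
    obtain ⟨y₀, t, rfl⟩ := IsLocalization.exists_mk'_eq P.primeCompl z
    obtain ⟨a, u, hap, hta⟩ := hF t t.2
    refine ⟨(↑u⁻¹ : D) * y₀, a, hap, ?_⟩
    have h1 := IsLocalization.mk'_spec (Localization.AtPrime P) y₀ t
    rw [hta, map_mul] at h1
    rw [IsScalarTower.algebraMap_apply A D (Localization.AtPrime P), map_mul, ← h1]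
    have h5 : (u : D) * ↑u⁻¹ = 1 := Units.mul_inv u
    have h6 : algebraMap D (Localization.AtPrime P) (u : D) *
        algebraMap D (Localization.AtPrime P) (↑u⁻¹ : D) = 1 := by
      rw [← map_mul, h5, map_one]
    linear_combination (- IsLocalization.mk' (Localization.AtPrime P) y₀ t *
      algebraMap D (Localization.AtPrime P) (algebraMap A D a)) * h6
  choose y a hap hya using hz
  refine ⟨Algebra.adjoin A ((S.image y : Finset D) : Set D), Subalgebra.fg_adjoin_finset _, ?_⟩
  have key : ∀ w : Localization.AtPrime P, ∃ (c : A), c ∉ p ∧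
      ∃ b ∈ Algebra.adjoin A ((S.image y : Finset D) : Set D),
        algebraMap A (Localization.AtPrime P) c * w = algebraMap D (Localization.AtPrime P) b := by
    intro w
    have hw : w ∈ Algebra.adjoin (Localization.AtPrime p) (S : Set (Localization.AtPrime P)) := by
      rw [hS]; trivial
    induction hw using Algebra.adjoin_induction with
    | mem z hzS =>
      refine ⟨a z, hap z, y z, Algebra.subset_adjoin ?_, hya z⟩
      exact Finset.mem_coe.mpr (Finset.mem_image_of_mem y hzS)
    | algebraMap r =>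
      obtain ⟨a', s, rfl⟩ := IsLocalization.exists_mk'_eq p.primeCompl r
      refine ⟨s, s.2, algebraMap A D a', Subalgebra.algebraMap_mem _ _, ?_⟩
      rw [IsScalarTower.algebraMap_apply A (Localization.AtPrime p) (Localization.AtPrime P),
        ← map_mul, mul_comm, IsLocalization.mk'_spec, ← IsScalarTower.algebraMap_apply,
        IsScalarTower.algebraMap_apply A D (Localization.AtPrime P)]
    | add w₁ w₂ _ _ h₁ h₂ =>
      obtain ⟨c₁, hc₁, b₁, hb₁, e₁⟩ := h₁
      obtain ⟨c₂, hc₂, b₂, hb₂, e₂⟩ := h₂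
      refine ⟨c₁ * c₂, fun h => (Ideal.IsPrime.mem_or_mem ‹p.IsPrime› h).elim hc₁ hc₂,
        algebraMap A D c₂ * b₁ + algebraMap A D c₁ * b₂,
        add_mem (mul_mem (Subalgebra.algebraMap_mem _ _) hb₁)
          (mul_mem (Subalgebra.algebraMap_mem _ _) hb₂), ?_⟩
      rw [map_add, map_mul, map_mul, map_mul, ← e₁, ← e₂,
        ← IsScalarTower.algebraMap_apply A D (Localization.AtPrime P),
        ← IsScalarTower.algebraMap_apply A D (Localization.AtPrime P)]
      ring
    | mul w₁ w₂ _ _ h₁ h₂ =>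
      obtain ⟨c₁, hc₁, b₁, hb₁, e₁⟩ := h₁
      obtain ⟨c₂, hc₂, b₂, hb₂, e₂⟩ := h₂
      refine ⟨c₁ * c₂, fun h => (Ideal.IsPrime.mem_or_mem ‹p.IsPrime› h).elim hc₁ hc₂,
        b₁ * b₂, mul_mem hb₁ hb₂, ?_⟩
      rw [map_mul, map_mul, ← e₁, ← e₂]
      ring
  intro d
  obtain ⟨c, hc, b, hb, e⟩ := key (algebraMap D (Localization.AtPrime P) d)
  refine ⟨c, hc, ?_⟩
  have : algebraMap A D c * d = b := by
    apply IsLocalization.injective (Localization.AtPrime P) P.primeCompl_le_nonZeroDivisors
    rw [map_mul, ← e, ← IsScalarTower.algebraMap_apply A D (Localization.AtPrime P)]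
  rw [this]
  exact hb

end FiniteType

section FP

/-- a torsion-free finite type algebra over a valuation ring is finitely presented. -/
theorem finitePresentation_of_finiteType (A D : Type*) [CommRing A] [IsDomain A] [ValuationRing A]
    [CommRing D] [IsDomain D] [Algebra A D] (hinj : Function.Injective (algebraMap A D))
    [Algebra.FiniteType A D] : Algebra.FinitePresentation A D := by
  obtain ⟨n, f, hf⟩ := Algebra.FiniteType.iff_quotient_mvPolynomial''.mp
    (inferInstance : Algebra.FiniteType A D)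
  letI : Algebra (MvPolynomial (Fin n) A) D := f.toRingHom.toAlgebra
  haveI : IsScalarTower A (MvPolynomial (Fin n) A) D :=
    IsScalarTower.of_algebraMap_eq (fun a => (f.commutes a).symm)
  haveI : Module.Finite (MvPolynomial (Fin n) A) D :=
    Module.Finite.of_surjective (Algebra.linearMap (MvPolynomial (Fin n) A) D) hf
  have htf : ∀ (r : A) (x : D), r ≠ 0 → r • x = 0 → x = 0 := by
    intro r x hr h
    rw [Algebra.smul_def] at h
    rcases mul_eq_zero.mp h with h2 | h2
    · exact absurd (hinj (by rw [h2, map_zero])) hr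
    · exact h2
  haveI : Module.FinitePresentation (MvPolynomial (Fin n) A) D :=
    Groth.Agent.Lead.NagataVal.finitePresentation_of_flat_of_finiteType (R := A)
      (MvPolynomial (Fin n) A) D htf
  have hker : (LinearMap.ker (Algebra.linearMap (MvPolynomial (Fin n) A) D)).FG :=
    Module.FinitePresentation.fg_ker _ hf
  refine ⟨n, f, hf, ?_⟩
  have : RingHom.ker f.toRingHom = LinearMap.ker (Algebra.linearMap (MvPolynomial (Fin n) A) D) := by
    ext x
    rfl
  rw [this]
  exact hker

end FP

section Unram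

open KaehlerDifferential TensorProduct

variable {A D : Type u} [CommRing A] [CommRing D] [IsLocalRing D] [Algebra A D]
  (p : Ideal A) (P : Ideal D)
  [Algebra (A ⧸ p) (D ⧸ P)] [IsScalarTower A (A ⧸ p) (D ⧸ P)]
  [Algebra.FormallyUnramified (A ⧸ p) (D ⧸ P)]

theorem formallyUnramified_of_quot [Algebra.FiniteType A D] (hPtop : P ≠ ⊤)
    (hpP : P.comap (algebraMap A D) = p)
    (hP : ∀ x ∈ P, ∃ π ∈ p, ∃ d : D, x = algebraMap A D π * d) :
    Algebra.FormallyUnramified A D := by
  haveI : Algebra.FormallyUnramified A (A ⧸ p) :=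
    Algebra.FormallyUnramified.of_surjective (Algebra.ofId A (A ⧸ p)) Ideal.Quotient.mk_surjective
  haveI : Algebra.FormallyUnramified A (D ⧸ P) := Algebra.FormallyUnramified.comp A (A ⧸ p) (D ⧸ P)
  have hsurj : Function.Surjective (algebraMap D (D ⧸ P)) := Ideal.Quotient.mk_surjective
  have hex := KaehlerDifferential.exact_kerCotangentToTensor_mapBaseChange A D (D ⧸ P) hsurj
  have hzero : ∀ z : (D ⧸ P) ⊗[D] Ω[D⁄A], z = 0 := by
    intro z
    have h1 : KaehlerDifferential.mapBaseChange A D (D ⧸ P) z = 0 := Subsingleton.elim _ _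
    obtain ⟨c, rfl⟩ := (hex z).mp h1
    obtain ⟨x, rfl⟩ := Ideal.toCotangent_surjective _ c
    rw [KaehlerDifferential.kerCotangentToTensor_toCotangent]
    have hxP : (x : D) ∈ P := by
      have h2 : algebraMap D (D ⧸ P) (x : D) = 0 := RingHom.mem_ker.mp x.2
      exact Ideal.Quotient.eq_zero_iff_mem.mp h2
    obtain ⟨π, hπ, d, hd⟩ := hP _ hxP
    have hπP : algebraMap A D π ∈ P := by
      have : π ∈ P.comap (algebraMap A D) := by rw [hpP]; exact hπ
      exact this
    rw [hd, Derivation.leibniz, Derivation.map_algebraMap, smul_zero, add_zero,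
      TensorProduct.tmul_smul, TensorProduct.smul_tmul', Algebra.smul_def, mul_one,
      Ideal.Quotient.algebraMap_eq, Ideal.Quotient.eq_zero_iff_mem.mpr hπP, TensorProduct.zero_tmul]
  haveI : Subsingleton ((D ⧸ P) ⊗[D] Ω[D⁄A]) := ⟨fun a b => by rw [hzero a, hzero b]⟩
  haveI : Subsingleton (Ω[D⁄A] ⧸ (P • ⊤ : Submodule D Ω[D⁄A])) :=
    (TensorProduct.quotTensorEquivQuotSMul Ω[D⁄A] P).symm.injective.subsingleton
  have htop : (P • ⊤ : Submodule D Ω[D⁄A]) = ⊤ := Submodule.Quotient.subsingleton_iff.mp inferInstance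
  have hbot : (⊤ : Submodule D Ω[D⁄A]) = ⊥ := by
    refine Submodule.eq_bot_of_le_smul_of_le_jacobson_bot P ⊤ Module.Finite.fg_top (by rw [htop])
      ?_
    exact (IsLocalRing.le_maximalIdeal hPtop).trans (IsLocalRing.maximalIdeal_le_jacobson ⊥)
  refine ⟨⟨fun a b => ?_⟩⟩
  have ha : a ∈ (⊤ : Submodule D Ω[D⁄A]) := trivial
  have hb : b ∈ (⊤ : Submodule D Ω[D⁄A]) := trivial
  rw [hbot, Submodule.mem_bot] at ha hb
  rw [ha, hb]

end Unram

section Main

variable {A D : Type u} [CommRing A] [IsDomain A] [ValuationRing A]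
  [CommRing D] [IsDomain D] [ValuationRing D] [Algebra A D]
  [IsLocalHom (algebraMap A D)]
  (p : Ideal A) [p.IsPrime] (P : Ideal D) [P.IsPrime]
  [Algebra (A ⧸ p) (D ⧸ P)] [IsScalarTower A (A ⧸ p) (D ⧸ P)]
  [Algebra.Etale (A ⧸ p) (D ⧸ P)]
  [Algebra (Localization.AtPrime p) (Localization.AtPrime P)]
  [IsScalarTower A (Localization.AtPrime p) (Localization.AtPrime P)]
  [Algebra.Etale (Localization.AtPrime p) (Localization.AtPrime P)]

/-- **S15283 (abstract form)**: an extension of valuation rings composed of two étale extensions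
is étale. -/
theorem etale_of_composite (hinj : Function.Injective (algebraMap A D))
    (hpP : P.comap (algebraMap A D) = p) : Algebra.Etale A D := by
  have hF := exists_unit_mul_of_notMem p P
  have hP := exists_of_mem_prime p P hinj hpP hF
  haveI : Algebra.FiniteType A (D ⧸ P) :=
    Algebra.FiniteType.trans (inferInstance : Algebra.FiniteType A (A ⧸ p)) inferInstance
  obtain ⟨B₁, hB₁, h₁⟩ := exists_fg_mod (A := A) P
  obtain ⟨B₂, hB₂, h₂⟩ := exists_fg_loc p P hF
  have htop : B₁ ⊔ B₂ = ⊤ := by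
    rw [eq_top_iff]
    intro d _
    obtain ⟨b, hb, hq⟩ := h₁ d
    obtain ⟨π, hπ, d', hd'⟩ := hP _ hq
    obtain ⟨a, ha, hmem⟩ := h₂ d'
    rcases ValuationRing.dvd_total a π with ⟨π', rfl⟩ | ⟨c, rfl⟩
    · have : d = b + algebraMap A D π' * (algebraMap A D a * d') := by
        rw [map_mul] at hd'
        linear_combination hd'
      rw [this]
      exact add_mem (Algebra.mem_sup_left hb)
        (Algebra.mem_sup_right (mul_mem (Subalgebra.algebraMap_mem _ _) hmem))
    · exact absurd (p.mul_mem_right c hπ) ha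
  haveI : Algebra.FiniteType A D := ⟨by rw [← htop]; exact hB₁.sup hB₂⟩
  haveI := finitePresentation_of_finiteType A D hinj
  have htors : Submodule.torsion A D = ⊥ := by
    rw [eq_bot_iff]
    rintro m ⟨⟨r, hr⟩, h⟩
    have hr0 : r ≠ 0 := nonZeroDivisors.ne_zero hr
    have h1 : algebraMap A D r * m = 0 := by
      simpa [Algebra.smul_def] using h
    rcases mul_eq_zero.mp h1 with h2 | h2
    · exact absurd (hinj (by rw [h2, map_zero])) hr0
    · exact h2
  haveI : Module.Flat A D := Module.Flat.flat_iff_torsion_eq_bot_of_isBezout.mpr htors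
  haveI := formallyUnramified_of_quot p P (Ideal.IsPrime.ne_top ‹_›) hpP hP
  exact Algebra.Etale.of_formallyUnramified_of_flat

end Main

end Groth.Agent.H55.ValComp
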