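import Mathlib

/-!
# Étale-local extensions of valuation rings: value group equality (layer 1)

`A → D` a local injective homomorphism of valuation rings, `θ : D` a root of a monic `f : A[X]`
with `f'(θ)` a unit, such that every element of `D` is `r(θ)/s(θ)` with `s(θ)` a unit.
-/

set_option autoImplicit false
set_option linter.style.haveILetI false
set_option linter.deprecated false

universe u v

open Polynomial IsLocalRing

namespace Groth.Agent.H55.ValEt

/-- Finite families in a valuation ring have a least element for divisibility. -/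
theorem exists_min_dvd {A : Type*} [CommRing A] [IsDomain A] [ValuationRing A] {ι : Type*}
    (s : Finset ι) (hs : s.Nonempty) (c : ι → A) : ∃ i ∈ s, ∀ j ∈ s, c i ∣ c j := by
  induction hs using Finset.Nonempty.cons_induction with
  | singleton a => exact ⟨a, by simp, by simp⟩
  | cons a s ha hs ih =>
    obtain ⟨i, hi, hmin⟩ := ih
    rcases ValuationRing.dvd_total (c a) (c i) with h | h
    · refine ⟨a, by simp, ?_⟩
      intro j hj
      rcases Finset.mem_cons.mp hj with rfl | hj
      · exact dvd_rfl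
      · exact h.trans (hmin j hj)
    · refine ⟨i, by simp [hi], ?_⟩
      intro j hj
      rcases Finset.mem_cons.mp hj with rfl | hj
      · exact h
      · exact hmin j hj

/-- Content lemma: a nonzero polynomial over a valuation ring is a constant times a polynomial with
a unit coefficient. -/
theorem exists_C_mul {A : Type*} [CommRing A] [IsDomain A] [ValuationRing A] (p : A[X])
    (hp : p ≠ 0) : ∃ (c : A) (p' : A[X]), c ≠ 0 ∧ p = C c * p' ∧ ∃ i, p'.coeff i = 1 := by
  have hs : p.support.Nonempty := by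
    rwa [Finset.nonempty_iff_ne_empty, Ne, Polynomial.support_eq_empty]
  obtain ⟨i, hi, hmin⟩ := exists_min_dvd p.support hs p.coeff
  have hc : p.coeff i ≠ 0 := Polynomial.mem_support_iff.mp hi
  have hall : ∀ j, ∃ q, p.coeff j = p.coeff i * q := by
    intro j
    by_cases hj : j ∈ p.support
    · exact hmin j hj
    · exact ⟨0, by simpa using Polynomial.notMem_support_iff.mp hj⟩
  choose q hq using hall
  have hq0 : ∀ j, j ∉ p.support → q j = 0 := by
    intro j hj
    have h1 := hq j
    rw [Polynomial.notMem_support_iff.mp hj] at h1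
    rcases mul_eq_zero.mp h1.symm with h | h
    · exact absurd h hc
    · exact h
  refine ⟨p.coeff i, ∑ j ∈ p.support, monomial j (q j), hc, ?_, i, ?_⟩
  · ext j
    rw [Polynomial.coeff_C_mul, Polynomial.finsetSum_coeff]
    simp only [Polynomial.coeff_monomial]
    rw [Finset.sum_ite_eq']
    by_cases hj : j ∈ p.support
    · rw [if_pos hj]; exact hq j
    · rw [if_neg hj, mul_zero]; exact Polynomial.notMem_support_iff.mp hj
  · rw [Polynomial.finsetSum_coeff]
    simp only [Polynomial.coeff_monomial]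
    rw [Finset.sum_ite_eq', if_pos hi]
    have h1 := hq i
    have : p.coeff i * 1 = p.coeff i * q i := by rw [mul_one]; exact h1
    exact (mul_left_cancel₀ hc this).symm

/-- A local injective homomorphism out of a valuation ring reflects divisibility. -/
theorem dvd_of_map_dvd {A D : Type*} [CommRing A] [IsDomain A] [ValuationRing A] [CommRing D]
    [IsDomain D] (φ : A →+* D) (hinj : Function.Injective φ) [IsLocalHom φ] (a b : A)
    (h : φ a ∣ φ b) : a ∣ b := by
  obtain ⟨d, hd⟩ := h
  rcases ValuationRing.dvd_total a b with h1 | ⟨c, hc⟩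
  · exact h1
  · by_cases hcu : IsUnit c
    · obtain ⟨u, rfl⟩ := hcu
      exact ⟨↑u⁻¹, by rw [hc]; simp [mul_assoc]⟩
    · have h2 : φ b * (1 - φ c * d) = 0 := by
        have : φ b = φ b * φ c * d := by rw [← map_mul, ← hc]; exact hd
        linear_combination this
      rcases mul_eq_zero.mp h2 with h3 | h3
      · have : b = 0 := hinj (by rw [h3, map_zero])
        rw [this]; exact dvd_zero a
      · exfalso
        apply hcu
        have : IsUnit (φ c) := IsUnit.of_mul_eq_one d (by linear_combination -h3)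
        exact isUnit_of_map_unit φ c this


section Layer1

variable {A : Type u} {D : Type v} [CommRing A] [IsDomain A] [ValuationRing A]
  [CommRing D] [IsDomain D] [ValuationRing D] [Algebra A D] [IsLocalHom (algebraMap A D)]

/-- The hypotheses on `(A, D, θ, f)`. -/
structure Setup (A : Type u) (D : Type v) [CommRing A] [CommRing D] [Algebra A D]
    (θ : D) (f : A[X]) : Prop where
  inj : Function.Injective (algebraMap A D)
  loc : IsLocalHom (algebraMap A D)
  monic : f.Monic
  root : aeval θ f = 0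
  der : IsUnit (aeval θ (derivative f))
  gen : ∀ d : D, ∃ r s : A[X], IsUnit (aeval θ s) ∧ d * aeval θ s = aeval θ r

variable (θ : D)

theorem aeval_red (p : A[X]) :
    aeval (residue D θ) (p.map (residue A)) = residue D (aeval θ p) := by
  rw [Polynomial.aeval_def, Polynomial.eval₂_map, Polynomial.aeval_def, Polynomial.hom_eval₂]
  congr 1

/-- The minimal polynomial of the residue of `θ`. -/
noncomputable abbrev gbar : (ResidueField A)[X] := minpoly (ResidueField A) (residue D θ)

theorem mem_max_iff (p : A[X]) :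
    aeval θ p ∈ maximalIdeal D ↔ gbar (A := A) θ ∣ p.map (residue A) := by
  rw [← residue_eq_zero_iff, ← aeval_red, minpoly.dvd_iff]

theorem isUnit_aeval_iff (p : A[X]) :
    IsUnit (aeval θ p) ↔ ¬ gbar (A := A) θ ∣ p.map (residue A) := by
  rw [← mem_max_iff, mem_maximalIdeal, mem_nonunits_iff, not_not]

theorem red_eq_zero_iff (p : A[X]) :
    p.map (residue A) = 0 ↔ ∀ i, p.coeff i ∈ maximalIdeal A := by
  rw [Polynomial.ext_iff]
  simp [Polynomial.coeff_map, residue_eq_zero_iff]

theorem aeval_mem_map_of_red_eq_zero (p : A[X]) (hp : p.map (residue A) = 0) :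
    aeval θ p ∈ (maximalIdeal A).map (algebraMap A D) := by
  rw [red_eq_zero_iff] at hp
  rw [Polynomial.aeval_eq_sum_range]
  refine Ideal.sum_mem _ fun i _ => ?_
  rw [Algebra.smul_def]
  exact Ideal.mul_mem_right _ _ (Ideal.mem_map_of_mem _ (hp i))

theorem exists_lift (q : (ResidueField A)[X]) :
    ∃ p : A[X], p.map (residue A) = q ∧ p.degree = q.degree := by
  have : q ∈ Polynomial.lifts (residue A) := by
    rw [Polynomial.lifts_iff_coeff_lifts]
    intro n
    exact residue_surjective _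
  exact Polynomial.exists_degree_eq_of_mem_lifts this


variable {θ} {f : A[X]}

theorem isIntegral_res (h : Setup A D θ f) : IsIntegral (ResidueField A) (residue D θ) :=
  ⟨f.map (residue A), h.monic.map _, by rw [← Polynomial.aeval_def, aeval_red, h.root, map_zero]⟩

theorem natDegree_gbar_pos (h : Setup A D θ f) : 0 < (gbar (A := A) θ).natDegree :=
  minpoly.natDegree_pos (isIntegral_res h)

theorem irreducible_gbar (h : Setup A D θ f) : Irreducible (gbar (A := A) θ) :=
  minpoly.irreducible (isIntegral_res h)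

theorem monic_gbar (h : Setup A D θ f) : (gbar (A := A) θ).Monic :=
  minpoly.monic (isIntegral_res h)

/-- (F1') a polynomial of degree `< f₁` with a unit coefficient evaluates to a unit. -/
theorem isUnit_aeval_of_lt (h : Setup A D θ f) (p : A[X])
    (hdeg : p.natDegree < (gbar (A := A) θ).natDegree) (hu : ∃ i, IsUnit (p.coeff i)) :
    IsUnit (aeval θ p) := by
  rw [isUnit_aeval_iff]
  intro hdvd
  obtain ⟨i, hi⟩ := hu
  have hne : p.map (residue A) ≠ 0 := by
    intro h0
    have := (red_eq_zero_iff p).mp h0 i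
    exact this hi
  have h1 := Polynomial.natDegree_le_of_dvd hdvd hne
  have h2 : (p.map (residue A)).natDegree ≤ p.natDegree := Polynomial.natDegree_map_le
  omega

/-- (P8) a nonzero polynomial of degree `< f₁` evaluates to a unit times an element of `A`. -/
theorem assoc_of_lt (h : Setup A D θ f) (p : A[X]) (hp : p ≠ 0)
    (hdeg : p.natDegree < (gbar (A := A) θ).natDegree) :
    ∃ (a : A) (u : Dˣ), a ≠ 0 ∧ aeval θ p = u * algebraMap A D a := by
  obtain ⟨c, p', hc, hpp', i, hi⟩ := exists_C_mul p hp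
  have hdeg' : p'.natDegree < (gbar (A := A) θ).natDegree := by
    have : p.natDegree = p'.natDegree := by rw [hpp', Polynomial.natDegree_C_mul hc]
    omega
  have hu := isUnit_aeval_of_lt h p' hdeg' ⟨i, by rw [hi]; exact isUnit_one⟩
  refine ⟨c, hu.unit, hc, ?_⟩
  rw [hpp', map_mul, Polynomial.aeval_C, IsUnit.unit_spec, mul_comm]

theorem exists_g₁ (h : Setup A D θ f) : ∃ g₁ : A[X], g₁.Monic ∧
    g₁.map (residue A) = gbar (A := A) θ ∧ g₁.natDegree = (gbar (A := A) θ).natDegree := by
  have : gbar (A := A) θ ∈ Polynomial.lifts (residue A) := by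
    rw [Polynomial.lifts_iff_coeff_lifts]
    intro n
    exact residue_surjective _
  obtain ⟨q, h1, h2, h3⟩ := Polynomial.lifts_and_natDegree_eq_and_monic this (monic_gbar h)
  exact ⟨q, h3, h1, h2⟩

/-- The cofactor `h̄` of `ḡ` in `f̄` is prime to `ḡ`. -/
theorem exists_hbar (h : Setup A D θ f) : ∃ hb : (ResidueField A)[X],
    f.map (residue A) = gbar (A := A) θ * hb ∧ IsCoprime (gbar (A := A) θ) hb := by
  have hdvd : gbar (A := A) θ ∣ f.map (residue A) := by
    rw [← mem_max_iff, h.root]; exact zero_mem _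
  obtain ⟨hb, hhb⟩ := hdvd
  refine ⟨hb, hhb, ?_⟩
  rw [(irreducible_gbar h).coprime_iff_not_dvd]
  intro hd
  have h0 : aeval (residue D θ) hb = 0 := minpoly.dvd_iff.mp hd
  have h1 : aeval (residue D θ) ((derivative f).map (residue A)) = 0 := by
    rw [← Polynomial.derivative_map, hhb, Polynomial.derivative_mul, map_add, map_mul, map_mul,
      h0, minpoly.aeval]
    ring
  rw [aeval_red, residue_eq_zero_iff] at h1
  exact h1 h.der


/-- (P5)+(P6): any `r` with `r(θ) ∈ 𝔪_D` has `r(θ) ∈ 𝔪_A D`. -/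
theorem aeval_mem_map_of_mem_max (h : Setup A D θ f) (r : A[X])
    (hr : aeval θ r ∈ maximalIdeal D) : aeval θ r ∈ (maximalIdeal A).map (algebraMap A D) := by
  obtain ⟨g₁, hg₁m, hg₁, -⟩ := exists_g₁ h
  obtain ⟨hb, hfb, hcop⟩ := exists_hbar h
  -- first `g₁(θ) ∈ 𝔪_A D`
  have hg : aeval θ g₁ ∈ (maximalIdeal A).map (algebraMap A D) := by
    obtain ⟨hh, hhh, -⟩ := exists_lift hb
    have hu : IsUnit (aeval θ hh) := by
      rw [isUnit_aeval_iff, hhh]
      exact (irreducible_gbar h).coprime_iff_not_dvd.mp hcop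
    have hρ : (f - g₁ * hh).map (residue A) = 0 := by
      rw [Polynomial.map_sub, Polynomial.map_mul, hg₁, hhh, hfb, sub_self]
    have h1 := aeval_mem_map_of_red_eq_zero θ _ hρ
    rw [map_sub, h.root, map_mul, zero_sub] at h1
    obtain ⟨u, hu⟩ := hu
    have h2 : aeval θ g₁ = -(aeval θ g₁ * aeval θ hh) * (-(↑u⁻¹ : D)) := by
      rw [← hu]; simp [mul_assoc]
    rw [h2]
    exact Ideal.mul_mem_right _ _ h1
  rw [mem_max_iff] at hr
  obtain ⟨tb, htb⟩ := hr
  obtain ⟨t, ht, -⟩ := exists_lift tb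
  have hρ : (r - g₁ * t).map (residue A) = 0 := by
    rw [Polynomial.map_sub, Polynomial.map_mul, hg₁, ht, htb, sub_self]
  have h1 := aeval_mem_map_of_red_eq_zero θ _ hρ
  have h2 : aeval θ r = aeval θ (r - g₁ * t) + aeval θ g₁ * aeval θ t := by
    rw [map_sub, map_mul]; ring
  rw [h2]
  exact Ideal.add_mem _ h1 (Ideal.mul_mem_right _ _ hg)

/-- (P6) `𝔪_D = 𝔪_A D`. -/
theorem max_le_map (h : Setup A D θ f) :
    maximalIdeal D ≤ (maximalIdeal A).map (algebraMap A D) := by
  intro d hd
  obtain ⟨r, s, hs, hrs⟩ := h.gen d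
  have hr : aeval θ r ∈ maximalIdeal D := by
    rw [← hrs]; exact Ideal.mul_mem_right _ _ hd
  have h1 := aeval_mem_map_of_mem_max h r hr
  obtain ⟨u, hu⟩ := hs
  have : d = aeval θ r * (↑u⁻¹ : D) := by
    rw [← hrs, ← hu]; simp [mul_assoc]
  rw [this]
  exact Ideal.mul_mem_right _ _ h1

/-- (P7) residues of `D` are represented by polynomials of degree `< f₁`. -/
theorem exists_rep_mod_max (h : Setup A D θ f) (d : D) : ∃ ρ : A[X],
    ρ.natDegree < (gbar (A := A) θ).natDegree ∧ d - aeval θ ρ ∈ maximalIdeal D := by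
  obtain ⟨r, s, hs, hrs⟩ := h.gen d
  have hcop : IsCoprime (gbar (A := A) θ) (s.map (residue A)) := by
    rw [(irreducible_gbar h).coprime_iff_not_dvd, ← isUnit_aeval_iff]; exact hs
  obtain ⟨ub, vb, huv⟩ := hcop
  set qb : (ResidueField A)[X] := (r.map (residue A) * vb) %ₘ gbar (A := A) θ with hqb
  obtain ⟨ρ, hρ, hρdeg⟩ := exists_lift qb
  have hdegq : qb.degree < (gbar (A := A) θ).degree :=
    Polynomial.degree_modByMonic_lt _ (monic_gbar h)
  refine ⟨ρ, ?_, ?_⟩
  · by_cases hρ0 : ρ = 0
    · rw [hρ0, Polynomial.natDegree_zero]; exact natDegree_gbar_pos h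
    · exact Polynomial.natDegree_lt_natDegree hρ0 (by rw [hρdeg]; exact hdegq)
  · rw [← residue_eq_zero_iff, map_sub, ← aeval_red, hρ, hqb,
      Polynomial.aeval_modByMonic_eq_self_of_root (minpoly.aeval _ _), map_mul, aeval_red,
      sub_eq_zero]
    have h1 : aeval (residue D θ) vb * residue D (aeval θ s) = 1 := by
      have := congrArg (aeval (residue D θ)) huv
      rw [map_add, map_mul, map_mul, minpoly.aeval, mul_zero, zero_add, map_one, aeval_red] at this
      exact this
    have h2 : residue D d * residue D (aeval θ s) = residue D (aeval θ r) := by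
      rw [← map_mul, hrs]
    calc residue D d = residue D d * (residue D (aeval θ s) * aeval (residue D θ) vb) := by
          rw [mul_comm (residue D (aeval θ s)), h1, mul_one]
      _ = residue D (aeval θ r) * aeval (residue D θ) vb := by rw [← mul_assoc, h2]


/-- `1 + t` is invertible modulo `f` when `t` reduces to zero. -/
theorem exists_inv_mod (h : Setup A D θ f) (t : A[X]) (ht : t.map (residue A) = 0) :
    ∃ t' q : A[X], (1 + t) * t' = 1 + f * q := by
  haveI : Module.Finite A (AdjoinRoot f) := h.monic.finite_adjoinRoot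
  haveI : Algebra.IsIntegral A (AdjoinRoot f) := Algebra.IsIntegral.of_finite A _
  have hjac : AdjoinRoot.mk f t ∈ Ideal.jacobson (⊥ : Ideal (AdjoinRoot f)) := by
    rw [Ideal.jacobson, Ideal.mem_sInf]
    rintro M ⟨-, hM⟩
    haveI := hM
    have hcm : M.comap (algebraMap A (AdjoinRoot f)) = maximalIdeal A :=
      IsLocalRing.eq_maximalIdeal (Ideal.isMaximal_comap_of_isIntegral_of_isMaximal M)
    rw [red_eq_zero_iff] at ht
    rw [← AdjoinRoot.aeval_eq, Polynomial.aeval_eq_sum_range]
    refine Ideal.sum_mem _ fun i _ => ?_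
    rw [Algebra.smul_def]
    refine Ideal.mul_mem_right _ _ ?_
    have : t.coeff i ∈ M.comap (algebraMap A (AdjoinRoot f)) := by rw [hcm]; exact ht i
    exact this
  have hu : IsUnit (AdjoinRoot.mk f (1 + t)) := by
    have := Ideal.mem_jacobson_bot.mp hjac 1
    rwa [mul_one, add_comm, ← map_one (AdjoinRoot.mk f), ← map_add] at this
  obtain ⟨u, hu⟩ := hu
  obtain ⟨t', ht'⟩ := AdjoinRoot.mk_surjective (↑u⁻¹ : AdjoinRoot f)
  have h1 : AdjoinRoot.mk f ((1 + t) * t' - 1) = 0 := by
    rw [map_sub, map_mul, ht', ← hu, map_one]; simp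
  rw [AdjoinRoot.mk_eq_zero] at h1
  obtain ⟨q, hq⟩ := h1
  exact ⟨t', q, by linear_combination hq⟩

/-- Good elements: `ḡ` lifts to a polynomial vanishing at `θ` modulo `x`. -/
def Good (θ : D) (x : D) : Prop :=
  ∃ r₁ : A[X], x ∣ aeval θ r₁ ∧ r₁.map (residue A) = gbar (A := A) θ

theorem Good.of_dvd {x y : D} (hx : Good (A := A) θ x) (hyx : y ∣ x) : Good (A := A) θ y := by
  obtain ⟨r₁, h1, h2⟩ := hx
  exact ⟨r₁, hyx.trans h1, h2⟩

theorem good_one (h : Setup A D θ f) : Good (A := A) θ (1 : D) := by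
  obtain ⟨g₁, -, hg₁, -⟩ := exists_g₁ h
  exact ⟨g₁, one_dvd _, hg₁⟩

theorem Good.mul (h : Setup A D θ f) {x y : D} (hx : Good (A := A) θ x)
    (hy : Good (A := A) θ y) : Good (A := A) θ (x * y) := by
  obtain ⟨r₁, h1, h1'⟩ := hx
  obtain ⟨r₂, h2, h2'⟩ := hy
  obtain ⟨hb, hfb, ab, bb, hab⟩ := exists_hbar h
  obtain ⟨a, ha, -⟩ := exists_lift ab
  obtain ⟨b, hb', -⟩ := exists_lift bb
  refine ⟨a * (r₁ * r₂) + b * f, ?_, ?_⟩
  · rw [map_add, map_mul, map_mul, map_mul, h.root, mul_zero, add_zero]
    exact Dvd.dvd.mul_left (mul_dvd_mul h1 h2) _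
  · rw [Polynomial.map_add, Polynomial.map_mul, Polynomial.map_mul, Polynomial.map_mul, h1', h2',
      ha, hb', hfb]
    linear_combination (gbar (A := A) θ) * hab

/-- (P10) good elements `x` satisfy `D = A[θ] + xD`. -/
theorem Good.exists_rep (h : Setup A D θ f) {x : D} (hx : Good (A := A) θ x) (d : D) :
    ∃ r : A[X], x ∣ d - aeval θ r := by
  obtain ⟨r₁, h1, h1'⟩ := hx
  obtain ⟨r, s, hs, hrs⟩ := h.gen d
  have hcop : IsCoprime (gbar (A := A) θ) (s.map (residue A)) := by
    rw [(irreducible_gbar h).coprime_iff_not_dvd, ← isUnit_aeval_iff]; exact hs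
  obtain ⟨vb, ub, huv⟩ := hcop
  obtain ⟨u, hu, -⟩ := exists_lift ub
  obtain ⟨v, hv, -⟩ := exists_lift vb
  have ht : (u * s + v * r₁ - 1).map (residue A) = 0 := by
    rw [Polynomial.map_sub, Polynomial.map_add, Polynomial.map_mul, Polynomial.map_mul, hu, hv,
      h1', Polynomial.map_one]
    linear_combination huv
  obtain ⟨t', q, htq⟩ := exists_inv_mod h _ ht
  have h2 := congrArg (aeval θ) htq
  simp only [map_mul, map_add, map_sub, map_one, h.root, zero_mul, add_zero] at h2
  refine ⟨r * u * t', ?_⟩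
  obtain ⟨e, he⟩ := h1
  refine ⟨d * aeval θ v * aeval θ t' * e, ?_⟩
  rw [map_mul, map_mul, ← hrs]
  linear_combination (-d) * h2 + (d * aeval θ v * aeval θ t') * he


theorem aeval_mem_map_degreeLT (h : Setup A D θ f) (r : A[X]) :
    aeval θ r ∈ (Polynomial.degreeLT A f.natDegree).map (aeval θ).toLinearMap := by
  by_cases hn : f.natDegree = 0
  · have hf1 : f = 1 := Polynomial.eq_one_of_monic_natDegree_zero h.monic hn
    have h1 := h.root
    rw [hf1, map_one] at h1
    have : aeval θ r = 0 := by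
      calc aeval θ r = aeval θ r * 1 := (mul_one _).symm
        _ = 0 := by rw [h1, mul_zero]
    rw [this]; exact zero_mem _
  refine ⟨r %ₘ f, ?_, ?_⟩
  · rw [SetLike.mem_coe, Polynomial.mem_degreeLT]
    calc (r %ₘ f).degree < f.degree := Polynomial.degree_modByMonic_lt _ h.monic
      _ = (f.natDegree : WithBot ℕ) := Polynomial.degree_eq_natDegree h.monic.ne_zero
  · exact Polynomial.aeval_modByMonic_eq_self_of_root h.root

/-- (P9) Nakayama: if `D = A[θ] + xD` then `D = Σ_{i<f₁} A θ^i + xD`. -/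
theorem exists_rep_lt (h : Setup A D θ f) {x : D}
    (hH : ∀ d : D, ∃ r : A[X], x ∣ d - aeval θ r) (d : D) :
    ∃ ρ : A[X], ρ.natDegree < (gbar (A := A) θ).natDegree ∧ x ∣ d - aeval θ ρ := by
  classical
  set ev : A[X] →ₗ[A] D := (aeval θ).toLinearMap with hev
  set N' : Submodule A D := (Polynomial.degreeLT A f.natDegree).map ev with hN'
  set Nl : Submodule A D := (Polynomial.degreeLT A (gbar (A := A) θ).natDegree).map ev with hNl
  set X_ : Submodule A D := (Ideal.span {x}).restrictScalars A with hX_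
  have hN'fg : N'.FG := by
    refine Submodule.FG.map _ ?_
    rw [Polynomial.degreeLT_eq_span_X_pow]
    exact Submodule.fg_span (Finset.finite_toSet _)
  have hXmem : ∀ z : D, z ∈ X_ ↔ x ∣ z := by
    intro z
    rw [hX_, Submodule.restrictScalars_mem, Ideal.mem_span_singleton]
  have htop : (⊤ : Submodule A D) ≤ N' ⊔ X_ := by
    intro d _
    obtain ⟨r, hr⟩ := hH d
    have : d = aeval θ r + (d - aeval θ r) := by ring
    rw [this]
    exact Submodule.add_mem_sup (aeval_mem_map_degreeLT h r) ((hXmem _).mpr hr)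
  have hsmulX : (maximalIdeal A) • X_ ≤ X_ := Submodule.smul_le_right
  have hkey : N' ≤ (Nl ⊔ X_) ⊔ (maximalIdeal A) • N' := by
    intro y _
    obtain ⟨ρ, hρdeg, hρ⟩ := exists_rep_mod_max h y
    have h1 : y - aeval θ ρ ∈ (maximalIdeal A) • (⊤ : Submodule A D) := by
      rw [Ideal.smul_top_eq_map, Submodule.restrictScalars_mem]
      exact max_le_map h hρ
    have h2 : (maximalIdeal A) • (⊤ : Submodule A D) ≤ (maximalIdeal A) • N' ⊔ X_ := by
      calc (maximalIdeal A) • (⊤ : Submodule A D) ≤ (maximalIdeal A) • (N' ⊔ X_) :=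
            Submodule.smul_mono le_rfl htop
        _ = (maximalIdeal A) • N' ⊔ (maximalIdeal A) • X_ := Submodule.smul_sup _ _ _
        _ ≤ (maximalIdeal A) • N' ⊔ X_ := sup_le_sup_left hsmulX _
    have h3 : aeval θ ρ ∈ Nl := by
      refine ⟨ρ, ?_, rfl⟩
      rw [SetLike.mem_coe, Polynomial.mem_degreeLT]
      by_cases hρ0 : ρ = 0
      · rw [hρ0, Polynomial.degree_zero]; exact WithBot.bot_lt_coe _
      · rw [Polynomial.degree_eq_natDegree hρ0]; exact_mod_cast hρdeg
    have : y = aeval θ ρ + (y - aeval θ ρ) := by ring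
    rw [this]
    have h4 := h2 h1
    rw [sup_comm (Nl ⊔ X_), ← sup_assoc]
    refine Submodule.add_mem _ ?_ ?_
    · exact Submodule.mem_sup_left (Submodule.mem_sup_right h3)
    · rcases Submodule.mem_sup.mp h4 with ⟨a, ha, b, hb, hab⟩
      rw [← hab]
      exact Submodule.add_mem _ (Submodule.mem_sup_left (Submodule.mem_sup_left ha))
        (Submodule.mem_sup_right hb)
  have hjac : maximalIdeal A ≤ Ideal.jacobson ⊥ :=
    (IsLocalRing.jacobson_eq_maximalIdeal _ bot_ne_top).ge
  have hfin : N' ≤ Nl ⊔ X_ := Submodule.le_of_le_smul_of_le_jacobson_bot hN'fg hjac hkey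
  obtain ⟨r, hr⟩ := hH d
  have h5 := hfin (aeval_mem_map_degreeLT h r)
  rcases Submodule.mem_sup.mp h5 with ⟨a, ⟨ρ, hρ, rfl⟩, b, hb, hab⟩
  refine ⟨ρ, ?_, ?_⟩
  · rw [SetLike.mem_coe, Polynomial.mem_degreeLT] at hρ
    by_cases hρ0 : ρ = 0
    · rw [hρ0, Polynomial.natDegree_zero]; exact natDegree_gbar_pos h
    · rw [Polynomial.degree_eq_natDegree hρ0] at hρ; exact_mod_cast hρ
  · have hb' := (hXmem b).mp hb
    have : d - aeval θ ρ = (d - aeval θ r) + b := by
      have : aeval θ r = aeval θ ρ + b := hab.symm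
      rw [this]; ring
    rw [this]
    exact dvd_add hr hb'


/-- (P9, final) -/
theorem assoc_of_rep (h : Setup A D θ f) {x : D}
    (hH : ∀ d : D, ∃ r : A[X], x ∣ d - aeval θ r) (y m : D) (hm : m ∈ maximalIdeal D)
    (hxy : x = y * m) (hy : y ≠ 0) : ∃ (a : A) (u : Dˣ), y = u * algebraMap A D a := by
  obtain ⟨ρ, hρdeg, e, he⟩ := exists_rep_lt h hH y
  have hu : IsUnit (1 - m * e) := by
    have : m * e ∈ maximalIdeal D := Ideal.mul_mem_right _ _ hm
    by_contra hnu
    have h1 : 1 - m * e ∈ maximalIdeal D := hnu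
    have : (1 : D) ∈ maximalIdeal D := by
      have := Ideal.add_mem _ h1 this
      simpa using this
    exact (Ideal.ne_top_iff_one _).mp (maximalIdeal.isMaximal D).ne_top this
  obtain ⟨u₀, hu₀⟩ := hu
  have h1 : aeval θ ρ = y * u₀ := by
    rw [hu₀]; rw [hxy] at he; linear_combination -he
  have hρ0 : ρ ≠ 0 := by
    intro h0
    rw [h0, map_zero] at h1
    rcases mul_eq_zero.mp h1.symm with h2 | h2
    · exact hy h2
    · exact u₀.ne_zero h2
  obtain ⟨a, u, -, hau⟩ := assoc_of_lt h ρ hρ0 hρdeg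
  refine ⟨a, u * u₀⁻¹, ?_⟩
  have : y = aeval θ ρ * (↑u₀⁻¹ : D) := by rw [h1]; simp [mul_assoc]
  rw [this, hau]; push_cast; ring

/-- The ideal of bad elements. -/
def badIdeal (h : Setup A D θ f) : Ideal D where
  carrier := {x | x = 0 ∨ ¬ Good (A := A) θ x}
  zero_mem' := Or.inl rfl
  add_mem' := by
    rintro x y hx hy
    by_cases hxy0 : x + y = 0
    · exact Or.inl hxy0
    right
    intro hg
    rcases ValuationRing.dvd_total x y with hd | hd
    · rcases hx with rfl | hx
      · rw [zero_dvd_iff] at hd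
        rw [hd, add_zero] at hxy0; exact hxy0 rfl
      · exact hx (hg.of_dvd (dvd_add dvd_rfl hd))
    · rcases hy with rfl | hy
      · rw [zero_dvd_iff] at hd
        rw [hd, add_zero] at hxy0; exact hxy0 rfl
      · exact hy (hg.of_dvd (dvd_add hd dvd_rfl))
  smul_mem' := by
    rintro c x hx
    by_cases hcx : c • x = 0
    · exact Or.inl hcx
    right
    intro hg
    rcases hx with rfl | hx
    · exact hcx (smul_zero c)
    · exact hx (hg.of_dvd (Dvd.intro_left c rfl))

theorem mem_badIdeal (h : Setup A D θ f) (x : D) :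
    x ∈ badIdeal h ↔ x = 0 ∨ ¬ Good (A := A) θ x := Iff.rfl

instance badIdeal_isPrime (h : Setup A D θ f) : (badIdeal h).IsPrime where
  ne_top' := by
    rw [Ideal.ne_top_iff_one, mem_badIdeal]
    rintro (h1 | h1)
    · exact one_ne_zero h1
    · exact h1 (good_one h)
  mem_or_mem' := by
    intro x y hxy
    by_contra hcon
    push_neg at hcon
    obtain ⟨hx, hy⟩ := hcon
    rw [mem_badIdeal] at hx hy hxy
    push_neg at hx hy
    rcases hxy with h0 | h0
    · rcases mul_eq_zero.mp h0 with h1 | h1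
      · exact hx.1 h1
      · exact hy.1 h1
    · exact h0 (hx.2.mul h hy.2)

/-- (P12) elements outside the bad prime are associated to elements of `A`. -/
theorem assoc_of_notMem_bad (h : Setup A D θ f) (b : D) (hb : b ∉ badIdeal h) :
    ∃ (a : A) (u : Dˣ), b = u * algebraMap A D a := by
  rw [mem_badIdeal] at hb
  push_neg at hb
  obtain ⟨hb0, hbg⟩ := hb
  by_cases hbu : IsUnit b
  · exact ⟨1, hbu.unit, by simp⟩
  · exact assoc_of_rep h (fun d => (hbg.mul h hbg).exists_rep h d) b b hbu rfl hb0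

/-- (E4) a polynomial with a unit coefficient whose value lies in the (nonzero) bad prime has
degree `> f₁`. -/
theorem lt_natDegree_of_mem_bad (h : Setup A D θ f) (r : A[X]) (hu : ∃ i, IsUnit (r.coeff i))
    (hr : aeval θ r ∈ badIdeal h) (hne : badIdeal h ≠ ⊥) :
    (gbar (A := A) θ).natDegree < r.natDegree := by
  have hmax : aeval θ r ∈ maximalIdeal D :=
    IsLocalRing.le_maximalIdeal (badIdeal_isPrime h).ne_top hr
  rw [mem_max_iff] at hmax
  obtain ⟨i, hi⟩ := hu
  have hne0 : r.map (residue A) ≠ 0 := by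
    intro h0
    exact (red_eq_zero_iff r).mp h0 i hi
  have h1 := Polynomial.natDegree_le_of_dvd hmax hne0
  have h2 : (r.map (residue A)).natDegree ≤ r.natDegree := Polynomial.natDegree_map_le
  by_contra hlt
  push_neg at hlt
  have heq : (r.map (residue A)).natDegree = (gbar (A := A) θ).natDegree := by omega
  obtain ⟨qb, hqb⟩ := hmax
  have hqb0 : qb ≠ 0 := by
    rintro rfl; rw [mul_zero] at hqb; exact hne0 hqb
  have hqdeg : qb.natDegree = 0 := by
    have := Polynomial.natDegree_mul (monic_gbar h).ne_zero hqb0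
    rw [← hqb] at this; omega
  obtain ⟨cb, hcb⟩ : ∃ cb, qb = C cb := ⟨_, Polynomial.eq_C_of_natDegree_eq_zero hqdeg⟩
  have hcb0 : cb ≠ 0 := by
    rintro rfl; rw [map_zero] at hcb; exact hqb0 hcb
  obtain ⟨c, rfl⟩ := residue_surjective cb
  have hcu : IsUnit c := by
    by_contra hnu
    exact hcb0 ((residue_eq_zero_iff c).mpr hnu)
  obtain ⟨cu, rfl⟩ := hcu
  have hgood : Good (A := A) θ (aeval θ r) := by
    refine ⟨C (↑cu⁻¹ : A) * r, ?_, ?_⟩
    · rw [map_mul]; exact Dvd.intro_left _ rfl
    · rw [Polynomial.map_mul, hqb, hcb, Polynomial.map_C, mul_comm, mul_assoc, ← C_mul, ← map_mul]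
      simp
  rw [mem_badIdeal] at hr
  rcases hr with hr0 | hr0
  · apply hne
    rw [eq_bot_iff]
    intro x hx
    rw [mem_badIdeal] at hx
    rcases hx with hx | hx
    · exact hx
    · exfalso; apply hx
      apply hgood.of_dvd
      rw [hr0]; exact dvd_zero x
  · exact hr0 hgood

/-- Summary of layer 1. -/
theorem layer1 (h : Setup A D θ f) : ∃ (f₁ : ℕ) (P₀ : Ideal D), P₀.IsPrime ∧
    (∃ g : A[X], g.Monic ∧ g.natDegree = f₁ ∧ aeval θ g ∈ maximalIdeal D) ∧
    (∀ b : D, b ∉ P₀ → ∃ (a : A) (u : Dˣ), b = u * algebraMap A D a) ∧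
    (∀ r : A[X], (∃ i, IsUnit (r.coeff i)) → aeval θ r ∈ P₀ → P₀ ≠ ⊥ → f₁ < r.natDegree) := by
  refine ⟨(gbar (A := A) θ).natDegree, badIdeal h, inferInstance, ?_, assoc_of_notMem_bad h,
    fun r hu hr hne => lt_natDegree_of_mem_bad h r hu hr hne⟩
  obtain ⟨g₁, hm, hg, hd⟩ := exists_g₁ h
  exact ⟨g₁, hm, hd, by rw [mem_max_iff, hg]⟩

end Layer1

end Groth.Agent.H55.ValEt
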