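import Groth.Agent.H55.ValEt1

/-!
# Étale-local extensions of valuation rings: value group equality (layer 2)

The induction: coarsening at the bad prime.
-/

set_option autoImplicit false
set_option linter.style.haveILetI false
set_option linter.deprecated false

universe u v

open Polynomial IsLocalRing

namespace Groth.Agent.H55.ValEt

/-- A localization of a valuation ring (inside a domain) is a valuation ring. -/
theorem valuationRing_of_isLocalization {A : Type*} [CommRing A] [IsDomain A] [ValuationRing A]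
    (M : Submonoid A) (S : Type*) [CommRing S] [IsDomain S] [Algebra A S] [IsLocalization M S] :
    ValuationRing S := by
  haveI : PreValuationRing S := by
    refine ⟨fun x y => ?_⟩
    obtain ⟨a, s, rfl⟩ := IsLocalization.exists_mk'_eq M x
    obtain ⟨b, t, rfl⟩ := IsLocalization.exists_mk'_eq M y
    rcases ValuationRing.dvd_total a b with ⟨c, hc⟩ | ⟨c, hc⟩
    · refine ⟨IsLocalization.mk' S (c * s) t, Or.inl ?_⟩
      rw [← IsLocalization.mk'_mul, IsLocalization.mk'_eq_iff_eq]
      congr 1
      rw [hc]; push_cast; ring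
    · refine ⟨IsLocalization.mk' S (c * t) s, Or.inr ?_⟩
      rw [← IsLocalization.mk'_mul, IsLocalization.mk'_eq_iff_eq]
      congr 1
      rw [hc]; push_cast; ring
  exact ValuationRing.mk

instance valuationRing_atPrime {A : Type*} [CommRing A] [IsDomain A] [ValuationRing A]
    (p : Ideal A) [p.IsPrime] : ValuationRing (Localization.AtPrime p) :=
  valuationRing_of_isLocalization p.primeCompl _


section Coarsen

variable {A : Type u} {D : Type v} [CommRing A] [IsDomain A] [ValuationRing A]
  [CommRing D] [IsDomain D] [ValuationRing D] [Algebra A D]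
  (P₀ : Ideal D) [P₀.IsPrime]

/-- The algebra structure `A_{p₀} → D_{P₀}`. -/
noncomputable def locAlg : Algebra (Localization.AtPrime (P₀.comap (algebraMap A D)))
    (Localization.AtPrime P₀) :=
  (Localization.localRingHom _ P₀ (algebraMap A D) rfl).toAlgebra

attribute [local instance] locAlg

theorem locAlg_algebraMap (a : A) :
    algebraMap (Localization.AtPrime (P₀.comap (algebraMap A D))) (Localization.AtPrime P₀)
      (algebraMap A _ a) = algebraMap D (Localization.AtPrime P₀) (algebraMap A D a) :=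
  Localization.localRingHom_to_map _ P₀ (algebraMap A D) rfl a

theorem aeval_coarse (θ : D) (p : A[X]) :
    aeval (algebraMap D (Localization.AtPrime P₀) θ)
      (p.map (algebraMap A (Localization.AtPrime (P₀.comap (algebraMap A D))))) =
      algebraMap D (Localization.AtPrime P₀) (aeval θ p) := by
  rw [Polynomial.aeval_def, Polynomial.eval₂_map, Polynomial.aeval_def, Polynomial.hom_eval₂]
  congr 1
  ext a
  exact locAlg_algebraMap P₀ a

theorem algebraMap_D_injective :
    Function.Injective (algebraMap D (Localization.AtPrime P₀)) :=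
  IsLocalization.injective _ P₀.primeCompl_le_nonZeroDivisors

theorem algebraMap_A_injective :
    Function.Injective (algebraMap A (Localization.AtPrime (P₀.comap (algebraMap A D)))) :=
  IsLocalization.injective _ (Ideal.primeCompl_le_nonZeroDivisors (P₀.comap (algebraMap A D)))

theorem locAlg_injective (hinj : Function.Injective (algebraMap A D)) :
    Function.Injective (algebraMap (Localization.AtPrime (P₀.comap (algebraMap A D)))
      (Localization.AtPrime P₀)) := by
  rw [injective_iff_map_eq_zero]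
  intro z hz
  obtain ⟨a, s, rfl⟩ := IsLocalization.exists_mk'_eq (P₀.comap (algebraMap A D)).primeCompl z
  have h1 : algebraMap (Localization.AtPrime (P₀.comap (algebraMap A D)))
      (Localization.AtPrime P₀) (IsLocalization.mk' _ a s) = _ :=
    Localization.localRingHom_mk' _ P₀ (algebraMap A D) rfl a s
  rw [h1, IsLocalization.mk'_eq_zero_iff] at hz
  obtain ⟨t, ht⟩ := hz
  have ht0 : (t : D) ≠ 0 := by
    intro h0
    exact t.2 (by rw [h0]; exact zero_mem _)
  have : algebraMap A D a = 0 := by
    rcases mul_eq_zero.mp ht with h2 | h2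
    · exact absurd h2 ht0
    · exact h2
  have ha : a = 0 := hinj (by rw [this, map_zero])
  rw [ha, IsLocalization.mk'_zero]


theorem Setup.coarsen {θ : D} {f : A[X]} (h : Setup A D θ f) :
    Setup (Localization.AtPrime (P₀.comap (algebraMap A D))) (Localization.AtPrime P₀)
      (algebraMap D (Localization.AtPrime P₀) θ)
      (f.map (algebraMap A (Localization.AtPrime (P₀.comap (algebraMap A D))))) where
  inj := locAlg_injective P₀ h.inj
  loc := Localization.isLocalHom_localRingHom _ P₀ (algebraMap A D) rfl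
  monic := h.monic.map _
  root := by rw [aeval_coarse, h.root, map_zero]
  der := by
    rw [Polynomial.derivative_map, aeval_coarse]
    exact h.der.map _
  gen := by
    intro d₀
    obtain ⟨x, y, rfl⟩ := IsLocalization.exists_mk'_eq P₀.primeCompl d₀
    obtain ⟨r₁, s₁, hs₁, hrs₁⟩ := h.gen x
    obtain ⟨r₂, s₂, hs₂, hrs₂⟩ := h.gen (y : D)
    refine ⟨(r₁ * s₂).map (algebraMap A (Localization.AtPrime (P₀.comap (algebraMap A D)))),
      (r₂ * s₁).map (algebraMap A (Localization.AtPrime (P₀.comap (algebraMap A D)))), ?_, ?_⟩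
    · rw [aeval_coarse, map_mul, ← hrs₂, map_mul, map_mul]
      exact ((IsLocalization.map_units _ y).mul (hs₂.map _)).mul (hs₁.map _)
    · rw [aeval_coarse, aeval_coarse]
      simp only [map_mul]
      rw [← hrs₂, ← hrs₁]
      simp only [map_mul]
      have := IsLocalization.mk'_spec (Localization.AtPrime P₀) x y
      linear_combination (algebraMap D (Localization.AtPrime P₀) (aeval θ s₂) *
        algebraMap D (Localization.AtPrime P₀) (aeval θ s₁)) * this

/-- The measure increases under coarsening at the bad prime. -/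
theorem exists_unit_coeff_of_monic {θ : D} (g₀ : (Localization.AtPrime (P₀.comap (algebraMap A D)))[X])
    (hg₀ : g₀.Monic)
    (hev : aeval (algebraMap D (Localization.AtPrime P₀) θ) g₀ ∈
      maximalIdeal (Localization.AtPrime P₀)) :
    ∃ r : A[X], (∃ i, IsUnit (r.coeff i)) ∧ aeval θ r ∈ P₀ ∧ r.natDegree = g₀.natDegree := by
  set p₀ : Ideal A := P₀.comap (algebraMap A D) with hp₀
  obtain ⟨s, hs, hspec⟩ := IsLocalization.integerNormalization_spec p₀.primeCompl g₀
  set p : A[X] := IsLocalization.integerNormalization p₀.primeCompl g₀ with hp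
  have hs0 : s ≠ 0 := by
    rintro rfl; exact hs (zero_mem _)
  have hιs : algebraMap A (Localization.AtPrime p₀) s ≠ 0 := by
    intro h0
    exact hs0 (algebraMap_A_injective P₀ (by rw [h0, map_zero]))
  have hspec' : p.map (algebraMap A (Localization.AtPrime p₀)) =
      C (algebraMap A (Localization.AtPrime p₀) s) * g₀ := by
    rw [hspec]
    ext n
    rw [Polynomial.coeff_smul, Polynomial.coeff_C_mul, Algebra.smul_def]
  have hdeg : p.natDegree = g₀.natDegree := by
    rw [← Polynomial.natDegree_map_eq_of_injective (algebraMap_A_injective P₀) p, hspec',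
      Polynomial.natDegree_C_mul hιs]
  have hp0 : p ≠ 0 := by
    intro h0
    rw [h0, Polynomial.map_zero] at hspec'
    rcases mul_eq_zero.mp hspec'.symm with h1 | h1
    · exact hιs (by simpa using h1)
    · exact hg₀.ne_zero h1
  obtain ⟨c, r, hc, hpr, i, hi⟩ := exists_C_mul p hp0
  have hlead : p.coeff g₀.natDegree = s := by
    apply algebraMap_A_injective P₀
    have := congrArg (fun q => q.coeff g₀.natDegree) hspec'
    simp only [Polynomial.coeff_map, Polynomial.coeff_C_mul] at this
    rw [this, hg₀.coeff_natDegree, mul_one]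
  have hcs : c ∉ p₀ := by
    intro hcp
    apply hs
    rw [← hlead, hpr, Polynomial.coeff_C_mul]
    exact Ideal.mul_mem_right _ _ hcp
  refine ⟨r, ⟨i, by rw [hi]; exact isUnit_one⟩, ?_, ?_⟩
  · have h1 : algebraMap D (Localization.AtPrime P₀) (aeval θ p) ∈
        maximalIdeal (Localization.AtPrime P₀) := by
      rw [← aeval_coarse, hspec', map_mul]
      exact Ideal.mul_mem_left _ _ hev
    rw [IsLocalization.AtPrime.to_map_mem_maximal_iff _ P₀, hpr, map_mul, Polynomial.aeval_C] at h1
    rcases (inferInstance : P₀.IsPrime).mem_or_mem h1 with h2 | h2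
    · exact absurd h2 hcs
    · exact h2
  · rw [← hdeg, hpr, Polynomial.natDegree_C_mul hc]


/-- Descent of the conclusion from the coarsening. -/
theorem assoc_of_coarse (hinj : Function.Injective (algebraMap A D))
    [IsLocalHom (algebraMap A D)]
    (hE3 : ∀ b : D, b ∉ P₀ → ∃ (a : A) (u : Dˣ), b = u * algebraMap A D a) (b : D)
    (hb₀ : ∃ (a₀ : Localization.AtPrime (P₀.comap (algebraMap A D)))
      (u₀ : (Localization.AtPrime P₀)ˣ), algebraMap D (Localization.AtPrime P₀) b =
        u₀ * algebraMap (Localization.AtPrime (P₀.comap (algebraMap A D)))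
          (Localization.AtPrime P₀) a₀) :
    ∃ (a : A) (u : Dˣ), b = u * algebraMap A D a := by
  obtain ⟨a₀, u₀, h0⟩ := hb₀
  obtain ⟨a', s, rfl⟩ := IsLocalization.exists_mk'_eq (P₀.comap (algebraMap A D)).primeCompl a₀
  obtain ⟨x, y, hxy⟩ := IsLocalization.exists_mk'_eq P₀.primeCompl (u₀ : Localization.AtPrime P₀)
  have hx : x ∉ P₀ := by
    have : IsUnit (IsLocalization.mk' (Localization.AtPrime P₀) x y) := hxy ▸ u₀.isUnit
    exact (IsLocalization.AtPrime.isUnit_mk'_iff (Localization.AtPrime P₀) P₀ x y).mp this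
  have h1 : algebraMap (Localization.AtPrime (P₀.comap (algebraMap A D)))
      (Localization.AtPrime P₀) (IsLocalization.mk' _ a' s) = _ :=
    Localization.localRingHom_mk' _ P₀ (algebraMap A D) rfl a' s
  rw [h1, ← hxy, ← IsLocalization.mk'_mul, IsLocalization.eq_mk'_iff_mul_eq, ← map_mul] at h0
  have h2 := algebraMap_D_injective P₀ h0
  simp only [Submonoid.coe_mul] at h2
  obtain ⟨c₁, u₁, hx1⟩ := hE3 x hx
  obtain ⟨c₂, u₂, hy2⟩ := hE3 (y : D) y.2
  have hs0 : (s : A) ≠ 0 := by
    intro h0'
    exact s.2 (by rw [h0']; exact zero_mem _)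
  have hc₂0 : c₂ ≠ 0 := by
    rintro rfl
    rw [map_zero, mul_zero] at hy2
    exact y.2 (by rw [hy2]; exact zero_mem _)
  have hφ0 : algebraMap A D (c₂ * s) ≠ 0 := by
    intro h0'
    exact mul_ne_zero hc₂0 hs0 (hinj (by rw [h0', map_zero]))
  have h3 : algebraMap A D (c₁ * a') = algebraMap A D (c₂ * s) * (b * u₂ * (↑u₁⁻¹ : D)) := by
    have e1 : (↑u₁⁻¹ : D) * u₁ = 1 := by simp
    rw [map_mul, map_mul]
    rw [hx1, hy2] at h2
    linear_combination (-(↑u₁⁻¹ : D)) * h2 - (algebraMap A D c₁ * algebraMap A D a') * e1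
  obtain ⟨e, he⟩ := dvd_of_map_dvd (algebraMap A D) hinj (c₂ * s) (c₁ * a') ⟨_, h3⟩
  refine ⟨e, u₁ * u₂⁻¹, ?_⟩
  have h4 : algebraMap A D (c₂ * s) * (b * u₂) = algebraMap A D (c₂ * s) * (u₁ * algebraMap A D e) := by
    have e1 : (↑u₁⁻¹ : D) * u₁ = 1 := by simp
    rw [he, map_mul] at h3
    linear_combination (-(u₁ : D)) * h3 - (algebraMap A D (c₂ * s) * b * u₂) * e1
  have h5 := mul_left_cancel₀ hφ0 h4
  have e2 : (u₂ : D) * (↑u₂⁻¹ : D) = 1 := by simp
  push_cast
  linear_combination (↑u₂⁻¹ : D) * h5 - b * e2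


/-- The inductive step. -/
theorem step {θ : D} {f : A[X]} (h : Setup A D θ f) (m : ℕ)
    (hm : ∀ g : A[X], g.Monic → aeval θ g ∈ maximalIdeal D → m ≤ g.natDegree)
    (IH : ∀ (A₀ : Type u) (D₀ : Type v) [CommRing A₀] [IsDomain A₀] [ValuationRing A₀]
      [CommRing D₀] [IsDomain D₀] [ValuationRing D₀] [Algebra A₀ D₀] (θ₀ : D₀) (f₀ : A₀[X]),
      Setup A₀ D₀ θ₀ f₀ → f₀.natDegree = f.natDegree →
      (∀ g : A₀[X], g.Monic → aeval θ₀ g ∈ maximalIdeal D₀ → m + 1 ≤ g.natDegree) →
      ∀ b : D₀, b ≠ 0 → ∃ (a : A₀) (u : D₀ˣ), b = u * algebraMap A₀ D₀ a) :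
    ∀ b : D, b ≠ 0 → ∃ (a : A) (u : Dˣ), b = u * algebraMap A D a := by
  haveI := h.loc
  obtain ⟨f₁, P₀, hP, ⟨g, hgm, hgd, hgmax⟩, hE3, hE4⟩ := layer1 h
  intro b hb
  by_cases hbP : b ∈ P₀
  · haveI := hP
    have hne : P₀ ≠ ⊥ := by
      intro h0
      rw [h0, Ideal.mem_bot] at hbP
      exact hb hbP
    apply assoc_of_coarse P₀ h.inj hE3 b
    refine IH (Localization.AtPrime (P₀.comap (algebraMap A D))) (Localization.AtPrime P₀)
      (algebraMap D (Localization.AtPrime P₀) θ)
      (f.map (algebraMap A (Localization.AtPrime (P₀.comap (algebraMap A D)))))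
      (h.coarsen P₀) (Polynomial.natDegree_map_eq_of_injective (algebraMap_A_injective P₀) f) ?_
      (algebraMap D (Localization.AtPrime P₀) b) ?_
    · intro g₀ hg₀ hev
      obtain ⟨r, hu, hr, hdeg⟩ := exists_unit_coeff_of_monic P₀ g₀ hg₀ hev
      have h1 := hE4 r hu hr hne
      have h2 := hm g hgm hgmax
      omega
    · intro h0
      exact hb (algebraMap_D_injective P₀ (by rw [h0, map_zero]))
  · exact hE3 b hbP

end Coarsen

/-- **Value group equality** for étale-local extensions of valuation rings (arbitrary rank). -/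
theorem main_aux (n : ℕ) : ∀ (k : ℕ) (A : Type u) (D : Type v) [CommRing A] [IsDomain A]
    [ValuationRing A] [CommRing D] [IsDomain D] [ValuationRing D] [Algebra A D] (θ : D)
    (f : A[X]), Setup A D θ f → f.natDegree = n →
    (∀ g : A[X], g.Monic → aeval θ g ∈ maximalIdeal D → n ≤ g.natDegree + k) →
    ∀ b : D, b ≠ 0 → ∃ (a : A) (u : Dˣ), b = u * algebraMap A D a := by
  intro k
  induction k with
  | zero =>
    intro A D _ _ _ _ _ _ _ θ f h hn hk
    refine step h n (fun g hg hgm => by simpa using hk g hg hgm) ?_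
    intro A₀ D₀ _ _ _ _ _ _ _ θ₀ f₀ h₀ hn₀ hk₀
    exfalso
    have := hk₀ f₀ h₀.monic (by rw [h₀.root]; exact zero_mem _)
    omega
  | succ k ih =>
    intro A D _ _ _ _ _ _ _ θ f h hn hk
    refine step h (n - (k + 1)) (fun g hg hgm => by have := hk g hg hgm; omega) ?_
    intro A₀ D₀ _ _ _ _ _ _ _ θ₀ f₀ h₀ hn₀ hk₀
    refine ih A₀ D₀ θ₀ f₀ h₀ (by rw [hn₀, hn]) ?_
    intro g hg hgm
    have := hk₀ g hg hgm
    omega

theorem main {A : Type u} {D : Type v} [CommRing A] [IsDomain A]
    [ValuationRing A] [CommRing D] [IsDomain D] [ValuationRing D] [Algebra A D] {θ : D}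
    {f : A[X]} (h : Setup A D θ f) (b : D) (hb : b ≠ 0) :
    ∃ (a : A) (u : Dˣ), b = u * algebraMap A D a :=
  main_aux f.natDegree f.natDegree A D θ f h rfl (fun _ _ _ => by omega) b hb

end Groth.Agent.H55.ValEt
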