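import Groth.Agent.H55.ValEt3
import Groth.Agent.H47.HensNoeth2

/-!
# (Strict) henselization of a valuation ring (S1975)
-/

set_option autoImplicit false
set_option linter.style.haveILetI false
set_option linter.deprecated false

universe u

open Polynomial IsLocalRing

namespace Groth.Agent.H55.ValEt

section Stage

variable (A S : Type u) [CommRing A] [IsDomain A] [ValuationRing A] [CommRing S]
  [IsLocalRing S] [Algebra A S] [IsLocalHom (algebraMap A S)]

/-- An étale `A`-algebra mapping to a flat local `A`-algebra `S` factors through a valuation ring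
`D` with the same value group as `A`, injecting into `S`. -/
theorem exists_val_stage [Module.Flat A S]
    (A' : Type u) [CommRing A'] [Algebra A A'] [Algebra.Etale A A'] (φ : A' →ₐ[A] S) :
    ∃ (D : Type u) (_ : CommRing D) (_ : IsDomain D) (_ : ValuationRing D) (_ : Algebra A D)
      (g : D →ₐ[A] S), Function.Injective g ∧ (∀ a' : A', ∃ d, g d = φ a') ∧
        (∀ d : D, d ≠ 0 → ∃ (a : A) (u : Dˣ), d = u * algebraMap A D a) := by
  classical
  let q : Ideal A' := (maximalIdeal S).comap φ.toRingHom
  haveI hq : q.IsPrime := Ideal.comap_isPrime φ.toRingHom (maximalIdeal S)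
  have hqmem : ∀ a : A', a ∈ q ↔ ¬ IsUnit (φ a) := fun a => by
    show φ a ∈ maximalIdeal S ↔ _
    rw [mem_maximalIdeal, mem_nonunits_iff]
  have hunit : ∀ y : q.primeCompl, IsUnit (φ.toRingHom y) := fun y => by
    by_contra h
    exact y.2 ((hqmem (y : A')).mpr h)
  have hqA : q.comap (algebraMap A A') = maximalIdeal A := by
    ext a
    rw [Ideal.mem_comap, hqmem, φ.commutes, mem_maximalIdeal, mem_nonunits_iff]
    constructor
    · intro h hu; exact h (hu.map _)
    · intro h hu; exact h (isUnit_of_map_unit (algebraMap A S) a hu)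
  obtain ⟨hdom, hval, hinj, hloc, hvg⟩ := etale_local A A' q hqA
  let B' := Localization.AtPrime q
  let g : B' →+* S := IsLocalization.lift (M := q.primeCompl) (S := B') (g := φ.toRingHom) hunit
  have hg : ∀ a : A', g (algebraMap A' B' a) = φ a := fun a => IsLocalization.lift_eq hunit a
  letI : Algebra B' S := g.toAlgebra
  haveI : IsScalarTower A B' S := IsScalarTower.of_algebraMap_eq fun r => by
    show algebraMap A S r = g (algebraMap A B' r)
    rw [IsScalarTower.algebraMap_apply A A' B', hg, φ.commutes]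
  haveI : Algebra.FormallyUnramified A' B' :=
    Algebra.FormallyUnramified.of_isLocalization q.primeCompl
  haveI : Algebra.FormallyUnramified A B' := Algebra.FormallyUnramified.comp A A' B'
  haveI : Algebra.EssFiniteType A' B' := Algebra.EssFiniteType.of_isLocalization B' q.primeCompl
  haveI : Algebra.EssFiniteType A B' := Algebra.EssFiniteType.comp A A' B'
  haveI : Module.Flat B' S := Algebra.FormallyUnramified.flat_of_restrictScalars A B' S
  haveI hlocg : IsLocalHom (algebraMap B' S) := ⟨fun x hx => by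
    obtain ⟨⟨a, s⟩, hxs⟩ := IsLocalization.surj q.primeCompl x
    have hx' : IsUnit (g x) := hx
    have h1 : g x * φ s = φ a := by
      rw [← hg, ← hg, ← map_mul]
      exact congrArg g hxs
    have h2 : IsUnit (φ a) := by
      rw [← h1]
      exact hx'.mul (hunit s)
    have h3 : a ∉ q := fun h => (hqmem a).mp h h2
    have h4 : IsUnit (algebraMap A' B' a) := IsLocalization.map_units B' (⟨a, h3⟩ : q.primeCompl)
    rw [← hxs] at h4
    exact isUnit_of_mul_isUnit_left h4⟩
  haveI : Module.FaithfullyFlat B' S := Module.FaithfullyFlat.of_flat_of_isLocalHom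
  have hginj : Function.Injective (algebraMap B' S) := FaithfulSMul.algebraMap_injective B' S
  refine ⟨B', inferInstance, hdom, hval hdom, inferInstance,
    { g with commutes' := fun r => (IsScalarTower.algebraMap_apply A B' S r).symm }, hginj,
    fun a' => ⟨algebraMap A' B' a', hg a'⟩, hvg⟩

end Stage

section IndEtale

open Groth.Agent.H47.HensNoeth

variable (A S : Type u) [CommRing A] [IsDomain A] [ValuationRing A] [CommRing S]
  [IsLocalRing S] [Algebra A S] [IsLocalHom (algebraMap A S)]

theorem of_isIndEtaleLocal (hind : IsIndEtaleLocal A S) :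
    IsDomain S ∧ (∀ _ : IsDomain S, ValuationRing S) ∧ Function.Injective (algebraMap A S) ∧
      ∀ s : S, s ≠ 0 → ∃ (a : A) (u : Sˣ), s = u * algebraMap A S a := by
  classical
  haveI := hind.flat
  have key : ∀ Y : Finset S, ∃ (D : Type u) (_ : CommRing D) (_ : IsDomain D)
      (_ : ValuationRing D) (_ : Algebra A D) (g : D →ₐ[A] S), Function.Injective g ∧
      (∀ y ∈ Y, ∃ d, g d = y) ∧
      (∀ d : D, d ≠ 0 → ∃ (a : A) (u : Dˣ), d = u * algebraMap A D a) := by
    intro Y
    obtain ⟨A', i1, i2, i3, φ, hφ⟩ := hind.rep Y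
    obtain ⟨D, j1, j2, j3, j4, g, hg1, hg2, hg3⟩ := exists_val_stage A S A' φ
    refine ⟨D, j1, j2, j3, j4, g, hg1, fun y hy => ?_, hg3⟩
    obtain ⟨a', ha'⟩ := hφ y hy
    obtain ⟨d, hd⟩ := hg2 a'
    exact ⟨d, hd.trans ha'⟩
  have hdom : IsDomain S := by
    haveI : NoZeroDivisors S := by
      refine ⟨fun {x y} hxy => ?_⟩
      obtain ⟨D, j1, j2, j3, j4, g, hg1, hg2, -⟩ := key {x, y}
      obtain ⟨dx, hdx⟩ := hg2 x (by simp)
      obtain ⟨dy, hdy⟩ := hg2 y (by simp)
      have : g (dx * dy) = g 0 := by rw [map_mul, hdx, hdy, hxy, map_zero]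
      rcases mul_eq_zero.mp (hg1 this) with h | h
      · left; rw [← hdx, h, map_zero]
      · right; rw [← hdy, h, map_zero]
    exact NoZeroDivisors.to_isDomain S
  refine ⟨hdom, fun _ => ?_, ?_, ?_⟩
  · haveI : PreValuationRing S := by
      refine ⟨fun x y => ?_⟩
      obtain ⟨D, j1, j2, j3, j4, g, hg1, hg2, -⟩ := key {x, y}
      obtain ⟨dx, hdx⟩ := hg2 x (by simp)
      obtain ⟨dy, hdy⟩ := hg2 y (by simp)
      obtain ⟨c, hc | hc⟩ := ValuationRing.cond dx dy
      · exact ⟨g c, Or.inl (by rw [← hdx, ← hdy, ← map_mul, hc])⟩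
      · exact ⟨g c, Or.inr (by rw [← hdx, ← hdy, ← map_mul, hc])⟩
    exact ValuationRing.mk
  · haveI := hind.faithfullyFlat
    exact FaithfulSMul.algebraMap_injective A S
  · intro s hs
    obtain ⟨D, j1, j2, j3, j4, g, hg1, hg2, hg3⟩ := key {s}
    obtain ⟨d, hd⟩ := hg2 s (by simp)
    have hd0 : d ≠ 0 := by
      rintro rfl; rw [map_zero] at hd; exact hs hd.symm
    obtain ⟨a, u, hau⟩ := hg3 d hd0
    refine ⟨a, Units.map g.toRingHom.toMonoidHom u, ?_⟩
    rw [← hd, hau, map_mul, g.commutes]
    rfl

end IndEtale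

end Groth.Agent.H55.ValEt
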