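import Groth.Agent.H55.ValEt3

/-!
# The Gauss valuation ring `V[T]_{𝔪 V[T]}` and smooth algebras over valuation rings (S14726)
-/

set_option autoImplicit false
set_option linter.style.haveILetI false
set_option linter.deprecated false

universe u

open IsLocalRing Polynomial

namespace Groth.Agent.H55.ValEt

section Gauss

variable {V : Type u} [CommRing V] [IsDomain V] [ValuationRing V] {σ : Type*}

/-- Content lemma, multivariate. -/
theorem exists_C_mul_mv (p : MvPolynomial σ V) (hp : p ≠ 0) :
    ∃ (c : V) (p' : MvPolynomial σ V), c ≠ 0 ∧ p = MvPolynomial.C c * p' ∧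
      ∃ i, p'.coeff i = 1 := by
  classical
  have hs : p.support.Nonempty := by
    rwa [Finset.nonempty_iff_ne_empty, Ne, MvPolynomial.support_eq_empty]
  obtain ⟨i, hi, hmin⟩ := exists_min_dvd p.support hs (fun m => p.coeff m)
  have hc : p.coeff i ≠ 0 := MvPolynomial.mem_support_iff.mp hi
  have hall : ∀ j, ∃ q, p.coeff j = p.coeff i * q := by
    intro j
    by_cases hj : j ∈ p.support
    · exact hmin j hj
    · exact ⟨0, by simpa using MvPolynomial.notMem_support_iff.mp hj⟩
  choose q hq using hall
  refine ⟨p.coeff i, ∑ j ∈ p.support, MvPolynomial.monomial j (q j), hc, ?_, i, ?_⟩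
  · ext j
    rw [MvPolynomial.coeff_C_mul, MvPolynomial.coeff_sum]
    simp only [MvPolynomial.coeff_monomial]
    rw [Finset.sum_ite_eq']
    by_cases hj : j ∈ p.support
    · rw [if_pos hj]; exact hq j
    · rw [if_neg hj, mul_zero]; exact MvPolynomial.notMem_support_iff.mp hj
  · rw [MvPolynomial.coeff_sum]
    simp only [MvPolynomial.coeff_monomial]
    rw [Finset.sum_ite_eq', if_pos hi]
    have h1 := hq i
    have : p.coeff i * 1 = p.coeff i * q i := by rw [mul_one]; exact h1
    exact (mul_left_cancel₀ hc this).symm

variable (V σ)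

/-- The prime `𝔪_V V[T]`. -/
noncomputable abbrev gaussPrime : Ideal (MvPolynomial σ V) :=
  Ideal.map (MvPolynomial.C : V →+* MvPolynomial σ V) (maximalIdeal V)

instance gaussPrime_isPrime : (gaussPrime V σ).IsPrime := by
  have : gaussPrime V σ = RingHom.ker (MvPolynomial.map (σ := σ) (residue V)) := by
    rw [MvPolynomial.ker_map, IsLocalRing.ker_residue]
  rw [this]
  exact RingHom.ker_isPrime _

variable {V σ}

theorem notMem_gaussPrime_of_coeff_eq_one (p : MvPolynomial σ V) (h : ∃ i, p.coeff i = 1) :
    p ∉ gaussPrime V σ := by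
  obtain ⟨i, hi⟩ := h
  intro hp
  have := MvPolynomial.mem_map_C_iff.mp hp i
  rw [hi] at this
  exact (Ideal.ne_top_iff_one _).mp (maximalIdeal.isMaximal V).ne_top this

/-- Every nonzero element of the Gauss ring is a unit times a constant. -/
theorem gauss_assoc (w : Localization.AtPrime (gaussPrime V σ)) (hw : w ≠ 0) :
    ∃ (v : V) (u : (Localization.AtPrime (gaussPrime V σ))ˣ), v ≠ 0 ∧
      w = u * algebraMap (MvPolynomial σ V) _ (MvPolynomial.C v) := by
  obtain ⟨F, G, rfl⟩ := IsLocalization.exists_mk'_eq (gaussPrime V σ).primeCompl w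
  have hF : F ≠ 0 := by
    rintro rfl; exact hw (IsLocalization.mk'_zero _)
  obtain ⟨c, F', hc, hFF', hi⟩ := exists_C_mul_mv F hF
  have hF'u : IsUnit (IsLocalization.mk' (Localization.AtPrime (gaussPrime V σ)) F' G) :=
    (IsLocalization.AtPrime.isUnit_mk'_iff _ (gaussPrime V σ) F' G).mpr
      (notMem_gaussPrime_of_coeff_eq_one F' hi)
  refine ⟨c, hF'u.unit, hc, ?_⟩
  rw [IsUnit.unit_spec, hFF', mul_comm _ (algebraMap _ _ _), IsLocalization.mul_mk'_eq_mk'_of_mul]


instance gauss_valuationRing : ValuationRing (Localization.AtPrime (gaussPrime V σ)) := by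
  haveI : PreValuationRing (Localization.AtPrime (gaussPrime V σ)) := by
    refine ⟨fun w₁ w₂ => ?_⟩
    by_cases h1 : w₁ = 0
    · exact ⟨0, Or.inr (by rw [h1, mul_zero])⟩
    by_cases h2 : w₂ = 0
    · exact ⟨0, Or.inl (by rw [h2, mul_zero])⟩
    obtain ⟨v₁, u₁, -, e1⟩ := gauss_assoc w₁ h1
    obtain ⟨v₂, u₂, -, e2⟩ := gauss_assoc w₂ h2
    have hu1 : (u₁ : Localization.AtPrime (gaussPrime V σ)) * (↑u₁⁻¹ : _) = 1 := by simp
    have hu2 : (u₂ : Localization.AtPrime (gaussPrime V σ)) * (↑u₂⁻¹ : _) = 1 := by simp
    rcases ValuationRing.dvd_total v₁ v₂ with ⟨e, he⟩ | ⟨e, he⟩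
    · refine ⟨(↑u₁⁻¹ : _) * u₂ * algebraMap (MvPolynomial σ V) _ (MvPolynomial.C e), Or.inl ?_⟩
      rw [e1, e2, he, map_mul, map_mul]
      linear_combination (u₂ * algebraMap (MvPolynomial σ V) _ (MvPolynomial.C v₁) *
        algebraMap (MvPolynomial σ V) _ (MvPolynomial.C e)) * hu1
    · refine ⟨(↑u₂⁻¹ : _) * u₁ * algebraMap (MvPolynomial σ V) _ (MvPolynomial.C e), Or.inr ?_⟩
      rw [e1, e2, he, map_mul, map_mul]
      linear_combination (u₁ * algebraMap (MvPolynomial σ V) _ (MvPolynomial.C v₂) *
        algebraMap (MvPolynomial σ V) _ (MvPolynomial.C e)) * hu2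
  exact ValuationRing.mk

end Gauss

section Smooth

variable (V : Type u) [CommRing V] [IsDomain V] [ValuationRing V]
  (A : Type u) [CommRing A] [IsDomain A] [Algebra V A]
  (p : Ideal A) [p.IsPrime]

theorem smooth_local_aux (g : A) (hg : g ∉ p) (n : ℕ)
    [Algebra (MvPolynomial (Fin n) V) (Localization.Away g)]
    [IsScalarTower V (MvPolynomial (Fin n) V) (Localization.Away g)]
    [Algebra.IsStandardEtale (MvPolynomial (Fin n) V) (Localization.Away g)]
    (hp : p ∈ ((maximalIdeal V).map (algebraMap V A)).minimalPrimes) :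
    ValuationRing (Localization.AtPrime p) ∧
      Function.Injective (algebraMap V (Localization.AtPrime p)) ∧
      IsLocalHom (algebraMap V (Localization.AtPrime p)) ∧
      ∀ x : Localization.AtPrime p, x ≠ 0 →
        ∃ (v : V) (w : (Localization.AtPrime p)ˣ),
          x = algebraMap V (Localization.AtPrime p) v * w := by
  classical
  have hgu : IsUnit (algebraMap A (Localization.AtPrime p) g) :=
    (IsLocalization.AtPrime.isUnit_to_map_iff _ p g).mpr hg
  let ψ₀ : Localization.Away g →+* Localization.AtPrime p := IsLocalization.Away.lift g hgu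
  have hψ₀ : ∀ a : A, ψ₀ (algebraMap A (Localization.Away g) a) =
      algebraMap A (Localization.AtPrime p) a := fun a => IsLocalization.Away.lift_eq g hgu a
  letI algAgD : Algebra (Localization.Away g) (Localization.AtPrime p) := ψ₀.toAlgebra
  haveI : IsScalarTower A (Localization.Away g) (Localization.AtPrime p) :=
    IsScalarTower.of_algebraMap_eq fun a => (hψ₀ a).symm
  letI algPD : Algebra (MvPolynomial (Fin n) V) (Localization.AtPrime p) :=
    (ψ₀.comp (algebraMap (MvPolynomial (Fin n) V) (Localization.Away g))).toAlgebra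
  haveI : IsScalarTower (MvPolynomial (Fin n) V) (Localization.Away g) (Localization.AtPrime p) :=
    IsScalarTower.of_algebraMap_eq fun a => rfl
  have hVD : ∀ v : V, algebraMap (MvPolynomial (Fin n) V) (Localization.AtPrime p)
      (MvPolynomial.C v) = algebraMap V (Localization.AtPrime p) v := by
    intro v
    change ψ₀ (algebraMap (MvPolynomial (Fin n) V) (Localization.Away g) (MvPolynomial.C v)) = _
    rw [← MvPolynomial.algebraMap_eq, ← IsScalarTower.algebraMap_apply V (MvPolynomial (Fin n) V),
      IsScalarTower.algebraMap_apply V A (Localization.Away g), hψ₀,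
      ← IsScalarTower.algebraMap_apply]
  haveI : IsScalarTower V (MvPolynomial (Fin n) V) (Localization.AtPrime p) :=
    IsScalarTower.of_algebraMap_eq fun v => by
      rw [MvPolynomial.algebraMap_eq, hVD]
  have hmVp : ∀ v ∈ maximalIdeal V, algebraMap V A v ∈ p := fun v hv =>
    hp.1.2 (Ideal.mem_map_of_mem _ hv)
  have hge : gaussPrime V (Fin n) ≤ (maximalIdeal (Localization.AtPrime p)).comap
      (algebraMap (MvPolynomial (Fin n) V) (Localization.AtPrime p)) := by
    rw [gaussPrime, Ideal.map_le_iff_le_comap]
    intro v hv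
    rw [Ideal.mem_comap, Ideal.mem_comap, hVD, IsScalarTower.algebraMap_apply V A,
      IsLocalization.AtPrime.to_map_mem_maximal_iff _ p]
    exact hmVp v hv
  have hq : (maximalIdeal (Localization.AtPrime p)).comap
      (algebraMap (MvPolynomial (Fin n) V) (Localization.AtPrime p)) = gaussPrime V (Fin n) := by
    refine le_antisymm ?_ hge
    haveI : Module.Flat (MvPolynomial (Fin n) V) (Localization.Away g) := inferInstance
    let p' : Ideal (Localization.Away g) := (maximalIdeal (Localization.AtPrime p)).comap ψ₀
    haveI hp' : p'.IsPrime := Ideal.comap_isPrime ψ₀ _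
    let 𝔮 : Ideal (MvPolynomial (Fin n) V) := (maximalIdeal (Localization.AtPrime p)).comap
      (algebraMap (MvPolynomial (Fin n) V) (Localization.AtPrime p))
    haveI h𝔮 : 𝔮.IsPrime := Ideal.comap_isPrime _ _
    haveI : p'.LiesOver 𝔮 := ⟨rfl⟩
    obtain ⟨p'', hle, hprime, hlies⟩ := Ideal.exists_ideal_le_liesOver_of_le
      (p := gaussPrime V (Fin n)) (q := 𝔮) p' hge
    haveI := hprime
    -- contraction to `A`
    have hp'A : p'.comap (algebraMap A (Localization.Away g)) = p := by
      ext a
      rw [Ideal.mem_comap, Ideal.mem_comap, hψ₀, IsLocalization.AtPrime.to_map_mem_maximal_iff _ p]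
    have h1 : p''.comap (algebraMap A (Localization.Away g)) ≤ p := by
      rw [← hp'A]; exact Ideal.comap_mono hle
    have h2 : (maximalIdeal V).map (algebraMap V A) ≤
        p''.comap (algebraMap A (Localization.Away g)) := by
      rw [Ideal.map_le_iff_le_comap]
      intro v hv
      rw [Ideal.mem_comap, Ideal.mem_comap, ← IsScalarTower.algebraMap_apply,
        IsScalarTower.algebraMap_apply V (MvPolynomial (Fin n) V) (Localization.Away g),
        MvPolynomial.algebraMap_eq]
      have : MvPolynomial.C v ∈ gaussPrime V (Fin n) := Ideal.mem_map_of_mem _ hv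
      rw [hlies.over] at this
      exact this
    have h3 : p ≤ p''.comap (algebraMap A (Localization.Away g)) :=
      hp.2 ⟨Ideal.comap_isPrime _ _, h2⟩ h1
    have h4 : p' ≤ p'' := by
      intro x hx
      obtain ⟨⟨a, s⟩, hxs⟩ := IsLocalization.surj (Submonoid.powers g) x
      have ha : a ∈ p := by
        rw [← hp'A, Ideal.mem_comap, ← hxs]
        exact Ideal.mul_mem_right _ _ hx
      have ha'' : algebraMap A (Localization.Away g) a ∈ p'' := h3 ha
      rw [← hxs] at ha''
      rcases hprime.mem_or_mem ha'' with h5 | h5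
      · exact h5
      · exfalso
        have h6 : (s : A) ∈ p := by
          rw [← hp'A, Ideal.mem_comap]; exact hle h5
        obtain ⟨k, hk⟩ := s.2
        rw [← hk] at h6
        exact hg (Ideal.IsPrime.mem_of_pow_mem inferInstance k h6)
    intro F hF
    have hF' : algebraMap (MvPolynomial (Fin n) V) (Localization.Away g) F ∈ p' := hF
    have := h4 hF'
    rw [hlies.over]
    exact this
  have hunitW : ∀ y : (gaussPrime V (Fin n)).primeCompl,
      IsUnit (algebraMap (MvPolynomial (Fin n) V) (Localization.AtPrime p) y) := by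
    intro y
    by_contra hnu
    have : (y : MvPolynomial (Fin n) V) ∈ (maximalIdeal (Localization.AtPrime p)).comap
        (algebraMap (MvPolynomial (Fin n) V) (Localization.AtPrime p)) := hnu
    rw [hq] at this
    exact y.2 this
  let χW : Localization.AtPrime (gaussPrime V (Fin n)) →+* Localization.AtPrime p :=
    IsLocalization.lift (M := (gaussPrime V (Fin n)).primeCompl) hunitW
  letI algWD : Algebra (Localization.AtPrime (gaussPrime V (Fin n))) (Localization.AtPrime p) :=
    χW.toAlgebra
  haveI : IsScalarTower (MvPolynomial (Fin n) V) (Localization.AtPrime (gaussPrime V (Fin n)))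
      (Localization.AtPrime p) :=
    IsScalarTower.of_algebraMap_eq fun F => (IsLocalization.lift_eq hunitW F).symm
  -- injectivity
  have hinjAD : Function.Injective (algebraMap A (Localization.AtPrime p)) :=
    IsLocalization.injective _ p.primeCompl_le_nonZeroDivisors
  have hg0 : g ≠ 0 := fun h0 => hg (by rw [h0]; exact zero_mem _)
  have hinjAAg : Function.Injective (algebraMap A (Localization.Away g)) :=
    IsLocalization.injective _ (powers_le_nonZeroDivisors_of_noZeroDivisors hg0)
  haveI : IsDomain (Localization.Away g) :=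
    IsLocalization.isDomain_localization
      (powers_le_nonZeroDivisors_of_noZeroDivisors hg0)
  have hinjPAg : Function.Injective (algebraMap (MvPolynomial (Fin n) V) (Localization.Away g)) :=
    Module.isTorsionFree_iff_algebraMap_injective.mp inferInstance
  have hinjAgD : Function.Injective (algebraMap (Localization.Away g) (Localization.AtPrime p)) := by
    rw [injective_iff_map_eq_zero]
    intro x hx
    obtain ⟨⟨a, s⟩, hxs⟩ := IsLocalization.surj (Submonoid.powers g) x
    have h1 := congrArg (algebraMap (Localization.Away g) (Localization.AtPrime p)) hxs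
    rw [map_mul, hx, zero_mul, ← IsScalarTower.algebraMap_apply] at h1
    have ha : a = 0 := hinjAD (by rw [← h1, map_zero])
    rw [ha, map_zero] at hxs
    rcases mul_eq_zero.mp hxs with h2 | h2
    · exact h2
    · exfalso
      have : (s : A) = 0 := hinjAAg (by rw [h2, map_zero])
      obtain ⟨k, hk⟩ := s.2
      rw [← hk] at this
      exact hg0 (pow_eq_zero_iff (n := k) (by rintro rfl; simp at this) |>.mp this)
  have hinjPD : Function.Injective (algebraMap (MvPolynomial (Fin n) V) (Localization.AtPrime p)) := by
    rw [IsScalarTower.algebraMap_eq (MvPolynomial (Fin n) V) (Localization.Away g)]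
    exact hinjAgD.comp hinjPAg
  have hinjWD : Function.Injective (algebraMap (Localization.AtPrime (gaussPrime V (Fin n)))
      (Localization.AtPrime p)) := by
    rw [injective_iff_map_eq_zero]
    intro w hw
    obtain ⟨F, G, rfl⟩ := IsLocalization.exists_mk'_eq (gaussPrime V (Fin n)).primeCompl w
    have h1 := IsLocalization.mk'_spec (Localization.AtPrime (gaussPrime V (Fin n))) F G
    have h2 := congrArg (algebraMap (Localization.AtPrime (gaussPrime V (Fin n)))
      (Localization.AtPrime p)) h1
    rw [map_mul, hw, zero_mul, ← IsScalarTower.algebraMap_apply] at h2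
    have hF : F = 0 := hinjPD (by rw [← h2, map_zero])
    rw [hF, IsLocalization.mk'_zero]
  -- unramifiedness and essential finiteness
  haveI : Algebra.FormallyUnramified A (Localization.AtPrime p) :=
    Algebra.FormallyUnramified.of_isLocalization p.primeCompl
  haveI : Algebra.FormallyUnramified (Localization.Away g) (Localization.AtPrime p) :=
    Algebra.FormallyUnramified.of_restrictScalars A (Localization.Away g) (Localization.AtPrime p)
  haveI : Algebra.FormallyUnramified (MvPolynomial (Fin n) V) (Localization.AtPrime p) :=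
    Algebra.FormallyUnramified.comp (MvPolynomial (Fin n) V) (Localization.Away g) _
  haveI : Algebra.FormallyUnramified (Localization.AtPrime (gaussPrime V (Fin n)))
      (Localization.AtPrime p) :=
    Algebra.FormallyUnramified.of_restrictScalars (MvPolynomial (Fin n) V) _ _
  haveI : Algebra.EssFiniteType A (Localization.AtPrime p) :=
    Algebra.EssFiniteType.of_isLocalization _ p.primeCompl
  haveI : Algebra.EssFiniteType (Localization.Away g) (Localization.AtPrime p) :=
    Algebra.EssFiniteType.of_comp A (Localization.Away g) (Localization.AtPrime p)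
  haveI : Algebra.EssFiniteType (MvPolynomial (Fin n) V) (Localization.AtPrime p) :=
    Algebra.EssFiniteType.comp (MvPolynomial (Fin n) V) (Localization.Away g) _
  haveI : Algebra.EssFiniteType (Localization.AtPrime (gaussPrime V (Fin n)))
      (Localization.AtPrime p) :=
    Algebra.EssFiniteType.of_comp (MvPolynomial (Fin n) V) _ _
  have hval : ValuationRing (Localization.AtPrime p) :=
    valuationRing_of_flat (Localization.AtPrime (gaussPrime V (Fin n))) (Localization.AtPrime p)
      hinjWD
  haveI := hval
  have hlocWD : IsLocalHom (algebraMap (Localization.AtPrime (gaussPrime V (Fin n)))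
      (Localization.AtPrime p)) := by
    refine ⟨fun w hw => ?_⟩
    obtain ⟨F, G, rfl⟩ := IsLocalization.exists_mk'_eq (gaussPrime V (Fin n)).primeCompl w
    rw [IsLocalization.AtPrime.isUnit_mk'_iff _ (gaussPrime V (Fin n))]
    have h1 := IsLocalization.mk'_spec (Localization.AtPrime (gaussPrime V (Fin n))) F G
    have h2 := congrArg (algebraMap (Localization.AtPrime (gaussPrime V (Fin n)))
      (Localization.AtPrime p)) h1
    rw [map_mul, ← IsScalarTower.algebraMap_apply, ← IsScalarTower.algebraMap_apply] at h2
    have h3 : IsUnit (algebraMap (MvPolynomial (Fin n) V) (Localization.AtPrime p) F) := by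
      rw [← h2]; exact hw.mul (hunitW G)
    intro hF
    rw [← hq] at hF
    exact hF h3
  obtain ⟨Pst⟩ := (inferInstance : Algebra.IsStandardEtale (MvPolynomial (Fin n) V)
    (Localization.Away g)).nonempty_standardEtalePresentation
  have hev : ∀ q : (MvPolynomial (Fin n) V)[X],
      aeval (algebraMap (Localization.Away g) (Localization.AtPrime p) Pst.x)
        (q.map (algebraMap (MvPolynomial (Fin n) V) (Localization.AtPrime (gaussPrime V (Fin n)))))
      = algebraMap (Localization.Away g) (Localization.AtPrime p) (aeval Pst.x q) := by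
    intro q
    rw [Polynomial.aeval_map_algebraMap, Polynomial.aeval_algebraMap_apply]
  have hγ : IsUnit (algebraMap (Localization.Away g) (Localization.AtPrime p)
      (aeval Pst.x Pst.g)) := Pst.hasMap.2.map _
  have hsetup : Setup (Localization.AtPrime (gaussPrime V (Fin n))) (Localization.AtPrime p)
      (algebraMap (Localization.Away g) (Localization.AtPrime p) Pst.x)
      (Pst.f.map (algebraMap (MvPolynomial (Fin n) V)
        (Localization.AtPrime (gaussPrime V (Fin n))))) := by
    refine ⟨hinjWD, hlocWD, Pst.monic_f.map _, ?_, ?_, ?_⟩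
    · rw [hev, Pst.hasMap.1, map_zero]
    · rw [Polynomial.derivative_map, hev]; exact Pst.hasMap.isUnit_derivative_f.map _
    · intro d
      obtain ⟨a, s, rfl⟩ := IsLocalization.exists_mk'_eq p.primeCompl d
      obtain ⟨p₁, n₁, h1⟩ := Pst.exists_mul_aeval_x_g_pow_eq_aeval_x (algebraMap A _ a)
      obtain ⟨p₂, n₂, h2⟩ := Pst.exists_mul_aeval_x_g_pow_eq_aeval_x (algebraMap A _ (s : A))
      have h1' := congrArg (algebraMap (Localization.Away g) (Localization.AtPrime p)) h1
      have h2' := congrArg (algebraMap (Localization.Away g) (Localization.AtPrime p)) h2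
      rw [map_mul, map_pow, ← IsScalarTower.algebraMap_apply] at h1' h2'
      refine ⟨(p₁ * Pst.g ^ n₂).map (algebraMap (MvPolynomial (Fin n) V)
          (Localization.AtPrime (gaussPrime V (Fin n)))),
        (p₂ * Pst.g ^ n₁).map (algebraMap (MvPolynomial (Fin n) V)
          (Localization.AtPrime (gaussPrime V (Fin n)))), ?_, ?_⟩
      · rw [hev, map_mul, map_pow, map_mul, map_pow, ← h2']
        exact ((IsLocalization.map_units _ s).mul (hγ.pow _)).mul (hγ.pow _)
      · rw [hev, hev, map_mul, map_pow, map_mul, map_pow, map_mul, map_pow, map_mul, map_pow,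
          ← h2', ← h1']
        have := IsLocalization.mk'_spec (Localization.AtPrime p) a s
        linear_combination (algebraMap (Localization.Away g) (Localization.AtPrime p)
          (aeval Pst.x Pst.g) ^ n₂ * algebraMap (Localization.Away g) (Localization.AtPrime p)
          (aeval Pst.x Pst.g) ^ n₁) * this
  have hmain := main hsetup
  refine ⟨hval, ?_, ?_, ?_⟩
  · intro v₁ v₂ h
    rw [← hVD, ← hVD] at h
    exact MvPolynomial.C_injective _ _ (hinjPD h)
  · refine ⟨fun v hv => ?_⟩
    by_contra hnu
    have h1 : algebraMap V A v ∈ p := hmVp v hnu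
    rw [IsScalarTower.algebraMap_apply V A] at hv
    exact (IsLocalization.AtPrime.to_map_mem_maximal_iff _ p _).mpr h1 hv
  · intro x hx
    obtain ⟨w, u, hwu⟩ := hmain x hx
    have hw0 : w ≠ 0 := by
      rintro rfl; rw [map_zero, mul_zero] at hwu; exact hx hwu
    obtain ⟨v, u', -, hv⟩ := gauss_assoc w hw0
    refine ⟨v, u * Units.map (algebraMap (Localization.AtPrime (gaussPrime V (Fin n)))
      (Localization.AtPrime p)).toMonoidHom u', ?_⟩
    rw [hwu, hv, map_mul, ← IsScalarTower.algebraMap_apply, hVD]
    push_cast
    simp only [Units.coe_map, RingHom.toMonoidHom_eq_coe, MonoidHom.coe_coe]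
    ring


theorem smooth_local [Algebra.Smooth V A]
    (hp : p ∈ ((maximalIdeal V).map (algebraMap V A)).minimalPrimes) :
    ValuationRing (Localization.AtPrime p) ∧
      Function.Injective (algebraMap V (Localization.AtPrime p)) ∧
      IsLocalHom (algebraMap V (Localization.AtPrime p)) ∧
      ∀ x : Localization.AtPrime p, x ≠ 0 →
        ∃ (v : V) (w : (Localization.AtPrime p)ˣ),
          x = algebraMap V (Localization.AtPrime p) v * w := by
  haveI : Algebra.FormallySmooth A (Localization.AtPrime p) :=
    Algebra.FormallySmooth.of_isLocalization p.primeCompl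
  haveI : Algebra.IsSmoothAt V p := Algebra.FormallySmooth.comp V A (Localization.AtPrime p)
  obtain ⟨g, hg, n, alg, tower, std⟩ :=
    Algebra.IsSmoothAt.exists_isStandardEtale_mvPolynomial (R := V) (S := A) (p := p)
  exact smooth_local_aux V A p g hg n hp

end Smooth

end Groth.Agent.H55.ValEt
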